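import Cfsg.Agent.MinSimple.Geo_m3
import Cfsg.Agent.MinSimple.Basic
import Cfsg.Agent.Lib.NormalAbelian
import Mathlib
import Cfsg.Agent.PLocal.SubnormalCore
import Cfsg.Agent.Lib.GoldschmidtFusion
import Cfsg.Agent.Involutions.BaerSuzuki
import Cfsg.Agent.Involutions.PairCount
import Cfsg.Agent.Mrg.Omega.NO1.NatFiveC_m3
import Cfsg.Agent.Involutions.DihedralPair
import Cfsg.Agent.FastGrp
import Cfsg.Agent.Prune
set_option linter.all false

section
prune_inst 0x7ff0fefb8ef88ddfffff7e7faff5dffdd8fc7fffffdff98bffe1ebffdfff0b67abe1fbaf8fe6d8fcdef6e29410b87813fdffc23feb6bdc7ffffd5ff45ffbee1fa5efbd0d51d6b83e1ffc6ffffbf077ae7f3fffffffffffffffffffffffffffffffffffffffff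

-- part: Mrg/Omega/CaseL/Base
section
prune_inst 0xc000021003000000001805000000025018000002004700018040020006008440600006008060200010020a440034000002cc0000001000002000000041180481002a00029008000021000000b085180c00000000000000000000000000000000000000000
set_option linter.all false
open scoped Cfsg.Agent.FastGrp

section


/-!
# The point-line geometry of a flag `(z, V)`, `|V| = 4`, without solvability

`Ln T V z`: `z` is an involution of the four-group `V`, `T` is a common Sylow 2-subgroup of `C_G(z)` and `N_G(V)`,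
`Ω₁Z(T) = ⟨z⟩`, `N_G(V)` is transitive on `V#`, and `G` has characteristic 2 type.  This is
`MinSimple.Geo.Geo` without the solvability of the 2-local subgroups and without the condition that
`⟨N_G(V), C_G(z)⟩` is not local.
-/

set_option autoImplicit false
set_option linter.style.haveILetI false

namespace Cfsg.Agent.Omega.CaseL

open Subgroup Cfsg Cfsg.Agent.ZN Cfsg.Agent.MinSimple.Geo
open Cfsg.Agent.ZN.Block (conj_mem_of_normalizer conj_mem_of_normalizer' le_normalizer_of_forall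
  mem_normalizer_of)

universe u

variable {G : Type u} [Group G]

/-- A flag `(z, V)` with a common Sylow 2-subgroup `T`. -/
structure Ln (T V : Subgroup G) (z : G) : Prop where
  charTwo : IsCharacteristicTwoType G
  two : IsPGroup 2 T
  T_le : T ≤ centralizer ({z} : Set G)
  T_syl : ¬ 2 ∣ T.relIndex (centralizer ({z} : Set G))
  V_le : V ≤ T
  T_norm : T ≤ normalizer (V : Set G)
  T_syl' : ¬ 2 ∣ T.relIndex (normalizer (V : Set G))
  card_V : Nat.card V = 4
  sq : ∀ v ∈ V, v * v = 1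
  z_mem : z ∈ V
  z_ne : z ≠ 1
  trans : ∀ v ∈ V, v ≠ 1 → ∃ g ∈ normalizer (V : Set G), g * z * g⁻¹ = v
  soc : ∀ t ∈ T, t * t = 1 → (∀ s ∈ T, s * t = t * s) → t = 1 ∨ t = z

theorem Ln.of_geo {T V : Subgroup G} {z : G} (h : MinSimple.Geo.Geo T V z) : Ln T V z where
  charTwo := h.charTwo
  two := h.two
  T_le := h.T_le
  T_syl := h.T_syl
  V_le := h.V_le
  T_norm := h.T_norm
  T_syl' := h.T_syl'
  card_V := h.card_V
  sq := h.sq
  z_mem := h.z_mem
  z_ne := h.z_ne
  trans := h.trans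
  soc := h.soc

theorem lines_cj (V : Subgroup G) (g x : G) : lines (cj g V) x = lines V x := by
  ext L
  constructor
  · rintro ⟨⟨k, rfl⟩, hx⟩
    exact ⟨⟨k * g, cj_cj _ _ _⟩, hx⟩
  · rintro ⟨⟨k, rfl⟩, hx⟩
    refine ⟨⟨k * g⁻¹, ?_⟩, hx⟩
    rw [cj_cj, inv_mul_cancel_right]

/-- `ws V x` depends only on the class of `V` -/
theorem ws_cj (V : Subgroup G) (g x : G) : ws (cj g V) x = ws V x := by
  unfold ws
  rw [lines_cj]

/-- a conjugate in a Sylow 2-subgroup -/
theorem exists_cj_le_of_sylow [Finite G] {C T A : Subgroup G} (_ : T ≤ C) (hT : IsPGroup 2 T)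
    (hs : ¬ 2 ∣ T.relIndex C) (hAC : A ≤ C) (hA : IsPGroup 2 A) : ∃ c ∈ C, cj c A ≤ T := by
  haveI : Fact (Nat.Prime 2) := ⟨Nat.prime_two⟩
  have hT' : IsPGroup 2 (T.subgroupOf C) := hT.comap_of_injective _ C.subtype_injective
  have hA' : IsPGroup 2 (A.subgroupOf C) := hA.comap_of_injective _ C.subtype_injective
  obtain ⟨Q, hQ⟩ := hA'.exists_le_sylow
  obtain ⟨g, hg⟩ := MulAction.exists_smul_eq C Q (hT'.toSylow hs)
  refine ⟨g, g.2, ?_⟩
  rintro _ ⟨x, hx, rfl⟩
  have h1 : (⟨x, hAC hx⟩ : C) ∈ (Q : Subgroup C) := hQ (mem_subgroupOf.mpr hx)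
  have h2 : (MulAut.conj g) ⟨x, hAC hx⟩ ∈ ((g • Q : Sylow 2 C) : Subgroup C) := by
    rw [Sylow.smul_def]
    exact Subgroup.smul_mem_pointwise_smul _ (MulAut.conj g) _ h1
  rw [hg] at h2
  exact mem_subgroupOf.mp h2

namespace Ln

variable {T V : Subgroup G} {z : G}

theorem zz (h : Ln T V z) : z * z = 1 := h.sq z h.z_mem

theorem comm (h : Ln T V z) {a b : G} (ha : a ∈ V) (hb : b ∈ V) : a * b = b * a := by
  have h1 := h.sq _ (mul_mem ha hb)
  have h2 := h.sq a ha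
  have h3 := h.sq b hb
  calc a * b = (a * b)⁻¹ := (inv_eq_self h1).symm
    _ = b⁻¹ * a⁻¹ := by group
    _ = b * a := by rw [inv_eq_self h2, inv_eq_self h3]

theorem inv_eq (h : Ln T V z) {a : G} (ha : a ∈ V) : a⁻¹ = a := inv_eq_self (h.sq a ha)

theorem exists_y (h : Ln T V z) : ∃ y ∈ V, y ≠ 1 ∧ y ≠ z := by
  by_contra hcon
  push Not at hcon
  have : (V : Set G) ⊆ {1, z} := by
    intro v hv
    by_cases h1 : v = 1
    · exact Or.inl h1
    · exact Or.inr (hcon v hv h1)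
  have h2 := Set.ncard_le_ncard this (Set.toFinite _)
  have h3 : (V : Set G).ncard = 4 := by rw [← h.card_V]; rfl
  have h4 : ({1, z} : Set G).ncard = 2 := Set.ncard_pair (Ne.symm h.z_ne)
  omega

/-- the four elements of `V` -/
theorem four (h : Ln T V z) {p q : G} (hp : p ∈ V) (hq : q ∈ V) (hp1 : p ≠ 1) (hq1 : q ≠ 1)
    (hpq : p ≠ q) {v : G} (hv : v ∈ V) : v = 1 ∨ v = p ∨ v = q ∨ v = p * q := by
  have hfin : Finite V := Nat.finite_of_card_ne_zero (by rw [h.card_V]; norm_num)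
  have hpq1 : p * q ≠ 1 := fun e => hpq (by
    rw [mul_eq_one_iff_eq_inv.mp e, h.inv_eq hq])
  have hpqp : p * q ≠ p := fun e => hq1 (by simpa using e)
  have hpqq : p * q ≠ q := fun e => hp1 (by simpa using e)
  have h1 : ({1, p, q, p * q} : Set G) ⊆ (V : Set G) := by
    rintro x (rfl | rfl | rfl | rfl)
    · exact V.one_mem
    · exact hp
    · exact hq
    · exact V.mul_mem hp hq
  have h2 : ({1, p, q, p * q} : Set G).ncard = 4 := by
    rw [Set.ncard_insert_of_notMem, Set.ncard_insert_of_notMem, Set.ncard_pair (Ne.symm hpqq)]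
    · rintro (e | e)
      · exact hpq e
      · exact hpqp e.symm
    · rintro (e | e | e)
      · exact hp1 e.symm
      · exact hq1 e.symm
      · exact hpq1 e.symm
  have h3 : (V : Set G).ncard = 4 := by rw [← h.card_V]; rfl
  have h4 : ({1, p, q, p * q} : Set G) = V := Set.eq_of_subset_of_ncard_le h1 (by rw [h2, h3])
    (Set.toFinite _)
  have : v ∈ ({1, p, q, p * q} : Set G) := by rw [h4]; exact hv
  simpa using this

/-- conjugation by a centralizing-normalizing element -/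
theorem conj_cases (h : Ln T V z) {p q g : G} (hp : p ∈ V) (hq : q ∈ V) (hp1 : p ≠ 1) (hgp : g * p = p * g)
    (hg : g ∈ normalizer (V : Set G)) : g * q * g⁻¹ = q ∨ g * q * g⁻¹ = p * q := by
  have hq' : g * q * g⁻¹ ∈ V := (mem_normalizer_iff.mp hg q).mp hq
  by_cases hq1 : q = 1
  · left; rw [hq1]; group
  by_cases hpq : q = p
  · left; rw [hpq, hgp]; group
  have hn1 : g * q * g⁻¹ ≠ 1 := fun e => hq1 (by
    have : q = g⁻¹ * (g * q * g⁻¹) * g := by group
    rw [this, e]; group)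
  have hnp : g * q * g⁻¹ ≠ p := fun e => hpq (by
    have : q = g⁻¹ * (g * q * g⁻¹) * g := by group
    rw [this, e, mul_assoc, ← hgp]; group)
  rcases h.four hp hq hp1 hq1 (Ne.symm hpq) hq' with e | e | e | e
  · exact absurd e hn1
  · exact absurd e hnp
  · exact Or.inl e
  · exact Or.inr e

theorem z_comm (_ : Ln T V z) {c : G} (hc : c ∈ centralizer ({z} : Set G)) : c * z = z * c :=
  mem_centralizer_singleton_iff.mp hc

/-- conjugate situation -/
theorem conj (h : Ln T V z) (g : G) : Ln (cj g T) (cj g V) (g * z * g⁻¹) where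
  charTwo := h.charTwo
  two := h.two.map _
  T_le := by rw [← cj_centralizer_singleton]; exact cj_mono h.T_le
  T_syl := by rw [← cj_centralizer_singleton, relIndex_cj]; exact h.T_syl
  V_le := cj_mono h.V_le
  T_norm := by rw [← cj_normalizer]; exact cj_mono h.T_norm
  T_syl' := by rw [← cj_normalizer, relIndex_cj]; exact h.T_syl'
  card_V := by rw [card_cj]; exact h.card_V
  sq := by
    intro v hv
    rw [mem_cj] at hv
    have := h.sq _ hv
    have e : v * v = g * (g⁻¹ * v * g * (g⁻¹ * v * g)) * g⁻¹ := by group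
    rw [e, this]; group
  z_mem := conj_mem_cj h.z_mem
  z_ne := fun e => h.z_ne (by
    have : z = g⁻¹ * (g * z * g⁻¹) * g := by group
    rw [this, e]; group)
  trans := by
    intro v hv hv1
    rw [mem_cj] at hv
    obtain ⟨k, hk, hk2⟩ := h.trans _ hv (fun e => hv1 (by
      have : v = g * (g⁻¹ * v * g) * g⁻¹ := by group
      rw [this, e]; group))
    refine ⟨g * k * g⁻¹, ?_, ?_⟩
    · rw [← cj_normalizer]; exact conj_mem_cj hk
    · calc g * k * g⁻¹ * (g * z * g⁻¹) * (g * k * g⁻¹)⁻¹ = g * (k * z * k⁻¹) * g⁻¹ := by group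
        _ = v := by rw [hk2]; group
  soc := by
    intro t ht ht2 htc
    rw [mem_cj] at ht
    have h1 : g⁻¹ * t * g * (g⁻¹ * t * g) = 1 := by
      calc g⁻¹ * t * g * (g⁻¹ * t * g) = g⁻¹ * (t * t) * g := by group
        _ = 1 := by rw [ht2]; group
    rcases h.soc _ ht h1 (fun s hs => by
      have := htc (g * s * g⁻¹) (conj_mem_cj hs)
      calc s * (g⁻¹ * t * g) = g⁻¹ * (g * s * g⁻¹ * t) * g := by group
        _ = g⁻¹ * (t * (g * s * g⁻¹)) * g := by rw [this]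
        _ = g⁻¹ * t * g * s := by group) with e | e
    · left
      have : t = g * (g⁻¹ * t * g) * g⁻¹ := by group
      rw [this, e]; group
    · right
      have : t = g * (g⁻¹ * t * g) * g⁻¹ := by group
      rw [this, e]

/-- each point of `V` is as good as `z` -/
theorem point (h : Ln T V z) {p : G} (hp : p ∈ V) (hp1 : p ≠ 1) :
    ∃ g ∈ normalizer (V : Set G), g * z * g⁻¹ = p ∧ Ln (cj g T) V p := by
  obtain ⟨g, hg, rfl⟩ := h.trans p hp hp1
  refine ⟨g, hg, rfl, ?_⟩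
  have := h.conj g
  rwa [cj_eq_of_mem_normalizer hg] at this

theorem V_mem_lines (h : Ln T V z) : V ∈ lines V z := ⟨⟨1, (cj_one V).symm⟩, h.z_mem⟩

theorem V_le_ws (h : Ln T V z) : V ≤ ws V z := le_ws h.V_mem_lines

/-- the lines through `z` are the `C_G(z)`-conjugates of `V` -/
theorem exists_of_mem_lines (h : Ln T V z) {L : Subgroup G} (hL : L ∈ lines V z) :
    ∃ c ∈ centralizer ({z} : Set G), L = cj c V := by
  obtain ⟨⟨g, rfl⟩, hz⟩ := hL
  rw [mem_cj] at hz
  obtain ⟨k, hk, hk2⟩ := h.trans _ hz (fun e => h.z_ne (by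
    have : z = g * (g⁻¹ * z * g) * g⁻¹ := by group
    rw [this, e]; group))
  refine ⟨g * k, ?_, ?_⟩
  · rw [mem_centralizer_singleton_iff]
    calc g * k * z = g * (k * z * k⁻¹) * k := by group
      _ = z * (g * k) := by rw [hk2]; group
  · rw [← cj_cj, cj_eq_of_mem_normalizer hk]

theorem cj_mem_lines (h : Ln T V z) {c : G} (hc : c ∈ centralizer ({z} : Set G)) : cj c V ∈ lines V z := by
  refine ⟨⟨c, rfl⟩, ?_⟩
  rw [mem_cj, mul_assoc, ← h.z_comm hc, inv_mul_cancel_left]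
  exact h.z_mem

theorem V_le_o2 [Finite G] (h : Ln T V z) : V ≤ o2 (centralizer ({z} : Set G)) := by
  have hQT : o2 (centralizer ({z} : Set G)) ≤ T := o2_le_of_sylow h.T_le h.two h.T_syl
  intro v hv
  refine mem_o2_of_stab h.charTwo h.zz h.z_ne (h.T_le (h.V_le hv)) fun q hq => ?_
  have hqT := hQT hq
  rcases h.conj_cases h.z_mem (inv_mem hv) h.z_ne (h.z_comm (h.T_le hqT)) (h.T_norm hqT) with e | e
  · have : v * q * v⁻¹ * q⁻¹ = v * (q * v⁻¹ * q⁻¹) := by group
    rw [this, e, mul_inv_cancel]; exact one_mem _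
  · have : v * q * v⁻¹ * q⁻¹ = v * (q * v⁻¹ * q⁻¹) := by group
    rw [this, e, ← mul_assoc, h.comm hv h.z_mem, mul_assoc, mul_inv_cancel, mul_one]
    exact mem_zpowers z

theorem ws_le_o2 [Finite G] (h : Ln T V z) : ws V z ≤ o2 (centralizer ({z} : Set G)) := by
  refine ws_le fun L hL => ?_
  obtain ⟨c, hc, rfl⟩ := h.exists_of_mem_lines hL
  have := cj_mono (g := c) h.V_le_o2
  rwa [cj_eq_of_mem_normalizer (le_normalizer_o2 _ hc)] at this

theorem o2_le_T [Finite G] (h : Ln T V z) : o2 (centralizer ({z} : Set G)) ≤ T :=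
  o2_le_of_sylow h.T_le h.two h.T_syl

theorem ws_le_T [Finite G] (h : Ln T V z) : ws V z ≤ T := h.ws_le_o2.trans h.o2_le_T

theorem ws_le_centralizer [Finite G] (h : Ln T V z) : ws V z ≤ centralizer ({z} : Set G) :=
  h.ws_le_T.trans h.T_le

/-- `[V, O₂(C_G(z))] ≤ ⟨z⟩` and the same for `ws V z`. -/
theorem comm_mem [Finite G] (h : Ln T V z) {w q : G} (hw : w ∈ ws V z)
    (hq : q ∈ o2 (centralizer ({z} : Set G))) : w * q * w⁻¹ * q⁻¹ ∈ zpowers z := by
  set C := centralizer ({z} : Set G) with hC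
  have hzc : ∀ c ∈ C, ∀ y ∈ zpowers z, c * y * c⁻¹ = y := by
    intro c hc y hy
    obtain ⟨n, rfl⟩ := mem_zpowers_iff.mp hy
    have h : Commute c z := mem_centralizer_singleton_iff.mp hc
    rw [(h.zpow_right n).eq, mul_inv_cancel_right]
  let A : Subgroup G :=
    { carrier := {g | g ∈ C ∧ ∀ q ∈ o2 C, g * q * g⁻¹ * q⁻¹ ∈ zpowers z}
      mul_mem' := by
        rintro a b ⟨ha, ha1⟩ ⟨hb, hb1⟩
        refine ⟨mul_mem ha hb, fun q hq => ?_⟩
        have e : a * b * q * (a * b)⁻¹ * q⁻¹ =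
            a * (b * q * b⁻¹ * q⁻¹) * a⁻¹ * (a * q * a⁻¹ * q⁻¹) := by group
        rw [e, hzc a ha _ (hb1 q hq)]
        exact mul_mem (hb1 q hq) (ha1 q hq)
      one_mem' := ⟨one_mem _, fun q _ => by simp⟩
      inv_mem' := by
        rintro a ⟨ha, ha1⟩
        refine ⟨inv_mem ha, fun q hq => ?_⟩
        have h1 := ha1 (a⁻¹ * q * a) (conj_mem_of_normalizer' (le_normalizer_o2 C) ha hq)
        have e : a * (a⁻¹ * q * a) * a⁻¹ * (a⁻¹ * q * a)⁻¹ = (a⁻¹ * q * a⁻¹⁻¹ * q⁻¹)⁻¹ := by group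
        rw [e] at h1
        exact (inv_mem_iff).mp h1 }
  have hVA : ∀ L ∈ lines V z, L ≤ A := by
    intro L hL
    obtain ⟨c, hc, rfl⟩ := h.exists_of_mem_lines hL
    intro x hx
    rw [mem_cj] at hx
    set v := c⁻¹ * x * c with hv
    have hxv : x = c * v * c⁻¹ := by rw [hv]; group
    have hxC : x ∈ C := by
      rw [hxv]; exact mul_mem (mul_mem hc (h.T_le (h.V_le hx))) (inv_mem hc)
    refine ⟨hxC, fun q hq => ?_⟩
    have hq' := conj_mem_of_normalizer' (le_normalizer_o2 C) hc hq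
    have hqT := h.o2_le_T hq'
    have e1 : x * q * x⁻¹ * q⁻¹ = c * (v * (c⁻¹ * q * c) * v⁻¹ * (c⁻¹ * q * c)⁻¹) * c⁻¹ := by
      rw [hxv]; group
    have h2 : v * (c⁻¹ * q * c) * v⁻¹ * (c⁻¹ * q * c)⁻¹ ∈ zpowers z := by
      set r := c⁻¹ * q * c with hr
      have : v * r * v⁻¹ * r⁻¹ = v * (r * v⁻¹ * r⁻¹) := by group
      rw [this]
      rcases h.conj_cases h.z_mem (inv_mem hx) h.z_ne (h.z_comm (h.T_le hqT)) (h.T_norm hqT) with e | e
      · rw [e, mul_inv_cancel]; exact one_mem _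
      · rw [e, ← mul_assoc, h.comm hx h.z_mem, mul_assoc, mul_inv_cancel, mul_one]
        exact mem_zpowers z
    rw [e1, hzc c hc _ h2]
    exact h2
  exact (ws_le hVA hw).2 q hq

theorem comm_cases [Finite G] (h : Ln T V z) {w q : G} (hw : w ∈ ws V z)
    (hq : q ∈ o2 (centralizer ({z} : Set G))) : w * q = q * w ∨ w * q = z * (q * w) := by
  rcases (mem_zpowers_iff_of_mul_self h.zz).mp (h.comm_mem hw hq) with e | e
  · left
    calc w * q = (w * q * w⁻¹ * q⁻¹) * (q * w) := by group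
      _ = q * w := by rw [e, one_mul]
  · right
    calc w * q = (w * q * w⁻¹ * q⁻¹) * (q * w) := by group
      _ = z * (q * w) := by rw [e]

theorem mem_centralizer_V (h : Ln T V z) {g y : G} (hy : y ∈ V) (hy1 : y ≠ 1) (hyz : y ≠ z)
    (h1 : g * z = z * g) (h2 : g * y = y * g) : g ∈ centralizer (V : Set G) := by
  rw [mem_centralizer_iff]
  intro v hv
  rcases h.four h.z_mem hy h.z_ne hy1 (Ne.symm hyz) hv with rfl | rfl | rfl | rfl
  · simp
  · exact h1.symm
  · exact h2.symm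
  · rw [mul_assoc, ← h2, ← mul_assoc, ← h1, mul_assoc]

/-- a nontrivial subgroup of `T` normalized by `T` contains `z` -/
theorem z_mem_of_le [Finite G] (h : Ln T V z) {U : Subgroup G} (hU : U ≤ T)
    (hn : T ≤ normalizer (U : Set G)) (hU1 : U ≠ ⊥) : z ∈ U := by
  haveI : Fact (Nat.Prime 2) := ⟨Nat.prime_two⟩
  have hT := h.two
  haveI hUn : (U.subgroupOf T).Normal := normal_subgroupOf_of_le_normalizer hn
  haveI : Group.IsNilpotent T := hT.isNilpotent
  have hne : (U.subgroupOf T) ≠ ⊥ := by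
    intro e
    apply hU1
    rw [subgroupOf_eq_bot, disjoint_iff, inf_eq_left.mpr hU] at e
    exact e
  have h1 := Lib.NormalAbelian.normal_inf_center_ne_bot (U.subgroupOf T) hne
  obtain ⟨x, hx1⟩ := (Subgroup.ne_bot_iff_exists_ne_one).mp h1
  have hx := x.2
  obtain ⟨k, hk⟩ := hT (x : T)
  have hx1' : (x : T) ≠ 1 := fun e => hx1 (Subtype.ext e)
  have hex : ∃ n : ℕ, (x : T) ^ 2 ^ n = 1 := ⟨k, hk⟩
  classical
  set n := Nat.find hex with hn'
  have hn1 : (x : T) ^ 2 ^ n = 1 := Nat.find_spec hex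
  have hn0 : n ≠ 0 := by
    intro e
    rw [e] at hn1
    apply hx1'
    simpa using hn1
  obtain ⟨m, hm⟩ := Nat.exists_eq_succ_of_ne_zero hn0
  set y := (x : T) ^ 2 ^ m with hy
  have hy1 : y ≠ 1 := Nat.find_min hex (by omega)
  have hy2 : y * y = 1 := by
    rw [hy, ← pow_two, ← pow_mul, ← pow_succ]
    rw [hm] at hn1
    exact hn1
  have hyU : y ∈ U.subgroupOf T := pow_mem hx.1 _
  have hyc : y ∈ center T := pow_mem hx.2 _
  rcases h.soc y y.2 (by simpa only [_root_.Subgroup.coe_mul, _root_.OneMemClass.coe_one] using congrArg Subtype.val hy2)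
    (fun s hs => by
      have := mem_center_iff.mp hyc ⟨s, hs⟩
      exact congrArg Subtype.val this) with e | e
  · exact absurd (Subtype.ext e) hy1
  · rw [← e]; exact mem_subgroupOf.mp hyU

/-- Lemma N: a nontrivial normal subgroup of `N_G(V)` contains `z`. -/
theorem z_mem_of_normal [Finite G] (h : Ln T V z) {D : Subgroup G} (hD : D ≤ normalizer (V : Set G))
    (hN : normalizer (V : Set G) ≤ normalizer (D : Set G)) (h1 : D ≠ ⊥) : z ∈ D := by
  by_contra hz
  have hfact : Fact (Nat.Prime 2) := ⟨Nat.prime_two⟩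
  -- `D ∩ T = 1`
  have hDT : D ⊓ T = ⊥ := by
    by_contra hne
    have hnorm : T ≤ normalizer ((D ⊓ T : Subgroup G) : Set G) := by
      refine le_normalizer_of_forall fun t ht d hd => ?_
      exact ⟨conj_mem_of_normalizer hN (h.T_norm ht) hd.1, T.mul_mem (T.mul_mem ht hd.2) (T.inv_mem ht)⟩
    exact hz (h.z_mem_of_le inf_le_right hnorm hne).1
  have hodd : Odd (Nat.card D) := by
    rw [← Nat.not_even_iff_odd, even_iff_two_dvd]
    intro hd
    obtain ⟨d, hd2⟩ := exists_prime_orderOf_dvd_card' 2 hd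
    have hdd : (d : G) * d = 1 := by
      have h6 : d ^ 2 = 1 := by rw [← hd2]; exact pow_orderOf_eq_one d
      have h7 := congrArg (Subtype.val) h6
      simpa only [pow_two, _root_.Subgroup.coe_mul, _root_.OneMemClass.coe_one] using h7
    have hd1 : (d : G) ≠ 1 := by
      intro e
      have : d = 1 := Subtype.ext e
      rw [this, orderOf_one] at hd2
      omega
    obtain ⟨c, hc, hcT⟩ := exists_cj_le_of_sylow h.T_norm h.two h.T_syl'
      (A := zpowers (d : G)) (by simpa using hD d.2) (isPGroup_zpowers hdd)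
    have h3 : c * d * c⁻¹ ∈ D ⊓ T :=
      ⟨conj_mem_of_normalizer hN hc d.2, hcT (conj_mem_cj (mem_zpowers _))⟩
    rw [hDT, mem_bot] at h3
    apply hd1
    have : (d : G) = c⁻¹ * (c * d * c⁻¹) * c := by group
    rw [this, h3]; group
  refine h1 (Cfsg.Agent.MinSimple.Basic.eq_bot_of_odd (X := normalizer (V : Set G)) ?_ hD hN hodd)
  refine inf_centralizer_o2_le h.charTwo ⟨V, ?_, ?_, rfl⟩
  · exact h.two.to_le h.V_le
  · intro e
    have := h.z_mem
    rw [e, mem_bot] at this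
    exact h.z_ne this

end Ln

end Cfsg.Agent.Omega.CaseL

end

section


/-!
# Two types of lines with `W₁`, `W₂` abelian and `[W₁, W₂] ≠ 1`

`Pair T V W z`: two flags `(z, V)`, `(z, W)` with the same Sylow 2-subgroup `T`; the subgroups `ws V z`, `ws W z`
generated by the lines of the two types through `z` are abelian and do not commute.
This file: steps (1)-(5) of the proof that `O₂(C_G(z)) = ws V z ws W z` is extraspecial.
-/

set_option autoImplicit false
set_option linter.style.haveILetI false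
set_option linter.unusedSectionVars false

namespace Cfsg.Agent.Omega.CaseL

open Subgroup Cfsg Cfsg.Agent.ZN Cfsg.Agent.MinSimple.Geo
open Cfsg.Agent.ZN.Block (conj_mem_of_normalizer conj_mem_of_normalizer' le_normalizer_of_forall
  mem_normalizer_of)

universe u

variable {G : Type u} [Group G]

/-- two flags at `z` with abelian `ws V z`, `ws W z` which do not commute -/
structure Pair (T V W : Subgroup G) (z : G) : Prop where
  v : Ln T V z
  w : Ln T W z
  abV : ∀ a ∈ ws V z, ∀ b ∈ ws V z, a * b = b * a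
  abW : ∀ a ∈ ws W z, ∀ b ∈ ws W z, a * b = b * a
  nc : ∃ a ∈ ws V z, ∃ b ∈ ws W z, a * b ≠ b * a

theorem mem_of_cj {g x : G} {H : Subgroup G} (h : x ∈ cj g H) : g⁻¹ * x * g ∈ H := mem_cj.mp h

theorem normalizer_le_normalizer_centralizer (V : Subgroup G) :
    normalizer (V : Set G) ≤ normalizer ((centralizer (V : Set G) : Subgroup G) : Set G) := by
  refine le_normalizer_of_forall fun g hg c hc => ?_
  rw [mem_centralizer_iff] at hc ⊢
  intro v hv
  have hv' : g⁻¹ * v * g ∈ V := (mem_normalizer_iff''.mp hg v).mp hv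
  have := hc _ hv'
  calc v * (g * c * g⁻¹) = g * ((g⁻¹ * v * g) * c) * g⁻¹ := by group
    _ = g * (c * (g⁻¹ * v * g)) * g⁻¹ := by rw [this]
    _ = g * c * g⁻¹ * v := by group

/-- elementwise: conjugation moves `ws V x` to `ws V (g x g⁻¹)` -/
theorem conj_mem_ws {V : Subgroup G} {x a : G} (g : G) (ha : a ∈ ws V x) :
    g * a * g⁻¹ ∈ ws V (g * x * g⁻¹) := by
  rw [← cj_ws]; exact conj_mem_cj ha

namespace Pair

variable {T V W : Subgroup G} {z : G}

theorem symm (h : Pair T V W z) : Pair T W V z where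
  v := h.w
  w := h.v
  abV := h.abW
  abW := h.abV
  nc := by
    obtain ⟨a, ha, b, hb, hab⟩ := h.nc
    exact ⟨b, hb, a, ha, fun e => hab e.symm⟩

theorem conj (h : Pair T V W z) (g : G) : Pair (cj g T) (cj g V) (cj g W) (g * z * g⁻¹) where
  v := h.v.conj g
  w := h.w.conj g
  abV := by
    rw [ws_cj, ← cj_ws]
    intro a ha b hb
    have := h.abV _ (mem_of_cj ha) _ (mem_of_cj hb)
    calc a * b = g * ((g⁻¹ * a * g) * (g⁻¹ * b * g)) * g⁻¹ := by group
      _ = g * ((g⁻¹ * b * g) * (g⁻¹ * a * g)) * g⁻¹ := by rw [this]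
      _ = b * a := by group
  abW := by
    rw [ws_cj, ← cj_ws]
    intro a ha b hb
    have := h.abW _ (mem_of_cj ha) _ (mem_of_cj hb)
    calc a * b = g * ((g⁻¹ * a * g) * (g⁻¹ * b * g)) * g⁻¹ := by group
      _ = g * ((g⁻¹ * b * g) * (g⁻¹ * a * g)) * g⁻¹ := by rw [this]
      _ = b * a := by group
  nc := by
    rw [ws_cj, ws_cj]
    obtain ⟨a, ha, b, hb, hab⟩ := h.nc
    refine ⟨_, conj_mem_ws g ha, _, conj_mem_ws g hb, fun e => hab ?_⟩
    calc a * b = g⁻¹ * ((g * a * g⁻¹) * (g * b * g⁻¹)) * g := by group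
      _ = g⁻¹ * ((g * b * g⁻¹) * (g * a * g⁻¹)) * g := by rw [e]
      _ = b * a := by group

theorem point (h : Pair T V W z) {p : G} (hp : p ∈ V) (hp1 : p ≠ 1) :
    ∃ g ∈ normalizer (V : Set G), g * z * g⁻¹ = p ∧ Pair (cj g T) V (cj g W) p := by
  obtain ⟨g, hg, rfl⟩ := h.v.trans p hp hp1
  refine ⟨g, hg, rfl, ?_⟩
  have := h.conj g
  rwa [cj_eq_of_mem_normalizer hg] at this

variable [Finite G]

/-! ### facts at `z` -/

theorem sqV (h : Pair T V W z) : ∀ a ∈ ws V z, a * a = 1 := by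
  let S : Subgroup G :=
    { carrier := {a | a ∈ ws V z ∧ a * a = 1}
      mul_mem' := by
        rintro a b ⟨ha, ha1⟩ ⟨hb, hb1⟩
        refine ⟨mul_mem ha hb, ?_⟩
        calc a * b * (a * b) = a * (b * a) * b := by group
          _ = a * (a * b) * b := by rw [h.abV b hb a ha]
          _ = (a * a) * (b * b) := by group
          _ = 1 := by rw [ha1, hb1, mul_one]
      one_mem' := ⟨one_mem _, one_mul 1⟩
      inv_mem' := by
        rintro a ⟨ha, ha1⟩
        refine ⟨inv_mem ha, ?_⟩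
        rw [inv_eq_self ha1]; exact ha1 }
  have hle : ws V z ≤ S := by
    refine ws_le fun L hL => ?_
    intro x hx
    refine ⟨le_ws hL hx, ?_⟩
    obtain ⟨c, hc, rfl⟩ := h.v.exists_of_mem_lines hL
    rw [mem_cj] at hx
    have := h.v.sq _ hx
    calc x * x = c * (c⁻¹ * x * c * (c⁻¹ * x * c)) * c⁻¹ := by group
      _ = 1 := by rw [this]; group
  intro a ha
  exact (hle ha).2

theorem sqW (h : Pair T V W z) : ∀ a ∈ ws W z, a * a = 1 := h.symm.sqV

theorem z_memV (h : Pair T V W z) : z ∈ ws V z := h.v.V_le_ws h.v.z_mem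

theorem z_memW (h : Pair T V W z) : z ∈ ws W z := h.symm.z_memV

/-- some element of `ws W z` moves `V` -/
theorem exists_move (h : Pair T V W z) : ∃ b ∈ ws W z, b ∉ centralizer (V : Set G) := by
  by_contra hcon
  push Not at hcon
  obtain ⟨a, ha, b, hb, hab⟩ := h.nc
  have hle : ws V z ≤ centralizer ((ws W z : Subgroup G) : Set G) := by
    refine ws_le fun L hL => ?_
    obtain ⟨c, hc, rfl⟩ := h.v.exists_of_mem_lines hL
    intro x hx
    rw [mem_cj] at hx
    rw [mem_centralizer_iff]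
    intro y hy
    have hy' : c⁻¹ * y * c ∈ ws W z :=
      conj_mem_of_normalizer' (centralizer_le_normalizer_ws W z) hc hy
    have := mem_centralizer_iff.mp (hcon _ hy') _ hx
    calc y * x = c * ((c⁻¹ * y * c) * (c⁻¹ * x * c)) * c⁻¹ := by group
      _ = c * ((c⁻¹ * x * c) * (c⁻¹ * y * c)) * c⁻¹ := by rw [this]
      _ = x * y := by group
  exact hab (mem_centralizer_iff.mp (hle ha) b hb).symm

/-! ### facts at all points of `V` -/

section points

variable {p q : G}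

theorem abV' (h : Pair T V W z) (hp : p ∈ V) (hp1 : p ≠ 1) :
    ∀ a ∈ ws V p, ∀ b ∈ ws V p, a * b = b * a := by
  obtain ⟨g, -, -, hg⟩ := h.point hp hp1
  exact hg.abV

theorem abW' (h : Pair T V W z) (hp : p ∈ V) (hp1 : p ≠ 1) :
    ∀ a ∈ ws W p, ∀ b ∈ ws W p, a * b = b * a := by
  obtain ⟨g, -, -, hg⟩ := h.point hp hp1
  have := hg.abW
  rwa [ws_cj] at this

theorem sqV' (h : Pair T V W z) (hp : p ∈ V) (hp1 : p ≠ 1) : ∀ a ∈ ws V p, a * a = 1 := by
  obtain ⟨g, -, -, hg⟩ := h.point hp hp1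
  exact hg.sqV

theorem V_le (h : Pair T V W z) (hp : p ∈ V) (hp1 : p ≠ 1) : V ≤ ws V p := by
  obtain ⟨g, -, -, hg⟩ := h.point hp hp1
  exact hg.v.V_le_ws

theorem p_memW (h : Pair T V W z) (hp : p ∈ V) (hp1 : p ≠ 1) : p ∈ ws W p := by
  obtain ⟨g, -, -, hg⟩ := h.point hp hp1
  have := hg.z_memW
  rwa [ws_cj] at this

theorem wsV_le_centralizer_V (h : Pair T V W z) (hp : p ∈ V) (hp1 : p ≠ 1) :
    ws V p ≤ centralizer (V : Set G) := by
  intro a ha
  rw [mem_centralizer_iff]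
  intro v hv
  exact h.abV' hp hp1 v (h.V_le hp hp1 hv) a ha

theorem wsW_le_normalizer_V (h : Pair T V W z) (hp : p ∈ V) (hp1 : p ≠ 1) :
    ws W p ≤ normalizer (V : Set G) := by
  obtain ⟨g, -, -, hg⟩ := h.point hp hp1
  have := hg.w.ws_le_T.trans hg.v.T_norm
  rwa [ws_cj] at this

theorem wsW_le_centralizer (h : Pair T V W z) (hp : p ∈ V) (hp1 : p ≠ 1) :
    ws W p ≤ centralizer ({p} : Set G) := by
  obtain ⟨g, -, -, hg⟩ := h.point hp hp1
  have := hg.w.ws_le_centralizer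
  rwa [ws_cj] at this

theorem wsW_le_o2 (h : Pair T V W z) (hp : p ∈ V) (hp1 : p ≠ 1) :
    ws W p ≤ o2 (centralizer ({p} : Set G)) := by
  obtain ⟨g, -, -, hg⟩ := h.point hp hp1
  have := hg.w.ws_le_o2
  rwa [ws_cj] at this

/-- `[ws V p, O₂(C_G(p))] ≤ ⟨p⟩` -/
theorem commV (h : Pair T V W z) (hp : p ∈ V) (hp1 : p ≠ 1) {a r : G} (ha : a ∈ ws V p)
    (hr : r ∈ o2 (centralizer ({p} : Set G))) : a * r = r * a ∨ a * r = p * (r * a) := by
  obtain ⟨g, -, -, hg⟩ := h.point hp hp1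
  exact hg.v.comm_cases ha hr

/-- `[ws W p, O₂(C_G(p))] ≤ ⟨p⟩` -/
theorem commW (h : Pair T V W z) (hp : p ∈ V) (hp1 : p ≠ 1) {b r : G} (hb : b ∈ ws W p)
    (hr : r ∈ o2 (centralizer ({p} : Set G))) : b * r = r * b ∨ b * r = p * (r * b) := by
  obtain ⟨g, -, -, hg⟩ := h.point hp hp1
  exact hg.w.comm_cases (by rwa [ws_cj]) hr

theorem exists_move' (h : Pair T V W z) (hp : p ∈ V) (hp1 : p ≠ 1) :
    ∃ b ∈ ws W p, b ∉ centralizer (V : Set G) := by
  obtain ⟨g, -, -, hg⟩ := h.point hp hp1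
  have := hg.exists_move
  rwa [ws_cj] at this

theorem p_comm (h : Pair T V W z) (hp : p ∈ V) (hp1 : p ≠ 1) {b : G} (hb : b ∈ ws W p) :
    b * p = p * b := mem_centralizer_singleton_iff.mp (h.wsW_le_centralizer hp hp1 hb)

theorem mem_centralizer_of (h : Pair T V W z) (hp : p ∈ V) (hp1 : p ≠ 1) (hq : q ∈ V) (hq1 : q ≠ 1)
    (hqp : q ≠ p) {g : G} (h1 : g * p = p * g) (h2 : g * q = q * g) :
    g ∈ centralizer (V : Set G) := by
  obtain ⟨g, -, -, hg⟩ := h.point hp hp1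
  exact hg.v.mem_centralizer_V hq hq1 hqp h1 h2

/-- a mover in `ws W p` moves the points `q ≠ p` of `V` to `p q` -/
theorem move (h : Pair T V W z) (hp : p ∈ V) (hp1 : p ≠ 1) (hq : q ∈ V) (hq1 : q ≠ 1)
    (hqp : q ≠ p) {b : G} (hb : b ∈ ws W p) (hb1 : b ∉ centralizer (V : Set G)) :
    b * q * b⁻¹ = p * q := by
  have hbp := h.p_comm hp hp1 hb
  rcases h.v.conj_cases hp hq hp1 hbp (h.wsW_le_normalizer_V hp hp1 hb) with e | e
  · exfalso
    refine hb1 (h.mem_centralizer_of hp hp1 hq hq1 hqp hbp ?_)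
    calc b * q = (b * q * b⁻¹) * b := by group
      _ = q * b := by rw [e]
  · exact e

theorem mul_ne_one (h : Pair T V W z) (hq : q ∈ V) (hpq : p ≠ q) : p * q ≠ 1 := fun e =>
  hpq (by rw [mul_eq_one_iff_eq_inv.mp e, h.v.inv_eq hq])

/-- `C_G(⟨ws W p, ws W q⟩) = 1` -/
theorem cent_triv (h : Pair T V W z) (hp : p ∈ V) (hp1 : p ≠ 1) (hq : q ∈ V) (hq1 : q ≠ 1)
    (hqp : q ≠ p) {c : G} (h1 : ∀ b ∈ ws W p, c * b = b * c) (h2 : ∀ b ∈ ws W q, c * b = b * c) :
    c = 1 := by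
  let D : Subgroup G :=
    { carrier := {c | ∀ r ∈ V, r ≠ 1 → ∀ b ∈ ws W r, c * b = b * c}
      mul_mem' := by
        intro c d hc hd r hr hr1 b hb
        rw [mul_assoc, hd r hr hr1 b hb, ← mul_assoc, hc r hr hr1 b hb, mul_assoc]
      one_mem' := by
        intro r hr hr1 b hb
        simp
      inv_mem' := by
        intro c hc r hr hr1 b hb
        have := hc r hr hr1 b hb
        calc c⁻¹ * b = c⁻¹ * (b * c) * c⁻¹ := by group
          _ = c⁻¹ * (c * b) * c⁻¹ := by rw [this]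
          _ = b * c⁻¹ := by group }
  have hDc : D ≤ centralizer (V : Set G) := by
    intro d hd
    exact h.mem_centralizer_of hp hp1 hq hq1 hqp (hd p hp hp1 p (h.p_memW hp hp1))
      (hd q hq hq1 q (h.p_memW hq hq1))
  have hDn : D ≤ normalizer (V : Set G) := hDc.trans (centralizer_le_normalizer _)
  have hN : normalizer (V : Set G) ≤ normalizer (D : Set G) := by
    refine le_normalizer_of_forall fun g hg d hd => ?_
    intro r hr hr1 b hb
    have hr' : g⁻¹ * r * g ∈ V := (mem_normalizer_iff''.mp hg r).mp hr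
    have hr1' : g⁻¹ * r * g ≠ 1 := fun e => hr1 (by
      have : r = g * (g⁻¹ * r * g) * g⁻¹ := by group
      rw [this, e]; group)
    have hb' : g⁻¹ * b * g ∈ ws W (g⁻¹ * r * g) := by
      have := conj_mem_ws g⁻¹ hb
      simpa only [_root_.inv_inv] using this
    have := hd _ hr' hr1' _ hb'
    calc g * d * g⁻¹ * b = g * (d * (g⁻¹ * b * g)) * g⁻¹ := by group
      _ = g * ((g⁻¹ * b * g) * d) * g⁻¹ := by rw [this]
      _ = b * (g * d * g⁻¹) := by group
  have hD : D = ⊥ := by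
    by_contra hne
    have hz := h.v.z_mem_of_normal hDn hN hne
    obtain ⟨y, hy, hy1, hyz⟩ := h.v.exists_y
    obtain ⟨b, hb, hb1⟩ := h.exists_move' hy hy1
    have e1 := h.move hy hy1 h.v.z_mem h.v.z_ne (Ne.symm hyz) hb hb1
    have e2 := hz y hy hy1 b hb
    have e3 : b * z * b⁻¹ = z := by rw [← e2]; group
    rw [e3] at e1
    exact hy1 (by simpa using e1.symm)
  have hc : c ∈ D := by
    intro r hr hr1 b hb
    obtain ⟨t, ht, ht1⟩ := h.exists_move' hp hp1
    obtain ⟨g', -, -, hg'⟩ := h.point hp hp1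
    rcases hg'.v.four hp hq hp1 hq1 (Ne.symm hqp) hr with e | e | e | e
    · exact absurd e hr1
    · rw [e] at hb; exact h1 b hb
    · rw [e] at hb; exact h2 b hb
    · -- `ws W (p q) = (ws W q)^t`
      have e1 := h.move hp hp1 hq hq1 hqp ht ht1
      rw [e, ← e1, ← cj_ws] at hb
      have hb' := mem_of_cj hb
      have hct := h1 t ht
      have := h2 _ hb'
      have hct' : c * t⁻¹ = t⁻¹ * c := by
        calc c * t⁻¹ = t⁻¹ * (t * c) * t⁻¹ := by group
          _ = t⁻¹ * (c * t) * t⁻¹ := by rw [hct]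
          _ = t⁻¹ * c := by group
      calc c * b = c * t * (t⁻¹ * b * t) * t⁻¹ := by group
        _ = t * (c * (t⁻¹ * b * t)) * t⁻¹ := by rw [hct]; group
        _ = t * ((t⁻¹ * b * t) * c) * t⁻¹ := by rw [this]
        _ = b * t * (c * t⁻¹) := by group
        _ = b * t * (t⁻¹ * c) := by rw [hct']
        _ = b * c := by group
  rw [hD] at hc
  exact mem_bot.mp hc

/-- `ws W p ∩ ws W q = 1` for distinct points of `V` -/
theorem inf_triv (h : Pair T V W z) (hp : p ∈ V) (hp1 : p ≠ 1) (hq : q ∈ V) (hq1 : q ≠ 1)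
    (hqp : q ≠ p) {c : G} (h1 : c ∈ ws W p) (h2 : c ∈ ws W q) : c = 1 :=
  h.cent_triv hp hp1 hq hq1 hqp (fun b hb => h.abW' hp hp1 c h1 b hb)
    (fun b hb => h.abW' hq hq1 c h2 b hb)

/-- elements centralizing `V` normalize `ws W p` -/
theorem cent_norm (_ : Pair T V W z) (hp : p ∈ V) {c b : G} (hc : c ∈ centralizer (V : Set G))
    (hb : b ∈ ws W p) : c * b * c⁻¹ ∈ ws W p := by
  refine conj_mem_of_normalizer (centralizer_le_normalizer_ws W p) ?_ hb
  rw [mem_centralizer_singleton_iff]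
  exact (mem_centralizer_iff.mp hc p hp).symm

theorem cent_norm' (_ : Pair T V W z) (hp : p ∈ V) {c b : G} (hc : c ∈ centralizer (V : Set G))
    (hb : b ∈ ws V p) : c * b * c⁻¹ ∈ ws V p := by
  refine conj_mem_of_normalizer (centralizer_le_normalizer_ws V p) ?_ hb
  rw [mem_centralizer_singleton_iff]
  exact (mem_centralizer_iff.mp hc p hp).symm

theorem cent_conj (h : Pair T V W z) (hp : p ∈ V) (hp1 : p ≠ 1) {c b : G}
    (hc : c ∈ centralizer (V : Set G)) (hb : b ∈ ws W p) : b * c * b⁻¹ ∈ centralizer (V : Set G) :=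
  conj_mem_of_normalizer (normalizer_le_normalizer_centralizer V)
    (h.wsW_le_normalizer_V hp hp1 hb) hc

end points

end Pair

end Cfsg.Agent.Omega.CaseL

end

section


/-!
# Two types of lines with `W₁`, `W₂` abelian: steps (2)-(7)

`b0 V W p = C_{ws W p}(V)`.
* `phi_inj`, `phi_surj`: for a mover `b ∈ ws W p`, `c ↦ [b, c]` is a bijection `b0 q → b0 p`;
* `inter`: `ws V q ∩ ws W p = ⟨p⟩` for distinct points of `V`;
* `comm_cent`: `[ws V u, ws W v]` centralizes `U = b0 p × b0 q`;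
* `cent_u`: `C_G(U) = U`;
* `cent_ab`: `C_G(ws V z ws W z) = ws V z ∩ ws W z`;
* `f_eq`: `ws V z ∩ ws W z = ⟨z⟩`.
-/

set_option autoImplicit false
set_option linter.style.haveILetI false
set_option linter.unusedSectionVars false

namespace Cfsg.Agent.Omega.CaseL

open Subgroup Cfsg Cfsg.Agent.ZN Cfsg.Agent.MinSimple.Geo
open Cfsg.Agent.ZN.Block (conj_mem_of_normalizer conj_mem_of_normalizer' le_normalizer_of_forall
  mem_normalizer_of)

universe u

variable {G : Type u} [Group G]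

/-- `C_{ws W p}(V)` -/
def b0 (V W : Subgroup G) (p : G) : Subgroup G := ws W p ⊓ centralizer (V : Set G)

theorem mem_b0 {V W : Subgroup G} {p x : G} : x ∈ b0 V W p ↔ x ∈ ws W p ∧ x ∈ centralizer (V : Set G) :=
  mem_inf

theorem comm_inv_of {a b : G} (h : a * b = b * a) : a * b⁻¹ = b⁻¹ * a := by
  calc a * b⁻¹ = b⁻¹ * (b * a) * b⁻¹ := by group
    _ = b⁻¹ * (a * b) * b⁻¹ := by rw [h]
    _ = b⁻¹ * a := by group

theorem inv_comm_of {a b : G} (h : a * b = b * a) : a⁻¹ * b = b * a⁻¹ := (comm_inv_of h.symm).symm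

theorem mul_comm_of {a b c : G} (h1 : a * c = c * a) (h2 : b * c = c * b) : a * b * c = c * (a * b) := by
  rw [mul_assoc, h2, ← mul_assoc, h1, mul_assoc]

theorem comm_mul_of {a b c : G} (h1 : c * a = a * c) (h2 : c * b = b * c) : c * (a * b) = a * b * c :=
  (mul_comm_of h1.symm h2.symm).symm

theorem conj_eq_of_comm {a b : G} (h : a * b = b * a) : a * b * a⁻¹ = b := by rw [h]; group

theorem comm_of_conj_eq {a b : G} (h : a * b * a⁻¹ = b) : a * b = b * a := by
  calc a * b = (a * b * a⁻¹) * a := by group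
    _ = b * a := by rw [h]

namespace Pair

variable {T V W : Subgroup G} {z : G} [Finite G]

section points

variable {p q : G}

theorem V_comm (_ : Pair T V W z) {v c : G} (hv : v ∈ V) (hc : c ∈ centralizer (V : Set G)) :
    v * c = c * v := mem_centralizer_iff.mp hc v hv

theorem V_le_centralizer (h : Pair T V W z) : V ≤ centralizer (V : Set G) := by
  intro v hv
  rw [mem_centralizer_iff]
  intro w hw
  exact h.v.comm hw hv

theorem p_mem_b0 (h : Pair T V W z) (hp : p ∈ V) (hp1 : p ≠ 1) : p ∈ b0 V W p :=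
  mem_b0.mpr ⟨h.p_memW hp hp1, h.V_le_centralizer hp⟩

theorem b0_comm (h : Pair T V W z) (hp : p ∈ V) (hp1 : p ≠ 1) (hq : q ∈ V) (hq1 : q ≠ 1) {a c : G}
    (ha : a ∈ b0 V W p) (hc : c ∈ b0 V W q) : a * c = c * a := by
  rw [mem_b0] at ha hc
  by_cases hqp : q = p
  · subst hqp
    exact h.abW' hq hq1 a ha.1 c hc.1
  · have h1 : a * c * a⁻¹ * c⁻¹ = 1 := by
      refine h.inf_triv hp hp1 hq hq1 hqp ?_ ?_
      · have : a * c * a⁻¹ * c⁻¹ = a * (c * a⁻¹ * c⁻¹) := by group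
        rw [this]
        exact mul_mem ha.1 (h.cent_norm hp hc.2 (inv_mem ha.1))
      · exact mul_mem (h.cent_norm hq ha.2 hc.1) (inv_mem hc.1)
    calc a * c = (a * c * a⁻¹ * c⁻¹) * (c * a) := by group
      _ = c * a := by rw [h1, one_mul]

theorem phi_mem (h : Pair T V W z) (hp : p ∈ V) (hp1 : p ≠ 1) {b c : G}
    (hb : b ∈ ws W p) (hc : c ∈ centralizer (V : Set G)) : b * c * b⁻¹ * c⁻¹ ∈ b0 V W p := by
  rw [mem_b0]
  constructor
  · have : b * c * b⁻¹ * c⁻¹ = b * (c * b⁻¹ * c⁻¹) := by group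
    rw [this]
    exact mul_mem hb (h.cent_norm hp hc (inv_mem hb))
  · exact mul_mem (h.cent_conj hp hp1 hc hb) (inv_mem hc)

theorem phi_inj (h : Pair T V W z) (hp : p ∈ V) (hp1 : p ≠ 1) (hq : q ∈ V) (hq1 : q ≠ 1)
    (hqp : q ≠ p) {b c : G} (hb : b ∈ ws W p) (hb1 : b ∉ centralizer (V : Set G)) (hc : c ∈ ws W q)
    (e : b * c = c * b) : c = 1 := by
  have h1 := conj_mem_ws b hc
  rw [h.move hp hp1 hq hq1 hqp hb hb1, conj_eq_of_comm e] at h1
  refine h.inf_triv hq hq1 (mul_mem hp hq) (h.mul_ne_one hq (Ne.symm hqp)) ?_ hc h1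
  intro e'
  exact hp1 (by simpa using e')

theorem phi_eq (h : Pair T V W z) (hp : p ∈ V) (hp1 : p ≠ 1) (hq : q ∈ V) (hq1 : q ≠ 1)
    (hqp : q ≠ p) {b c d : G} (hb : b ∈ ws W p) (hb1 : b ∉ centralizer (V : Set G)) (hc : c ∈ ws W q)
    (hd : d ∈ ws W q) (e : b * c * b⁻¹ * c⁻¹ = b * d * b⁻¹ * d⁻¹) : c = d := by
  have h1 : d⁻¹ * c = 1 := by
    refine h.phi_inj hp hp1 hq hq1 hqp hb hb1 (mul_mem (inv_mem hd) hc) ?_
    refine comm_of_conj_eq ?_
    calc b * (d⁻¹ * c) * b⁻¹ = (b * d * b⁻¹)⁻¹ * (b * c * b⁻¹ * c⁻¹) * c := by group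
      _ = (b * d * b⁻¹)⁻¹ * (b * d * b⁻¹ * d⁻¹) * c := by rw [e]
      _ = d⁻¹ * c := by group
  calc c = d * (d⁻¹ * c) := by group
    _ = d := by rw [h1, mul_one]

theorem cj_b0 (_ : Pair T V W z) {g : G} (hg : g ∈ normalizer (V : Set G)) (p : G) :
    cj g (b0 V W p) = b0 V W (g * p * g⁻¹) := by
  unfold b0
  rw [cj_inf, cj_ws, cj_eq_of_mem_normalizer (normalizer_le_normalizer_centralizer V hg)]

theorem card_b0 (h : Pair T V W z) (hp : p ∈ V) (hp1 : p ≠ 1) (hq : q ∈ V) (hq1 : q ≠ 1) :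
    Nat.card (b0 V W p) = Nat.card (b0 V W q) := by
  obtain ⟨g, hg, hgp, -⟩ := h.point hp hp1
  obtain ⟨k, hk, hkp, -⟩ := h.point hq hq1
  rw [← hgp, ← hkp, ← h.cj_b0 hg, ← h.cj_b0 hk, card_cj, card_cj]

theorem phi_surj (h : Pair T V W z) (hp : p ∈ V) (hp1 : p ≠ 1) (hq : q ∈ V) (hq1 : q ≠ 1)
    (hqp : q ≠ p) {b a : G} (hb : b ∈ ws W p) (hb1 : b ∉ centralizer (V : Set G)) (ha : a ∈ b0 V W p) :
    ∃ c ∈ b0 V W q, b * c * b⁻¹ * c⁻¹ = a := by
  let f : b0 V W q → b0 V W p := fun c =>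
    ⟨b * c * b⁻¹ * (c : G)⁻¹, h.phi_mem hp hp1 hb (mem_b0.mp c.2).2⟩
  have hf : Function.Injective f := by
    intro c d hcd
    exact Subtype.ext (h.phi_eq hp hp1 hq hq1 hqp hb hb1 (mem_b0.mp c.2).1 (mem_b0.mp d.2).1
      (congrArg Subtype.val hcd))
  have hb := hf.bijective_of_nat_card_le (h.card_b0 hp hp1 hq hq1).le
  obtain ⟨c, hc⟩ := hb.2 ⟨a, ha⟩
  exact ⟨c, c.2, congrArg Subtype.val hc⟩

theorem exists_q (h : Pair T V W z) (hp : p ∈ V) (hp1 : p ≠ 1) : ∃ q ∈ V, q ≠ 1 ∧ q ≠ p := by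
  obtain ⟨g, -, -, hg⟩ := h.point hp hp1
  exact hg.v.exists_y

/-- the movers of `ws W p` form one coset of `b0 p` -/
theorem mover_coset (h : Pair T V W z) (hp : p ∈ V) (hp1 : p ≠ 1) {b b' : G} (hb : b ∈ ws W p)
    (hb1 : b ∉ centralizer (V : Set G)) (hb' : b' ∈ ws W p) (hb1' : b' ∉ centralizer (V : Set G)) :
    b' * b⁻¹ ∈ b0 V W p := by
  rw [mem_b0]
  refine ⟨mul_mem hb' (inv_mem hb), ?_⟩
  obtain ⟨q, hq, hq1, hqp⟩ := h.exists_q hp hp1
  refine h.mem_centralizer_of hp hp1 (mul_mem hp hq) (h.mul_ne_one hq (Ne.symm hqp)) ?_ ?_ ?_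
  · intro e'
    exact hq1 (by simpa using e')
  · exact mul_comm_of (h.p_comm hp hp1 hb') (inv_comm_of (h.p_comm hp hp1 hb))
  · refine comm_of_conj_eq ?_
    have e1 := h.move hp hp1 hq hq1 hqp hb hb1
    have e2 := h.move hp hp1 hq hq1 hqp hb' hb1'
    calc b' * b⁻¹ * (p * q) * (b' * b⁻¹)⁻¹ = b' * (b⁻¹ * (p * q) * b) * b'⁻¹ := by group
      _ = b' * (b⁻¹ * (b * q * b⁻¹) * b) * b'⁻¹ := by rw [e1]
      _ = b' * q * b'⁻¹ := by group
      _ = p * q := e2

/-- commuting with a mover and with `b0 p` means commuting with `ws W p` -/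
theorem comm_ws_of (h : Pair T V W z) (hp : p ∈ V) (hp1 : p ≠ 1) {b g : G} (hb : b ∈ ws W p)
    (hb1 : b ∉ centralizer (V : Set G)) (h1 : g * b = b * g) (h2 : ∀ c ∈ b0 V W p, g * c = c * g) :
    ∀ c ∈ ws W p, g * c = c * g := by
  intro c hc
  by_cases hc1 : c ∈ centralizer (V : Set G)
  · exact h2 c (mem_b0.mpr ⟨hc, hc1⟩)
  · have := h2 _ (h.mover_coset hp hp1 hb hb1 hc hc1)
    have e := comm_mul_of this h1
    simpa only [_root_.inv_mul_cancel_right] using e

/-- step (3): `ws V q ∩ ws W p = ⟨p⟩` -/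
theorem inter (h : Pair T V W z) (hp : p ∈ V) (hp1 : p ≠ 1) (hq : q ∈ V) (hq1 : q ≠ 1)
    (hqp : q ≠ p) {t : G} (h1 : t ∈ ws V q) (h2 : t ∈ ws W p) : t = 1 ∨ t = p := by
  have ht : t ∈ centralizer (V : Set G) := h.wsV_le_centralizer_V hq hq1 h1
  obtain ⟨b, hb, hb1⟩ := h.exists_move' hq hq1
  rcases h.commV hq hq1 h1 (h.wsW_le_o2 hq hq1 hb) with e | e
  · left
    exact h.phi_inj hq hq1 hp hp1 (Ne.symm hqp) hb hb1 h2 e.symm
  · right
    have e2 : b * t * b⁻¹ = q * t := by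
      calc b * t * b⁻¹ = q * (q * (b * t)) * b⁻¹ := by
            rw [← mul_assoc q q, h.v.sq q hq, one_mul]
        _ = q * (t * b) * b⁻¹ := by rw [e]
        _ = q * t := by group
    have e3 := h.move hq hq1 hp hp1 (Ne.symm hqp) hb hb1
    have h3 : t * p = 1 := by
      refine h.phi_inj hq hq1 hp hp1 (Ne.symm hqp) hb hb1 (mul_mem h2 (h.p_memW hp hp1)) ?_
      refine comm_of_conj_eq ?_
      calc b * (t * p) * b⁻¹ = (b * t * b⁻¹) * (b * p * b⁻¹) := by group
        _ = (q * t) * (q * p) := by rw [e2, e3]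
        _ = (t * q) * (q * p) := by rw [h.V_comm hq ht]
        _ = t * (q * q) * p := by group
        _ = t * p := by rw [h.v.sq q hq, mul_one]
    rw [mul_eq_one_iff_eq_inv.mp h3, h.v.inv_eq hp]

/-- step (4): `[ws V p, b0 q] ≤ ⟨q⟩` -/
theorem comm_b0 (h : Pair T V W z) (hp : p ∈ V) (hp1 : p ≠ 1) (hq : q ∈ V) (hq1 : q ≠ 1)
    {a c : G} (ha : a ∈ ws V p) (hc : c ∈ b0 V W q) : a * c * a⁻¹ = c ∨ a * c * a⁻¹ = q * c := by
  have hc' := mem_b0.mp hc
  by_cases hqp : p = q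
  · subst hqp
    rcases h.commV hp hp1 ha (h.wsW_le_o2 hp hp1 hc'.1) with e | e
    · left; exact conj_eq_of_comm e
    · right
      rw [e]; group
  · have ha' := h.wsV_le_centralizer_V hp hp1 ha
    rcases h.inter hq hq1 hp hp1 hqp (t := a * c * a⁻¹ * c⁻¹) (by
      have : a * c * a⁻¹ * c⁻¹ = a * (c * a⁻¹ * c⁻¹) := by group
      rw [this]
      exact mul_mem ha (h.cent_norm' hp hc'.2 (inv_mem ha)))
      (mul_mem (h.cent_norm hq ha' hc'.1) (inv_mem hc'.1)) with e | e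
    · left
      calc a * c * a⁻¹ = (a * c * a⁻¹ * c⁻¹) * c := by group
        _ = c := by rw [e, one_mul]
    · right
      calc a * c * a⁻¹ = (a * c * a⁻¹ * c⁻¹) * c := by group
        _ = q * c := by rw [e]

/-- the actions of `ws V p` and `ws W q` on `b0 r` commute -/
theorem act_comm (h : Pair T V W z) (hp : p ∈ V) (hp1 : p ≠ 1) (hq : q ∈ V) (hq1 : q ≠ 1)
    {r : G} (hr : r ∈ V) (hr1 : r ≠ 1) {a b x : G} (ha : a ∈ ws V p) (hb : b ∈ ws W q)
    (hx : x ∈ b0 V W r) : a * (b * x * b⁻¹) * a⁻¹ = b * (a * x * a⁻¹) * b⁻¹ := by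
  have hx' := mem_b0.mp hx
  by_cases hb1 : b ∈ centralizer (V : Set G)
  · -- `b` centralizes `x` and `r`
    have hb0 : b ∈ b0 V W q := mem_b0.mpr ⟨hb, hb1⟩
    have e1 : b * x * b⁻¹ = x := conj_eq_of_comm (h.b0_comm hq hq1 hr hr1 hb0 hx)
    have e2 : b * r * b⁻¹ = r := conj_eq_of_comm (h.V_comm hr hb1).symm
    rw [e1]
    rcases h.comm_b0 hp hp1 hr hr1 ha hx with e | e
    · rw [e, e1]
    · rw [e]
      calc r * x = (b * r * b⁻¹) * (b * x * b⁻¹) := by rw [e1, e2]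
        _ = b * (r * x) * b⁻¹ := by group
  · by_cases hrq : r = q
    · subst hrq
      have e1 : b * x * b⁻¹ = x := conj_eq_of_comm (h.abW' hr hr1 b hb x hx'.1)
      have e2 : b * r * b⁻¹ = r := conj_eq_of_comm (h.p_comm hr hr1 hb)
      rw [e1]
      rcases h.comm_b0 hp hp1 hr hr1 ha hx with e | e
      · rw [e, e1]
      · rw [e]
        calc r * x = (b * r * b⁻¹) * (b * x * b⁻¹) := by rw [e1, e2]
          _ = b * (r * x) * b⁻¹ := by group
    · have em := h.move hq hq1 hr hr1 hrq hb hb1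
      obtain ⟨d, hd⟩ : ∃ d, d = b * x * b⁻¹ * x⁻¹ := ⟨_, rfl⟩
      have hd0 : d ∈ b0 V W q := by rw [hd]; exact h.phi_mem hq hq1 hb hx'.2
      have hx2 : b * x * b⁻¹ = d * x := by rw [hd]; group
      have hx3 : b * x * b⁻¹ ∈ b0 V W (q * r) := by
        rw [mem_b0]
        refine ⟨?_, h.cent_conj hq hq1 hx'.2 hb⟩
        have := conj_mem_ws b hx'.1
        rwa [em] at this
      have hqr1 : q * r ≠ 1 := h.mul_ne_one hr (Ne.symm hrq)
      have k1 := h.comm_b0 hp hp1 hr hr1 ha hx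
      have k2 := h.comm_b0 hp hp1 hq hq1 ha hd0
      have k3 := h.comm_b0 hp hp1 (mul_mem hq hr) hqr1 ha hx3
      have k4 : a * (b * x * b⁻¹) * a⁻¹ = (a * d * a⁻¹) * (a * x * a⁻¹) := by rw [hx2]; group
      have hrd : r * d = d * r := h.V_comm hr (mem_b0.mp hd0).2
      have key : ∀ s, s * (d * x) = d * x → s = 1 := fun s hs => by simpa using hs
      rcases k1 with k1 | k1 <;> rcases k3 with k3 | k3
      · rw [k1, k3]
      · exfalso
        rw [k1, k3, hx2] at k4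
        rcases k2 with k2 | k2
        · rw [k2] at k4
          exact hqr1 (key _ k4)
        · rw [k2] at k4
          refine hr1 (key r ?_)
          calc r * (d * x) = q⁻¹ * (q * r * (d * x)) := by group
            _ = q⁻¹ * (q * d * x) := by rw [k4]
            _ = d * x := by group
      · exfalso
        rw [k1, k3, hx2] at k4
        rcases k2 with k2 | k2
        · rw [k2] at k4
          refine hr1 (key r ?_)
          calc r * (d * x) = (r * d) * x := by group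
            _ = d * (r * x) := by rw [hrd]; group
            _ = d * x := k4.symm
        · rw [k2] at k4
          refine hqr1 (key _ ?_)
          calc q * r * (d * x) = q * (r * d) * x := by group
            _ = q * d * (r * x) := by rw [hrd]; group
            _ = d * x := k4.symm
      · rw [k1, k3]
        calc q * r * (b * x * b⁻¹) = (b * r * b⁻¹) * (b * x * b⁻¹) := by rw [em]
          _ = b * (r * x) * b⁻¹ := by group

/-- step (4'): `[ws V p, ws W q]` centralizes `b0 r` -/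
theorem comm_cent (h : Pair T V W z) (hp : p ∈ V) (hp1 : p ≠ 1) (hq : q ∈ V) (hq1 : q ≠ 1)
    {r : G} (hr : r ∈ V) (hr1 : r ≠ 1) {a b x : G} (ha : a ∈ ws V p) (hb : b ∈ ws W q)
    (hx : x ∈ b0 V W r) : a * b * a⁻¹ * b⁻¹ * x = x * (a * b * a⁻¹ * b⁻¹) := by
  have := h.act_comm hp hp1 hq hq1 hr hr1 (inv_mem ha) (inv_mem hb) hx
  refine comm_of_conj_eq ?_
  calc a * b * a⁻¹ * b⁻¹ * x * (a * b * a⁻¹ * b⁻¹)⁻¹
      = a * b * (a⁻¹ * (b⁻¹ * x * b⁻¹⁻¹) * a⁻¹⁻¹) * b⁻¹ * a⁻¹ := by group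
    _ = a * b * (b⁻¹ * (a⁻¹ * x * a⁻¹⁻¹) * b⁻¹⁻¹) * b⁻¹ * a⁻¹ := by rw [this]
    _ = x := by group

/-- step (5): `C_G(U) = U` for `U = b0 p × b0 q` -/
theorem cent_u (h : Pair T V W z) (hp : p ∈ V) (hp1 : p ≠ 1) (hq : q ∈ V) (hq1 : q ≠ 1)
    (hqp : q ≠ p) {k : G} (h1 : ∀ x ∈ b0 V W p, k * x = x * k) (h2 : ∀ x ∈ b0 V W q, k * x = x * k) :
    ∃ a ∈ b0 V W p, ∃ c ∈ b0 V W q, k = a * c := by
  have hk : k ∈ centralizer (V : Set G) := h.mem_centralizer_of hp hp1 hq hq1 hqp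
    (h1 p (h.p_mem_b0 hp hp1)) (h2 q (h.p_mem_b0 hq hq1))
  obtain ⟨b, hb, hb1⟩ := h.exists_move' hp hp1
  obtain ⟨t, ht, ht1⟩ := h.exists_move' hq hq1
  have hf := h.phi_mem hp hp1 hb hk
  have hg := h.phi_mem hq hq1 ht hk
  obtain ⟨c, hc, hcf⟩ := h.phi_surj hp hp1 hq hq1 hqp hb hb1 hf
  obtain ⟨a, ha, hag⟩ := h.phi_surj hq hq1 hp hp1 (Ne.symm hqp) ht ht1 hg
  set f := b * k * b⁻¹ * k⁻¹ with hfd
  set g := t * k * t⁻¹ * k⁻¹ with hgd
  refine ⟨a, ha, c, hc, ?_⟩
  set m := k * c⁻¹ * a⁻¹ with hm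
  have hac : a * c = c * a := h.b0_comm hp hp1 hq hq1 ha hc
  have hm1 : m = 1 := by
    refine h.cent_triv hp hp1 hq hq1 hqp ?_ ?_
    · refine h.comm_ws_of hp hp1 hb hb1 ?_ ?_
      · refine (comm_of_conj_eq ?_).symm
        have e1 : b * k * b⁻¹ = f * k := by rw [hfd]; group
        have e2 : b * c * b⁻¹ = f * c := by rw [← hcf]; group
        have e3 : b * a * b⁻¹ = a := conj_eq_of_comm (h.abW' hp hp1 b hb a (mem_b0.mp ha).1)
        have e4 : f * (k * c⁻¹) = (k * c⁻¹) * f :=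
          comm_mul_of (h1 f hf).symm (comm_inv_of (h.b0_comm hp hp1 hq hq1 hf hc))
        calc b * m * b⁻¹ = (b * k * b⁻¹) * (b * c * b⁻¹)⁻¹ * (b * a * b⁻¹)⁻¹ := by rw [hm]; group
          _ = (f * k) * (f * c)⁻¹ * a⁻¹ := by rw [e1, e2, e3]
          _ = f * (k * c⁻¹) * f⁻¹ * a⁻¹ := by group
          _ = (k * c⁻¹) * f * f⁻¹ * a⁻¹ := by rw [e4]
          _ = m := by rw [hm]; group
      · intro x hx
        rw [hm]
        exact mul_comm_of (mul_comm_of (h1 x hx) (inv_comm_of (h.b0_comm hq hq1 hp hp1 hc hx)))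
          (inv_comm_of (h.b0_comm hp hp1 hp hp1 ha hx))
    · refine h.comm_ws_of hq hq1 ht ht1 ?_ ?_
      · refine (comm_of_conj_eq ?_).symm
        have e1 : t * k * t⁻¹ = g * k := by rw [hgd]; group
        have e2 : t * a * t⁻¹ = g * a := by rw [← hag]; group
        have e3 : t * c * t⁻¹ = c := conj_eq_of_comm (h.abW' hq hq1 t ht c (mem_b0.mp hc).1)
        have e4 : g * (k * c⁻¹ * a⁻¹) = (k * c⁻¹ * a⁻¹) * g :=
          comm_mul_of (comm_mul_of (h2 g hg).symm (comm_inv_of (h.b0_comm hq hq1 hq hq1 hg hc)))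
            (comm_inv_of (h.b0_comm hq hq1 hp hp1 hg ha))
        calc t * m * t⁻¹ = (t * k * t⁻¹) * (t * c * t⁻¹)⁻¹ * (t * a * t⁻¹)⁻¹ := by rw [hm]; group
          _ = (g * k) * c⁻¹ * (g * a)⁻¹ := by rw [e1, e2, e3]
          _ = g * (k * c⁻¹ * a⁻¹) * g⁻¹ := by group
          _ = (k * c⁻¹ * a⁻¹) * g * g⁻¹ := by rw [e4]
          _ = m := by rw [hm]; group
      · intro x hx
        rw [hm]
        exact mul_comm_of (mul_comm_of (h2 x hx) (inv_comm_of (h.b0_comm hq hq1 hq hq1 hc hx)))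
          (inv_comm_of (h.b0_comm hp hp1 hq hq1 ha hx))
  calc k = m * (a * c) := by rw [hm]; group
    _ = a * c := by rw [hm1, one_mul]

/-- `ws V q ∩ ws W q` centralizes `ws V p` -/
theorem f_comm (h : Pair T V W z) (hp : p ∈ V) (hp1 : p ≠ 1) (hq : q ∈ V) (hq1 : q ≠ 1)
    {f a : G} (hf : f ∈ ws V q) (hf' : f ∈ ws W q) (ha : a ∈ ws V p) : f * a = a * f := by
  by_cases hqp : q = p
  · subst hqp
    exact h.abV' hq hq1 f hf a ha
  have hf0 : f ∈ b0 V W q := mem_b0.mpr ⟨hf', h.wsV_le_centralizer_V hq hq1 hf⟩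
  have hw1 : p * q ≠ 1 := h.mul_ne_one hq (Ne.symm hqp)
  have hwp : p ≠ p * q := fun e => hq1 (by simpa using e)
  have hw : p * q ∈ V := mul_mem hp hq
  obtain ⟨b, hb, hb1⟩ := h.exists_move' hw hw1
  have e1 := h.move hw hw1 hp hp1 hwp hb hb1
  have e2 : p * q * p = q := by
    rw [h.v.comm hp hq, mul_assoc, h.v.sq p hp, mul_one]
  rw [e2] at e1
  have h1 := conj_mem_ws b ha
  rw [e1] at h1
  have h2 : f * (b * a * b⁻¹) = (b * a * b⁻¹) * f := h.abV' hq hq1 f hf _ h1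
  obtain ⟨x, hx, y, hy, hxy⟩ := h.cent_u hp hp1 hq hq1 hqp
    (fun x hx => h.comm_cent hp hp1 hw hw1 hp hp1 ha hb hx)
    (fun x hx => h.comm_cent hp hp1 hw hw1 hq hq1 ha hb hx)
  have h3 : f * (a * b * a⁻¹ * b⁻¹) = (a * b * a⁻¹ * b⁻¹) * f := by
    rw [hxy]
    exact comm_mul_of (h.b0_comm hq hq1 hp hp1 hf0 hx) (h.b0_comm hq hq1 hq hq1 hf0 hy)
  have h4 := comm_mul_of h3 h2
  have e : a * b * a⁻¹ * b⁻¹ * (b * a * b⁻¹) = a := by group
  rwa [e] at h4

end points

/-- step (6), one half -/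
theorem cent_ab_aux (h : Pair T V W z) {c : G} (h1 : ∀ a ∈ ws V z, c * a = a * c)
    (h2 : ∀ b ∈ ws W z, c * b = b * c) : c ∈ ws W z := by
  have hz := h.v.z_mem
  have hz1 := h.v.z_ne
  have hc : c ∈ centralizer (V : Set G) := by
    rw [mem_centralizer_iff]
    intro v hv
    exact (h1 v (h.v.V_le_ws hv)).symm
  obtain ⟨q, hq, hq1, hqp⟩ := h.v.exists_y
  obtain ⟨b, hb, hb1⟩ := h.exists_move
  have hcb := h2 b hb
  have hce : ∀ e ∈ b0 V W q, c * e = e * c := by
    intro e he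
    have he' := mem_b0.mp he
    refine comm_of_conj_eq ?_
    refine h.phi_eq hz hz1 hq hq1 hqp hb hb1 (h.cent_norm hq hc he'.1) he'.1 ?_
    have hd := h.phi_mem hz hz1 hb he'.2
    have hcd := h2 _ (mem_b0.mp hd).1
    calc b * (c * e * c⁻¹) * b⁻¹ * (c * e * c⁻¹)⁻¹
        = (b * c) * e * (c⁻¹ * b⁻¹) * c * e⁻¹ * c⁻¹ := by group
      _ = (c * b) * e * (b⁻¹ * c⁻¹) * c * e⁻¹ * c⁻¹ := by
          rw [hcb, show c⁻¹ * b⁻¹ = b⁻¹ * c⁻¹ from by rw [← mul_inv_rev, ← mul_inv_rev, hcb]]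
      _ = c * (b * e * b⁻¹ * e⁻¹) * c⁻¹ := by group
      _ = b * e * b⁻¹ * e⁻¹ := conj_eq_of_comm hcd
  obtain ⟨x, hx, y, hy, hxy⟩ := h.cent_u hz hz1 hq hq1 hqp
    (fun x hx => h2 x (mem_b0.mp hx).1) hce
  have hxb := h.abW b hb x (mem_b0.mp hx).1
  have hyb : b * y = y * b := by
    have e1 : b * (x⁻¹ * c) = (x⁻¹ * c) * b := comm_mul_of (comm_inv_of hxb) hcb.symm
    have e2 : x⁻¹ * c = y := by rw [hxy]; group
    rwa [e2] at e1
  have hy1 := h.phi_inj hz hz1 hq hq1 hqp hb hb1 (mem_b0.mp hy).1 hyb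
  rw [hxy, hy1, mul_one]
  exact (mem_b0.mp hx).1

/-- step (6): `C_G(ws V z ws W z) ≤ ws V z ∩ ws W z` -/
theorem cent_ab (h : Pair T V W z) {c : G} (h1 : ∀ a ∈ ws V z, c * a = a * c)
    (h2 : ∀ b ∈ ws W z, c * b = b * c) : c ∈ ws V z ∧ c ∈ ws W z :=
  ⟨h.symm.cent_ab_aux h2 h1, h.cent_ab_aux h1 h2⟩

theorem cent_ab' (h : Pair T V W z) {p : G} (hp : p ∈ V) (hp1 : p ≠ 1) {c : G}
    (h1 : ∀ a ∈ ws V p, c * a = a * c) (h2 : ∀ b ∈ ws W p, c * b = b * c) : c ∈ ws V p ∧ c ∈ ws W p := by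
  obtain ⟨g, -, -, hg⟩ := h.point hp hp1
  have := hg.cent_ab h1 (by rwa [ws_cj])
  rwa [ws_cj] at this

/-- step (7): `ws V z ∩ ws W z = ⟨z⟩` -/
theorem f_eq (h : Pair T V W z) {f : G} (hf : f ∈ ws V z) (hf' : f ∈ ws W z) : f = 1 ∨ f = z := by
  have hz := h.v.z_mem
  have hz1 := h.v.z_ne
  obtain ⟨p, hp, hp1, hpz⟩ := h.v.exists_y
  have hf0 : f ∈ b0 V W z := mem_b0.mpr ⟨hf', h.wsV_le_centralizer_V hz hz1 hf⟩
  set C := centralizer ({p} : Set G) with hC
  have hCV : C ≤ normalizer ((ws V p : Subgroup G) : Set G) := centralizer_le_normalizer_ws V p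
  have hCW : C ≤ normalizer ((ws W p : Subgroup G) : Set G) := centralizer_le_normalizer_ws W p
  let N : Subgroup G :=
    { carrier := {g | g ∈ C ∧ (∀ a ∈ ws V p, g * a * g⁻¹ * a⁻¹ ∈ ws V p ⊓ ws W p) ∧
        (∀ b ∈ ws W p, g * b * g⁻¹ * b⁻¹ ∈ ws V p ⊓ ws W p) ∧ ∀ e ∈ ws V p ⊓ ws W p, g * e = e * g}
      mul_mem' := by
        rintro g k ⟨hg, hg1, hg2, hg3⟩ ⟨hk, hk1, hk2, hk3⟩
        have key : ∀ a, k * a * k⁻¹ * a⁻¹ ∈ ws V p ⊓ ws W p → g * a * g⁻¹ * a⁻¹ ∈ ws V p ⊓ ws W p →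
            g * k * a * (g * k)⁻¹ * a⁻¹ ∈ ws V p ⊓ ws W p := by
          intro a h1 h2
          have e : g * k * a * (g * k)⁻¹ * a⁻¹ = g * (k * a * k⁻¹ * a⁻¹) * g⁻¹ * (g * a * g⁻¹ * a⁻¹) := by
            group
          rw [e, conj_eq_of_comm (hg3 _ h1)]
          exact mul_mem h1 h2
        exact ⟨mul_mem hg hk, fun a ha => key a (hk1 a ha) (hg1 a ha),
          fun a ha => key a (hk2 a ha) (hg2 a ha), fun e he => mul_comm_of (hg3 e he) (hk3 e he)⟩
      one_mem' := ⟨one_mem _, fun a _ => by simp only [_root_.one_mul, _root_.inv_one, _root_.mul_one, _root_.mul_inv_cancel, _root_.OneMemClass.one_mem], fun a _ => by simp only [_root_.one_mul, _root_.inv_one, _root_.mul_one, _root_.mul_inv_cancel, _root_.OneMemClass.one_mem], fun a _ => by simp⟩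
      inv_mem' := by
        rintro g ⟨hg, hg1, hg2, hg3⟩
        have key : ∀ a, g * a * g⁻¹ * a⁻¹ ∈ ws V p ⊓ ws W p → g⁻¹ * a * g⁻¹⁻¹ * a⁻¹ ∈ ws V p ⊓ ws W p := by
          intro a h1
          have h3 := hg3 _ h1
          have e : g⁻¹ * a * g⁻¹⁻¹ * a⁻¹ = g⁻¹ * (g * a * g⁻¹ * a⁻¹)⁻¹ * g := by group
          rw [e]
          have e2 : g⁻¹ * (g * a * g⁻¹ * a⁻¹)⁻¹ * g = (g * a * g⁻¹ * a⁻¹)⁻¹ := by
            have := comm_inv_of h3
            calc g⁻¹ * (g * a * g⁻¹ * a⁻¹)⁻¹ * g = g⁻¹ * ((g * a * g⁻¹ * a⁻¹)⁻¹ * g) := by group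
              _ = g⁻¹ * (g * (g * a * g⁻¹ * a⁻¹)⁻¹) := by rw [this]
              _ = (g * a * g⁻¹ * a⁻¹)⁻¹ := by group
          rw [e2]
          exact inv_mem h1
        exact ⟨inv_mem hg, fun a ha => key a (hg1 a ha), fun a ha => key a (hg2 a ha),
          fun e he => inv_comm_of (hg3 e he)⟩ }
  have hNC : N ≤ C := fun g hg => hg.1
  have hNn : C ≤ normalizer (N : Set G) := by
    refine le_normalizer_of_forall fun c hc g hg => ?_
    obtain ⟨hg, hg1, hg2, hg3⟩ := hg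
    have hFc : ∀ e ∈ ws V p ⊓ ws W p, c * e * c⁻¹ ∈ ws V p ⊓ ws W p := fun e he =>
      ⟨conj_mem_of_normalizer hCV hc he.1, conj_mem_of_normalizer hCW hc he.2⟩
    refine ⟨mul_mem (mul_mem hc hg) (inv_mem hc), fun a ha => ?_, fun a ha => ?_, fun e he => ?_⟩
    · have h1 := hFc _ (hg1 _ (conj_mem_of_normalizer' hCV hc ha))
      have e : c * (g * (c⁻¹ * a * c) * g⁻¹ * (c⁻¹ * a * c)⁻¹) * c⁻¹ =
        c * g * c⁻¹ * a * (c * g * c⁻¹)⁻¹ * a⁻¹ := by group
      rwa [e] at h1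
    · have h1 := hFc _ (hg2 _ (conj_mem_of_normalizer' hCW hc ha))
      have e : c * (g * (c⁻¹ * a * c) * g⁻¹ * (c⁻¹ * a * c)⁻¹) * c⁻¹ =
        c * g * c⁻¹ * a * (c * g * c⁻¹)⁻¹ * a⁻¹ := by group
      rwa [e] at h1
    · have h1 : c⁻¹ * e * c ∈ ws V p ⊓ ws W p :=
        ⟨conj_mem_of_normalizer' hCV hc he.1, conj_mem_of_normalizer' hCW hc he.2⟩
      have h2 := hg3 _ h1
      calc c * g * c⁻¹ * e = c * (g * (c⁻¹ * e * c)) * c⁻¹ := by group
        _ = c * ((c⁻¹ * e * c) * g) * c⁻¹ := by rw [h2]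
        _ = e * (c * g * c⁻¹) := by group
  have hFsq : ∀ e ∈ ws V p ⊓ ws W p, e * e = 1 := fun e he => h.sqV' hp hp1 e he.1
  have hN2 : IsPGroup 2 N := by
    intro g
    obtain ⟨hg, hg1, hg2, hg3⟩ := g.2
    have key : ∀ a, (g : G) * a * (g : G)⁻¹ * a⁻¹ ∈ ws V p ⊓ ws W p →
        ((g : G) * g) * a = a * (g * g) := by
      intro a ha
      set e := (g : G) * a * (g : G)⁻¹ * a⁻¹ with he
      have h3 := hg3 e ha
      have h4 := hFsq e ha
      have h5 : (g : G) * a = e * a * g := by rw [he]; group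
      calc ((g : G) * g) * a = g * (g * a) := by group
        _ = (g * e) * a * g := by rw [h5]; group
        _ = e * (g * a) * g := by rw [h3]; group
        _ = (e * e) * a * (g * g) := by rw [h5]; group
        _ = a * (g * g) := by rw [h4, one_mul]
    have h6 := h.cent_ab' hp hp1 (c := (g : G) * g) (fun a ha => key a (hg1 a ha))
      (fun a ha => key a (hg2 a ha))
    have h7 := hFsq _ h6
    refine ⟨2, ?_⟩
    ext
    have e : ((g ^ 2 ^ 2 : N) : G) = (g : G) * g * (g * g) := by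
      push_cast
      norm_num [pow_succ, mul_assoc]
    rw [e, h7]; rfl
  have hfN : f ∈ N := by
    have hfV : ∀ a ∈ ws V p, f * a = a * f := fun a ha => h.f_comm hp hp1 hz hz1 hf hf' ha
    have hfc : f ∈ C := by
      rw [hC, mem_centralizer_singleton_iff]
      exact (h.V_comm hp (mem_b0.mp hf0).2).symm
    refine ⟨hfc, fun a ha => ?_, fun b hb => ?_, fun e he => hfV e he.1⟩
    · rw [hfV a ha]
      have : a * f * f⁻¹ * a⁻¹ = 1 := by group
      rw [this]; exact one_mem _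
    · have h1 : f * b * f⁻¹ * b⁻¹ ∈ ws W p :=
        mul_mem (h.cent_norm hp (mem_b0.mp hf0).2 hb) (inv_mem hb)
      refine ⟨?_, h1⟩
      refine (h.cent_ab' hp hp1 (fun a ha => ?_) (fun a ha => h.abW' hp hp1 _ h1 a ha)).1
      have hbC := h.wsW_le_centralizer hp hp1 hb
      have h2 := hfV _ (conj_mem_of_normalizer' hCV hbC ha)
      have h3 : (b * f⁻¹ * b⁻¹) * a = a * (b * f⁻¹ * b⁻¹) := by
        calc (b * f⁻¹ * b⁻¹) * a = b * (f⁻¹ * (b⁻¹ * a * b)) * b⁻¹ := by group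
          _ = b * ((b⁻¹ * a * b) * f⁻¹) * b⁻¹ := by rw [inv_comm_of h2]
          _ = a * (b * f⁻¹ * b⁻¹) := by group
      have h4 := mul_comm_of (hfV a ha) h3
      have e : f * (b * f⁻¹ * b⁻¹) = f * b * f⁻¹ * b⁻¹ := by group
      rwa [e] at h4
  have hfo : f ∈ o2 C := Block.le_o2 hN2 hNC hNn hfN
  obtain ⟨b, hb, hb1⟩ := h.exists_move' hp hp1
  rcases h.commW hp hp1 hb hfo with e | e
  · left
    exact h.phi_inj hp hp1 hz hz1 (Ne.symm hpz) hb hb1 hf' e
  · right
    have e1 := h.move hp hp1 hz hz1 (Ne.symm hpz) hb hb1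
    have e2 : b * f * b⁻¹ = p * f := by rw [e]; group
    have h3 : f * z = 1 := by
      refine h.phi_inj hp hp1 hz hz1 (Ne.symm hpz) hb hb1 (mul_mem hf' h.z_memW) ?_
      refine comm_of_conj_eq ?_
      calc b * (f * z) * b⁻¹ = (b * f * b⁻¹) * (b * z * b⁻¹) := by group
        _ = (p * f) * (p * z) := by rw [e1, e2]
        _ = (f * p) * (p * z) := by rw [h.V_comm hp (mem_b0.mp hf0).2]
        _ = f * (p * p) * z := by group
        _ = f * z := by rw [h.v.sq p hp, mul_one]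
    rw [mul_eq_one_iff_eq_inv.mp h3, h.v.inv_eq hz]

end Pair

end Cfsg.Agent.Omega.CaseL

end

section


/-!
# NO-3S, `q = 2`, `n = 1` (helper881's text #13700): the base

`One T V z` : a flag `(z, V)`, `|V| = 4`, as in `CaseL.Ln` (K-free), `W_z = ws V z` abelian, `[W_z, W_y] ≠ 1` for a
`y ∈ V`, and (F1): `K_z = kq V z` moves the points of `V`.  Points of `V`: all `p ∈ V`, `p ≠ 1`.

* `One.point` : every point of `V` is as good as `z`;
* `ii V` : the intersection of the `W_p`, `p ∈ V#`; `One.mem_ii` : it is the intersection of any two of them;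
* `One.fu` (FU) : for `u ∈ ii V`, `u ∉ V` and every point `p` of `V` some `k ∈ K_p ∩ C_G(V)` has `k u k⁻¹ = p u`;
* `One.ftwo` (F2) : `N_G(V) ∩ C_G(u)` is transitive on the points of `V`.
-/

set_option autoImplicit false
set_option linter.unusedSectionVars false

namespace Cfsg.Agent.Omega.NO3S.TwoOne

open Subgroup Cfsg Cfsg.Agent.ZN Cfsg.Agent.MinSimple.Geo Cfsg.Agent.Omega.CaseL
open Cfsg.Agent.ZN.Block (conj_mem_of_normalizer conj_mem_of_normalizer' le_normalizer_of_forall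
  mem_normalizer_of)

universe u

variable {G : Type u} [Group G]

/-- a flag at distance 1 from the critical point, with (F1) -/
structure One (T V : Subgroup G) (z : G) : Prop where
  ln : Ln T V z
  ab : ∀ a ∈ ws V z, ∀ b ∈ ws V z, a * b = b * a
  nc : ∃ y ∈ V, y ≠ 1 ∧ y ≠ z ∧ ∃ a ∈ ws V z, ∃ b ∈ ws V y, a * b ≠ b * a
  f1 : ∃ k ∈ kq V z, k ∉ centralizer (V : Set G)

/-! ### the kernel `kq V x` -/

theorem kq_le_centralizer (V : Subgroup G) (x : G) : kq V x ≤ centralizer ({x} : Set G) :=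
  fun _ h => h.1

theorem kq_comm {V : Subgroup G} {x k w : G} (hk : k ∈ kq V x) (hw : w ∈ ws V x) :
    k * w * k⁻¹ * w⁻¹ ∈ zpowers x := hk.2.1 w hw

theorem cj_kq (V : Subgroup G) (g x : G) : cj g (kq V x) = kq V (g * x * g⁻¹) := by
  have key : ∀ (g x : G), ∀ k ∈ kq V x, g * k * g⁻¹ ∈ kq V (g * x * g⁻¹) := by
    intro g x k hk
    have hz : ∀ y ∈ zpowers x, g * y * g⁻¹ ∈ zpowers (g * x * g⁻¹) := by
      intro y hy
      obtain ⟨n, rfl⟩ := mem_zpowers_iff.mp hy
      rw [← conj_zpow]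
      exact zpow_mem (mem_zpowers _) n
    have hw : ∀ w ∈ ws V (g * x * g⁻¹), g⁻¹ * w * g ∈ ws V x := by
      intro w hw
      have := conj_mem_ws g⁻¹ hw
      have e : g⁻¹ * (g * x * g⁻¹) * g⁻¹⁻¹ = x := by group
      rw [e, inv_inv] at this
      exact this
    refine ⟨?_, fun w hw' => ?_, fun w hw' => ?_⟩
    · rw [mem_centralizer_singleton_iff]
      have := mem_centralizer_singleton_iff.mp hk.1
      calc g * k * g⁻¹ * (g * x * g⁻¹) = g * (k * x) * g⁻¹ := by group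
        _ = g * (x * k) * g⁻¹ := by rw [this]
        _ = g * x * g⁻¹ * (g * k * g⁻¹) := by group
    · have h1 := hz _ (hk.2.1 _ (hw w hw'))
      have e : g * (k * (g⁻¹ * w * g) * k⁻¹ * (g⁻¹ * w * g)⁻¹) * g⁻¹ =
          g * k * g⁻¹ * w * (g * k * g⁻¹)⁻¹ * w⁻¹ := by group
      rwa [e] at h1
    · have h1 := hz _ (hk.2.2 _ (hw w hw'))
      have e : g * (k⁻¹ * (g⁻¹ * w * g) * k * (g⁻¹ * w * g)⁻¹) * g⁻¹ =
          (g * k * g⁻¹)⁻¹ * w * (g * k * g⁻¹) * w⁻¹ := by group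
      rwa [e] at h1
  apply le_antisymm
  · intro k hk
    rw [mem_cj] at hk
    have := key g x _ hk
    have e : g * (g⁻¹ * k * g) * g⁻¹ = k := by group
    rwa [e] at this
  · intro k hk
    rw [mem_cj]
    have := key g⁻¹ _ k hk
    have e : g⁻¹ * (g * x * g⁻¹) * g⁻¹⁻¹ = x := by group
    rw [e, inv_inv] at this
    exact this

theorem conj_mem_kq {V : Subgroup G} {x k : G} (g : G) (hk : k ∈ kq V x) :
    g * k * g⁻¹ ∈ kq V (g * x * g⁻¹) := by
  rw [← cj_kq]; exact conj_mem_cj hk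

theorem centralizer_le_normalizer_kq (V : Subgroup G) (x : G) :
    centralizer ({x} : Set G) ≤ normalizer ((kq V x : Subgroup G) : Set G) := by
  intro g hg
  rw [mem_normalizer_iff_cj, cj_kq]
  have : g * x * g⁻¹ = x := by
    rw [mem_centralizer_singleton_iff.mp hg]; group
  rw [this]

theorem kq_cj (V : Subgroup G) (g x : G) : kq (cj g V) x = kq V x := by
  ext k
  change (k ∈ _ ∧ (∀ w ∈ ws (cj g V) x, _) ∧ ∀ w ∈ ws (cj g V) x, _) ↔ _
  rw [ws_cj]
  rfl

/-- `ws V z` is elementary abelian if it is abelian -/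
theorem ws_sq {T V : Subgroup G} {z : G} (h : Ln T V z) (ab : ∀ a ∈ ws V z, ∀ b ∈ ws V z, a * b = b * a) :
    ∀ a ∈ ws V z, a * a = 1 := by
  let S : Subgroup G :=
    { carrier := {a | a ∈ ws V z ∧ a * a = 1}
      mul_mem' := by
        rintro a b ⟨ha, ha1⟩ ⟨hb, hb1⟩
        refine ⟨mul_mem ha hb, ?_⟩
        calc a * b * (a * b) = a * (b * a) * b := by group
          _ = a * (a * b) * b := by rw [ab b hb a ha]
          _ = (a * a) * (b * b) := by group
          _ = 1 := by rw [ha1, hb1, mul_one]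
      one_mem' := ⟨one_mem _, one_mul 1⟩
      inv_mem' := by
        rintro a ⟨ha, ha1⟩
        refine ⟨inv_mem ha, ?_⟩
        rw [inv_eq_self ha1]; exact ha1 }
  have hle : ws V z ≤ S := by
    refine ws_le fun L hL => ?_
    intro x hx
    refine ⟨le_ws hL hx, ?_⟩
    obtain ⟨c, hc, rfl⟩ := h.exists_of_mem_lines hL
    rw [mem_cj] at hx
    have := h.sq _ hx
    calc x * x = c * (c⁻¹ * x * c * (c⁻¹ * x * c)) * c⁻¹ := by group
      _ = 1 := by rw [this]; group
  intro a ha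
  exact (hle ha).2

namespace One

variable {T V : Subgroup G} {z : G}

theorem conj (h : One T V z) (g : G) : One (cj g T) (cj g V) (g * z * g⁻¹) where
  ln := h.ln.conj g
  ab := by
    rw [ws_cj, ← cj_ws]
    intro a ha b hb
    have := h.ab _ (mem_of_cj ha) _ (mem_of_cj hb)
    calc a * b = g * ((g⁻¹ * a * g) * (g⁻¹ * b * g)) * g⁻¹ := by group
      _ = g * ((g⁻¹ * b * g) * (g⁻¹ * a * g)) * g⁻¹ := by rw [this]
      _ = b * a := by group
  nc := by
    obtain ⟨y, hy, hy1, hyz, a, ha, b, hb, hab⟩ := h.nc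
    refine ⟨g * y * g⁻¹, conj_mem_cj hy, ?_, ?_, g * a * g⁻¹, ?_, g * b * g⁻¹, ?_, ?_⟩
    · intro e
      exact hy1 (conj_eq_one_iff.mp e)
    · intro e
      exact hyz (by simpa only [_root_.mul_left_inj, _root_.mul_right_inj] using e)
    · rw [ws_cj]; exact conj_mem_ws g ha
    · rw [ws_cj]; exact conj_mem_ws g hb
    · intro e
      apply hab
      calc a * b = g⁻¹ * ((g * a * g⁻¹) * (g * b * g⁻¹)) * g := by group
        _ = g⁻¹ * ((g * b * g⁻¹) * (g * a * g⁻¹)) * g := by rw [e]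
        _ = b * a := by group
  f1 := by
    obtain ⟨k, hk, hk1⟩ := h.f1
    refine ⟨g * k * g⁻¹, ?_, ?_⟩
    · rw [kq_cj]; exact conj_mem_kq g hk
    · intro e
      apply hk1
      rw [mem_centralizer_iff] at e ⊢
      intro v hv
      have := e _ (conj_mem_cj hv)
      calc v * k = g⁻¹ * ((g * v * g⁻¹) * (g * k * g⁻¹)) * g := by group
        _ = g⁻¹ * ((g * k * g⁻¹) * (g * v * g⁻¹)) * g := by rw [this]
        _ = k * v := by group

theorem point (h : One T V z) {p : G} (hp : p ∈ V) (hp1 : p ≠ 1) :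
    ∃ g ∈ normalizer (V : Set G), g * z * g⁻¹ = p ∧ One (cj g T) V p := by
  obtain ⟨g, hg, rfl⟩ := h.ln.trans p hp hp1
  refine ⟨g, hg, rfl, ?_⟩
  have := h.conj g
  rwa [cj_eq_of_mem_normalizer hg] at this

theorem sqz (h : One T V z) : ∀ a ∈ ws V z, a * a = 1 := ws_sq h.ln h.ab

/-! ### all points of `V` -/

section points

variable {p q : G}

theorem sq (h : One T V z) (hp : p ∈ V) (hp1 : p ≠ 1) : ∀ a ∈ ws V p, a * a = 1 := by
  obtain ⟨g, -, -, hg⟩ := h.point hp hp1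
  exact hg.sqz

theorem comm (h : One T V z) (hp : p ∈ V) (hp1 : p ≠ 1) : ∀ a ∈ ws V p, ∀ b ∈ ws V p, a * b = b * a := by
  obtain ⟨g, -, -, hg⟩ := h.point hp hp1
  exact hg.ab

theorem V_le (h : One T V z) (hp : p ∈ V) (hp1 : p ≠ 1) : V ≤ ws V p := by
  obtain ⟨g, -, -, hg⟩ := h.point hp hp1
  exact hg.ln.V_le_ws

theorem ws_le_centralizer_V (h : One T V z) (hp : p ∈ V) (hp1 : p ≠ 1) :
    ws V p ≤ centralizer (V : Set G) := by
  intro a ha
  rw [mem_centralizer_iff]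
  intro v hv
  exact h.comm hp hp1 v (h.V_le hp hp1 hv) a ha

theorem V_comm (_ : One T V z) {v c : G} (hv : v ∈ V) (hc : c ∈ centralizer (V : Set G)) :
    v * c = c * v := mem_centralizer_iff.mp hc v hv

theorem V_le_centralizer (h : One T V z) : V ≤ centralizer (V : Set G) := by
  intro v hv
  rw [mem_centralizer_iff]
  intro w hw
  exact h.ln.comm hw hv

theorem cent_le_centralizer (_ : One T V z) (hp : p ∈ V) :
    centralizer (V : Set G) ≤ centralizer ({p} : Set G) := by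
  intro c hc
  rw [mem_centralizer_singleton_iff]
  exact (mem_centralizer_iff.mp hc p hp).symm

/-- `C_G(V)` normalizes `W_p` -/
theorem cent_norm (h : One T V z) (hp : p ∈ V) :
    centralizer (V : Set G) ≤ normalizer ((ws V p : Subgroup G) : Set G) :=
  (h.cent_le_centralizer hp).trans (centralizer_le_normalizer_ws V p)

theorem mul_ne_one (h : One T V z) (hq : q ∈ V) (hpq : p ≠ q) : p * q ≠ 1 := fun e =>
  hpq (by rw [mul_eq_one_iff_eq_inv.mp e, h.ln.inv_eq hq])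

theorem mem_centralizer_of (h : One T V z) (hp : p ∈ V) (hp1 : p ≠ 1) (hq : q ∈ V) (hq1 : q ≠ 1)
    (hqp : q ≠ p) {g : G} (h1 : g * p = p * g) (h2 : g * q = q * g) :
    g ∈ centralizer (V : Set G) := by
  obtain ⟨g, -, -, hg⟩ := h.point hp hp1
  exact hg.ln.mem_centralizer_V hq hq1 hqp h1 h2

theorem exists_q (h : One T V z) (hp : p ∈ V) (hp1 : p ≠ 1) : ∃ q ∈ V, q ≠ 1 ∧ q ≠ p := by
  obtain ⟨g, -, -, hg⟩ := h.point hp hp1
  exact hg.ln.exists_y

/-- elements of `K_p` act on `W_p` by multiplication with `1` or `p` -/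
theorem kq_cases (h : One T V z) (hp : p ∈ V) {k w : G} (hk : k ∈ kq V p) (hw : w ∈ ws V p) :
    k * w * k⁻¹ = w ∨ k * w * k⁻¹ = p * w := by
  rcases (mem_zpowers_iff_of_mul_self (h.ln.sq p hp)).mp (kq_comm hk hw) with e | e
  · left
    calc k * w * k⁻¹ = (k * w * k⁻¹ * w⁻¹) * w := by group
      _ = w := by rw [e, one_mul]
  · right
    calc k * w * k⁻¹ = (k * w * k⁻¹ * w⁻¹) * w := by group
      _ = p * w := by rw [e]

theorem kq_p (_ : One T V z) {k : G} (hk : k ∈ kq V p) : k * p = p * k :=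
  mem_centralizer_singleton_iff.mp (kq_le_centralizer V p hk)

/-- `K_p` normalizes `V` -/
theorem kq_le_normalizer (h : One T V z) (hp : p ∈ V) (hp1 : p ≠ 1) :
    kq V p ≤ normalizer (V : Set G) := by
  refine le_normalizer_of_forall fun k hk v hv => ?_
  rcases h.kq_cases hp hk (h.V_le hp hp1 hv) with e | e
  · rw [e]; exact hv
  · rw [e]; exact mul_mem hp hv

/-- (F1) at every point -/
theorem exists_mover (h : One T V z) (hp : p ∈ V) (hp1 : p ≠ 1) :
    ∃ k ∈ kq V p, k ∉ centralizer (V : Set G) := by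
  obtain ⟨g, -, -, hg⟩ := h.point hp hp1
  exact hg.f1

/-- a mover of `K_p` moves the points `q ≠ p` to `p q` -/
theorem move (h : One T V z) (hp : p ∈ V) (hp1 : p ≠ 1) (hq : q ∈ V) (hq1 : q ≠ 1) (hqp : q ≠ p)
    {k : G} (hk : k ∈ kq V p) (hk1 : k ∉ centralizer (V : Set G)) : k * q * k⁻¹ = p * q := by
  rcases h.kq_cases hp hk (h.V_le hp hp1 hq) with e | e
  · exfalso
    exact hk1 (h.mem_centralizer_of hp hp1 hq hq1 hqp (h.kq_p hk) (comm_of_conj_eq e))
  · exact e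

/-- the movers of `K_p` form one coset of `K_p ∩ C_G(V)` -/
theorem mover_coset (h : One T V z) (hp : p ∈ V) (hp1 : p ≠ 1) {k k' : G} (hk : k ∈ kq V p)
    (hk1 : k ∉ centralizer (V : Set G)) (hk' : k' ∈ kq V p) (hk1' : k' ∉ centralizer (V : Set G)) :
    k' * k⁻¹ ∈ centralizer (V : Set G) := by
  obtain ⟨q, hq, hq1, hqp⟩ := h.exists_q hp hp1
  refine h.mem_centralizer_of hp hp1 (mul_mem hp hq) (h.mul_ne_one hq (Ne.symm hqp)) ?_ ?_ ?_
  · intro e'
    exact hq1 (by simpa using e')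
  · exact mul_comm_of (h.kq_p hk') (inv_comm_of (h.kq_p hk))
  · refine comm_of_conj_eq ?_
    have e1 := h.move hp hp1 hq hq1 hqp hk hk1
    have e2 := h.move hp hp1 hq hq1 hqp hk' hk1'
    calc k' * k⁻¹ * (p * q) * (k' * k⁻¹)⁻¹ = k' * (k⁻¹ * (p * q) * k) * k'⁻¹ := by group
      _ = k' * (k⁻¹ * (k * q * k⁻¹) * k) * k'⁻¹ := by rw [e1]
      _ = k' * q * k'⁻¹ := by group
      _ = p * q := e2

end points

end One

/-- the intersection of the `W_p`, `p ∈ V#` -/
def ii (V : Subgroup G) : Subgroup G where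
  carrier := {u | ∀ p ∈ V, p ≠ 1 → u ∈ ws V p}
  mul_mem' := fun ha hb p hp hp1 => mul_mem (ha p hp hp1) (hb p hp hp1)
  one_mem' := fun _ _ _ => one_mem _
  inv_mem' := fun ha p hp hp1 => inv_mem (ha p hp hp1)

theorem ii_le {V : Subgroup G} {p : G} (hp : p ∈ V) (hp1 : p ≠ 1) : ii V ≤ ws V p := fun _ hu => hu p hp hp1

theorem normalizer_le_normalizer_ii (V : Subgroup G) :
    normalizer (V : Set G) ≤ normalizer ((ii V : Subgroup G) : Set G) := by
  refine le_normalizer_of_forall fun g hg u hu => ?_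
  intro p hp hp1
  have hp' : g⁻¹ * p * g ∈ V := (mem_normalizer_iff''.mp hg p).mp hp
  have hp1' : g⁻¹ * p * g ≠ 1 := fun e => hp1 (by
    have : p = g * (g⁻¹ * p * g) * g⁻¹ := by group
    rw [this, e]; group)
  have := conj_mem_ws g (hu _ hp' hp1')
  have e : g * (g⁻¹ * p * g) * g⁻¹ = p := by group
  rwa [e] at this

namespace One

variable {T V : Subgroup G} {z : G}

theorem V_le_ii (h : One T V z) : V ≤ ii V := fun _ hv _ hp hp1 => h.V_le hp hp1 hv

theorem ii_le_centralizer (h : One T V z) : ii V ≤ centralizer (V : Set G) :=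
  (ii_le h.ln.z_mem h.ln.z_ne).trans (h.ws_le_centralizer_V h.ln.z_mem h.ln.z_ne)

/-- `ii V` is the intersection of any two of the `W_p`. -/
theorem mem_ii (h : One T V z) {p q u : G} (hp : p ∈ V) (hp1 : p ≠ 1) (hq : q ∈ V) (hq1 : q ≠ 1)
    (hqp : q ≠ p) (h1 : u ∈ ws V p) (h2 : u ∈ ws V q) : u ∈ ii V := by
  intro r hr hr1
  obtain ⟨g, -, -, hg⟩ := h.point hp hp1
  rcases hg.ln.four hp hq hp1 hq1 (Ne.symm hqp) hr with e | e | e | e
  · exact absurd e hr1
  · rw [e]; exact h1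
  · rw [e]; exact h2
  · obtain ⟨k, hk, hk1⟩ := h.exists_mover hp hp1
    have e1 := h.move hp hp1 hq hq1 hqp hk hk1
    have h3 := conj_mem_ws k h2
    rw [e1, ← e] at h3
    rcases h.kq_cases hp hk h1 with e2 | e2
    · rwa [e2] at h3
    · rw [e2] at h3
      have h4 := mul_mem (h.V_le hr hr1 hp) h3
      rwa [← mul_assoc, h.ln.sq p hp, one_mul] at h4

/-- the fixed points of all `K_p` on `ii V` are trivial -/
theorem fix_triv [Finite G] (h : One T V z) {u : G} (hu : u ∈ ii V)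
    (hf : ∀ p ∈ V, p ≠ 1 → ∀ k ∈ kq V p, k * u = u * k) : u = 1 := by
  let D : Subgroup G :=
    { carrier := {d | d ∈ ii V ∧ ∀ p ∈ V, p ≠ 1 → ∀ k ∈ kq V p, k * d = d * k}
      mul_mem' := by
        rintro a b ⟨ha, ha1⟩ ⟨hb, hb1⟩
        exact ⟨mul_mem ha hb, fun p hp hp1 k hk => comm_mul_of (ha1 p hp hp1 k hk) (hb1 p hp hp1 k hk)⟩
      one_mem' := ⟨one_mem _, fun p hp hp1 k hk => by simp⟩
      inv_mem' := by
        rintro a ⟨ha, ha1⟩
        exact ⟨inv_mem ha, fun p hp hp1 k hk => comm_inv_of (ha1 p hp hp1 k hk)⟩ }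
  have hDn : D ≤ normalizer (V : Set G) := fun d hd =>
    centralizer_le_normalizer _ (h.ii_le_centralizer hd.1)
  have hN : normalizer (V : Set G) ≤ normalizer (D : Set G) := by
    refine le_normalizer_of_forall fun g hg d hd => ?_
    refine ⟨conj_mem_of_normalizer (normalizer_le_normalizer_ii V) hg hd.1, fun p hp hp1 k hk => ?_⟩
    have hp' : g⁻¹ * p * g ∈ V := (mem_normalizer_iff''.mp hg p).mp hp
    have hp1' : g⁻¹ * p * g ≠ 1 := fun e => hp1 (by
      have : p = g * (g⁻¹ * p * g) * g⁻¹ := by group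
      rw [this, e]; group)
    have hk' : g⁻¹ * k * g ∈ kq V (g⁻¹ * p * g) := by
      have := conj_mem_kq g⁻¹ hk
      rwa [inv_inv] at this
    have := hd.2 _ hp' hp1' _ hk'
    calc k * (g * d * g⁻¹) = g * ((g⁻¹ * k * g) * d) * g⁻¹ := by group
      _ = g * (d * (g⁻¹ * k * g)) * g⁻¹ := by rw [this]
      _ = g * d * g⁻¹ * k := by group
  have hD : D = ⊥ := by
    by_contra hne
    have hz := h.ln.z_mem_of_normal hDn hN hne
    obtain ⟨y, hy, hy1, hyz⟩ := h.ln.exists_y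
    obtain ⟨k, hk, hk1⟩ := h.exists_mover hy hy1
    have e1 := h.move hy hy1 h.ln.z_mem h.ln.z_ne (Ne.symm hyz) hk hk1
    have e2 := hz.2 y hy hy1 k hk
    rw [conj_eq_of_comm e2] at e1
    exact hy1 (by simpa using e1.symm)
  have : u ∈ D := ⟨hu, hf⟩
  rw [hD] at this
  exact mem_bot.mp this

/-- (FU), for some point -/
theorem fu_aux [Finite G] (h : One T V z) {u : G} (hu : u ∈ ii V) (huV : u ∉ V) :
    ∃ p ∈ V, p ≠ 1 ∧ ∃ k ∈ kq V p, k ∈ centralizer (V : Set G) ∧ k * u * k⁻¹ = p * u := by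
  by_contra hcon
  push Not at hcon
  have hcent : ∀ p ∈ V, p ≠ 1 → ∀ k ∈ kq V p, k ∈ centralizer (V : Set G) → k * u = u * k := by
    intro p hp hp1 k hk hkV
    rcases h.kq_cases hp hk (hu p hp hp1) with e | e
    · exact comm_of_conj_eq e
    · exact absurd e (hcon p hp hp1 k hk hkV)
  have hz := h.ln.z_mem
  have hz1 := h.ln.z_ne
  have hzz := h.ln.zz
  obtain ⟨y, hy, hy1, hyz⟩ := h.ln.exists_y
  have hyy := h.ln.sq y hy
  obtain ⟨s, hs, hs1⟩ := h.exists_mover hz hz1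
  obtain ⟨t, ht, ht1⟩ := h.exists_mover hy hy1
  have hzy := h.ln.comm hz hy
  have hsy := h.move hz hz1 hy hy1 hyz hs hs1
  have htz := h.move hy hy1 hz hz1 (Ne.symm hyz) ht ht1
  have hsz : s * z * s⁻¹ = z := conj_eq_of_comm (h.kq_p hs)
  have hty : t * y * t⁻¹ = y := conj_eq_of_comm (h.kq_p ht)
  have huc := h.ii_le_centralizer hu
  have huz := h.V_comm hz huc
  have huy := h.V_comm hy huc
  -- a point of `u V` fixed by `s` and `t`
  obtain ⟨v, hv, hsv, htv⟩ : ∃ v ∈ V, s * (v * u) * s⁻¹ = v * u ∧ t * (v * u) * t⁻¹ = v * u := by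
    have es : ∀ v, s * (v * u) * s⁻¹ = (s * v * s⁻¹) * (s * u * s⁻¹) := fun v => by group
    have et : ∀ v, t * (v * u) * t⁻¹ = (t * v * t⁻¹) * (t * u * t⁻¹) := fun v => by group
    rcases h.kq_cases hz hs (hu z hz hz1) with e1 | e1 <;>
      rcases h.kq_cases hy ht (hu y hy hy1) with e2 | e2
    · exact ⟨1, one_mem _, by simpa only [_root_.one_mul] using e1, by simpa only [_root_.one_mul] using e2⟩
    · -- `v = z`
      refine ⟨z, hz, ?_, ?_⟩
      · rw [es, hsz, e1]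
      · rw [et, htz, e2]
        calc y * z * (y * u) = y * (z * y) * u := by group
          _ = (y * y) * (z * u) := by rw [hzy]; group
          _ = z * u := by rw [hyy, one_mul]
    · refine ⟨y, hy, ?_, ?_⟩
      · rw [es, hsy, e1]
        calc z * y * (z * u) = z * (y * z) * u := by group
          _ = (z * z) * (y * u) := by rw [← hzy]; group
          _ = y * u := by rw [hzz, one_mul]
      · rw [et, hty, e2]
    · refine ⟨y * z, mul_mem hy hz, ?_, ?_⟩
      · have : s * (y * z) * s⁻¹ = (s * y * s⁻¹) * (s * z * s⁻¹) := by group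
        rw [es, this, hsy, hsz, e1]
        calc z * y * z * (z * u) = z * y * (z * z) * u := by group
          _ = z * y * u := by rw [hzz, mul_one]
          _ = y * z * u := by rw [hzy]
      · have : t * (y * z) * t⁻¹ = (t * y * t⁻¹) * (t * z * t⁻¹) := by group
        rw [et, this, hty, htz, e2]
        calc y * (y * z) * (y * u) = (y * y) * (z * y) * u := by group
          _ = (z * y) * u := by rw [hyy, one_mul]
          _ = y * z * u := by rw [hzy]
  set a := v * u with ha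
  have hai : a ∈ ii V := mul_mem (h.V_le_ii hv) hu
  have hacent : ∀ p ∈ V, p ≠ 1 → ∀ k ∈ kq V p, k ∈ centralizer (V : Set G) → k * a = a * k :=
    fun p hp hp1 k hk hkV => comm_mul_of (h.V_comm hv hkV).symm (hcent p hp hp1 k hk hkV)
  -- one mover which fixes `a` is enough
  have hone : ∀ p ∈ V, p ≠ 1 → ∀ m ∈ kq V p, m ∉ centralizer (V : Set G) → m * a = a * m →
      ∀ k ∈ kq V p, k * a = a * k := by
    intro p hp hp1 m hm hm1 hma k hk
    by_cases hk1 : k ∈ centralizer (V : Set G)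
    · exact hacent p hp hp1 k hk hk1
    · have h1 := hacent p hp hp1 _ (mul_mem hk (inv_mem hm)) (h.mover_coset hp hp1 hm hm1 hk hk1)
      have h2 := mul_comm_of h1 hma
      simpa only [_root_.inv_mul_cancel_right] using h2
  have ha1 : a = 1 := by
    refine h.fix_triv hai fun p hp hp1 => ?_
    rcases h.ln.four hz hy hz1 hy1 (Ne.symm hyz) hp with e | e | e | e
    · exact absurd e hp1
    · subst e; exact hone _ hz hz1 s hs hs1 (comm_of_conj_eq hsv)
    · subst e; exact hone _ hy hy1 t ht ht1 (comm_of_conj_eq htv)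
    · have hm := conj_mem_kq s ht
      rw [hsy, ← e] at hm
      refine hone p hp hp1 (s * t * s⁻¹) hm ?_ ?_
      · intro hc
        apply ht1
        have := conj_mem_of_normalizer' (normalizer_le_normalizer_centralizer V)
          (h.kq_le_normalizer hz hz1 hs) hc
        have e' : s⁻¹ * (s * t * s⁻¹) * s = t := by group
        rwa [e'] at this
      · have h1 := comm_of_conj_eq hsv
        have h2 := comm_of_conj_eq htv
        exact mul_comm_of (mul_comm_of h1 h2) (inv_comm_of h1)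
  apply huV
  have : u = v⁻¹ * a := by rw [ha]; group
  rw [this, ha1, mul_one]
  exact inv_mem hv

/-- (FU): for `u ∈ I - V` and every point `p` some element of `K_p ∩ C_G(V)` moves `u` to `p u`. -/
theorem fu [Finite G] (h : One T V z) {u : G} (hu : u ∈ ii V) (huV : u ∉ V) {p : G} (hp : p ∈ V)
    (hp1 : p ≠ 1) : ∃ k ∈ kq V p, k ∈ centralizer (V : Set G) ∧ k * u * k⁻¹ = p * u := by
  obtain ⟨q, hq, hq1, k, hk, hkV, hku⟩ := h.fu_aux hu huV
  by_cases hpq : p = q
  · subst hpq; exact ⟨k, hk, hkV, hku⟩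
  have hw : p * q ∈ V := mul_mem hp hq
  have hw1 : p * q ≠ 1 := h.mul_ne_one hq hpq
  have hqw : q ≠ p * q := fun e => hp1 (by simpa using e.symm)
  obtain ⟨t, ht, ht1⟩ := h.exists_mover hw hw1
  have e1 := h.move hw hw1 hq hq1 hqw ht ht1
  have e2 : p * q * q = p := by rw [mul_assoc, h.ln.sq q hq, mul_one]
  rw [e2] at e1
  have htn := h.kq_le_normalizer hw hw1 ht
  refine ⟨t * k * t⁻¹, ?_, conj_mem_of_normalizer (normalizer_le_normalizer_centralizer V) htn hkV, ?_⟩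
  · have := conj_mem_kq t hk
    rwa [e1] at this
  · have htw : t * (p * q) * t⁻¹ = p * q := conj_eq_of_comm (h.kq_p ht)
    have huc := h.ii_le_centralizer hu
    have hkw : k * (p * q) * k⁻¹ = p * q := conj_eq_of_comm (h.V_comm hw hkV).symm
    rcases h.kq_cases hw ht (hu _ hw hw1) with e3 | e3
    · have e4 : t⁻¹ * u * t = u := by
        calc t⁻¹ * u * t = t⁻¹ * (t * u * t⁻¹) * t := by rw [e3]
          _ = u := by group
      calc t * k * t⁻¹ * u * (t * k * t⁻¹)⁻¹ = t * (k * (t⁻¹ * u * t) * k⁻¹) * t⁻¹ := by group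
        _ = t * (q * u) * t⁻¹ := by rw [e4, hku]
        _ = (t * q * t⁻¹) * (t * u * t⁻¹) := by group
        _ = p * u := by rw [e1, e3]
    · have e4 : t⁻¹ * u * t = p * q * u := by
        have h5 : t * (p * q * u) * t⁻¹ = u := by
          calc t * (p * q * u) * t⁻¹ = (t * (p * q) * t⁻¹) * (t * u * t⁻¹) := by group
            _ = (p * q) * (p * q) * u := by rw [htw, e3]; group
            _ = u := by rw [h.ln.sq _ hw, one_mul]
        calc t⁻¹ * u * t = t⁻¹ * (t * (p * q * u) * t⁻¹) * t := by rw [h5]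
          _ = p * q * u := by group
      calc t * k * t⁻¹ * u * (t * k * t⁻¹)⁻¹ = t * (k * (t⁻¹ * u * t) * k⁻¹) * t⁻¹ := by group
        _ = t * ((k * (p * q) * k⁻¹) * (k * u * k⁻¹)) * t⁻¹ := by rw [e4]; group
        _ = t * (p * q * (q * u)) * t⁻¹ := by rw [hkw, hku]
        _ = (t * (p * q) * t⁻¹) * (t * q * t⁻¹) * (t * u * t⁻¹) := by group
        _ = (p * q) * p * (p * q * u) := by rw [htw, e1, e3]
        _ = (p * q) * (p * p) * (q * u) := by group
        _ = p * (q * q) * u := by rw [h.ln.sq p hp, mul_one]; group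
        _ = p * u := by rw [h.ln.sq q hq, mul_one]

/-- (F2): for `u ∈ I - V` the group `N_G(V) ∩ C_G(u)` is transitive on the points of `V`. -/
theorem ftwo [Finite G] (h : One T V z) {u : G} (hu : u ∈ ii V) (huV : u ∉ V) {p q : G} (hp : p ∈ V)
    (hp1 : p ≠ 1) (hq : q ∈ V) (hq1 : q ≠ 1) :
    ∃ g ∈ normalizer (V : Set G), g * u = u * g ∧ g * p * g⁻¹ = q := by
  by_cases hpq : p = q
  · subst hpq
    exact ⟨1, one_mem _, by simp, by simp⟩
  have hw : q * p ∈ V := mul_mem hq hp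
  have hw1 : q * p ≠ 1 := h.mul_ne_one hp (Ne.symm hpq)
  have hpw : p ≠ q * p := fun e => hq1 (by simpa using e.symm)
  obtain ⟨t, ht, ht1⟩ := h.exists_mover hw hw1
  have e1 := h.move hw hw1 hp hp1 hpw ht ht1
  have e2 : q * p * p = q := by rw [mul_assoc, h.ln.sq p hp, mul_one]
  rw [e2] at e1
  have htn := h.kq_le_normalizer hw hw1 ht
  rcases h.kq_cases hw ht (hu _ hw hw1) with e3 | e3
  · exact ⟨t, htn, comm_of_conj_eq e3, e1⟩
  · obtain ⟨k, hk, hkV, hku⟩ := h.fu hu huV hw hw1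
    refine ⟨k * t, mul_mem (h.kq_le_normalizer hw hw1 hk) htn, comm_of_conj_eq ?_, ?_⟩
    · have hkw : k * (q * p) * k⁻¹ = q * p := conj_eq_of_comm (h.V_comm hw hkV).symm
      calc k * t * u * (k * t)⁻¹ = k * (t * u * t⁻¹) * k⁻¹ := by group
        _ = (k * (q * p) * k⁻¹) * (k * u * k⁻¹) := by rw [e3]; group
        _ = (q * p) * (q * p) * u := by rw [hkw, hku]; group
        _ = u := by rw [h.ln.sq _ hw, one_mul]
    · calc k * t * p * (k * t)⁻¹ = k * (t * p * t⁻¹) * k⁻¹ := by group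
        _ = k * q * k⁻¹ := by rw [e1]
        _ = q := conj_eq_of_comm (h.V_comm hq hkV).symm

end One

end Cfsg.Agent.Omega.NO3S.TwoOne

end

section


/-!
# NO-3S, `q = 2`, `n = 1` (helper311's text #13963): families and the base facts (section 0)

`Fam T V z cf` : a flag `(z, V)` as in `CaseL.Ln` (K-free) and a FAMILY `cf` : for every point `p` of `V` a group
`cf p` with `N_G(V) ∩ C_G(p) ≤ cf p ≤ C_G(p)`, compatible with conjugation by `N_G(V)`; `ww V cf p = ⟨V^c : c ∈ cf p⟩` is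
elementary abelian, `[W_z, W_y] ≠ 1` for some `y ∈ V`, and (F1): some `q ∈ T ∩ Q_z` moves `V`.

* `wf V C = ⟨V^c : c ∈ C⟩`, `ww V cf p = wf V (cf p)`;
* `qf V C x` : the kernel of `C ∩ C_G(x)` on `wf V C / ⟨x⟩`, `qq V cf p = qf V (cf p) p`;
* `kk V cf p = C_G(W_p)`;
* `jj V cf` : the intersection of the `W_p`, `p ∈ V#`.
-/

set_option autoImplicit false
set_option linter.unusedSectionVars false

namespace Cfsg.Agent.Omega.NO3S.Fit

open Subgroup Cfsg Cfsg.Agent.ZN Cfsg.Agent.MinSimple.Geo Cfsg.Agent.Omega.CaseL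
open Cfsg.Agent.ZN.Block (conj_mem_of_normalizer conj_mem_of_normalizer' le_normalizer_of_forall
  mem_normalizer_of)

universe u

variable {G : Type u} [Group G]

/-! ### Definitions -/

/-- `⟨V^c : c ∈ C⟩` -/
def wf (V C : Subgroup G) : Subgroup G := ⨆ c : C, cj (c : G) V

/-- `W_p` -/
abbrev ww (V : Subgroup G) (cf : G → Subgroup G) (p : G) : Subgroup G := wf V (cf p)

theorem cj_le_wf {V C : Subgroup G} {c : G} (hc : c ∈ C) : cj c V ≤ wf V C :=
  le_iSup (fun c : C => cj (c : G) V) ⟨c, hc⟩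

theorem wf_le {V C A : Subgroup G} (h : ∀ c ∈ C, cj c V ≤ A) : wf V C ≤ A :=
  iSup_le fun c => h c c.2

theorem V_le_wf (V C : Subgroup G) : V ≤ wf V C := by
  have := cj_le_wf (V := V) (one_mem C)
  rwa [cj_one] at this

theorem wf_mono {V C D : Subgroup G} (h : C ≤ D) : wf V C ≤ wf V D :=
  wf_le fun _ hc => cj_le_wf (h hc)

theorem cj_wf (V C : Subgroup G) (g : G) : cj g (wf V C) = wf (cj g V) (cj g C) := by
  have key : ∀ (g : G) (V C : Subgroup G), cj g (wf V C) ≤ wf (cj g V) (cj g C) := by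
    intro g V C
    refine map_le_iff_le_comap.mpr (wf_le fun c hc => map_le_iff_le_comap.mp ?_)
    have h1 : g * c * g⁻¹ ∈ cj g C := conj_mem_cj hc
    have h2 := cj_le_wf (V := cj g V) h1
    rw [cj_cj, inv_mul_cancel_right, ← cj_cj] at h2
    exact h2
  refine le_antisymm (key g V C) ?_
  have := cj_mono (g := g) (key g⁻¹ (cj g V) (cj g C))
  have e1 : cj g (cj g⁻¹ (wf (cj g V) (cj g C))) = wf (cj g V) (cj g C) := by
    rw [cj_cj, mul_inv_cancel, cj_one]
  have e2 : ∀ A : Subgroup G, cj g⁻¹ (cj g A) = A := fun A => by rw [cj_cj, inv_mul_cancel, cj_one]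
  rwa [e1, e2, e2] at this

theorem le_normalizer_wf (V C : Subgroup G) : C ≤ normalizer ((wf V C : Subgroup G) : Set G) := by
  refine le_normalizer_of_forall fun c hc w hw => ?_
  have hle : wf V C ≤ cj c⁻¹ (wf V C) := by
    refine wf_le fun d hd => ?_
    have := cj_mono (g := c⁻¹) (cj_le_wf (V := V) (mul_mem hc hd))
    rwa [cj_cj, inv_mul_cancel_left] at this
  have := mem_cj.mp (hle hw)
  rwa [inv_inv] at this

theorem conj_mem_wf {V C : Subgroup G} {c w : G} (hc : c ∈ C) (hw : w ∈ wf V C) :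
    c * w * c⁻¹ ∈ wf V C := conj_mem_of_normalizer (le_normalizer_wf V C) hc hw

/-- the kernel of `C ∩ C_G(x)` on `wf V C / ⟨x⟩` -/
def qf (V C : Subgroup G) (x : G) : Subgroup G where
  carrier := {c | c ∈ C ∧ c * x = x * c ∧ ∀ w ∈ wf V C, c * w * c⁻¹ * w⁻¹ ∈ zpowers x}
  mul_mem' := by
    rintro a b ⟨ha, hax, ha1⟩ ⟨hb, hbx, hb1⟩
    refine ⟨mul_mem ha hb, mul_comm_of hax hbx, fun w hw => ?_⟩
    have e : a * b * w * (a * b)⁻¹ * w⁻¹ =
        (a * (b * w * b⁻¹) * a⁻¹ * (b * w * b⁻¹)⁻¹) * (b * w * b⁻¹ * w⁻¹) := by group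
    rw [e]
    exact mul_mem (ha1 _ (conj_mem_wf hb hw)) (hb1 w hw)
  one_mem' := ⟨one_mem _, by simp, fun w _ => by simp⟩
  inv_mem' := by
    rintro a ⟨ha, hax, ha1⟩
    refine ⟨inv_mem ha, inv_comm_of hax, fun w hw => ?_⟩
    have hw' : a⁻¹ * w * a ∈ wf V C := by
      have := conj_mem_wf (inv_mem ha) hw
      rwa [inv_inv] at this
    have e : a⁻¹ * w * a⁻¹⁻¹ * w⁻¹ = (a * (a⁻¹ * w * a) * a⁻¹ * (a⁻¹ * w * a)⁻¹)⁻¹ := by group
    rw [e]
    exact inv_mem (ha1 _ hw')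

/-- `Q_p` -/
abbrev qq (V : Subgroup G) (cf : G → Subgroup G) (p : G) : Subgroup G := qf V (cf p) p

/-- `K_p = C_G(W_p)` -/
abbrev kk (V : Subgroup G) (cf : G → Subgroup G) (p : G) : Subgroup G :=
  centralizer ((ww V cf p : Subgroup G) : Set G)

/-- the intersection of the `W_p`, `p ∈ V#` -/
def jj (V : Subgroup G) (cf : G → Subgroup G) : Subgroup G where
  carrier := {u | ∀ p ∈ V, p ≠ 1 → u ∈ ww V cf p}
  mul_mem' := fun ha hb p hp hp1 => mul_mem (ha p hp hp1) (hb p hp hp1)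
  one_mem' := fun _ _ _ => one_mem _
  inv_mem' := fun ha p hp hp1 => inv_mem (ha p hp hp1)

/-- **A family over the flag `(z, V)`** at critical distance 1, with (F1). -/
structure Fam (T V : Subgroup G) (z : G) (cf : G → Subgroup G) : Prop where
  ln : Ln T V z
  le : ∀ p ∈ V, p ≠ 1 → cf p ≤ centralizer ({p} : Set G)
  ge : ∀ p ∈ V, p ≠ 1 → normalizer (V : Set G) ⊓ centralizer ({p} : Set G) ≤ cf p
  cj_cf : ∀ g ∈ normalizer (V : Set G), ∀ p ∈ V, p ≠ 1 → cj g (cf p) = cf (g * p * g⁻¹)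
  ab : ∀ a ∈ ww V cf z, ∀ b ∈ ww V cf z, a * b = b * a
  nc : ∃ y ∈ V, y ≠ 1 ∧ y ≠ z ∧ ∃ a ∈ ww V cf z, ∃ b ∈ ww V cf y, a * b ≠ b * a
  f1 : ∃ q ∈ T, q ∈ qq V cf z ∧ q ∉ centralizer (V : Set G)

end Cfsg.Agent.Omega.NO3S.Fit

end

section


/-!
# NO-3S, `q = 2`, `n = 1` (helper311's text #13963): base facts of a family (section 0)

* `Fam.point` : every point of `V` is as good as `z`;
* `Fam.sq`, `Fam.comm`, `Fam.ww_le_cent`, `Fam.cent_norm`, `Fam.comm_mem`;
* `Fam.qq_cases`, `Fam.exists_mover`, `Fam.move` : (F1) at every point;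
* `Fam.mem_jj` : `I` is the intersection of any two of the `W_p`;
* `Fam.w1_eq` : `W_x ∩ Q_y = W_x ∩ Q_{xy}`.
-/

set_option autoImplicit false
set_option linter.unusedSectionVars false

namespace Cfsg.Agent.Omega.NO3S.Fit

open Subgroup Cfsg Cfsg.Agent.ZN Cfsg.Agent.MinSimple.Geo Cfsg.Agent.Omega.CaseL
open Cfsg.Agent.ZN.Block (conj_mem_of_normalizer conj_mem_of_normalizer' le_normalizer_of_forall
  mem_normalizer_of)

universe u

variable {G : Type u} [Group G]

/-- conjugation of `qf` -/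
theorem conj_mem_qf {V C : Subgroup G} {x c : G} (g : G) (hc : c ∈ qf V C x) :
    g * c * g⁻¹ ∈ qf (cj g V) (cj g C) (g * x * g⁻¹) := by
  obtain ⟨h1, h2, h3⟩ := hc
  refine ⟨conj_mem_cj h1, ?_, fun w hw => ?_⟩
  · calc g * c * g⁻¹ * (g * x * g⁻¹) = g * (c * x) * g⁻¹ := by group
      _ = g * (x * c) * g⁻¹ := by rw [h2]
      _ = g * x * g⁻¹ * (g * c * g⁻¹) := by group
  · rw [← cj_wf, mem_cj] at hw
    obtain ⟨n, hn⟩ := mem_zpowers_iff.mp (h3 _ hw)
    rw [mem_zpowers_iff]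
    refine ⟨n, ?_⟩
    rw [conj_zpow, hn]
    group

theorem cj_qf (V C : Subgroup G) (g x : G) : cj g (qf V C x) = qf (cj g V) (cj g C) (g * x * g⁻¹) := by
  ext c
  rw [mem_cj]
  constructor
  · intro hc
    have := conj_mem_qf g hc
    have e : g * (g⁻¹ * c * g) * g⁻¹ = c := by group
    rwa [e] at this
  · intro hc
    have := conj_mem_qf g⁻¹ hc
    have e1 : g⁻¹ * (g * x * g⁻¹) * g⁻¹⁻¹ = x := by group
    have e2 : ∀ A : Subgroup G, cj g⁻¹ (cj g A) = A := fun A => by rw [cj_cj, inv_mul_cancel, cj_one]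
    rwa [e1, e2, e2, inv_inv] at this

namespace Fam

variable {T V : Subgroup G} {z : G} {cf : G → Subgroup G}

theorem conj_pt (_ : Fam T V z cf) {g p : G} (hg : g ∈ normalizer (V : Set G)) (hp : p ∈ V) :
    g * p * g⁻¹ ∈ V := (mem_normalizer_iff.mp hg p).mp hp

theorem conj_pt' (_ : Fam T V z cf) {g p : G} (hg : g ∈ normalizer (V : Set G)) (hp : p ∈ V) :
    g⁻¹ * p * g ∈ V := (mem_normalizer_iff''.mp hg p).mp hp

theorem conj_ne {g p : G} (hp1 : p ≠ 1) : g * p * g⁻¹ ≠ 1 := fun e => hp1 (conj_eq_one_iff.mp e)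

theorem conj_ne' {g p : G} (hp1 : p ≠ 1) : g⁻¹ * p * g ≠ 1 := fun e => hp1 (by
  have : p = g * (g⁻¹ * p * g) * g⁻¹ := by group
  rw [this, e]; group)

theorem cj_ww (h : Fam T V z cf) {g p : G} (hg : g ∈ normalizer (V : Set G)) (hp : p ∈ V) (hp1 : p ≠ 1) :
    cj g (ww V cf p) = ww V cf (g * p * g⁻¹) := by
  unfold ww
  rw [cj_wf, cj_eq_of_mem_normalizer hg, h.cj_cf g hg p hp hp1]

theorem conj_ww (h : Fam T V z cf) {g p a : G} (hg : g ∈ normalizer (V : Set G)) (hp : p ∈ V) (hp1 : p ≠ 1)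
    (ha : a ∈ ww V cf p) : g * a * g⁻¹ ∈ ww V cf (g * p * g⁻¹) := by
  rw [← h.cj_ww hg hp hp1]; exact conj_mem_cj ha

theorem cj_qq (h : Fam T V z cf) {g p : G} (hg : g ∈ normalizer (V : Set G)) (hp : p ∈ V) (hp1 : p ≠ 1) :
    cj g (qq V cf p) = qq V cf (g * p * g⁻¹) := by
  unfold qq
  rw [cj_qf, cj_eq_of_mem_normalizer hg, h.cj_cf g hg p hp hp1]

theorem conj_qq (h : Fam T V z cf) {g p a : G} (hg : g ∈ normalizer (V : Set G)) (hp : p ∈ V) (hp1 : p ≠ 1)
    (ha : a ∈ qq V cf p) : g * a * g⁻¹ ∈ qq V cf (g * p * g⁻¹) := by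
  rw [← h.cj_qq hg hp hp1]; exact conj_mem_cj ha

theorem conj_kk (h : Fam T V z cf) {g p a : G} (hg : g ∈ normalizer (V : Set G)) (hp : p ∈ V) (hp1 : p ≠ 1)
    (ha : a ∈ kk V cf p) : g * a * g⁻¹ ∈ kk V cf (g * p * g⁻¹) := by
  rw [kk, ← h.cj_ww hg hp hp1, mem_centralizer_iff]
  intro w hw
  have h1 := mem_centralizer_iff.mp ha _ (mem_cj.mp hw)
  calc w * (g * a * g⁻¹) = g * (g⁻¹ * w * g * a) * g⁻¹ := by group
    _ = g * (a * (g⁻¹ * w * g)) * g⁻¹ := by rw [h1]
    _ = g * a * g⁻¹ * w := by group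

theorem conj_cf (h : Fam T V z cf) {g p a : G} (hg : g ∈ normalizer (V : Set G)) (hp : p ∈ V) (hp1 : p ≠ 1)
    (ha : a ∈ cf p) : g * a * g⁻¹ ∈ cf (g * p * g⁻¹) := by
  rw [← h.cj_cf g hg p hp hp1]; exact conj_mem_cj ha

/-- conjugation by `N_G(V)` -/
theorem conj (h : Fam T V z cf) {g : G} (hg : g ∈ normalizer (V : Set G)) :
    Fam (cj g T) V (g * z * g⁻¹) cf where
  ln := by
    have := h.ln.conj g
    rwa [cj_eq_of_mem_normalizer hg] at this
  le := h.le
  ge := h.ge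
  cj_cf := h.cj_cf
  ab := by
    rw [← h.cj_ww hg h.ln.z_mem h.ln.z_ne]
    intro a ha b hb
    have := h.ab _ (mem_cj.mp ha) _ (mem_cj.mp hb)
    calc a * b = g * ((g⁻¹ * a * g) * (g⁻¹ * b * g)) * g⁻¹ := by group
      _ = g * ((g⁻¹ * b * g) * (g⁻¹ * a * g)) * g⁻¹ := by rw [this]
      _ = b * a := by group
  nc := by
    obtain ⟨y, hy, hy1, hyz, a, ha, b, hb, hab⟩ := h.nc
    refine ⟨g * y * g⁻¹, h.conj_pt hg hy, conj_ne hy1, ?_, g * a * g⁻¹, ?_, g * b * g⁻¹, ?_, ?_⟩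
    · intro e
      exact hyz (by simpa only [_root_.mul_left_inj, _root_.mul_right_inj] using e)
    · exact h.conj_ww hg h.ln.z_mem h.ln.z_ne ha
    · exact h.conj_ww hg hy hy1 hb
    · intro e
      apply hab
      calc a * b = g⁻¹ * ((g * a * g⁻¹) * (g * b * g⁻¹)) * g := by group
        _ = g⁻¹ * ((g * b * g⁻¹) * (g * a * g⁻¹)) * g := by rw [e]
        _ = b * a := by group
  f1 := by
    obtain ⟨q, hq, hq1, hq2⟩ := h.f1
    refine ⟨g * q * g⁻¹, conj_mem_cj hq, h.conj_qq hg h.ln.z_mem h.ln.z_ne hq1, ?_⟩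
    intro e
    apply hq2
    rw [mem_centralizer_iff] at e ⊢
    intro v hv
    have := e _ (h.conj_pt hg hv)
    calc v * q = g⁻¹ * ((g * v * g⁻¹) * (g * q * g⁻¹)) * g := by group
      _ = g⁻¹ * ((g * q * g⁻¹) * (g * v * g⁻¹)) * g := by rw [this]
      _ = q * v := by group

/-- every point of `V` is as good as `z` -/
theorem point (h : Fam T V z cf) {p : G} (hp : p ∈ V) (hp1 : p ≠ 1) :
    ∃ g ∈ normalizer (V : Set G), g * z * g⁻¹ = p ∧ Fam (cj g T) V p cf := by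
  obtain ⟨g, hg, rfl⟩ := h.ln.trans p hp hp1
  exact ⟨g, hg, rfl, h.conj hg⟩

theorem T_le_cf (h : Fam T V z cf) : T ≤ cf z :=
  fun _ ht => h.ge z h.ln.z_mem h.ln.z_ne ⟨h.ln.T_norm ht, h.ln.T_le ht⟩

/-! ### all points of `V` -/

section points

variable {p q : G}

theorem V_comm (_ : Fam T V z cf) {v c : G} (hv : v ∈ V) (hc : c ∈ centralizer (V : Set G)) :
    v * c = c * v := mem_centralizer_iff.mp hc v hv

theorem V_le_centralizer (h : Fam T V z cf) : V ≤ centralizer (V : Set G) := by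
  intro v hv
  rw [mem_centralizer_iff]
  intro w hw
  exact h.ln.comm hw hv

theorem cent_le_cs (_ : Fam T V z cf) (hp : p ∈ V) :
    centralizer (V : Set G) ≤ centralizer ({p} : Set G) := by
  intro c hc
  rw [mem_centralizer_singleton_iff]
  exact (mem_centralizer_iff.mp hc p hp).symm

theorem cent_le_cf (h : Fam T V z cf) (hp : p ∈ V) (hp1 : p ≠ 1) : centralizer (V : Set G) ≤ cf p :=
  fun _ hc => h.ge p hp hp1 ⟨centralizer_le_normalizer _ hc, h.cent_le_cs hp hc⟩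

theorem V_le_cf (h : Fam T V z cf) (hp : p ∈ V) (hp1 : p ≠ 1) : V ≤ cf p :=
  h.V_le_centralizer.trans (h.cent_le_cf hp hp1)

theorem V_le (_ : Fam T V z cf) : V ≤ ww V cf p := V_le_wf V _

theorem cf_norm (_ : Fam T V z cf) : cf p ≤ normalizer ((ww V cf p : Subgroup G) : Set G) :=
  le_normalizer_wf V _

theorem cf_comm (h : Fam T V z cf) (hp : p ∈ V) (hp1 : p ≠ 1) {c : G} (hc : c ∈ cf p) : c * p = p * c :=
  mem_centralizer_singleton_iff.mp (h.le p hp hp1 hc)

theorem ww_le_cf (h : Fam T V z cf) (hp : p ∈ V) (hp1 : p ≠ 1) : ww V cf p ≤ cf p := by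
  refine wf_le fun c hc x hx => ?_
  rw [mem_cj] at hx
  have := mul_mem (mul_mem hc (h.V_le_cf hp hp1 hx)) (inv_mem hc)
  have e : c * (c⁻¹ * x * c) * c⁻¹ = x := by group
  rwa [e] at this

theorem sqz (h : Fam T V z cf) : ∀ a ∈ ww V cf z, a * a = 1 := by
  let S : Subgroup G :=
    { carrier := {a | a ∈ ww V cf z ∧ a * a = 1}
      mul_mem' := by
        rintro a b ⟨ha, ha1⟩ ⟨hb, hb1⟩
        refine ⟨mul_mem ha hb, ?_⟩
        calc a * b * (a * b) = a * (b * a) * b := by group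
          _ = a * (a * b) * b := by rw [h.ab b hb a ha]
          _ = (a * a) * (b * b) := by group
          _ = 1 := by rw [ha1, hb1, mul_one]
      one_mem' := ⟨one_mem _, one_mul 1⟩
      inv_mem' := by
        rintro a ⟨ha, ha1⟩
        refine ⟨inv_mem ha, ?_⟩
        rw [inv_eq_self ha1]; exact ha1 }
  have hle : ww V cf z ≤ S := by
    refine wf_le fun c hc => ?_
    intro x hx
    refine ⟨cj_le_wf hc hx, ?_⟩
    rw [mem_cj] at hx
    have := h.ln.sq _ hx
    calc x * x = c * (c⁻¹ * x * c * (c⁻¹ * x * c)) * c⁻¹ := by group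
      _ = 1 := by rw [this]; group
  intro a ha
  exact (hle ha).2

theorem sq (h : Fam T V z cf) (hp : p ∈ V) (hp1 : p ≠ 1) : ∀ a ∈ ww V cf p, a * a = 1 := by
  obtain ⟨g, -, -, hg⟩ := h.point hp hp1
  exact hg.sqz

theorem comm (h : Fam T V z cf) (hp : p ∈ V) (hp1 : p ≠ 1) :
    ∀ a ∈ ww V cf p, ∀ b ∈ ww V cf p, a * b = b * a := by
  obtain ⟨g, -, -, hg⟩ := h.point hp hp1
  exact hg.ab

theorem inv_ww (h : Fam T V z cf) (hp : p ∈ V) (hp1 : p ≠ 1) {a : G} (ha : a ∈ ww V cf p) : a⁻¹ = a :=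
  inv_eq_self (h.sq hp hp1 a ha)

theorem ww_le_cent (h : Fam T V z cf) (hp : p ∈ V) (hp1 : p ≠ 1) :
    ww V cf p ≤ centralizer (V : Set G) := by
  intro a ha
  rw [mem_centralizer_iff]
  intro v hv
  exact h.comm hp hp1 v (h.V_le hv) a ha

/-- `W_p ≤ C_q` for all points -/
theorem ww_le_cf' (h : Fam T V z cf) (hp : p ∈ V) (hp1 : p ≠ 1) (hq : q ∈ V) (hq1 : q ≠ 1) :
    ww V cf p ≤ cf q := (h.ww_le_cent hp hp1).trans (h.cent_le_cf hq hq1)

/-- `C_G(V)` normalizes `W_p` -/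
theorem cent_norm (h : Fam T V z cf) (hp : p ∈ V) (hp1 : p ≠ 1) :
    centralizer (V : Set G) ≤ normalizer ((ww V cf p : Subgroup G) : Set G) :=
  (h.cent_le_cf hp hp1).trans h.cf_norm

/-- `[W_p, W_q] ≤ W_p ∩ W_q` -/
theorem comm_mem (h : Fam T V z cf) (hp : p ∈ V) (hp1 : p ≠ 1) (hq : q ∈ V) (hq1 : q ≠ 1) {a b : G}
    (ha : a ∈ ww V cf p) (hb : b ∈ ww V cf q) :
    a * b * a⁻¹ * b⁻¹ ∈ ww V cf p ∧ a * b * a⁻¹ * b⁻¹ ∈ ww V cf q := by
  constructor
  · have e : a * b * a⁻¹ * b⁻¹ = a * (b * a⁻¹ * b⁻¹) := by group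
    rw [e]
    exact mul_mem ha (conj_mem_of_normalizer (h.cent_norm hp hp1) (h.ww_le_cent hq hq1 hb) (inv_mem ha))
  · exact mul_mem (conj_mem_of_normalizer (h.cent_norm hq hq1) (h.ww_le_cent hp hp1 ha) hb) (inv_mem hb)

theorem mul_ne_one (h : Fam T V z cf) (hq : q ∈ V) (hpq : p ≠ q) : p * q ≠ 1 := fun e =>
  hpq (by rw [mul_eq_one_iff_eq_inv.mp e, h.ln.inv_eq hq])

theorem exists_q (h : Fam T V z cf) (hp : p ∈ V) (hp1 : p ≠ 1) : ∃ q ∈ V, q ≠ 1 ∧ q ≠ p := by
  obtain ⟨g, -, -, hg⟩ := h.point hp hp1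
  exact hg.ln.exists_y

theorem mem_centralizer_of (h : Fam T V z cf) (hp : p ∈ V) (hp1 : p ≠ 1) (hq : q ∈ V) (hq1 : q ≠ 1)
    (hqp : q ≠ p) {g : G} (h1 : g * p = p * g) (h2 : g * q = q * g) :
    g ∈ centralizer (V : Set G) := by
  obtain ⟨g, -, -, hg⟩ := h.point hp hp1
  exact hg.ln.mem_centralizer_V hq hq1 hqp h1 h2

theorem kk_le_cent (h : Fam T V z cf) : kk V cf p ≤ centralizer (V : Set G) :=
  centralizer_le (h.V_le)

theorem kk_le_qq (h : Fam T V z cf) (hp : p ∈ V) (hp1 : p ≠ 1) : kk V cf p ≤ qq V cf p := by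
  intro k hk
  refine ⟨h.cent_le_cf hp hp1 (h.kk_le_cent hk), (h.V_comm hp (h.kk_le_cent hk)).symm, fun w hw => ?_⟩
  have := mem_centralizer_iff.mp hk w hw
  have e : k * w * k⁻¹ * w⁻¹ = 1 := by rw [← this]; group
  rw [e]; exact one_mem _

theorem qq_le_cf (_ : Fam T V z cf) : qq V cf p ≤ cf p := fun _ h => h.1

theorem V_le_kk (h : Fam T V z cf) (hp : p ∈ V) (hp1 : p ≠ 1) : V ≤ kk V cf p := by
  intro v hv
  rw [mem_centralizer_iff]
  intro w hw
  exact (h.V_comm hv (h.ww_le_cent hp hp1 hw)).symm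

theorem ww_le_kk (h : Fam T V z cf) (hp : p ∈ V) (hp1 : p ≠ 1) : ww V cf p ≤ kk V cf p := by
  intro v hv
  rw [mem_centralizer_iff]
  intro w hw
  exact h.comm hp hp1 w hw v hv

/-- `C_p` normalizes `Q_p` -/
theorem cf_norm_qq (h : Fam T V z cf) (hp : p ∈ V) (hp1 : p ≠ 1) :
    cf p ≤ normalizer ((qq V cf p : Subgroup G) : Set G) := by
  refine le_normalizer_of_forall fun c hc k hk => ?_
  obtain ⟨h1, h2, h3⟩ := hk
  have hcp := h.cf_comm hp hp1 hc
  refine ⟨mul_mem (mul_mem hc h1) (inv_mem hc), ?_, fun w hw => ?_⟩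
  · exact mul_comm_of (mul_comm_of hcp h2) (inv_comm_of hcp)
  · have hw' : c⁻¹ * w * c ∈ ww V cf p := by
      have := conj_mem_wf (inv_mem hc) hw
      rwa [inv_inv] at this
    obtain ⟨n, hn⟩ := mem_zpowers_iff.mp (h3 _ hw')
    rw [mem_zpowers_iff]
    refine ⟨n, ?_⟩
    have e : c * k * c⁻¹ * w * (c * k * c⁻¹)⁻¹ * w⁻¹ =
        c * (k * (c⁻¹ * w * c) * k⁻¹ * (c⁻¹ * w * c)⁻¹) * c⁻¹ := by group
    rw [e, ← hn]
    have hc2 : Commute c (p ^ n) := (show Commute c p from hcp).zpow_right n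
    rw [hc2.eq]; group

/-- `C_p` normalizes `K_p` -/
theorem cf_norm_kk (h : Fam T V z cf) :
    cf p ≤ normalizer ((kk V cf p : Subgroup G) : Set G) :=
  h.cf_norm.trans (normalizer_le_normalizer_centralizer _)

/-- elements of `Q_p` act on `W_p` by multiplication with `1` or `p` -/
theorem qq_cases (h : Fam T V z cf) (hp : p ∈ V) {k w : G} (hk : k ∈ qq V cf p) (hw : w ∈ ww V cf p) :
    k * w * k⁻¹ = w ∨ k * w * k⁻¹ = p * w := by
  rcases (mem_zpowers_iff_of_mul_self (h.ln.sq p hp)).mp (hk.2.2 w hw) with e | e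
  · left
    calc k * w * k⁻¹ = (k * w * k⁻¹ * w⁻¹) * w := by group
      _ = w := by rw [e, one_mul]
  · right
    calc k * w * k⁻¹ = (k * w * k⁻¹ * w⁻¹) * w := by group
      _ = p * w := by rw [e]

theorem qq_p (_ : Fam T V z cf) {k : G} (hk : k ∈ qq V cf p) : k * p = p * k := hk.2.1

/-- membership in `Q_p` -/
theorem mem_qq_of (h : Fam T V z cf) (hp : p ∈ V) (hp1 : p ≠ 1) {k : G} (hk : k ∈ cf p)
    (h1 : ∀ w ∈ ww V cf p, k * w * k⁻¹ = w ∨ k * w * k⁻¹ = p * w) : k ∈ qq V cf p := by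
  refine ⟨hk, h.cf_comm hp hp1 hk, fun w hw => ?_⟩
  rcases h1 w hw with e | e
  · rw [e, mul_inv_cancel]; exact one_mem _
  · rw [e, mul_assoc, mul_inv_cancel, mul_one]; exact mem_zpowers _

/-- `Q_p` normalizes `V` -/
theorem qq_le_normalizer (h : Fam T V z cf) (hp : p ∈ V) : qq V cf p ≤ normalizer (V : Set G) := by
  refine le_normalizer_of_forall fun k hk v hv => ?_
  rcases h.qq_cases hp hk (h.V_le hv) with e | e
  · rw [e]; exact hv
  · rw [e]; exact mul_mem hp hv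

/-- (F1) at every point -/
theorem exists_mover (h : Fam T V z cf) (hp : p ∈ V) (hp1 : p ≠ 1) :
    ∃ k ∈ qq V cf p, k ∉ centralizer (V : Set G) := by
  obtain ⟨g, -, -, hg⟩ := h.point hp hp1
  obtain ⟨q, -, hq, hq1⟩ := hg.f1
  exact ⟨q, hq, hq1⟩

/-- an element which moves `V` and centralizes `p` moves `q ≠ p` to `p q` -/
theorem move_of (h : Fam T V z cf) (hp : p ∈ V) (hp1 : p ≠ 1) (hq : q ∈ V) (hq1 : q ≠ 1) (hqp : q ≠ p)
    {k : G} (hkV : k ∈ normalizer (V : Set G)) (hkp : k * p = p * k)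
    (hk1 : k ∉ centralizer (V : Set G)) : k * q * k⁻¹ = p * q := by
  obtain ⟨g, -, -, hg⟩ := h.point hp hp1
  rcases hg.ln.conj_cases hp hq hp1 hkp hkV with e | e
  · exfalso
    exact hk1 (h.mem_centralizer_of hp hp1 hq hq1 hqp hkp (comm_of_conj_eq e))
  · exact e

/-- a mover of `Q_p` moves the points `q ≠ p` to `p q` -/
theorem move (h : Fam T V z cf) (hp : p ∈ V) (hp1 : p ≠ 1) (hq : q ∈ V) (hq1 : q ≠ 1) (hqp : q ≠ p)
    {k : G} (hk : k ∈ qq V cf p) (hk1 : k ∉ centralizer (V : Set G)) : k * q * k⁻¹ = p * q :=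
  h.move_of hp hp1 hq hq1 hqp (h.qq_le_normalizer hp hk) (h.qq_p hk) hk1

/-- two elements of `N(V) ∩ C(p)` which move `V` differ by an element of `C_G(V)` -/
theorem coset_of (h : Fam T V z cf) (hp : p ∈ V) (hp1 : p ≠ 1) {k k' : G}
    (hkV : k ∈ normalizer (V : Set G)) (hkp : k * p = p * k) (hk1 : k ∉ centralizer (V : Set G))
    (hkV' : k' ∈ normalizer (V : Set G)) (hkp' : k' * p = p * k') (hk1' : k' ∉ centralizer (V : Set G)) :
    k' * k⁻¹ ∈ centralizer (V : Set G) := by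
  obtain ⟨q, hq, hq1, hqp⟩ := h.exists_q hp hp1
  refine h.mem_centralizer_of hp hp1 (mul_mem hp hq) (h.mul_ne_one hq (Ne.symm hqp)) ?_ ?_ ?_
  · intro e'
    exact hq1 (by simpa using e')
  · exact mul_comm_of hkp' (inv_comm_of hkp)
  · refine comm_of_conj_eq ?_
    have e1 := h.move_of hp hp1 hq hq1 hqp hkV hkp hk1
    have e2 := h.move_of hp hp1 hq hq1 hqp hkV' hkp' hk1'
    calc k' * k⁻¹ * (p * q) * (k' * k⁻¹)⁻¹ = k' * (k⁻¹ * (p * q) * k) * k'⁻¹ := by group
      _ = k' * (k⁻¹ * (k * q * k⁻¹) * k) * k'⁻¹ := by rw [e1]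
      _ = k' * q * k'⁻¹ := by group
      _ = p * q := e2

/-- `N(V) ∩ C(p) = C_G(V) Q_p` -/
theorem norm_eq (h : Fam T V z cf) (hp : p ∈ V) (hp1 : p ≠ 1) {c : G} (hc : c ∈ normalizer (V : Set G))
    (hcp : c * p = p * c) : ∃ d ∈ centralizer (V : Set G), ∃ k ∈ qq V cf p, c = d * k := by
  by_cases hcV : c ∈ centralizer (V : Set G)
  · exact ⟨c, hcV, 1, one_mem _, by simp⟩
  obtain ⟨k, hk, hk1⟩ := h.exists_mover hp hp1
  exact ⟨c * k⁻¹, h.coset_of hp hp1 (h.qq_le_normalizer hp hk) (h.qq_p hk) hk1 hc hcp hcV, k, hk,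
    by group⟩

end points

/-! ### `I = jj V cf` -/

theorem jj_le {p : G} (hp : p ∈ V) (hp1 : p ≠ 1) : jj V cf ≤ ww V cf p := fun _ hu => hu p hp hp1

theorem normalizer_le_normalizer_jj (h : Fam T V z cf) :
    normalizer (V : Set G) ≤ normalizer ((jj V cf : Subgroup G) : Set G) := by
  refine le_normalizer_of_forall fun g hg u hu => ?_
  intro p hp hp1
  have := h.conj_ww hg (h.conj_pt' hg hp) (conj_ne' hp1) (hu _ (h.conj_pt' hg hp) (conj_ne' hp1))
  have e : g * (g⁻¹ * p * g) * g⁻¹ = p := by group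
  rwa [e] at this

theorem V_le_jj (h : Fam T V z cf) : V ≤ jj V cf := fun _ hv _ _ _ => h.V_le hv

theorem jj_le_cent (h : Fam T V z cf) : jj V cf ≤ centralizer (V : Set G) :=
  (jj_le h.ln.z_mem h.ln.z_ne).trans (h.ww_le_cent h.ln.z_mem h.ln.z_ne)

/-- `I` is the intersection of any two of the `W_p`. -/
theorem mem_jj (h : Fam T V z cf) {p q u : G} (hp : p ∈ V) (hp1 : p ≠ 1) (hq : q ∈ V) (hq1 : q ≠ 1)
    (hqp : q ≠ p) (h1 : u ∈ ww V cf p) (h2 : u ∈ ww V cf q) : u ∈ jj V cf := by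
  intro r hr hr1
  rcases h.ln.four hp hq hp1 hq1 (Ne.symm hqp) hr with e | e | e | e
  · exact absurd e hr1
  · rw [e]; exact h1
  · rw [e]; exact h2
  · obtain ⟨k, hk, hk1⟩ := h.exists_mover hp hp1
    have e1 := h.move hp hp1 hq hq1 hqp hk hk1
    have h3 := h.conj_ww (h.qq_le_normalizer hp hk) hq hq1 h2
    rw [e1, ← e] at h3
    rcases h.qq_cases hp hk h1 with e2 | e2
    · rwa [e2] at h3
    · rw [e2] at h3
      have h4 := mul_mem (h.V_le hp) h3
      rwa [← mul_assoc, h.ln.sq p hp, one_mul] at h4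

theorem comm_mem_jj (h : Fam T V z cf) {p q a b : G} (hp : p ∈ V) (hp1 : p ≠ 1) (hq : q ∈ V) (hq1 : q ≠ 1)
    (hqp : q ≠ p) (ha : a ∈ ww V cf p) (hb : b ∈ ww V cf q) : a * b * a⁻¹ * b⁻¹ ∈ jj V cf :=
  h.mem_jj hp hp1 hq hq1 hqp (h.comm_mem hp hp1 hq hq1 ha hb).1 (h.comm_mem hp hp1 hq hq1 ha hb).2

/-- `W_p^q = W_{pq}` modulo `Q_p`: the images of `W_q` and of `W_{pq}` in `C_p/Q_p` are the same -/
theorem ww_mod (h : Fam T V z cf) {p q b : G} (hp : p ∈ V) (hp1 : p ≠ 1) (hq : q ∈ V) (hq1 : q ≠ 1)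
    (hqp : q ≠ p) (hb : b ∈ ww V cf q) : ∃ b' ∈ ww V cf (p * q), ∃ k ∈ qq V cf p, b = b' * k := by
  obtain ⟨k, hk, hk1⟩ := h.exists_mover hp hp1
  have e1 := h.move hp hp1 hq hq1 hqp hk hk1
  have h3 := h.conj_ww (h.qq_le_normalizer hp hk) hq hq1 hb
  rw [e1] at h3
  have hbc := h.ww_le_cf' hq hq1 hp hp1 hb
  refine ⟨_, h3, (k * b * k⁻¹)⁻¹ * b, ?_, by group⟩
  have e2 : (k * b * k⁻¹)⁻¹ * b = k * (b⁻¹ * k⁻¹ * b) := by group
  rw [e2]
  exact mul_mem hk (conj_mem_of_normalizer' (h.cf_norm_qq hp hp1) hbc (inv_mem hk))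

/-- `[W_x ∩ Q_y, W_y ∩ Q_x] = 1` -/
theorem w1_comm (h : Fam T V z cf) {p q a b : G} (hp : p ∈ V) (hq : q ∈ V)
    (hqp : q ≠ p) (ha : a ∈ ww V cf p) (ha1 : a ∈ qq V cf q) (hb : b ∈ ww V cf q) (hb1 : b ∈ qq V cf p) :
    a * b = b * a := by
  rcases h.qq_cases hq ha1 hb with e | e
  · exact comm_of_conj_eq e
  rcases h.qq_cases hp hb1 ha with e' | e'
  · exact (comm_of_conj_eq e').symm
  exfalso
  -- `[a, b] = q` and `[b, a] = p`
  have e1 : a * b * a⁻¹ * b⁻¹ = q := by rw [e, mul_assoc, mul_inv_cancel, mul_one]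
  have e2 : b * a * b⁻¹ * a⁻¹ = p := by rw [e', mul_assoc, mul_inv_cancel, mul_one]
  have e3 : q⁻¹ = p := by rw [← e1, ← e2]; group
  rw [h.ln.inv_eq hq] at e3
  exact hqp e3

end Fam

end Cfsg.Agent.Omega.NO3S.Fit

end

section


/-!
# NO-3S, `q = 2`, `n = 1` (helper311's text #13963): sections 0 and 1 (LEMMA FIX)

* `Fam.T_max` : `T` is a Sylow 2-subgroup of `G`;
* `Fam.nl` (NL) : no 2-group `≠ 1` is normalized by `N_G(V)` and `cf z`;
* `Fam.soc0` (0.4) : `Ω₁ Z(C_T(V)) = V`;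
* `Fam.exists_norm` : `N_{N_G(V)}(C_T(V))` is transitive on the ordered pairs of points;
* `Fam.fix` : LEMMA FIX;
* `Fam.four_of` (1.2), `Fam.no_fix` (1.3).
-/

set_option autoImplicit false
set_option linter.unusedSectionVars false

namespace Cfsg.Agent.Omega.NO3S.Fit

open Subgroup Cfsg Cfsg.Agent.ZN Cfsg.Agent.MinSimple.Geo Cfsg.Agent.Omega.CaseL
open Cfsg.Agent.ZN.Block (conj_mem_of_normalizer conj_mem_of_normalizer' le_normalizer_of_forall
  mem_normalizer_of)

universe u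

variable {G : Type u} [Group G]

namespace Fam

variable {T V : Subgroup G} {z : G} {cf : G → Subgroup G}

/-- two points can be moved to any two points -/
theorem trans2 (h : Fam T V z cf) {p q p' q' : G} (hp : p ∈ V) (hp1 : p ≠ 1) (hq : q ∈ V) (hq1 : q ≠ 1)
    (hqp : q ≠ p) (hp' : p' ∈ V) (hp1' : p' ≠ 1) (hq' : q' ∈ V) (hq1' : q' ≠ 1)
    (hqp' : q' ≠ p') : ∃ g ∈ normalizer (V : Set G), g * p * g⁻¹ = p' ∧ g * q * g⁻¹ = q' := by
  obtain ⟨a, ha, ha1, -⟩ := h.point hp hp1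
  obtain ⟨b, hb, hb1, -⟩ := h.point hp' hp1'
  set g := b * a⁻¹ with hg
  have hgV : g ∈ normalizer (V : Set G) := mul_mem hb (inv_mem ha)
  have hgp : g * p * g⁻¹ = p' := by
    rw [hg, ← ha1, ← hb1]; group
  have hgq := h.conj_pt hgV hq
  have hgq1 : g * q * g⁻¹ ≠ 1 := conj_ne hq1
  have hgqp : g * q * g⁻¹ ≠ p' := by
    intro e
    rw [← hgp] at e
    exact hqp (by simpa only [_root_.mul_left_inj, _root_.mul_right_inj] using e)
  rcases h.ln.four hp' hq' hp1' hq1' (Ne.symm hqp') hgq with e | e | e | e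
  · exact absurd e hgq1
  · exact absurd e hgqp
  · exact ⟨g, hgV, hgp, e⟩
  · obtain ⟨k, hk, hk1⟩ := h.exists_mover hp' hp1'
    have e1 := h.move hp' hp1' hq' hq1' hqp' hk hk1
    have hkp := conj_eq_of_comm (h.qq_p hk)
    refine ⟨k * g, mul_mem (h.qq_le_normalizer hp' hk) hgV, ?_, ?_⟩
    · calc k * g * p * (k * g)⁻¹ = k * (g * p * g⁻¹) * k⁻¹ := by group
        _ = p' := by rw [hgp, hkp]
    · calc k * g * q * (k * g)⁻¹ = k * (g * q * g⁻¹) * k⁻¹ := by group
        _ = (k * p' * k⁻¹) * (k * q' * k⁻¹) := by rw [e]; group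
        _ = p' * p' * q' := by rw [hkp, e1]; group
        _ = q' := by rw [h.ln.sq p' hp', one_mul]

/-- `[W_p, W_q] ≠ 1` for all pairs of points -/
theorem nc' (h : Fam T V z cf) {p q : G} (hp : p ∈ V) (hp1 : p ≠ 1) (hq : q ∈ V) (hq1 : q ≠ 1)
    (hqp : q ≠ p) : ∃ a ∈ ww V cf p, ∃ b ∈ ww V cf q, a * b ≠ b * a := by
  obtain ⟨y, hy, hy1, hyz, a, ha, b, hb, hab⟩ := h.nc
  obtain ⟨g, hg, rfl, rfl⟩ := h.trans2 h.ln.z_mem h.ln.z_ne hy hy1 hyz hp hp1 hq hq1 hqp
  refine ⟨_, h.conj_ww hg h.ln.z_mem h.ln.z_ne ha, _, h.conj_ww hg hy hy1 hb, fun e => hab ?_⟩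
  calc a * b = g⁻¹ * ((g * a * g⁻¹) * (g * b * g⁻¹)) * g := by group
    _ = g⁻¹ * ((g * b * g⁻¹) * (g * a * g⁻¹)) * g := by rw [e]
    _ = b * a := by group

section fin

variable [Finite G]

/-- a 2-group containing `T` is `T` -/
theorem T_max (h : Fam T V z cf) {P : Subgroup G} (hP : IsPGroup 2 P) (hT : T ≤ P) : P ≤ T := by
  have : Fact (Nat.Prime 2) := ⟨Nat.prime_two⟩
  by_contra hne
  -- `N_P(T) > T`
  have hlt : T.subgroupOf P < ⊤ := by
    refine lt_of_le_of_ne le_top fun e => hne ?_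
    exact subgroupOf_eq_top.mp e
  have : Group.IsNilpotent P := hP.isNilpotent
  have h1 := Group.normalizerCondition_of_isNilpotent (G := P) _ hlt
  obtain ⟨x, hx, hxT⟩ := SetLike.exists_of_lt h1
  have hxn : (x : G) ∈ normalizer (T : Set G) := by
    rw [mem_normalizer_iff] at hx ⊢
    intro t
    constructor
    · intro ht
      have := (hx ⟨t, hT ht⟩).mp (mem_subgroupOf.mpr ht)
      exact mem_subgroupOf.mp this
    · intro ht
      have h2 : (x : G) * t * (x : G)⁻¹ ∈ P := hT ht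
      have h3 : t ∈ P := by
        have := mul_mem (mul_mem (inv_mem x.2) h2) x.2
        have e : (x : G)⁻¹ * (x * t * (x : G)⁻¹) * x = t := by group
        rwa [e] at this
      have := (hx ⟨t, h3⟩).mpr (mem_subgroupOf.mpr ht)
      exact mem_subgroupOf.mp this
  -- `x` centralizes `z`
  have hxz : (x : G) * z = z * x := by
    have hzT : z ∈ T := h.ln.V_le h.ln.z_mem
    have h2 : (x : G) * z * (x : G)⁻¹ ∈ T := (mem_normalizer_iff.mp hxn z).mp hzT
    have h3 : (x : G) * z * (x : G)⁻¹ * (x * z * (x : G)⁻¹) = 1 := by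
      calc (x : G) * z * (x : G)⁻¹ * (x * z * (x : G)⁻¹) = x * (z * z) * (x : G)⁻¹ := by group
        _ = 1 := by rw [h.ln.zz]; group
    rcases h.ln.soc _ h2 h3 (fun s hs => by
      have hs' : (x : G)⁻¹ * s * x ∈ T := (mem_normalizer_iff''.mp hxn s).mp hs
      have := h.ln.z_comm (h.ln.T_le hs')
      calc s * (x * z * (x : G)⁻¹) = x * ((x : G)⁻¹ * s * x * z) * (x : G)⁻¹ := by group
        _ = x * (z * ((x : G)⁻¹ * s * x)) * (x : G)⁻¹ := by rw [this]
        _ = x * z * (x : G)⁻¹ * s := by group) with e | e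
    · exact absurd e (conj_ne h.ln.z_ne)
    · exact comm_of_conj_eq e
  have hxC : (x : G) ∈ centralizer ({z} : Set G) := mem_centralizer_singleton_iff.mpr hxz
  -- `⟨T, x⟩` is a 2-subgroup of `C_G(z)`
  have hle : T ⊔ zpowers (x : G) ≤ P := sup_le hT ((zpowers_le).mpr x.2)
  have hle' : T ⊔ zpowers (x : G) ≤ centralizer ({z} : Set G) := sup_le h.ln.T_le ((zpowers_le).mpr hxC)
  obtain ⟨c, hc, hcT⟩ := exists_cj_le_of_sylow h.ln.T_le h.ln.two h.ln.T_syl hle' (hP.to_le hle)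
  have h4 : Nat.card ↥(T ⊔ zpowers (x : G)) ≤ Nat.card T := by
    rw [← card_cj c]; exact card_le_of_le hcT
  have h5 : T = T ⊔ zpowers (x : G) := eq_of_le_of_card_ge le_sup_left h4
  apply hxT
  rw [mem_subgroupOf, h5]
  exact mem_sup_right (mem_zpowers _)

/-- a 2-subgroup normalized by `T` is in `T` -/
theorem le_T (h : Fam T V z cf) {R : Subgroup G} (hR : IsPGroup 2 R) (hn : T ≤ normalizer (R : Set G)) :
    R ≤ T := by
  have h1 : IsPGroup 2 ↥(R ⊔ T) := hR.to_sup_of_normal_left' h.ln.two hn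
  exact le_sup_left.trans (h.T_max h1 le_sup_right)

theorem two_ww (h : Fam T V z cf) {p : G} (hp : p ∈ V) (hp1 : p ≠ 1) : IsPGroup 2 (ww V cf p) := by
  intro a
  refine ⟨1, Subtype.ext ?_⟩
  have := h.sq hp hp1 a a.2
  simpa only [pow_two, _root_.pow_one, _root_.Subgroup.coe_mul, _root_.OneMemClass.coe_one] using this

theorem ww_le_T (h : Fam T V z cf) : ww V cf z ≤ T :=
  h.le_T (h.two_ww h.ln.z_mem h.ln.z_ne) (h.T_le_cf.trans h.cf_norm)

/-- (NL) -/
theorem nl (h : Fam T V z cf) {R : Subgroup G} (hR : IsPGroup 2 R) (h1 : normalizer (V : Set G) ≤ normalizer (R : Set G))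
    (h2 : cf z ≤ normalizer (R : Set G)) : R = ⊥ := by
  by_contra hne
  set L := normalizer (R : Set G) with hL
  have hTL : T ≤ L := h.ln.T_norm.trans h1
  have hloc : IsTwoLocal L := ⟨R, hR, hne, rfl⟩
  have ho2 : IsPGroup 2 (o2 L) := isPGroup_o2 L
  have hoT : o2 L ≤ T := h.le_T ho2 (hTL.trans (le_normalizer_o2 L))
  have hzo : z ∈ o2 L := by
    refine inf_centralizer_o2_le h.ln.charTwo hloc ⟨hTL (h.ln.V_le h.ln.z_mem), ?_⟩
    exact mem_centralizer_iff.mpr fun t ht => h.ln.z_comm (h.ln.T_le (hoT ht))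
  -- `U = Z(O₂(L))` contains all `L`-conjugates of `z`
  let U : Subgroup G := o2 L ⊓ centralizer ((o2 L : Subgroup G) : Set G)
  have hUn : L ≤ normalizer (U : Set G) := by
    refine le_normalizer_of_forall fun g hg u hu => ?_
    exact ⟨conj_mem_of_normalizer (le_normalizer_o2 L) hg hu.1,
      conj_mem_of_normalizer ((le_normalizer_o2 L).trans (normalizer_le_normalizer_centralizer _)) hg hu.2⟩
  have hzU : z ∈ U := by
    refine ⟨hzo, ?_⟩
    exact mem_centralizer_iff.mpr fun t ht => h.ln.z_comm (h.ln.T_le (hoT ht))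
  have hVU : V ≤ U := by
    intro v hv
    by_cases hv1 : v = 1
    · rw [hv1]; exact one_mem _
    obtain ⟨g, hg, rfl⟩ := h.ln.trans v hv hv1
    exact conj_mem_of_normalizer hUn (h1 hg) hzU
  have hWU : ww V cf z ≤ U := by
    refine wf_le fun c hc x hx => ?_
    rw [mem_cj] at hx
    have := conj_mem_of_normalizer hUn (h2 hc) (hVU hx)
    have e : c * (c⁻¹ * x * c) * c⁻¹ = x := by group
    rwa [e] at this
  obtain ⟨y, hy, hy1, hyz, a, ha, b, hb, hab⟩ := h.nc
  obtain ⟨g, hg, hgy⟩ := h.ln.trans y hy hy1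
  have hbU : b ∈ U := by
    rw [← hgy, ← h.cj_ww hg h.ln.z_mem h.ln.z_ne, mem_cj] at hb
    have := conj_mem_of_normalizer hUn (h1 hg) (hWU hb)
    have e : g * (g⁻¹ * b * g) * g⁻¹ = b := by group
    rwa [e] at this
  exact hab ((mem_centralizer_iff.mp hbU.2 a (hWU ha).1))

/-- the elements of `T` which centralize `V` form a subgroup of index 2, a mover in `T` squares into it -/
theorem exists_mover_T (h : Fam T V z cf) : ∃ q ∈ T, q ∈ qq V cf z ∧ q ∉ centralizer (V : Set G) ∧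
    ∀ t ∈ T, t ∉ centralizer (V : Set G) → t * q⁻¹ ∈ centralizer (V : Set G) := by
  obtain ⟨q, hq, hq1, hq2⟩ := h.f1
  refine ⟨q, hq, hq1, hq2, fun t ht ht1 => ?_⟩
  exact h.coset_of h.ln.z_mem h.ln.z_ne (h.ln.T_norm hq) (h.ln.z_comm (h.ln.T_le hq)) hq2 (h.ln.T_norm ht)
    (h.ln.z_comm (h.ln.T_le ht)) ht1

/-- (0.4): `Ω₁ Z(C_T(V)) = V` -/
theorem soc0 (h : Fam T V z cf) {f : G} (hf : f ∈ T) (hfV : f ∈ centralizer (V : Set G)) (hf2 : f * f = 1)
    (hc : ∀ t ∈ T, t ∈ centralizer (V : Set G) → t * f = f * t) : f ∈ V := by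
  obtain ⟨q, hq, hq1, hq2, hq3⟩ := h.exists_mover_T
  have hz := h.ln.z_mem
  have hz1 := h.ln.z_ne
  -- `f f^q` is fixed by `T`
  have hcoset : ∀ t ∈ T, t ∉ centralizer (V : Set G) → t * f * t⁻¹ = q * f * q⁻¹ := by
    intro t ht ht1
    have h1 := hq3 t ht ht1
    have h2 := hc _ (mul_mem ht (inv_mem hq)) h1
    -- `t = d q`
    have hqf : q * f * q⁻¹ ∈ T := mul_mem (mul_mem hq hf) (inv_mem hq)
    have h3 : ∀ d ∈ T, d ∈ centralizer (V : Set G) → d * (q * f * q⁻¹) = (q * f * q⁻¹) * d := by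
      intro d hd hd1
      have hd' : q⁻¹ * d * q ∈ T := mul_mem (mul_mem (inv_mem hq) hd) hq
      have hd1' : q⁻¹ * d * q ∈ centralizer (V : Set G) :=
        conj_mem_of_normalizer' (normalizer_le_normalizer_centralizer V) (h.ln.T_norm hq) hd1
      have := hc _ hd' hd1'
      calc d * (q * f * q⁻¹) = q * (q⁻¹ * d * q * f) * q⁻¹ := by group
        _ = q * (f * (q⁻¹ * d * q)) * q⁻¹ := by rw [this]
        _ = (q * f * q⁻¹) * d := by group
    have h4 := h3 _ (mul_mem ht (inv_mem hq)) h1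
    calc t * f * t⁻¹ = (t * q⁻¹) * (q * f * q⁻¹) * (t * q⁻¹)⁻¹ := by group
      _ = q * f * q⁻¹ := by rw [h4]; group
  have hfq : q * f * q⁻¹ * f = f * (q * f * q⁻¹) := by
    refine hc _ (mul_mem (mul_mem hq hf) (inv_mem hq)) ?_
    exact conj_mem_of_normalizer (normalizer_le_normalizer_centralizer V) (h.ln.T_norm hq) hfV
  have hqq : q * (q * f * q⁻¹) * q⁻¹ = f := by
    have h5 : q * q ∈ centralizer (V : Set G) := by
      have := h.coset_of hz hz1 (inv_mem (h.ln.T_norm hq)) (inv_comm_of (h.ln.z_comm (h.ln.T_le hq)))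
        (fun e => hq2 (by simpa using inv_mem e)) (h.ln.T_norm hq)
        (h.ln.z_comm (h.ln.T_le hq)) hq2
      rwa [inv_inv] at this
    have h6 := hc _ (mul_mem hq hq) h5
    calc q * (q * f * q⁻¹) * q⁻¹ = (q * q) * f * (q * q)⁻¹ := by group
      _ = f := by rw [h6]; group
  have key : ∀ g : G, g ∈ T → g ∈ centralizer (V : Set G) → g * g = 1 →
      (∀ t ∈ T, t ∈ centralizer (V : Set G) → t * g = g * t) →
      q * g * q⁻¹ = g → g = 1 ∨ g = z := by
    intro g hg hgV hg2 hgc hgq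
    refine h.ln.soc g hg hg2 fun t ht => ?_
    by_cases ht1 : t ∈ centralizer (V : Set G)
    · exact hgc t ht ht1
    · have h7 := hgc _ (mul_mem ht (inv_mem hq)) (hq3 t ht ht1)
      have h8 := mul_comm_of h7 (comm_of_conj_eq hgq)
      simpa only [_root_.inv_mul_cancel_right] using h8
  -- `g := f f^q`
  have hgf := key (f * (q * f * q⁻¹)) (mul_mem hf (mul_mem (mul_mem hq hf) (inv_mem hq)))
    (mul_mem hfV (conj_mem_of_normalizer (normalizer_le_normalizer_centralizer V) (h.ln.T_norm hq) hfV))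
    (by
      calc f * (q * f * q⁻¹) * (f * (q * f * q⁻¹)) = f * (q * f * q⁻¹ * f) * (q * f * q⁻¹) := by group
        _ = f * (f * (q * f * q⁻¹)) * (q * f * q⁻¹) := by rw [hfq]
        _ = (f * f) * (q * (f * f) * q⁻¹) := by group
        _ = 1 := by rw [hf2]; group)
    (fun t ht ht1 => comm_mul_of (hc t ht ht1) (by
      have hd' : q⁻¹ * t * q ∈ T := mul_mem (mul_mem (inv_mem hq) ht) hq
      have hd1' : q⁻¹ * t * q ∈ centralizer (V : Set G) :=
        conj_mem_of_normalizer' (normalizer_le_normalizer_centralizer V) (h.ln.T_norm hq) ht1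
      have := hc _ hd' hd1'
      calc t * (q * f * q⁻¹) = q * (q⁻¹ * t * q * f) * q⁻¹ := by group
        _ = q * (f * (q⁻¹ * t * q)) * q⁻¹ := by rw [this]
        _ = (q * f * q⁻¹) * t := by group))
    (by
      calc q * (f * (q * f * q⁻¹)) * q⁻¹ = (q * f * q⁻¹) * (q * (q * f * q⁻¹) * q⁻¹) := by group
        _ = f * (q * f * q⁻¹) := by rw [hqq, hfq])
  rcases hgf with e | e
  · -- `f^q = f`
    have h9 : q * f * q⁻¹ = f := by
      have : q * f * q⁻¹ = f⁻¹ := (inv_eq_of_mul_eq_one_right e).symm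
      rw [this, inv_eq_self hf2]
    rcases key f hf hfV hf2 hc h9 with e1 | e1
    · rw [e1]; exact one_mem _
    · rw [e1]; exact hz
  · obtain ⟨y, hy, hy1, hyz⟩ := h.ln.exists_y
    have e1 := h.move hz hz1 hy hy1 hyz hq1 hq2
    have hfy : f * y = y * f := (h.V_comm hy hfV).symm
    have hyT := h.ln.V_le hy
    have h10 : q * (f * y) * q⁻¹ = f * y := by
      have e2 : q * f * q⁻¹ = f * z := by
        calc q * f * q⁻¹ = (f * f) * (q * f * q⁻¹) := by rw [hf2, one_mul]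
          _ = f * (f * (q * f * q⁻¹)) := by group
          _ = f * z := by rw [e]
      calc q * (f * y) * q⁻¹ = (q * f * q⁻¹) * (q * y * q⁻¹) := by group
        _ = f * (z * z) * y := by rw [e1, e2]; group
        _ = f * y := by rw [h.ln.zz, mul_one]
    have hyV := h.V_le_centralizer hy
    rcases key (f * y) (mul_mem hf hyT) (mul_mem hfV hyV)
      (by
        calc f * y * (f * y) = f * (y * f) * y := by group
          _ = (f * f) * (y * y) := by rw [← hfy]; group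
          _ = 1 := by rw [hf2, h.ln.sq y hy, one_mul])
      (fun t ht ht1 => comm_mul_of (hc t ht ht1) (h.V_comm hy ht1).symm) h10 with e1 | e1
    · have : f = y⁻¹ := mul_eq_one_iff_eq_inv.mp e1
      rw [this]; exact inv_mem hy
    · have : f = z * y⁻¹ := by rw [← e1]; group
      rw [this]; exact mul_mem hz (inv_mem hy)

/-- Frattini: `C_T(V)` is normalized by elements of `N_G(V)` which induce everything on `V` -/
theorem frat (h : Fam T V z cf) {g : G} (hg : g ∈ normalizer (V : Set G)) :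
    ∃ c ∈ centralizer (V : Set G), ∀ t ∈ T, t ∈ centralizer (V : Set G) →
      (c * g) * t * (c * g)⁻¹ ∈ T := by
  have : Fact (Nat.Prime 2) := ⟨Nat.prime_two⟩
  set T0 := T ⊓ centralizer (V : Set G) with hT0
  set C := centralizer (V : Set G) with hC
  have hCn : normalizer (V : Set G) ≤ normalizer (C : Set G) := normalizer_le_normalizer_centralizer V
  -- `T0` is a Sylow 2-subgroup of `C`
  have h2 : IsPGroup 2 T0 := h.ln.two.to_le inf_le_left
  obtain ⟨Q, hQ⟩ := (h2.comap_of_injective C.subtype C.subtype_injective : IsPGroup 2 (T0.subgroupOf C)).exists_le_sylow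
  have hmax : ∀ P : Subgroup G, IsPGroup 2 P → P ≤ C → Nat.card P ≤ Nat.card T0 := by
    intro P hP hPC
    -- conjugate `P` into `T` inside `N_G(V)`
    obtain ⟨c, hc, hcT⟩ := exists_cj_le_of_sylow h.ln.T_norm h.ln.two h.ln.T_syl'
      (hPC.trans (centralizer_le_normalizer _)) hP
    have h3 : cj c P ≤ T0 := by
      refine le_inf hcT ?_
      intro x hx
      rw [mem_cj] at hx
      have := conj_mem_of_normalizer hCn hc (hPC hx)
      have e : c * (c⁻¹ * x * c) * c⁻¹ = x := by group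
      rwa [e] at this
    rw [← card_cj c]
    exact card_le_of_le h3
  have hQ' : ¬ 2 ∣ T0.relIndex C := by
    -- `Q = T0`
    have h4 : Nat.card (Q : Subgroup C) ≤ Nat.card T0 := by
      have h5 := hmax ((Q : Subgroup C).map C.subtype) (Q.isPGroup'.map _) (map_subtype_le _)
      rwa [card_map_of_injective C.subtype_injective] at h5
    have h6 : Nat.card (T0.subgroupOf C) = Nat.card T0 :=
      Nat.card_congr (subgroupOfEquivOfLe (inf_le_right : T0 ≤ C)).toEquiv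
    have h7 : T0.subgroupOf C = (Q : Subgroup C) := eq_of_le_of_card_ge hQ (by rw [h6]; exact h4)
    rw [relIndex, h7]
    exact Q.not_dvd_index
  have hg0 : cj g T0 ≤ C := by
    intro x hx
    rw [mem_cj] at hx
    have := conj_mem_of_normalizer hCn hg hx.2
    have e : g * (g⁻¹ * x * g) * g⁻¹ = x := by group
    rwa [e] at this
  obtain ⟨c, hc, hcT⟩ := exists_cj_le_of_sylow (inf_le_right : T0 ≤ C) h2 hQ' hg0 (h2.map _)
  refine ⟨c, hc, fun t ht ht1 => ?_⟩
  rw [cj_cj] at hcT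
  exact (hcT (conj_mem_cj (⟨ht, ht1⟩ : t ∈ T0))).1

/-- LEMMA FIX, the part which is symmetric in the points: `F_p = {f ∈ I : [f, C_T(V)] ≤ ⟨p⟩}` does not depend on `p`. -/
theorem fix_aux (h : Fam T V z cf) {f : G} (hf : f ∈ jj V cf)
    (hT : ∀ t ∈ T, t ∈ centralizer (V : Set G) → t * f * t⁻¹ = f ∨ t * f * t⁻¹ = z * f) :
    ∀ t ∈ T, t ∈ centralizer (V : Set G) → t * f * t⁻¹ = f := by
  classical
  have hz := h.ln.z_mem
  have hz1 := h.ln.z_ne
  obtain ⟨y, hy, hy1, hyz⟩ := h.ln.exists_y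
  obtain ⟨q, hq, hq1, hq2⟩ := h.f1
  set s := z * y with hs
  have hsV : s ∈ V := mul_mem hz hy
  have hs1 : s ≠ 1 := h.mul_ne_one hy (Ne.symm hyz)
  have hys : y ≠ s := fun e => hz1 (by rw [hs] at e; simpa using e.symm)
  have hsz : s ≠ z := fun e => hy1 (by rw [hs] at e; simpa using e)
  -- `F p`
  let F : G → Set G := fun p => {f | f ∈ jj V cf ∧
    ∀ t ∈ T, t ∈ centralizer (V : Set G) → t * f * t⁻¹ = f ∨ t * f * t⁻¹ = p * f}
  -- conjugation by an element normalizing `C_T(V)`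
  have hconj : ∀ g ∈ normalizer (V : Set G), (∀ t ∈ T, t ∈ centralizer (V : Set G) → g * t * g⁻¹ ∈ T) →
      ∀ p f, f ∈ F p → g * f * g⁻¹ ∈ F (g * p * g⁻¹) := by
    intro g hg hgT p f hf
    refine ⟨conj_mem_of_normalizer h.normalizer_le_normalizer_jj hg hf.1, fun t ht ht1 => ?_⟩
    -- `g⁻¹ t g ∈ C_T(V)` (finiteness)
    have hfin : ∀ t ∈ T, t ∈ centralizer (V : Set G) → g⁻¹ * t * g ∈ T ∧ g⁻¹ * t * g ∈ centralizer (V : Set G) := by
      have hle : cj g (T ⊓ centralizer (V : Set G)) ≤ T ⊓ centralizer (V : Set G) := by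
        intro x hx
        rw [mem_cj] at hx
        have h1 := hgT _ hx.1 hx.2
        have h2 := conj_mem_of_normalizer (normalizer_le_normalizer_centralizer V) hg hx.2
        have e : g * (g⁻¹ * x * g) * g⁻¹ = x := by group
        rw [e] at h1 h2
        exact ⟨h1, h2⟩
      have heq : cj g (T ⊓ centralizer (V : Set G)) = T ⊓ centralizer (V : Set G) :=
        eq_of_le_of_card_ge hle (by rw [card_cj])
      intro t ht ht1
      have : t ∈ cj g (T ⊓ centralizer (V : Set G)) := by rw [heq]; exact ⟨ht, ht1⟩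
      exact mem_cj.mp this
    obtain ⟨h1, h2⟩ := hfin t ht ht1
    rcases hf.2 _ h1 h2 with e | e
    · left
      calc t * (g * f * g⁻¹) * t⁻¹ = g * ((g⁻¹ * t * g) * f * (g⁻¹ * t * g)⁻¹) * g⁻¹ := by group
        _ = g * f * g⁻¹ := by rw [e]
    · right
      calc t * (g * f * g⁻¹) * t⁻¹ = g * ((g⁻¹ * t * g) * f * (g⁻¹ * t * g)⁻¹) * g⁻¹ := by group
        _ = g * p * g⁻¹ * (g * f * g⁻¹) := by rw [e]; group
  -- `F p` contains `V` and is closed under multiplication by `V`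
  have hmulV : ∀ p v f, v ∈ V → f ∈ F p → v * f ∈ F p := by
    intro p v f hv hf
    refine ⟨mul_mem (h.V_le_jj hv) hf.1, fun t ht ht1 => ?_⟩
    have hvt := h.V_comm hv ht1
    have hvt' : t * v * t⁻¹ = v := conj_eq_of_comm hvt.symm
    rcases hf.2 t ht ht1 with e | e
    · left
      calc t * (v * f) * t⁻¹ = (t * v * t⁻¹) * (t * f * t⁻¹) := by group
        _ = v * f := by rw [hvt', e]
    · right
      have h1 : t * f * t⁻¹ ∈ jj V cf := by
        have := conj_mem_of_normalizer h.normalizer_le_normalizer_jj (h.ln.T_norm ht) hf.1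
        exact this
      have hpv : v * p = p * v := by
        have hpj : p ∈ jj V cf := by
          have h3 : p = (t * f * t⁻¹) * f⁻¹ := by rw [e]; group
          rw [h3]; exact mul_mem h1 (inv_mem hf.1)
        exact mem_centralizer_iff.mp (h.jj_le_cent hpj) v hv
      calc t * (v * f) * t⁻¹ = (t * v * t⁻¹) * (t * f * t⁻¹) := by group
        _ = v * p * f := by rw [hvt', e]; group
        _ = p * (v * f) := by rw [hpv]; group
  -- `F y = F s`
  have hqT : ∀ t ∈ T, t ∈ centralizer (V : Set G) → q * t * q⁻¹ ∈ T := fun t ht _ =>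
    mul_mem (mul_mem hq ht) (inv_mem hq)
  have hqV := h.ln.T_norm hq
  have hqf : ∀ p p', p ∈ V → p ≠ 1 → p ≠ z → p' = z * p → ∀ f ∈ F p, f ∈ F p' := by
    intro p p' hp hp1 hpz e f hf
    have h1 := hconj q hqV hqT p f hf
    rw [h.move hz hz1 hp hp1 hpz hq1 hq2, ← e] at h1
    rcases h.qq_cases hz hq1 (jj_le hz hz1 hf.1) with e1 | e1
    · rwa [e1] at h1
    · rw [e1] at h1
      have h2 := hmulV p' z _ hz h1
      rwa [← mul_assoc, h.ln.zz, one_mul] at h2
  have hFys : ∀ f, f ∈ F y ↔ f ∈ F s := fun f =>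
    ⟨hqf y s hy hy1 hyz hs f, hqf s y hsV hs1 hsz (by
      rw [hs, ← mul_assoc, h.ln.zz, one_mul]) f⟩
  -- rotate
  obtain ⟨g, hg, hg1, hg2⟩ := h.trans2 hz hz1 hy hy1 hyz hy hy1 hsV hs1 (Ne.symm hys)
  obtain ⟨c, hc, hcT⟩ := h.frat hg
  set r := c * g with hr
  have hrV : r ∈ normalizer (V : Set G) := mul_mem (centralizer_le_normalizer _ hc) hg
  have hrz : r * z * r⁻¹ = y := by
    calc r * z * r⁻¹ = c * (g * z * g⁻¹) * c⁻¹ := by rw [hr]; group
      _ = y := by rw [hg1]; exact conj_eq_of_comm (h.V_comm hy hc).symm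
  have hry : r * y * r⁻¹ = s := by
    calc r * y * r⁻¹ = c * (g * y * g⁻¹) * c⁻¹ := by rw [hr]; group
      _ = s := by rw [hg2]; exact conj_eq_of_comm (h.V_comm hsV hc).symm
  -- `F z ⊆ F y`
  have hzy : ∀ f ∈ F z, f ∈ F y := by
    intro f hf
    have h1 := hconj r hrV hcT z f hf
    rw [hrz] at h1
    -- `r f r⁻¹ ∈ F y = F s`; pull back by `r`: need `F s = r F y r⁻¹`, cardinality
    have h2 : (fun f => r * f * r⁻¹) '' F y ⊆ F s := by
      rintro _ ⟨f, hf, rfl⟩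
      have := hconj r hrV hcT y f hf
      rwa [hry] at this
    have h3 : F s = F y := by ext f; exact (hFys f).symm
    have h4 : (fun f => r * f * r⁻¹) '' F y = F s := by
      refine Set.eq_of_subset_of_ncard_le h2 ?_ (Set.toFinite _)
      rw [Set.ncard_image_of_injective _ (fun a b e => by simpa only [_root_.mul_left_inj, _root_.mul_right_inj] using e), h3]
    have h5 : r * f * r⁻¹ ∈ F s := (hFys _).mp h1
    rw [← h4] at h5
    obtain ⟨f', hf', e⟩ := h5
    have : f' = f := by simpa only [_root_.mul_left_inj, _root_.mul_right_inj] using e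
    rw [← this]; exact hf'
  intro t ht ht1
  have hfz : f ∈ F z := ⟨hf, hT⟩
  rcases (hzy f hfz).2 t ht ht1 with e | e
  · exact e
  rcases hT t ht ht1 with e' | e'
  · exact e'
  exfalso
  rw [e] at e'
  exact hyz (mul_right_cancel e')

/-- **LEMMA FIX** (1): `f ∈ I`, `[f, C_T(V)] ≤ ⟨z⟩` implies `f ∈ V`. -/
theorem fix (h : Fam T V z cf) {f : G} (hf : f ∈ jj V cf)
    (hT : ∀ t ∈ T, t ∈ centralizer (V : Set G) → t * f * t⁻¹ = f ∨ t * f * t⁻¹ = z * f) : f ∈ V := by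
  have hz := h.ln.z_mem
  have hz1 := h.ln.z_ne
  refine h.soc0 (h.ww_le_T (jj_le hz hz1 hf)) (h.jj_le_cent hf) (h.sqz f (jj_le hz hz1 hf)) ?_
  intro t ht ht1
  exact comm_of_conj_eq (h.fix_aux hf hT t ht ht1)

/-- (1.2): if `V < U ≤ I`, `|U / V| = 2`, `U` normal in `N_G(V)`, then for `u ∈ U - V` and `v ∈ V` some element of `C_G(V)`
moves `u` to `v u`. -/
theorem four_of (h : Fam T V z cf) {U : Subgroup G} (hU : U ≤ jj V cf)
    (hn : normalizer (V : Set G) ≤ normalizer (U : Set G)) {u : G} (hu : u ∈ U) (huV : u ∉ V)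
    (hc : ∀ w ∈ U, w ∈ V ∨ w * u⁻¹ ∈ V) {v : G} (hv : v ∈ V) :
    ∃ c ∈ centralizer (V : Set G), c * u * c⁻¹ = v * u := by
  have hz := h.ln.z_mem
  have hz1 := h.ln.z_ne
  by_cases hv1 : v = 1
  · exact ⟨1, one_mem _, by rw [hv1]; group⟩
  -- some element of `C_T(V)` moves `u`
  have huj := hU hu
  obtain ⟨t, htV, ht⟩ : ∃ t ∈ centralizer (V : Set G), t * u * t⁻¹ ≠ u := by
    by_contra hcon
    push Not at hcon
    exact huV (h.soc0 (h.ww_le_T (jj_le hz hz1 huj)) (h.jj_le_cent huj) (h.sqz u (jj_le hz hz1 huj))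
      fun t _ ht1 => comm_of_conj_eq (hcon t ht1))
  have hnV : ∀ g ∈ normalizer (V : Set G), g * u * g⁻¹ ∉ V := by
    intro g hg e
    apply huV
    have := h.conj_pt' hg e
    have e' : g⁻¹ * (g * u * g⁻¹) * g = u := by group
    rwa [e'] at this
  set w := t * u * t⁻¹ * u⁻¹ with hw
  have hwV : w ∈ V := by
    have h1 := conj_mem_of_normalizer hn (centralizer_le_normalizer _ htV) hu
    rcases hc _ h1 with e | e
    · exact absurd e (hnV t (centralizer_le_normalizer _ htV))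
    · exact e
  have hw1 : w ≠ 1 := fun e => ht (by rw [hw] at e; exact mul_inv_eq_one.mp e)
  -- move `w` to `v`
  obtain ⟨a, ha, ha1, -⟩ := h.point hwV hw1
  obtain ⟨b, hb, hb1, -⟩ := h.point hv hv1
  set g := b * a⁻¹ with hg
  have hgV : g ∈ normalizer (V : Set G) := mul_mem hb (inv_mem ha)
  have hgw : g * w * g⁻¹ = v := by
    rw [hg, ← ha1, ← hb1]; group
  refine ⟨g * t * g⁻¹, conj_mem_of_normalizer (normalizer_le_normalizer_centralizer V) hgV htV, ?_⟩
  -- `g⁻¹ u g = v' u`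
  have h2 : g⁻¹ * u * g ∈ U := conj_mem_of_normalizer' hn hgV hu
  have h3 : g⁻¹ * u * g * u⁻¹ ∈ V := by
    rcases hc _ h2 with e | e
    · exfalso
      apply huV
      have := h.conj_pt hgV e
      have e' : g * (g⁻¹ * u * g) * g⁻¹ = u := by group
      rwa [e'] at this
    · exact e
  set v' := g⁻¹ * u * g * u⁻¹ with hv'
  have e1 : g⁻¹ * u * g = v' * u := by rw [hv']; group
  have e2 : t * u * t⁻¹ = w * u := by rw [hw]; group
  have e3 : t * v' * t⁻¹ = v' := conj_eq_of_comm (h.V_comm h3 htV).symm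
  have e4 : v' * w = w * v' := h.ln.comm h3 hwV
  calc g * t * g⁻¹ * u * (g * t * g⁻¹)⁻¹ = g * (t * (g⁻¹ * u * g) * t⁻¹) * g⁻¹ := by group
    _ = g * ((t * v' * t⁻¹) * (t * u * t⁻¹)) * g⁻¹ := by rw [e1]; group
    _ = g * (v' * w * u) * g⁻¹ := by rw [e3, e2]; group
    _ = g * (w * (v' * u)) * g⁻¹ := by rw [e4]; group
    _ = (g * w * g⁻¹) * (g * (v' * u) * g⁻¹) := by group
    _ = v * u := by rw [hgw, ← e1]; group

/-- (1.3), for involutions -/
theorem no_fix (h : Fam T V z cf) {f : G} (hf2 : f * f = 1) (hf : ∀ g ∈ normalizer (V : Set G), g * f = f * g) :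
    f = 1 := by
  by_contra hf1
  have h1 : IsPGroup 2 (zpowers f) := isPGroup_zpowers hf2
  have h2 : zpowers f ≤ T := by
    refine h.le_T h1 ?_
    refine le_normalizer_of_forall fun t ht x hx => ?_
    obtain ⟨n, rfl⟩ := mem_zpowers_iff.mp hx
    have : Commute t (f ^ n) := (show Commute t f from hf t (h.ln.T_norm ht)).zpow_right n
    rw [this.eq, mul_inv_cancel_right]
    exact zpow_mem (mem_zpowers _) n
  rcases h.ln.soc f (h2 (mem_zpowers f)) hf2 (fun s hs => hf s (h.ln.T_norm hs)) with e | e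
  · exact hf1 e
  · obtain ⟨y, hy, hy1, hyz⟩ := h.ln.exists_y
    obtain ⟨g, hg, hgy⟩ := h.ln.trans y hy hy1
    apply hyz
    rw [← hgy, ← e]
    exact conj_eq_of_comm (hf g hg)

end fin

end Fam

end Cfsg.Agent.Omega.NO3S.Fit

end

section


/-!
# NO-3S, `q = 2`, `n = 1` (helper311's text #13963): the module `M = W_z / ⟨z⟩` for `H = C_z / Q_z`

`MRep V cf z M H` : `pi : G → M`, `phi : G → H` (used on `W_z`, `cf z`) identify `M` with `W_z/⟨z⟩` and `H` with
`cf z / Q_z`; `Fam.exists_mrep` : it exists, with a faithful action.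
-/

set_option autoImplicit false
set_option linter.unusedSectionVars false

namespace Cfsg.Agent.Omega.NO3S.Fit

open Subgroup Cfsg Cfsg.Agent.ZN Cfsg.Agent.MinSimple.Geo Cfsg.Agent.Omega.CaseL
open Cfsg.Agent.ZN.Block (conj_mem_of_normalizer conj_mem_of_normalizer' le_normalizer_of_forall
  mem_normalizer_of)

universe u

variable {G : Type u} [Group G]

/-- `M = W_z/⟨z⟩`, `H = cf z / Q_z` -/
structure MRep (V : Subgroup G) (cf : G → Subgroup G) (z : G) (M H : Type u) [AddCommGroup M] [Group H]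
    [DistribMulAction H M] where
  pi : G → M
  phi : G → H
  pi_mul : ∀ a ∈ ww V cf z, ∀ b ∈ ww V cf z, pi (a * b) = pi a + pi b
  pi_surj : ∀ m, ∃ w ∈ ww V cf z, pi w = m
  pi_ker : ∀ w ∈ ww V cf z, pi w = 0 ↔ w = 1 ∨ w = z
  phi_mul : ∀ c ∈ cf z, ∀ d ∈ cf z, phi (c * d) = phi c * phi d
  phi_surj : ∀ x, ∃ c ∈ cf z, phi c = x
  phi_ker : ∀ c ∈ cf z, phi c = 1 ↔ c ∈ qq V cf z
  act : ∀ c ∈ cf z, ∀ w ∈ ww V cf z, phi c • pi w = pi (c * w * c⁻¹)

section build

variable (W X C : Subgroup G)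

/-- conjugation by `c` on `W` -/
def cjW (hW : C ≤ normalizer (W : Set G)) (c : C) : W →* W where
  toFun w := ⟨c * w * (c : G)⁻¹, conj_mem_of_normalizer hW c.2 w.2⟩
  map_one' := by ext; simp
  map_mul' a b := by
    ext
    change (c : G) * (a * b) * (c : G)⁻¹ = (c * a * (c : G)⁻¹) * (c * b * (c : G)⁻¹)
    group

/-- the action of `C` on `W / X` -/
def quoHom (hW : C ≤ normalizer (W : Set G)) (hX : C ≤ normalizer (X : Set G))
    [(X.subgroupOf W).Normal] : C →* MulAut (W ⧸ X.subgroupOf W) :=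
  let f : C → (W ⧸ X.subgroupOf W →* W ⧸ X.subgroupOf W) := fun c =>
    QuotientGroup.map _ _ (cjW W C hW c) (by
      intro w hw
      rw [mem_comap, mem_subgroupOf]
      exact conj_mem_of_normalizer hX c.2 (mem_subgroupOf.mp hw))
  have f1 : ∀ c d x, f (c * d) x = f c (f d x) := by
    intro c d x
    induction x using QuotientGroup.induction_on with
    | H w =>
      change (QuotientGroup.mk _ : W ⧸ X.subgroupOf W) = QuotientGroup.mk _
      congr 1
      ext
      change ((c * d : C) : G) * w * ((c * d : C) : G)⁻¹ = c * (d * w * (d : G)⁻¹) * (c : G)⁻¹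
      push_cast
      group
  have f2 : ∀ x, f 1 x = x := by
    intro x
    induction x using QuotientGroup.induction_on with
    | H w =>
      change (QuotientGroup.mk _ : W ⧸ X.subgroupOf W) = QuotientGroup.mk _
      congr 1
      ext
      change ((1 : C) : G) * w * ((1 : C) : G)⁻¹ = w
      simp
  { toFun := fun c =>
      { toFun := f c
        invFun := f c⁻¹
        left_inv := fun x => by rw [← f1, inv_mul_cancel, f2]
        right_inv := fun x => by rw [← f1, mul_inv_cancel, f2]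
        map_mul' := map_mul _ }
    map_one' := by
      ext x
      exact f2 x
    map_mul' := fun c d => by
      ext x
      exact f1 c d x }

end build

namespace Fam

variable {T V : Subgroup G} {z : G} {cf : G → Subgroup G}

theorem z_mem_ww (h : Fam T V z cf) : z ∈ ww V cf z := h.V_le h.ln.z_mem

theorem exists_mrep [Finite G] (h : Fam T V z cf) : ∃ (M H : Type u) (_ : AddCommGroup M) (_ : Finite M) (_ : Group H)
    (_ : Finite H) (_ : DistribMulAction H M) (_ : FaithfulSMul H M), Nonempty (MRep V cf z M H) := by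
  classical
  set W := ww V cf z with hWd
  set X := zpowers z with hXd
  have hz := h.ln.z_mem
  have hz1 := h.ln.z_ne
  have hW : cf z ≤ normalizer (W : Set G) := h.cf_norm
  have hX : cf z ≤ normalizer (X : Set G) := by
    refine le_normalizer_of_forall fun c hc x hx => ?_
    obtain ⟨n, rfl⟩ := mem_zpowers_iff.mp hx
    have : Commute c (z ^ n) := (show Commute c z from h.cf_comm hz hz1 hc).zpow_right n
    rw [this.eq, mul_inv_cancel_right]
    exact zpow_mem (mem_zpowers _) n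
  have hWC : W ≤ cf z := h.ww_le_cf hz hz1
  have hn : (X.subgroupOf W).Normal := normal_subgroupOf_of_le_normalizer (hWC.trans hX)
  let Q := W ⧸ X.subgroupOf W
  let M := Additive Q
  have hcomm : ∀ a b : Q, a * b = b * a := by
    intro a b
    induction a using QuotientGroup.induction_on with
    | H a =>
      induction b using QuotientGroup.induction_on with
      | H b =>
        change (QuotientGroup.mk (a * b) : Q) = QuotientGroup.mk (b * a)
        congr 1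
        ext
        exact h.ab a a.2 b b.2
  let iQ : CommGroup Q := { (inferInstance : Group Q) with mul_comm := hcomm }
  let iM : AddCommGroup M := Additive.addCommGroup
  obtain ⟨Φ, hΦ⟩ : ∃ Φ : cf z →* MulAut Q, ∀ (c : cf z) (w : W), Φ c (QuotientGroup.mk w : Q) =
      QuotientGroup.mk (⟨c * w * (c : G)⁻¹, conj_mem_of_normalizer hW c.2 w.2⟩ : W) :=
    ⟨quoHom W X (cf z) hW hX, fun c w => rfl⟩
  obtain ⟨H, hH⟩ : ∃ H : Subgroup (MulAut Q), H = Φ.range := ⟨_, rfl⟩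
  have hX1 : ∀ x, x ∈ X ↔ x = 1 ∨ x = z := fun x => mem_zpowers_iff_of_mul_self h.ln.zz
  have hfin : Finite M := inferInstanceAs (Finite (W ⧸ X.subgroupOf W))
  have hfinA : Finite (MulAut Q) := Finite.of_injective (fun f : MulAut Q => (f : Q → Q)) DFunLike.coe_injective
  let iA : DistribMulAction H M :=
    { smul := fun x m => Additive.ofMul ((x : MulAut Q) m.toMul)
      one_smul := fun m => rfl
      mul_smul := fun x y m => rfl
      smul_zero := fun x => congrArg Additive.ofMul (map_one (x : MulAut Q))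
      smul_add := fun x m n => congrArg Additive.ofMul (map_mul (x : MulAut Q) m.toMul n.toMul) }
  have hmemH : ∀ c, Φ c ∈ H := fun c => by rw [hH]; exact MonoidHom.mem_range.mpr ⟨c, rfl⟩
  let piF : G → M := fun g => if hg : g ∈ W then Additive.ofMul (QuotientGroup.mk ⟨g, hg⟩) else 0
  let phiF : G → H := fun g => if hg : g ∈ cf z then ⟨Φ ⟨g, hg⟩, hmemH _⟩ else 1
  have piE : ∀ g (hg : g ∈ W), piF g = Additive.ofMul (QuotientGroup.mk ⟨g, hg⟩) := fun g hg => dif_pos hg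
  have phiE : ∀ g (hg : g ∈ cf z), phiF g = ⟨Φ ⟨g, hg⟩, hmemH _⟩ := fun g hg => dif_pos hg
  have key : ∀ c (hc : c ∈ cf z) w (hw : w ∈ W), Φ ⟨c, hc⟩ (QuotientGroup.mk ⟨w, hw⟩ : Q) =
      QuotientGroup.mk ⟨w, hw⟩ ↔ c * w * c⁻¹ * w⁻¹ ∈ X := by
    intro c hc w hw
    rw [hΦ, eq_comm, QuotientGroup.eq, mem_subgroupOf]
    change w⁻¹ * (c * w * c⁻¹) ∈ X ↔ _
    have hcw : c * w * c⁻¹ ∈ W := conj_mem_of_normalizer hW hc hw
    rw [h.ab w⁻¹ (inv_mem hw) _ hcw]
  refine ⟨M, H, iM, hfin, inferInstance, inferInstance, iA, ?_, ⟨?_⟩⟩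
  · refine ⟨fun {a b} hab => Subtype.ext ?_⟩
    ext m
    exact congrArg Additive.toMul (hab (Additive.ofMul m))
  · refine ⟨piF, phiF, ?_, ?_, ?_, ?_, ?_, ?_, ?_⟩
    · intro a ha b hb
      rw [piE a ha, piE b hb, piE _ (mul_mem ha hb)]
      rfl
    · intro m
      obtain ⟨w, hw⟩ := QuotientGroup.mk_surjective m.toMul
      refine ⟨w, w.2, ?_⟩
      rw [piE w w.2]
      exact congrArg Additive.ofMul hw
    · intro w hw
      rw [piE w hw]
      change (QuotientGroup.mk (⟨w, hw⟩ : W) : Q) = 1 ↔ _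
      rw [QuotientGroup.eq_one_iff, mem_subgroupOf, hX1]
    · intro c hc d hd
      rw [phiE c hc, phiE d hd, phiE _ (mul_mem hc hd)]
      apply Subtype.ext
      rw [Subgroup.coe_mul, ← map_mul]
      rfl
    · rintro ⟨x, hx⟩
      obtain ⟨c, rfl⟩ := MonoidHom.mem_range.mp (hH ▸ hx)
      exact ⟨c, c.2, phiE c c.2⟩
    · intro c hc
      rw [phiE c hc]
      constructor
      · intro e
        have e' : Φ ⟨c, hc⟩ = 1 := congrArg Subtype.val e
        refine ⟨hc, h.cf_comm hz hz1 hc, fun w hw => (key c hc w hw).mp ?_⟩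
        rw [e']; rfl
      · intro hq
        apply Subtype.ext
        change Φ ⟨c, hc⟩ = 1
        ext m
        obtain ⟨w, hw⟩ := QuotientGroup.mk_surjective m
        have hm : m = QuotientGroup.mk ⟨(w : G), w.2⟩ := hw.symm
        rw [hm]
        exact (key c hc w w.2).mpr (hq.2.2 w w.2)
    · intro c hc w hw
      rw [phiE c hc, piE w hw, piE _ (conj_mem_of_normalizer hW hc hw)]
      exact congrArg Additive.ofMul (hΦ ⟨c, hc⟩ ⟨w, hw⟩)

end Fam

namespace MRep

variable {T V : Subgroup G} {z : G} {cf : G → Subgroup G} {M H : Type u} [AddCommGroup M] [Group H]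
  [DistribMulAction H M]

theorem pi_one (R : MRep V cf z M H) (_ : Fam T V z cf) : R.pi 1 = 0 :=
  (R.pi_ker 1 (one_mem _)).mpr (Or.inl rfl)

theorem pi_z (R : MRep V cf z M H) (h : Fam T V z cf) : R.pi z = 0 :=
  (R.pi_ker z h.z_mem_ww).mpr (Or.inr rfl)

theorem pi_inv (R : MRep V cf z M H) (h : Fam T V z cf) {w : G} (hw : w ∈ ww V cf z) : R.pi w⁻¹ = - R.pi w := by
  have := R.pi_mul w hw w⁻¹ (inv_mem hw)
  rw [mul_inv_cancel, R.pi_one h] at this
  exact (neg_eq_of_add_eq_zero_right this.symm).symm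

theorem pi_eq (R : MRep V cf z M H) (h : Fam T V z cf) {a b : G} (ha : a ∈ ww V cf z) (hb : b ∈ ww V cf z) :
    R.pi a = R.pi b ↔ a = b ∨ a = z * b := by
  have e : R.pi (a * b⁻¹) = R.pi a - R.pi b := by
    rw [R.pi_mul a ha _ (inv_mem hb), R.pi_inv h hb, sub_eq_add_neg]
  rw [← sub_eq_zero, ← e, R.pi_ker _ (mul_mem ha (inv_mem hb)), mul_inv_eq_one, mul_inv_eq_iff_eq_mul]

theorem phi_one' (R : MRep V cf z M H) : R.phi 1 = 1 := by
  have := R.phi_mul 1 (one_mem _) 1 (one_mem _)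
  rw [mul_one] at this
  exact (mul_eq_left.mp this.symm)

theorem phi_inv (R : MRep V cf z M H) {c : G} (hc : c ∈ cf z) : R.phi c⁻¹ = (R.phi c)⁻¹ := by
  have := R.phi_mul c hc c⁻¹ (inv_mem hc)
  rw [mul_inv_cancel, R.phi_one'] at this
  exact (inv_eq_of_mul_eq_one_right this.symm).symm

theorem phi_eq (R : MRep V cf z M H) {c d : G} (hc : c ∈ cf z) (hd : d ∈ cf z) :
    R.phi c = R.phi d ↔ c * d⁻¹ ∈ qq V cf z := by
  rw [← R.phi_ker _ (mul_mem hc (inv_mem hd)), R.phi_mul c hc _ (inv_mem hd), R.phi_inv hd, mul_inv_eq_one]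

theorem two (R : MRep V cf z M H) (h : Fam T V z cf) (m : M) : m + m = 0 := by
  obtain ⟨w, hw, rfl⟩ := R.pi_surj m
  rw [← R.pi_mul w hw w hw, h.sqz w hw, R.pi_one h]

end MRep

end Cfsg.Agent.Omega.NO3S.Fit

end

section


/-!
# NO-3S, `q = 2`, `n = 1` (helper311's text #13963): facts about `M = W_z/⟨z⟩` as an `H`-module

For `R : MRep V cf z M H` and a point `y ≠ z` of `V`, `v0 = R.pi y`:
* `R.hom`, `R.img K` (image in `H` of `K ≤ cf z`), `R.pre K` (preimage in `cf z` of `K ≤ H`);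
* `R.smul_v0_iff`, `R.stab` : the stabilizer of `v0` is the image of `C_G(V)`;
* `R.span` : `M` is spanned by the orbit of `v0`;
* `R.img_T_two`, `R.img_T_index`, `R.img_T_fix` : the image of `T` is a Sylow 2-subgroup fixing `v0`;
* `R.fixI` : LEMMA FIX;
* `R.quad`, `R.inv_A`, `R.cen_A` : the image `A` of `W_y`;
* `Fam.o2h` (0.1) : `O₂(C_z / Q_z) = 1`.
-/

set_option autoImplicit false
set_option linter.unusedSectionVars false

namespace Cfsg.Agent.Omega.NO3S.Fit

open Subgroup Cfsg Cfsg.Agent.ZN Cfsg.Agent.MinSimple.Geo Cfsg.Agent.Omega.CaseL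
open Cfsg.Agent.ZN.Block (conj_mem_of_normalizer conj_mem_of_normalizer' le_normalizer_of_forall
  mem_normalizer_of)

universe u

variable {G : Type u} [Group G]

theorem Fam.T_index {T V : Subgroup G} {z : G} {cf : G → Subgroup G} (h : Fam T V z cf) :
    ¬ 2 ∣ T.relIndex (cf z) := by
  intro hd
  apply h.ln.T_syl
  have h1 : T.relIndex (cf z) * (cf z).relIndex (centralizer ({z} : Set G)) =
      T.relIndex (centralizer ({z} : Set G)) := relIndex_mul_relIndex _ _ _ h.T_le_cf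
        (h.le z h.ln.z_mem h.ln.z_ne)
  rw [← h1]
  exact hd.mul_right _

namespace MRep

variable {T V : Subgroup G} {z : G} {cf : G → Subgroup G} {M H : Type u} [AddCommGroup M] [Group H]
  [DistribMulAction H M]

/-- `phi` as a homomorphism -/
def hom (R : MRep V cf z M H) : cf z →* H where
  toFun c := R.phi c
  map_one' := R.phi_one'
  map_mul' c d := R.phi_mul c c.2 d d.2

/-- the image of `K ≤ cf z` in `H` -/
def img (R : MRep V cf z M H) (K : Subgroup G) : Subgroup H := (K.subgroupOf (cf z)).map R.hom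

theorem mem_img (R : MRep V cf z M H) {K : Subgroup G} (hK : K ≤ cf z) {x : H} :
    x ∈ R.img K ↔ ∃ k ∈ K, R.phi k = x := by
  constructor
  · rintro ⟨k, hk, rfl⟩
    exact ⟨k, mem_subgroupOf.mp hk, rfl⟩
  · rintro ⟨k, hk, rfl⟩
    exact ⟨⟨k, hK hk⟩, mem_subgroupOf.mpr hk, rfl⟩

/-- the preimage of `K ≤ H` in `cf z` -/
def pre (R : MRep V cf z M H) (K : Subgroup H) : Subgroup G := (K.comap R.hom).map (cf z).subtype

theorem mem_pre (R : MRep V cf z M H) {K : Subgroup H} {c : G} : c ∈ R.pre K ↔ c ∈ cf z ∧ R.phi c ∈ K := by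
  constructor
  · rintro ⟨c, hc, rfl⟩
    exact ⟨c.2, hc⟩
  · rintro ⟨hc, hc'⟩
    exact ⟨⟨c, hc⟩, hc', rfl⟩

theorem pre_le (R : MRep V cf z M H) (K : Subgroup H) : R.pre K ≤ cf z := fun _ hc => (R.mem_pre.mp hc).1

section pt

variable (R : MRep V cf z M H) (h : Fam T V z cf) {y : G} (hy : y ∈ V) (hy1 : y ≠ 1) (hyz : y ≠ z)
include h hy hy1 hyz

omit hy1 hyz in
theorem y_mem : y ∈ ww V cf z := h.V_le hy

theorem v0_ne : R.pi y ≠ 0 := by
  intro e
  rcases (R.pi_ker y (h.V_le hy)).mp e with e | e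
  · exact hy1 e
  · exact hyz e

/-- an element of `C_G(z)` which maps `y` to `y` or `z y` normalizes `V` -/
theorem mem_normalizer_of_conj [Finite G] {c : G} (hcz : c * z = z * c) (hc : c * y * c⁻¹ ∈ V) :
    c ∈ normalizer (V : Set G) := by
  rw [mem_normalizer_iff_cj]
  refine eq_of_le_of_card_ge ?_ (by rw [card_cj])
  intro v hv
  rw [mem_cj] at hv
  have hcz' : c * z * c⁻¹ = z := conj_eq_of_comm hcz
  have e : v = c * (c⁻¹ * v * c) * c⁻¹ := by group
  rcases h.ln.four h.ln.z_mem hy h.ln.z_ne hy1 (Ne.symm hyz) hv with e1 | e1 | e1 | e1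
  · rw [e, e1]; simp
  · rw [e, e1, hcz']; exact h.ln.z_mem
  · rw [e, e1]; exact hc
  · rw [e, e1]
    have : c * (z * y) * c⁻¹ = (c * z * c⁻¹) * (c * y * c⁻¹) := by group
    rw [this, hcz']
    exact mul_mem h.ln.z_mem hc

/-- `Stab_H(v0)` is the image of `N_G(V) ∩ cf z` -/
theorem smul_v0_iff [Finite G] {c : G} (hc : c ∈ cf z) :
    R.phi c • R.pi y = R.pi y ↔ c ∈ normalizer (V : Set G) := by
  have hz := h.ln.z_mem
  have hz1 := h.ln.z_ne
  have hyW : y ∈ ww V cf z := h.V_le hy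
  have hcz := h.cf_comm hz hz1 hc
  rw [R.act c hc y hyW, R.pi_eq h (conj_mem_wf hc hyW) hyW]
  constructor
  · rintro (e | e)
    · exact mem_normalizer_of_conj h hy hy1 hyz hcz (by rw [e]; exact hy)
    · exact mem_normalizer_of_conj h hy hy1 hyz hcz (by rw [e]; exact mul_mem hz hy)
  · intro hn
    exact h.ln.conj_cases hz hy hz1 hcz hn

/-- the stabilizer of `v0` is the image of `C_G(V)` -/
theorem stab [Finite G] {x : H} (hx : x • R.pi y = R.pi y) : ∃ d ∈ centralizer (V : Set G), R.phi d = x := by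
  have hz := h.ln.z_mem
  have hz1 := h.ln.z_ne
  obtain ⟨c, hc, rfl⟩ := R.phi_surj x
  have hn := (smul_v0_iff R h hy hy1 hyz hc).mp hx
  obtain ⟨d, hd, k, hk, e⟩ := h.norm_eq hz hz1 hn (h.cf_comm hz hz1 hc)
  refine ⟨d, hd, ?_⟩
  rw [e, R.phi_mul d (h.cent_le_cf hz hz1 hd) k hk.1, (R.phi_ker k hk.1).mpr hk, mul_one]

omit hy1 hyz in
/-- `C_G(V)` fixes `v0` -/
theorem cent_v0 {d : G} (hd : d ∈ centralizer (V : Set G)) : R.phi d • R.pi y = R.pi y := by
  rw [R.act d (h.cent_le_cf h.ln.z_mem h.ln.z_ne hd) y (h.V_le hy), conj_eq_of_comm (h.V_comm hy hd).symm]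

/-- `M` is spanned by the orbit of `v0` -/
theorem span : AddSubgroup.closure (Set.range fun x : H => x • R.pi y) = ⊤ := by
  have hz := h.ln.z_mem
  have hz1 := h.ln.z_ne
  rw [eq_top_iff]
  rintro m -
  obtain ⟨w, hw, rfl⟩ := R.pi_surj m
  set D := AddSubgroup.closure (Set.range fun x : H => x • R.pi y)
  let B : Subgroup G :=
    { carrier := {w | w ∈ ww V cf z ∧ R.pi w ∈ D}
      mul_mem' := by
        rintro a b ⟨ha, ha1⟩ ⟨hb, hb1⟩
        refine ⟨mul_mem ha hb, ?_⟩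
        rw [R.pi_mul a ha b hb]
        exact add_mem ha1 hb1
      one_mem' := ⟨one_mem _, by rw [R.pi_one h]; exact zero_mem _⟩
      inv_mem' := by
        rintro a ⟨ha, ha1⟩
        refine ⟨inv_mem ha, ?_⟩
        rw [R.pi_inv h ha]
        exact neg_mem ha1 }
  have : ww V cf z ≤ B := by
    refine wf_le fun c hc x hx => ?_
    refine ⟨cj_le_wf hc hx, ?_⟩
    rw [mem_cj] at hx
    have hxw : c⁻¹ * x * c ∈ ww V cf z := h.V_le hx
    have e : x = c * (c⁻¹ * x * c) * c⁻¹ := by group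
    rw [e, ← R.act c hc _ hxw]
    have hy0 : R.phi c • R.pi y ∈ D := AddSubgroup.subset_closure ⟨_, rfl⟩
    rcases h.ln.four hz hy hz1 hy1 (Ne.symm hyz) hx with e1 | e1 | e1 | e1
    · rw [e1, R.pi_one h, smul_zero]; exact zero_mem _
    · rw [e1, R.pi_z h, smul_zero]; exact zero_mem _
    · rw [e1]; exact hy0
    · rw [e1, R.pi_mul z h.z_mem_ww y (h.V_le hy), R.pi_z h, zero_add]; exact hy0
  exact (this hw).2

omit hy hy1 hyz in
theorem img_T_two : IsPGroup 2 (R.img T) := by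
  have : IsPGroup 2 (T.subgroupOf (cf z)) := h.ln.two.comap_of_injective _ (cf z).subtype_injective
  exact this.map _

omit hy hy1 hyz in
theorem hom_surj : Function.Surjective R.hom := by
  intro x
  obtain ⟨c, hc, rfl⟩ := R.phi_surj x
  exact ⟨⟨c, hc⟩, rfl⟩

omit hy hy1 hyz in
theorem img_T_index : ¬ 2 ∣ (R.img T).index := by
  intro hd
  apply h.T_index
  have h1 : (R.img T).index ∣ (T.subgroupOf (cf z)).index :=
    index_map_dvd _ (R.hom_surj (T := T) h)
  exact hd.trans h1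

theorem img_T_fix {x : H} (hx : x ∈ R.img T) : x • R.pi y = R.pi y := by
  obtain ⟨t, ht, rfl⟩ := (R.mem_img h.T_le_cf).mp hx
  rw [R.act t (h.T_le_cf ht) y (h.V_le hy),
    R.pi_eq h (conj_mem_wf (h.T_le_cf ht) (h.V_le hy)) (h.V_le hy)]
  exact h.ln.conj_cases h.ln.z_mem hy h.ln.z_ne (h.ln.z_comm (h.ln.T_le ht)) (h.ln.T_norm ht)

/-- LEMMA FIX in `M` -/
theorem fixI [Finite G] {f : G} (hf : f ∈ jj V cf) (hT : ∀ x ∈ R.img T, x • R.pi f = R.pi f) :
    R.pi f = 0 ∨ R.pi f = R.pi y := by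
  have hz := h.ln.z_mem
  have hz1 := h.ln.z_ne
  have hfW := Fam.jj_le hz hz1 hf
  have hfV : f ∈ V := by
    refine h.fix hf fun t ht _ => ?_
    have h1 := hT _ ((R.mem_img h.T_le_cf).mpr ⟨t, ht, rfl⟩)
    rw [R.act t (h.T_le_cf ht) f hfW, R.pi_eq h (conj_mem_wf (h.T_le_cf ht) hfW) hfW] at h1
    exact h1
  rcases h.ln.four hz hy hz1 hy1 (Ne.symm hyz) hfV with e | e | e | e
  · left; rw [e, R.pi_one h]
  · left; rw [e, R.pi_z h]
  · right; rw [e]
  · right; rw [e, R.pi_mul z h.z_mem_ww y (h.V_le hy), R.pi_z h, zero_add]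

end pt

/-! ### the image `A` of `W_p`, `p ∈ V`, `p ≠ 1` -/

section A

variable (R : MRep V cf z M H) (h : Fam T V z cf) {y p : G} (hy : y ∈ V) (hy1 : y ≠ 1) (hyz : y ≠ z)
  (hp : p ∈ V) (hp1 : p ≠ 1)
include h

/-- `[m, a] = pi [a, w]` -/
theorem comm_eq {c w : G} (hc : c ∈ cf z) (hw : w ∈ ww V cf z) :
    R.phi c • R.pi w - R.pi w = R.pi (c * w * c⁻¹ * w⁻¹) := by
  rw [R.act c hc w hw, R.pi_mul _ (conj_mem_wf hc hw) _ (inv_mem hw), R.pi_inv h hw, sub_eq_add_neg]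

include hp hp1

theorem sq_A {w : G} (hw : w ∈ ww V cf p) : R.phi w * R.phi w = 1 := by
  have hwc := h.ww_le_cf' hp hp1 h.ln.z_mem h.ln.z_ne hw
  rw [← R.phi_mul w hwc w hwc, h.sq hp hp1 w hw, R.phi_one']

theorem comm_A {w w' : G} (hw : w ∈ ww V cf p) (hw' : w' ∈ ww V cf p) :
    R.phi w * R.phi w' = R.phi w' * R.phi w := by
  have hwc := h.ww_le_cf' hp hp1 h.ln.z_mem h.ln.z_ne hw
  have hwc' := h.ww_le_cf' hp hp1 h.ln.z_mem h.ln.z_ne hw'
  rw [← R.phi_mul w hwc w' hwc', h.comm hp hp1 w hw w' hw', R.phi_mul w' hwc' w hwc]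

theorem A_v0 (hy : y ∈ V) {w : G} (hw : w ∈ ww V cf p) : R.phi w • R.pi y = R.pi y :=
  R.cent_v0 h hy (h.ww_le_cent hp hp1 hw)

/-- `A` is quadratic on `M` -/
theorem quad (hpz : p ≠ z) {a b w : G} (ha : a ∈ ww V cf p) (hb : b ∈ ww V cf p) (hw : w ∈ ww V cf z) :
    R.phi a • (R.phi b • R.pi w - R.pi w) = R.phi b • R.pi w - R.pi w := by
  have hz := h.ln.z_mem
  have hz1 := h.ln.z_ne
  have hac := h.ww_le_cf' hp hp1 hz hz1 ha
  have hbc := h.ww_le_cf' hp hp1 hz hz1 hb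
  rw [R.comm_eq h hbc hw]
  have hj := h.comm_mem_jj hp hp1 hz hz1 (Ne.symm hpz) hb hw
  have h1 : b * w * b⁻¹ * w⁻¹ ∈ ww V cf z := Fam.jj_le hz hz1 hj
  rw [R.act a hac _ h1, conj_eq_of_comm (h.comm hp hp1 a ha _ (Fam.jj_le hp hp1 hj))]

/-- `A` is normalized by the stabilizer of `v0` -/
theorem norm_A (hy : y ∈ V) (hy1 : y ≠ 1) (hyz : y ≠ z) [Finite G] {x : H} (hx : x • R.pi y = R.pi y) {w : G}
    (hw : w ∈ ww V cf p) : ∃ w' ∈ ww V cf p, x * R.phi w * x⁻¹ = R.phi w' ∧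
      ∃ d ∈ centralizer (V : Set G), R.phi d = x ∧ w' = d * w * d⁻¹ := by
  have hz := h.ln.z_mem
  have hz1 := h.ln.z_ne
  obtain ⟨d, hd, rfl⟩ := R.stab h hy hy1 hyz hx
  have hdc := h.cent_le_cf hz hz1 hd
  have hwc := h.ww_le_cf' hp hp1 hz hz1 hw
  refine ⟨d * w * d⁻¹, conj_mem_of_normalizer (h.cent_norm hp hp1) hd hw, ?_, d, hd, rfl, rfl⟩
  rw [R.phi_mul _ (mul_mem hdc hwc) _ (inv_mem hdc), R.phi_mul d hdc w hwc, R.phi_inv hdc]

/-- the nonzero `T`-fixed vectors of `[M, a]`, `a ∈ A`, are `v0` -/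
theorem fix_A (hpz : p ≠ z) (hy : y ∈ V) (hy1 : y ≠ 1) (hyz : y ≠ z) [Finite G] {a : G} (ha : a ∈ ww V cf p)
    {m : M} (hT : ∀ x ∈ R.img T, x • (R.phi a • m - m) = R.phi a • m - m) :
    R.phi a • m - m = 0 ∨ R.phi a • m - m = R.pi y := by
  have hz := h.ln.z_mem
  have hz1 := h.ln.z_ne
  obtain ⟨w, hw, rfl⟩ := R.pi_surj m
  have hac := h.ww_le_cf' hp hp1 hz hz1 ha
  rw [R.comm_eq h hac hw] at hT ⊢
  exact R.fixI h hy hy1 hyz (h.comm_mem_jj hp hp1 hz hz1 (Ne.symm hpz) ha hw) hT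

end A

/-! ### the order of `[M, a]` for `k = 1` -/

end MRep

namespace Fam

variable {T V : Subgroup G} {z : G} {cf : G → Subgroup G}

/-- `k = 1`: the image of `W_p` in `C_q/Q_q` has order 2. -/
def One1 (V : Subgroup G) (cf : G → Subgroup G) : Prop :=
  ∀ p ∈ V, p ≠ 1 → ∀ q ∈ V, q ≠ 1 → q ≠ p → ∀ w ∈ ww V cf p, ∀ w' ∈ ww V cf p, w ∉ qq V cf q →
    w' ∉ qq V cf q → w * w' ∈ qq V cf q

/-- it is enough for one pair of points -/
theorem one1_of [Finite G] (h : Fam T V z cf) {p q : G} (hp : p ∈ V) (hp1 : p ≠ 1) (hq : q ∈ V) (hq1 : q ≠ 1)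
    (hqp : q ≠ p) (hk : ∀ w ∈ ww V cf p, ∀ w' ∈ ww V cf p, w ∉ qq V cf q → w' ∉ qq V cf q → w * w' ∈ qq V cf q) :
    One1 V cf := by
  intro p' hp' hp1' q' hq' hq1' hqp' w hw w' hw' hwq hwq'
  obtain ⟨g, hg, e1, e2⟩ := h.trans2 hp' hp1' hq' hq1' hqp' hp hp1 hq hq1 hqp
  have h1 := h.conj_ww hg hp' hp1' hw
  have h2 := h.conj_ww hg hp' hp1' hw'
  rw [e1] at h1 h2
  have hback : ∀ x, g * x * g⁻¹ ∈ qq V cf q → x ∈ qq V cf q' := by
    intro x hx
    have := h.conj_qq (inv_mem hg) hq hq1 hx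
    have e3 : g⁻¹ * q * g⁻¹⁻¹ = q' := by rw [← e2]; group
    have e4 : g⁻¹ * (g * x * g⁻¹) * g⁻¹⁻¹ = x := by group
    rwa [e3, e4] at this
  apply hback
  have h3 := hk _ h1 _ h2 (fun e => hwq (hback _ e)) (fun e => hwq' (hback _ e))
  have e : g * w * g⁻¹ * (g * w' * g⁻¹) = g * (w * w') * g⁻¹ := by group
  rwa [e] at h3

/-- some element of `W_p` is not in `Q_q` -/
theorem exists_not_qq [Finite G] (h : Fam T V z cf) {p q : G} (hp : p ∈ V) (hp1 : p ≠ 1) (hq : q ∈ V) (hq1 : q ≠ 1)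
    (hqp : q ≠ p) : ∃ w ∈ ww V cf p, w ∉ qq V cf q := by
  by_contra hcon
  push Not at hcon
  have h1 : ∀ w ∈ ww V cf q, w ∈ qq V cf p := by
    intro w hw
    obtain ⟨g, hg, e1, e2⟩ := h.trans2 hp hp1 hq hq1 hqp hq hq1 hp hp1 (Ne.symm hqp)
    have h2 := h.conj_ww (inv_mem hg) hq hq1 hw
    have e3 : g⁻¹ * q * g⁻¹⁻¹ = p := by rw [← e1]; group
    rw [e3] at h2
    have h3 := h.conj_qq hg hq hq1 (hcon _ h2)
    have e4 : g * (g⁻¹ * w * g⁻¹⁻¹) * g⁻¹ = w := by group
    rwa [e2, e4] at h3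
  obtain ⟨a, ha, b, hb, hab⟩ := h.nc' hp hp1 hq hq1 hqp
  exact hab (h.w1_comm hp hq hqp ha (hcon a ha) hb (h1 b hb))

/-- (0.1): `O₂(C_z / Q_z) = 1` -/
theorem o2h [Finite G] (h : Fam T V z cf) {N : Subgroup G} (hN : N ≤ cf z)
    (hn : cf z ≤ normalizer (N : Set G)) (h2 : ∀ n ∈ N, ∃ k : ℕ, n ^ 2 ^ k ∈ qq V cf z) : N ≤ qq V cf z := by
  obtain ⟨M, H, _, _, _, _, _, _, ⟨R⟩⟩ := h.exists_mrep
  obtain ⟨y, hy, hy1, hyz⟩ := h.ln.exists_y
  have hfact : Fact (Nat.Prime 2) := ⟨Nat.prime_two⟩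
  have hpow : ∀ c ∈ cf z, ∀ k : ℕ, R.phi (c ^ k) = R.phi c ^ k := by
    intro c hc k
    exact map_pow R.hom ⟨c, hc⟩ k
  have hp2 : IsPGroup 2 (R.img N) := by
    rintro ⟨x, hx⟩
    obtain ⟨n, hn', rfl⟩ := (R.mem_img hN).mp hx
    obtain ⟨k, hk⟩ := h2 n hn'
    refine ⟨k, Subtype.ext ?_⟩
    change R.phi n ^ 2 ^ k = 1
    rw [← hpow n (hN hn'), (R.phi_ker _ (pow_mem (hN hn') _)).mpr hk]
  have hnorm : (R.img N).Normal := by
    refine ⟨fun x hx g => ?_⟩
    obtain ⟨n, hn', rfl⟩ := (R.mem_img hN).mp hx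
    obtain ⟨c, hc, rfl⟩ := R.phi_surj g
    refine (R.mem_img hN).mpr ⟨c * n * c⁻¹, conj_mem_of_normalizer hn hc hn', ?_⟩
    rw [R.phi_mul _ (mul_mem hc (hN hn')) _ (inv_mem hc), R.phi_mul c hc n (hN hn'), R.phi_inv hc]
  let S : Sylow 2 H := (R.img_T_two h).toSylow (R.img_T_index h)
  have hle : R.img N ≤ R.img T := IsPGroup.le_sylow_of_normal hp2 S
  intro n hn'
  rw [← R.phi_ker n (hN hn')]
  -- it fixes all `x • v0`
  have hfix : ∀ x : H, R.phi n • x • R.pi y = x • R.pi y := by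
    intro x
    have h3 : x⁻¹ * R.phi n * x ∈ R.img N := by
      have := hnorm.conj_mem _ ((R.mem_img hN).mpr ⟨n, hn', rfl⟩) x⁻¹
      rwa [inv_inv] at this
    have h4 := R.img_T_fix h hy hy1 hyz (hle h3)
    calc R.phi n • x • R.pi y = x • ((x⁻¹ * R.phi n * x) • R.pi y) := by
          rw [← mul_smul, ← mul_smul]; congr 1; group
      _ = x • R.pi y := by rw [h4]
  refine FaithfulSMul.eq_of_smul_eq_smul (M := H) (α := M) fun m => ?_
  rw [one_smul]
  have hm : m ∈ AddSubgroup.closure (Set.range fun x : H => x • R.pi y) := by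
    rw [R.span h hy hy1 hyz]; trivial
  induction hm using AddSubgroup.closure_induction with
  | mem m hm =>
    obtain ⟨x, rfl⟩ := hm
    exact hfix x
  | zero => exact smul_zero _
  | add a b _ _ ha hb => rw [smul_add, ha, hb]
  | neg a _ ha => rw [smul_neg, ha]

end Fam

end Cfsg.Agent.Omega.NO3S.Fit

end

section


/-!
# NO-3S, `q = 2`, `n = 1` (helper311's text #13963): from nilpotent normal subgroups of `H` to normal `p`-subgroups

`Fam.exists_pgroup_of_not_cen` : `N` a nilpotent normal subgroup of `H` which is not centralized by the image `A` of `W_y`: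
`A` does not centralize some normal `p`-subgroup of `H`, `p ≠ 2`.
-/

set_option autoImplicit false
set_option linter.unusedSectionVars false

namespace Cfsg.Agent.Omega.NO3S.Fit

open Subgroup Cfsg Cfsg.Agent.ZN Cfsg.Agent.MinSimple.Geo Cfsg.Agent.Omega.CaseL
open Cfsg.Agent.ZN.Block (conj_mem_of_normalizer conj_mem_of_normalizer' le_normalizer_of_forall
  mem_normalizer_of)

universe u

variable {G : Type u} [Group G]

namespace Fam

variable {T V : Subgroup G} {z : G} {cf : G → Subgroup G} {M H : Type u} [AddCommGroup M] [Group H]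
  [DistribMulAction H M]

/-- a normal 2-subgroup of `H` is trivial -/
theorem eq_bot_of_two [Finite G] (h : Fam T V z cf) (R : MRep V cf z M H) {F : Subgroup H} (hF : F.Normal)
    (h2 : IsPGroup 2 F) : F = ⊥ := by
  have hpow : ∀ c ∈ cf z, ∀ k : ℕ, R.phi (c ^ k) = R.phi c ^ k := by
    intro c hc k
    exact map_pow R.hom ⟨c, hc⟩ k
  have hle : R.pre F ≤ qq V cf z := by
    refine h.o2h (R.pre_le F) ?_ ?_
    · refine le_normalizer_of_forall fun c hc n hn => ?_
      obtain ⟨h1, h3⟩ := R.mem_pre.mp hn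
      refine R.mem_pre.mpr ⟨mul_mem (mul_mem hc h1) (inv_mem hc), ?_⟩
      rw [R.phi_mul _ (mul_mem hc h1) _ (inv_mem hc), R.phi_mul c hc n h1, R.phi_inv hc]
      exact hF.conj_mem _ h3 _
    · intro n hn
      obtain ⟨h1, h3⟩ := R.mem_pre.mp hn
      obtain ⟨k, hk⟩ := h2 ⟨_, h3⟩
      refine ⟨k, ?_⟩
      rw [← R.phi_ker _ (pow_mem h1 _), hpow n h1]
      exact congrArg Subtype.val hk
  rw [eq_bot_iff]
  intro f hf
  obtain ⟨c, hc, rfl⟩ := R.phi_surj f
  rw [mem_bot]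
  exact (R.phi_ker c hc).mpr (hle (R.mem_pre.mpr ⟨hc, hf⟩))

/-- **(d)** -/
theorem exists_pgroup_of_not_cen [Finite G] (h : Fam T V z cf) (R : MRep V cf z M H) {y : G} {N : Subgroup H}
    (hN : N.Normal) (hnil : Group.IsNilpotent N)
    (hne : ∃ w ∈ ww V cf y, ∃ n ∈ N, R.phi w * n ≠ n * R.phi w) :
    ∃ p, p.Prime ∧ p ≠ 2 ∧ ∃ F : Subgroup H, F.Normal ∧ IsPGroup p F ∧
      ∃ w ∈ ww V cf y, ∃ f ∈ F, R.phi w * f ≠ f * R.phi w := by
  classical
  have hfinH : Finite H := by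
    have : Function.Surjective R.hom := R.hom_surj h
    exact Finite.of_surjective _ this
  obtain ⟨w, hw, n, hn, hne⟩ := hne
  set a := R.phi w with ha
  let K : Subgroup N := (centralizer ({a} : Set H)).subgroupOf N
  have hK : ∀ x : N, x ∈ K ↔ a * x = x * a := by
    intro x
    rw [mem_subgroupOf, mem_centralizer_singleton_iff]
    exact ⟨fun e => e.symm, fun e => e.symm⟩
  obtain ⟨p, hp, hpK⟩ : ∃ p, p.Prime ∧ p ∣ K.index := by
    by_contra hcon
    push Not at hcon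
    have h1 : K.index = 1 := by
      by_contra h2
      obtain ⟨p, hp, hd⟩ := Nat.exists_prime_and_dvd h2
      exact hcon p hp hd
    have h2 : (⟨n, hn⟩ : N) ∈ K := by
      rw [index_eq_one.mp h1]; exact mem_top _
    exact hne ((hK _).mp h2)
  have : Fact p.Prime := ⟨hp⟩
  obtain ⟨P⟩ : Nonempty (Sylow p N) := inferInstance
  have hPn : (P : Subgroup N).Normal := by
    have := (Group.isNilpotent_of_finite_tfae (G := N)).out 0 3
    exact (this.mp hnil) p ⟨hp⟩ P
  have hPK : ¬ (P : Subgroup N) ≤ K := by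
    intro hle
    exact P.not_dvd_index (hpK.trans (index_dvd_of_le hle))
  have hPc : (P : Subgroup N).Characteristic := P.characteristic_of_normal hPn
  set F : Subgroup H := (P : Subgroup N).map N.subtype with hF
  have hFn : F.Normal := ConjAct.normal_of_characteristic_of_normal
  have hFp : IsPGroup p F := P.isPGroup'.map _
  obtain ⟨x, hx, hxK⟩ := SetLike.not_le_iff_exists.mp hPK
  have hxF : (x : H) ∈ F := ⟨x, hx, rfl⟩
  have hxa : a * (x : H) ≠ x * a := fun e => hxK ((hK x).mpr e)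
  refine ⟨p, hp, ?_, F, hFn, hFp, w, hw, x, hxF, hxa⟩
  rintro rfl
  have h1 := h.eq_bot_of_two R hFn hFp
  rw [h1, mem_bot] at hxF
  rw [hxF, mul_one, one_mul] at hxa
  exact hxa rfl

end Fam

end Cfsg.Agent.Omega.NO3S.Fit

end

private theorem dce_aafff21fffda : _root_.True := by
  try have : _root_.True := by simp only [_root_.Cfsg.Agent.Omega.NO3S.Fit.kk.eq_1]
  exact _root_.True.intro
end

-- part: Mrg/Omega/NO3S/TwoOne/Irr
section
prune_inst 0xc01006105322000000180500800022501800000000670001e140020007088541e0410701906032001112aa64203e802002cc00494018000020008200411805a1042a22c29048100021000040f885180c00000000000000000000000000000000000000000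
set_option linter.all false
open scoped Cfsg.Agent.FastGrp

section


/-!
# NO-3S, `q = 2`, `n = 1` (helper881's text #13700): (I), (II), (VI)

`M = W_z/⟨z⟩`, `H = C_G(z)/K_z`.  Submodules of `M` are the subgroups `X` with `IsSub V z X`.
`ll V z = ⟨W_y : y ~ z⟩` (it covers `H⁰`), `cm V z` the preimage of `C_M(H⁰)`.

* `One.lemma_i` (I) : a proper submodule meets `I = ii V` in `⟨z⟩`;
* `One.le_kq` : `O₂(H) = 1`;
* `One.eq_ws_of_comm` (II) : `M = [M, H⁰]`;
* `One.le_cm`, `One.cm_ne` (II) : `M/C_M(H⁰)` is irreducible;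
* `One.faithful` (II) : `M/C_M(H⁰)` is faithful for `H`;
* `One.plane_line`, `One.plane_trans` (VI) : planes.
-/

set_option autoImplicit false
set_option linter.unusedSectionVars false

namespace Cfsg.Agent.Omega.NO3S.TwoOne

open Subgroup Cfsg Cfsg.Agent.ZN Cfsg.Agent.MinSimple.Geo Cfsg.Agent.Omega.CaseL
open Cfsg.Agent.ZN.Block (conj_mem_of_normalizer conj_mem_of_normalizer' le_normalizer_of_forall
  mem_normalizer_of)

universe u

variable {G : Type u} [Group G]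

/-- `X/⟨z⟩` is a submodule of `W_z/⟨z⟩` -/
structure IsSub (V : Subgroup G) (z : G) (X : Subgroup G) : Prop where
  z_mem : z ∈ X
  le : X ≤ ws V z
  norm : centralizer ({z} : Set G) ≤ normalizer (X : Set G)

/-- the points collinear with `z` -/
def nb (V : Subgroup G) (z : G) : Set G := {y | ∃ L ∈ lines V z, y ∈ L ∧ y ≠ 1 ∧ y ≠ z}

/-- `⟨W_y : y ~ z⟩` -/
def ll (V : Subgroup G) (z : G) : Subgroup G := ⨆ y : nb V z, ws V (y : G)

theorem ws_le_ll {V : Subgroup G} {z y : G} (hy : y ∈ nb V z) : ws V y ≤ ll V z :=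
  le_iSup (fun y : nb V z => ws V (y : G)) ⟨y, hy⟩

theorem ll_le {V : Subgroup G} {z : G} {X : Subgroup G} (h : ∀ y ∈ nb V z, ws V y ≤ X) : ll V z ≤ X :=
  iSup_le fun y => h y y.2

theorem conj_mem_nb {V : Subgroup G} {z y c : G} (hc : c ∈ centralizer ({z} : Set G)) (hy : y ∈ nb V z) :
    c * y * c⁻¹ ∈ nb V z := by
  obtain ⟨L, hL, hyL, hy1, hyz⟩ := hy
  have hcz : c * z * c⁻¹ = z := conj_eq_of_comm (mem_centralizer_singleton_iff.mp hc)
  have h1 := mem_lines_cj (g := c) hL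
  rw [hcz] at h1
  refine ⟨_, h1, conj_mem_cj hyL, fun e => hy1 (conj_eq_one_iff.mp e), fun e => hyz ?_⟩
  rw [← hcz] at e
  simpa using e

theorem centralizer_le_normalizer_ll (V : Subgroup G) (z : G) :
    centralizer ({z} : Set G) ≤ normalizer ((ll V z : Subgroup G) : Set G) := by
  have key : ∀ c ∈ centralizer ({z} : Set G), ll V z ≤ cj c⁻¹ (ll V z) := by
    intro c hc
    refine ll_le fun y hy => ?_
    rw [← cj_le_iff, cj_ws]
    exact ws_le_ll (conj_mem_nb hc hy)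
  refine le_normalizer_of_forall fun c hc a ha => ?_
  have h1 := key c hc ha
  rw [mem_cj, inv_inv] at h1
  exact h1

namespace One

variable {T V : Subgroup G} {z : G}

theorem mem_nb (h : One T V z) {y : G} (hy : y ∈ V) (hy1 : y ≠ 1) (hyz : y ≠ z) : y ∈ nb V z :=
  ⟨V, h.ln.V_mem_lines, hy, hy1, hyz⟩

/-- every line on a point gives the same situation -/
theorem of_line (h : One T V z) {L : Subgroup G} {p : G} (hL : L ∈ lines V p) (hp1 : p ≠ 1) :
    ∃ g : G, L = cj g V ∧ ∃ T', One T' L p := by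
  obtain ⟨⟨g, rfl⟩, hp⟩ := hL
  rw [mem_cj] at hp
  have hp1' : g⁻¹ * p * g ≠ 1 := fun e => hp1 (by
    have : p = g * (g⁻¹ * p * g) * g⁻¹ := by group
    rw [this, e]; group)
  obtain ⟨k, hk, -, hk3⟩ := h.point hp hp1'
  have h1 := hk3.conj g
  have e : g * (g⁻¹ * p * g) * g⁻¹ = p := by group
  rw [e] at h1
  exact ⟨g, rfl, _, h1⟩

/-- `[a, w] ∈ I` for `a ∈ W_p`, `w ∈ W_q`, `p, q` distinct points of `V` -/
theorem comm_mem_ii (h : One T V z) {p q : G} (hp : p ∈ V) (hp1 : p ≠ 1) (hq : q ∈ V) (hq1 : q ≠ 1)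
    (hqp : q ≠ p) {a w : G} (ha : a ∈ ws V p) (hw : w ∈ ws V q) : a * w * a⁻¹ * w⁻¹ ∈ ii V := by
  refine h.mem_ii hp hp1 hq hq1 hqp ?_ ?_
  · have e : a * w * a⁻¹ * w⁻¹ = a * (w * a⁻¹ * w⁻¹) := by group
    rw [e]
    exact mul_mem ha (conj_mem_of_normalizer (h.cent_norm hp) (h.ws_le_centralizer_V hq hq1 hw)
      (inv_mem ha))
  · exact mul_mem (conj_mem_of_normalizer (h.cent_norm hq) (h.ws_le_centralizer_V hp hp1 ha) hw)
      (inv_mem hw)

variable {X : Subgroup G}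

/-- a submodule containing `V` is everything -/
theorem eq_ws_of_V_le (h : One T V z) (hX : IsSub V z X) (hV : V ≤ X) : X = ws V z := by
  refine le_antisymm hX.le (ws_le fun L hL => ?_)
  obtain ⟨c, hc, rfl⟩ := h.ln.exists_of_mem_lines hL
  rw [cj_le_iff]
  have : cj c⁻¹ X = X := cj_eq_of_mem_normalizer (inv_mem (hX.norm hc))
  rw [this]; exact hV

theorem inf_V (h : One T V z) (hX : IsSub V z X) (hne : X ≠ ws V z) {v : G} (hv : v ∈ V) (hvX : v ∈ X) :
    v = 1 ∨ v = z := by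
  by_contra hcon
  push Not at hcon
  apply hne
  refine h.eq_ws_of_V_le hX fun x hx => ?_
  rcases h.ln.four h.ln.z_mem hv h.ln.z_ne hcon.1 (Ne.symm hcon.2) hx with e | e | e | e
  · rw [e]; exact one_mem _
  · rw [e]; exact hX.z_mem
  · rw [e]; exact hvX
  · rw [e]; exact mul_mem hX.z_mem hvX

/-- **(I) LEMMA I.** A proper submodule meets `I` in `⟨z⟩`. -/
theorem lemma_i [Finite G] (h : One T V z) (hX : IsSub V z X) (hne : X ≠ ws V z) {u : G} (hu : u ∈ X)
    (hui : u ∈ ii V) : u = 1 ∨ u = z := by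
  by_contra hcon
  push Not at hcon
  have hz := h.ln.z_mem
  have hz1 := h.ln.z_ne
  have huV : u ∉ V := fun e => by
    rcases h.inf_V hX hne e hu with e' | e'
    · exact hcon.1 e'
    · exact hcon.2 e'
  have huzV : z * u ∉ V := fun e => huV (by
    have := mul_mem hz e
    rwa [← mul_assoc, h.ln.zz, one_mul] at this)
  have huzi : z * u ∈ ii V := mul_mem (h.V_le_ii hz) hui
  obtain ⟨y, hy, hy1, hyz⟩ := h.ln.exists_y
  obtain ⟨g, -, hgu, hgz⟩ := h.ftwo hui huV hz hz1 hy hy1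
  obtain ⟨k, -, hku, hkz⟩ := h.ftwo huzi huzV hz hz1 hy hy1
  -- `u` and `z u` are in `X^g = X^k`
  have hgk : g⁻¹ * k ∈ centralizer ({z} : Set G) := by
    rw [mem_centralizer_singleton_iff]
    refine comm_of_conj_eq ?_
    calc g⁻¹ * k * z * (g⁻¹ * k)⁻¹ = g⁻¹ * (k * z * k⁻¹) * g := by group
      _ = g⁻¹ * (g * z * g⁻¹) * g := by rw [hkz, hgz]
      _ = z := by group
  have h1 : g⁻¹ * u * g ∈ X := by
    have e : g⁻¹ * u * g = u := by
      calc g⁻¹ * u * g = g⁻¹ * (u * g) := by group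
        _ = g⁻¹ * (g * u) := by rw [hgu]
        _ = u := by group
    rw [e]; exact hu
  have h2 : g⁻¹ * (z * u) * g ∈ X := by
    have e : g⁻¹ * (z * u) * g = (g⁻¹ * k) * (z * u) * (g⁻¹ * k)⁻¹ := by
      have : k * (z * u) * k⁻¹ = z * u := conj_eq_of_comm hku
      calc g⁻¹ * (z * u) * g = g⁻¹ * (k * (z * u) * k⁻¹) * g := by rw [this]
        _ = (g⁻¹ * k) * (z * u) * (g⁻¹ * k)⁻¹ := by group
    rw [e]
    exact conj_mem_of_normalizer hX.norm hgk (mul_mem hX.z_mem hu)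
  have h3 : g⁻¹ * z * g ∈ X := by
    have e : g⁻¹ * z * g = g⁻¹ * (z * u) * g * (g⁻¹ * u * g)⁻¹ := by group
    rw [e]
    exact mul_mem h2 (inv_mem h1)
  -- `g⁻¹ z g` is a point of `V` different from `z`
  obtain ⟨g', hg'n, hg'u, hg'z⟩ := h.ftwo hui huV hz hz1 hy hy1
  have hgg : g⁻¹ * g' ∈ centralizer ({z} : Set G) := by
    rw [mem_centralizer_singleton_iff]
    refine comm_of_conj_eq ?_
    calc g⁻¹ * g' * z * (g⁻¹ * g')⁻¹ = g⁻¹ * (g' * z * g'⁻¹) * g := by group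
      _ = g⁻¹ * (g * z * g⁻¹) * g := by rw [hg'z, hgz]
      _ = z := by group
  have h4 : g'⁻¹ * z * g' ∈ X := by
    have e : g'⁻¹ * z * g' = (g⁻¹ * g')⁻¹ * (g⁻¹ * z * g) * (g⁻¹ * g') := by group
    rw [e]
    exact conj_mem_of_normalizer' hX.norm hgg h3
  have h5 : g'⁻¹ * z * g' ∈ V := (mem_normalizer_iff''.mp hg'n z).mp hz
  rcases h.inf_V hX hne h5 h4 with e | e
  · apply hz1
    calc z = g' * (g'⁻¹ * z * g') * g'⁻¹ := by group
      _ = 1 := by rw [e]; group
  · apply hyz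
    rw [← hg'z]
    calc g' * z * g'⁻¹ = g' * (g'⁻¹ * z * g') * g'⁻¹ := by rw [e]
      _ = z := by group

/-- (I): `[X, W_p] ≤ ⟨z⟩` for a proper submodule `X`. -/
theorem comm_sub [Finite G] (h : One T V z) (hX : IsSub V z X) (hne : X ≠ ws V z) {p : G} (hp : p ∈ V)
    (hp1 : p ≠ 1) (hpz : p ≠ z) {a x : G} (ha : a ∈ ws V p) (hx : x ∈ X) :
    a * x * a⁻¹ * x⁻¹ ∈ zpowers z := by
  have hz := h.ln.z_mem
  have hz1 := h.ln.z_ne
  have haC : a ∈ centralizer ({z} : Set G) := h.cent_le_centralizer hz (h.ws_le_centralizer_V hp hp1 ha)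
  rw [mem_zpowers_iff_of_mul_self h.ln.zz]
  exact h.lemma_i hX hne (mul_mem (conj_mem_of_normalizer hX.norm haC hx) (inv_mem hx))
    (h.comm_mem_ii hp hp1 hz hz1 (Ne.symm hpz) ha (hX.le hx))

end One

theorem conj_zpowers {z c y : G} (hc : c ∈ centralizer ({z} : Set G)) (hy : y ∈ zpowers z) :
    c * y * c⁻¹ = y := by
  obtain ⟨n, rfl⟩ := mem_zpowers_iff.mp hy
  have h : Commute c z := mem_centralizer_singleton_iff.mp hc
  rw [(h.zpow_right n).eq, mul_inv_cancel_right]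

/-- the preimage of `C_M(H⁰)` -/
def cm (V : Subgroup G) (z : G) : Subgroup G where
  carrier := {w | w ∈ ws V z ∧ w ∈ centralizer ({z} : Set G) ∧
    ∀ y ∈ nb V z, ∀ a ∈ ws V y, a * w * a⁻¹ * w⁻¹ ∈ zpowers z}
  mul_mem' := by
    rintro v w ⟨hv, hvz, hv1⟩ ⟨hw, hwz, hw1⟩
    refine ⟨mul_mem hv hw, mul_mem hvz hwz, fun y hy a ha => ?_⟩
    have e : a * (v * w) * a⁻¹ * (v * w)⁻¹ = (a * v * a⁻¹ * v⁻¹) * (v * (a * w * a⁻¹ * w⁻¹) * v⁻¹) := by
      group
    rw [e, conj_zpowers hvz (hw1 y hy a ha)]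
    exact mul_mem (hv1 y hy a ha) (hw1 y hy a ha)
  one_mem' := ⟨one_mem _, one_mem _, fun y hy a ha => by simp⟩
  inv_mem' := by
    rintro w ⟨hw, hwz, hw1⟩
    refine ⟨inv_mem hw, inv_mem hwz, fun y hy a ha => ?_⟩
    have e : a * w⁻¹ * a⁻¹ * w⁻¹⁻¹ = w⁻¹ * (a * w * a⁻¹ * w⁻¹)⁻¹ * w⁻¹⁻¹ := by group
    rw [e, conj_zpowers (inv_mem hwz) (inv_mem (hw1 y hy a ha))]
    exact inv_mem (hw1 y hy a ha)

theorem cm_le (V : Subgroup G) (z : G) : cm V z ≤ ws V z := fun _ h => h.1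

namespace One

variable {T V : Subgroup G} {z : G}

theorem ws_le_cent [Finite G] (h : One T V z) : ws V z ≤ centralizer ({z} : Set G) := h.ln.ws_le_centralizer

/-- `W_y ≤ C(z)` for `y ~ z` -/
theorem nb_le_cent (h : One T V z) {y : G} (hy : y ∈ nb V z) : ws V y ≤ centralizer ({z} : Set G) := by
  obtain ⟨L, hL, hyL, hy1, hyz⟩ := hy
  obtain ⟨c, hc, rfl⟩ := h.ln.exists_of_mem_lines hL
  have hy' : c⁻¹ * y * c ∈ V := mem_of_cj hyL
  have hy1' : c⁻¹ * y * c ≠ 1 := fun e => hy1 (by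
    have : y = c * (c⁻¹ * y * c) * c⁻¹ := by group
    rw [this, e]; group)
  intro a ha
  have h1 : c⁻¹ * a * c ∈ ws V (c⁻¹ * y * c) := by
    have := conj_mem_ws c⁻¹ ha
    rwa [inv_inv] at this
  have h2 := h.cent_le_centralizer h.ln.z_mem (h.ws_le_centralizer_V hy' hy1' h1)
  have e : a = c * (c⁻¹ * a * c) * c⁻¹ := by group
  rw [e]
  exact mul_mem (mul_mem hc h2) (inv_mem hc)

theorem ll_le_cent (h : One T V z) : ll V z ≤ centralizer ({z} : Set G) := ll_le fun _ hy => h.nb_le_cent hy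

/-- for `y ~ z` the pair `(z, y)` is conjugate under `C(z)` to a pair on `V` -/
theorem nb_cases (h : One T V z) {y : G} (hy : y ∈ nb V z) :
    ∃ c ∈ centralizer ({z} : Set G), ∃ y' ∈ V, y' ≠ 1 ∧ y' ≠ z ∧ y = c * y' * c⁻¹ := by
  obtain ⟨L, hL, hyL, hy1, hyz⟩ := hy
  obtain ⟨c, hc, rfl⟩ := h.ln.exists_of_mem_lines hL
  refine ⟨c, hc, c⁻¹ * y * c, mem_of_cj hyL, fun e => hy1 ?_, fun e => hyz ?_, by group⟩
  · have : y = c * (c⁻¹ * y * c) * c⁻¹ := by group
    rw [this, e]; group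
  · have : y = c * (c⁻¹ * y * c) * c⁻¹ := by group
    rw [this, e]
    exact conj_eq_of_comm (mem_centralizer_singleton_iff.mp hc)

/-- (I): `[X, W_y] ≤ ⟨z⟩` for all `y ~ z`, for a proper submodule `X`: `X ≤ cm V z`. -/
theorem le_cm [Finite G] (h : One T V z) {X : Subgroup G} (hX : IsSub V z X) (hne : X ≠ ws V z) :
    X ≤ cm V z := by
  intro x hx
  refine ⟨hX.le hx, h.ws_le_cent (hX.le hx), fun y hy a ha => ?_⟩
  obtain ⟨c, hc, y', hy', hy1', hyz', rfl⟩ := h.nb_cases hy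
  have h1 : c⁻¹ * a * c ∈ ws V y' := by
    have := conj_mem_ws c⁻¹ ha
    have e : c⁻¹ * (c * y' * c⁻¹) * c⁻¹⁻¹ = y' := by group
    rwa [e, inv_inv] at this
  have h2 := h.comm_sub hX hne hy' hy1' hyz' h1 (conj_mem_of_normalizer' hX.norm hc hx)
  have e : a * x * a⁻¹ * x⁻¹ =
      c * (c⁻¹ * a * c * (c⁻¹ * x * c) * (c⁻¹ * a * c)⁻¹ * (c⁻¹ * x * c)⁻¹) * c⁻¹ := by group
  rw [e, conj_zpowers hc h2]
  exact h2

theorem mem_cm [Finite G] (h : One T V z) {w a : G} (hw : w ∈ cm V z) (ha : a ∈ ll V z) :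
    a * w * a⁻¹ * w⁻¹ ∈ zpowers z := by
  let A : Subgroup G :=
    { carrier := {a | a ∈ centralizer ({z} : Set G) ∧ a * w * a⁻¹ * w⁻¹ ∈ zpowers z}
      mul_mem' := by
        rintro a b ⟨ha, ha1⟩ ⟨hb, hb1⟩
        refine ⟨mul_mem ha hb, ?_⟩
        have e : a * b * w * (a * b)⁻¹ * w⁻¹ = a * (b * w * b⁻¹ * w⁻¹) * a⁻¹ * (a * w * a⁻¹ * w⁻¹) := by
          group
        rw [e, conj_zpowers ha hb1]
        exact mul_mem hb1 ha1
      one_mem' := ⟨one_mem _, by simp⟩
      inv_mem' := by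
        rintro a ⟨ha, ha1⟩
        refine ⟨inv_mem ha, ?_⟩
        have e : a⁻¹ * w * a⁻¹⁻¹ * w⁻¹ = a⁻¹ * (a * w * a⁻¹ * w⁻¹)⁻¹ * a⁻¹⁻¹ := by group
        rw [e, conj_zpowers (inv_mem ha) (inv_mem ha1)]
        exact inv_mem ha1 }
  exact (ll_le (X := A) (fun y hy a ha => ⟨h.nb_le_cent hy ha, hw.2.2 y hy a ha⟩) ha).2

theorem isSub_cm [Finite G] (h : One T V z) : IsSub V z (cm V z) where
  z_mem := by
    have hz := h.ln.V_le_ws h.ln.z_mem
    refine ⟨hz, h.ws_le_cent hz, fun y hy a ha => ?_⟩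
    rw [conj_zpowers (h.nb_le_cent hy ha) (mem_zpowers z), mul_inv_cancel]
    exact one_mem _
  le := cm_le V z
  norm := by
    refine le_normalizer_of_forall fun c hc w hw => ?_
    have hcz : c * z * c⁻¹ = z := conj_eq_of_comm (mem_centralizer_singleton_iff.mp hc)
    refine ⟨?_, mul_mem (mul_mem hc hw.2.1) (inv_mem hc), fun y hy a ha => ?_⟩
    · have := conj_mem_ws c hw.1
      rwa [hcz] at this
    · have hy' : c⁻¹ * y * c ∈ nb V z := by
        have := conj_mem_nb (inv_mem hc) hy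
        rwa [inv_inv] at this
      have ha' : c⁻¹ * a * c ∈ ws V (c⁻¹ * y * c) := by
        have := conj_mem_ws c⁻¹ ha
        rwa [inv_inv] at this
      have h1 := hw.2.2 _ hy' _ ha'
      have e : a * (c * w * c⁻¹) * a⁻¹ * (c * w * c⁻¹)⁻¹ =
          c * (c⁻¹ * a * c * w * (c⁻¹ * a * c)⁻¹ * w⁻¹) * c⁻¹ := by group
      rw [e, conj_zpowers hc h1]
      exact h1

/-- `[W_p, W_q] ≠ 1` for all points `p ≠ q` of `V` -/
theorem exists_nc (h : One T V z) {p q : G} (hp : p ∈ V) (hp1 : p ≠ 1) (hq : q ∈ V) (hq1 : q ≠ 1)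
    (hqp : q ≠ p) : ∃ a ∈ ws V p, ∃ b ∈ ws V q, a * b ≠ b * a := by
  obtain ⟨g, -, -, hg⟩ := h.point hp hp1
  obtain ⟨r, hr, hr1, hrp, a, ha, b, hb, hab⟩ := hg.nc
  rcases h.ln.four hp hr hp1 hr1 (Ne.symm hrp) hq with e | e | e | e
  · exact absurd e hq1
  · exact absurd e hqp
  · subst e; exact ⟨a, ha, b, hb, hab⟩
  · obtain ⟨k, hk, hk1⟩ := h.exists_mover hp hp1
    have e1 := h.move hp hp1 hr hr1 hrp hk hk1
    rw [← e] at e1
    have ha' := conj_mem_ws k ha
    have hb' := conj_mem_ws k hb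
    rw [conj_eq_of_comm (h.kq_p hk)] at ha'
    rw [e1] at hb'
    refine ⟨_, ha', _, hb', fun e' => hab ?_⟩
    calc a * b = k⁻¹ * ((k * a * k⁻¹) * (k * b * k⁻¹)) * k := by group
      _ = k⁻¹ * ((k * b * k⁻¹) * (k * a * k⁻¹)) * k := by rw [e']
      _ = b * a := by group

/-- `[W_y, W_z]` is not contained in `⟨z⟩` -/
theorem not_comm_z (h : One T V z) {y : G} (hy : y ∈ V) (hy1 : y ≠ 1) (hyz : y ≠ z)
    (hcon : ∀ a ∈ ws V y, ∀ w ∈ ws V z, a * w * a⁻¹ * w⁻¹ ∈ zpowers z) : False := by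
  have hz := h.ln.z_mem
  have hz1 := h.ln.z_ne
  -- a mover of `K_{zy}` swaps `z` and `y`
  have hr : z * y ∈ V := mul_mem hz hy
  have hr1 : z * y ≠ 1 := h.mul_ne_one hy (Ne.symm hyz)
  have hrz : z ≠ z * y := fun e => hy1 (by simpa using e.symm)
  have hry : y ≠ z * y := fun e => hz1 (by simpa using e.symm)
  obtain ⟨k, hk, hk1⟩ := h.exists_mover hr hr1
  have e1 : k * z * k⁻¹ = y := by
    rw [h.move hr hr1 hz hz1 hrz hk hk1, h.ln.comm hz hy, mul_assoc, h.ln.zz, mul_one]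
  have e2 : k * y * k⁻¹ = z := by
    rw [h.move hr hr1 hy hy1 hry hk hk1, mul_assoc, h.ln.sq y hy, mul_one]
  obtain ⟨a, ha, b, hb, hab⟩ := h.exists_nc hz hz1 hy hy1 hyz
  have h1 := hcon b hb a ha
  have h2 : a * b * a⁻¹ * b⁻¹ ∈ zpowers z := by
    have := inv_mem h1
    have e : (b * a * b⁻¹ * a⁻¹)⁻¹ = a * b * a⁻¹ * b⁻¹ := by group
    rwa [e] at this
  have ha' : k⁻¹ * a * k ∈ ws V y := by
    have := conj_mem_ws k⁻¹ ha
    have e : k⁻¹ * z * k⁻¹⁻¹ = y := by rw [← e2]; group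
    rwa [e, inv_inv] at this
  have hb' : k⁻¹ * b * k ∈ ws V z := by
    have := conj_mem_ws k⁻¹ hb
    have e : k⁻¹ * y * k⁻¹⁻¹ = z := by rw [← e1]; group
    rwa [e, inv_inv] at this
  have h3 := hcon _ ha' _ hb'
  have h4 : a * b * a⁻¹ * b⁻¹ ∈ zpowers y := by
    obtain ⟨n, hn⟩ := mem_zpowers_iff.mp h3
    refine mem_zpowers_iff.mpr ⟨n, ?_⟩
    rw [← e1, conj_zpow, hn]
    group
  apply hab
  rcases (mem_zpowers_iff_of_mul_self h.ln.zz).mp h2 with e | e
  · calc a * b = (a * b * a⁻¹ * b⁻¹) * (b * a) := by group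
      _ = b * a := by rw [e, one_mul]
  · rcases (mem_zpowers_iff_of_mul_self (h.ln.sq y hy)).mp h4 with e' | e'
    · exact absurd (e.symm.trans e') hz1
    · exact absurd (e'.symm.trans e) hyz

theorem cm_ne [Finite G] (h : One T V z) : cm V z ≠ ws V z := by
  intro e
  obtain ⟨y, hy, hy1, hyz⟩ := h.ln.exists_y
  refine h.not_comm_z hy hy1 hyz fun a ha w hw => ?_
  rw [← e] at hw
  exact hw.2.2 y (h.mem_nb hy hy1 hyz) a ha

/-- (II) `M = [M, H⁰]`, already `M = ⟨[M, A]^H⟩`. -/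
theorem eq_ws_of_comm [Finite G] (h : One T V z) {X : Subgroup G} (hX : IsSub V z X) {y : G} (hy : y ∈ V)
    (hy1 : y ≠ 1) (hyz : y ≠ z)
    (hc : ∀ a ∈ ws V y, ∀ w ∈ ws V z, a * w * a⁻¹ * w⁻¹ ∈ X) : X = ws V z := by
  by_contra hne
  refine h.not_comm_z hy hy1 hyz fun a ha w hw => ?_
  rw [mem_zpowers_iff_of_mul_self h.ln.zz]
  exact h.lemma_i hX hne (hc a ha w hw)
    (h.comm_mem_ii hy hy1 h.ln.z_mem h.ln.z_ne (Ne.symm hyz) ha hw)

/-- (II) `M/C_M(H⁰)` is irreducible. -/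
theorem irr [Finite G] (h : One T V z) {X : Subgroup G} (hX : IsSub V z X) (hcX : cm V z ≤ X) :
    X = cm V z ∨ X = ws V z := by
  by_cases hne : X = ws V z
  · exact Or.inr hne
  · exact Or.inl (le_antisymm (h.le_cm hX hne) hcX)

end One

end Cfsg.Agent.Omega.NO3S.TwoOne

end

section


/-!
# NO-3S, `q = 2`, `n = 1` (helper881's text #13700): (II), faithfulness; (VI) planes

* `One.le_kq` : `O₂(H) = 1`;
* `One.faithful` (II) : `M/C_M(H⁰)` is faithful for `H = C_G(z)/K_z`;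
* `One.plane_line`, `One.plane_act` (VI) : planes.
-/

set_option autoImplicit false
set_option linter.unusedSectionVars false

namespace Cfsg.Agent.Omega.NO3S.TwoOne

open Subgroup Cfsg Cfsg.Agent.ZN Cfsg.Agent.MinSimple.Geo Cfsg.Agent.Omega.CaseL
open Cfsg.Agent.ZN.Block (conj_mem_of_normalizer conj_mem_of_normalizer' le_normalizer_of_forall
  mem_normalizer_of)

universe u

variable {G : Type u} [Group G]

/-- `T` Sylow in `C`, `N` normal in `C`: `T ∩ N` is Sylow in `N`. -/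
theorem not_dvd_relIndex_of_normal [Finite G] {C T N : Subgroup G} (hTC : T ≤ C) (hT : IsPGroup 2 T)
    (hs : ¬ 2 ∣ T.relIndex C) (hNC : N ≤ C) (hn : C ≤ normalizer (N : Set G)) : ¬ 2 ∣ T.relIndex N := by
  have hfact : Fact (Nat.Prime 2) := ⟨Nat.prime_two⟩
  obtain ⟨P⟩ : Nonempty (Sylow 2 N) := inferInstance
  have hA : IsPGroup 2 ((P : Subgroup N).map N.subtype) := P.2.map _
  have hAN : (P : Subgroup N).map N.subtype ≤ N := map_subtype_le _
  obtain ⟨c, hc, hcT⟩ := exists_cj_le_of_sylow hTC hT hs (hAN.trans hNC) hA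
  have h1 : (cj c ((P : Subgroup N).map N.subtype)).relIndex N = (P : Subgroup N).index := by
    have e : cj c N = N := cj_eq_of_mem_normalizer (hn hc)
    have h2 := relIndex_cj c ((P : Subgroup N).map N.subtype) N
    rw [e] at h2
    rw [h2]
    unfold relIndex
    congr 1
    ext x
    simp [mem_subgroupOf]
  intro hd
  apply P.not_dvd_index
  rw [← h1]
  exact hd.trans (relIndex_dvd_of_le_left N hcT)

namespace One

variable {T V : Subgroup G} {z : G}

/-- `C_G(z)` normal subgroups which are 2-groups modulo `K_z` are in `K_z`. -/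
theorem le_kq [Finite G] (h : One T V z) {R : Subgroup G} (hR : R ≤ centralizer ({z} : Set G))
    (hn : centralizer ({z} : Set G) ≤ normalizer (R : Set G)) (h2 : ∀ r ∈ R, ∃ n : ℕ, r ^ 2 ^ n ∈ kq V z) :
    R ≤ kq V z := by
  have hfact : Fact (Nat.Prime 2) := ⟨Nat.prime_two⟩
  have hz := h.ln.z_mem
  have hz1 := h.ln.z_ne
  -- `N(V) ∩ C(z)` covers `R`
  have hodd := not_dvd_relIndex_of_normal h.ln.T_le h.ln.two h.ln.T_syl hR hn
  have hT : T ⊓ R ≤ normalizer (V : Set G) ⊓ R := inf_le_inf_right _ h.ln.T_norm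
  have hodd' : ¬ 2 ∣ (normalizer (V : Set G) ⊓ R).relIndex R := fun hd =>
    hodd (by
      rw [← inf_relIndex_right T R]
      exact hd.trans (relIndex_dvd_of_le_left R hT))
  have hK : kq V z ⊓ R ≤ normalizer (V : Set G) ⊓ R := inf_le_inf_right _ (h.kq_le_normalizer hz hz1)
  have hnorm : ((kq V z).subgroupOf R).Normal :=
    normal_subgroupOf_of_le_normalizer (hR.trans (centralizer_le_normalizer_kq V z))
  have h3 : IsPGroup 2 (R ⧸ (kq V z).subgroupOf R) := by
    intro x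
    obtain ⟨r, rfl⟩ := QuotientGroup.mk_surjective x
    obtain ⟨n, hn'⟩ := h2 r r.2
    refine ⟨n, ?_⟩
    rw [← QuotientGroup.mk_pow, QuotientGroup.eq_one_iff]
    exact mem_subgroupOf.mpr hn'
  obtain ⟨m, hm⟩ := IsPGroup.iff_card.mp h3
  have h4 : (kq V z).relIndex R = 2 ^ m := hm
  have h5 : (normalizer (V : Set G) ⊓ R).relIndex R ∣ 2 ^ m := by
    rw [← h4, ← inf_relIndex_right (kq V z) R]
    exact relIndex_dvd_of_le_left R hK
  have h6 : R ≤ normalizer (V : Set G) := by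
    obtain ⟨k, -, hk⟩ := (Nat.dvd_prime_pow Nat.prime_two).mp h5
    have h7 : (normalizer (V : Set G) ⊓ R).relIndex R = 1 := by
      rcases Nat.eq_zero_or_pos k with e | e
      · rw [hk, e, pow_zero]
      · exact absurd (hk ▸ dvd_pow_self 2 (by omega)) hodd'
    exact (relIndex_eq_one.mp h7).trans inf_le_left
  have h8 : ∀ r ∈ R, ∀ w ∈ ws V z, r * w * r⁻¹ * w⁻¹ ∈ zpowers z := by
    intro r hr
    let A : Subgroup G :=
      { carrier := {w | ∀ r ∈ R, r * w * r⁻¹ * w⁻¹ ∈ zpowers z ∧ w * z = z * w}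
        mul_mem' := by
          intro a b ha hb r hr
          have haz := (ha r hr).2
          have hbz := (hb r hr).2
          refine ⟨?_, mul_comm_of haz hbz⟩
          have e : r * (a * b) * r⁻¹ * (a * b)⁻¹ =
              (r * a * r⁻¹ * a⁻¹) * (a * (r * b * r⁻¹ * b⁻¹) * a⁻¹) := by group
          rw [e, conj_zpowers (mem_centralizer_singleton_iff.mpr haz) (hb r hr).1]
          exact mul_mem (ha r hr).1 (hb r hr).1
        one_mem' := fun r hr => ⟨by simp, by simp⟩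
        inv_mem' := by
          intro a ha r hr
          have haz := (ha r hr).2
          refine ⟨?_, inv_comm_of haz⟩
          have e : r * a⁻¹ * r⁻¹ * a⁻¹⁻¹ = a⁻¹ * (r * a * r⁻¹ * a⁻¹)⁻¹ * a⁻¹⁻¹ := by group
          rw [e, conj_zpowers (inv_mem (mem_centralizer_singleton_iff.mpr haz)) (inv_mem (ha r hr).1)]
          exact inv_mem (ha r hr).1 }
    have hA : ws V z ≤ A := by
      refine ws_le fun L hL => ?_
      obtain ⟨c, hc, rfl⟩ := h.ln.exists_of_mem_lines hL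
      intro x hx r hr
      have hx' := mem_of_cj hx
      have hr' := conj_mem_of_normalizer' hn hc hr
      refine ⟨?_, mem_centralizer_singleton_iff.mp (h.ws_le_cent (le_ws hL hx))⟩
      have h9 : c⁻¹ * r * c * (c⁻¹ * x * c) * (c⁻¹ * r * c)⁻¹ * (c⁻¹ * x * c)⁻¹ ∈ zpowers z := by
        rcases h.ln.conj_cases hz hx' hz1 (mem_centralizer_singleton_iff.mp (hR hr')) (h6 hr') with e | e
        · rw [e, mul_inv_cancel]; exact one_mem _
        · rw [e, mul_inv_cancel_right]; exact mem_zpowers z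
      have e : r * x * r⁻¹ * x⁻¹ =
          c * (c⁻¹ * r * c * (c⁻¹ * x * c) * (c⁻¹ * r * c)⁻¹ * (c⁻¹ * x * c)⁻¹) * c⁻¹ := by group
      rw [e, conj_zpowers hc h9]
      exact h9
    exact fun w hw => (hA hw r hr).1
  intro r hr
  refine ⟨hR hr, h8 r hr, fun w hw => ?_⟩
  have := h8 r⁻¹ (inv_mem hr) w hw
  rwa [inv_inv] at this

/-- **(II)** `M/C_M(H⁰)` is faithful for `H`. -/
theorem faithful [Finite G] (h : One T V z) {g : G} (hg : g ∈ centralizer ({z} : Set G))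
    (hgw : ∀ w ∈ ws V z, g * w * g⁻¹ * w⁻¹ ∈ cm V z) : g ∈ kq V z := by
  have hz := h.ln.z_mem
  have hcm := h.isSub_cm
  have hzcm : ∀ y ∈ zpowers z, y ∈ cm V z := fun y hy => (zpowers_le.mpr hcm.z_mem) hy
  have hsq := h.sqz
  let N : Subgroup G :=
    { carrier := {g | g ∈ centralizer ({z} : Set G) ∧ ∀ w ∈ ws V z, g * w * g⁻¹ * w⁻¹ ∈ cm V z}
      mul_mem' := by
        rintro a b ⟨ha, ha1⟩ ⟨hb, hb1⟩
        refine ⟨mul_mem ha hb, fun w hw => ?_⟩
        have e : a * b * w * (a * b)⁻¹ * w⁻¹ = a * (b * w * b⁻¹ * w⁻¹) * a⁻¹ * (a * w * a⁻¹ * w⁻¹) := by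
          group
        rw [e]
        exact mul_mem (conj_mem_of_normalizer hcm.norm ha (hb1 w hw)) (ha1 w hw)
      one_mem' := ⟨one_mem _, fun w _ => by simp⟩
      inv_mem' := by
        rintro a ⟨ha, ha1⟩
        refine ⟨inv_mem ha, fun w hw => ?_⟩
        have e : a⁻¹ * w * a⁻¹⁻¹ * w⁻¹ = a⁻¹ * (a * w * a⁻¹ * w⁻¹)⁻¹ * a := by group
        rw [e]
        exact conj_mem_of_normalizer' hcm.norm ha (inv_mem (ha1 w hw)) }
  have hNn : centralizer ({z} : Set G) ≤ normalizer (N : Set G) := by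
    refine le_normalizer_of_forall fun c hc n hn => ⟨mul_mem (mul_mem hc hn.1) (inv_mem hc), fun w hw => ?_⟩
    have hcz : c * z * c⁻¹ = z := conj_eq_of_comm (mem_centralizer_singleton_iff.mp hc)
    have hw' : c⁻¹ * w * c ∈ ws V z := by
      have := conj_mem_ws c⁻¹ hw
      have e : c⁻¹ * z * c⁻¹⁻¹ = z := by
        calc c⁻¹ * z * c⁻¹⁻¹ = c⁻¹ * (c * z * c⁻¹) * c := by rw [hcz, inv_inv]
          _ = z := by group
      rwa [e, inv_inv] at this
    have h1 := conj_mem_of_normalizer hcm.norm hc (hn.2 _ hw')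
    have e : c * (n * (c⁻¹ * w * c) * n⁻¹ * (c⁻¹ * w * c)⁻¹) * c⁻¹ =
        c * n * c⁻¹ * w * (c * n * c⁻¹)⁻¹ * w⁻¹ := by group
    rwa [e] at h1
  have hll := h.ll_le_cent
  -- Step A: `N ∩ ll ≤ K`
  have hA : N ⊓ ll V z ≤ kq V z := by
    have key : ∀ r ∈ N ⊓ ll V z, ∀ w ∈ ws V z, r * r * w * (r * r)⁻¹ * w⁻¹ ∈ zpowers z := by
      intro r hr w hw
      have hr1 := hr.1
      have hr2 := hr.2
      have h1 := hr1.2 w hw
      have h2 := h.mem_cm h1 hr2
      set c := r * w * r⁻¹ * w⁻¹ with hc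
      have hcw : c ∈ ws V z := cm_le V z h1
      have e : r * r * w * (r * r)⁻¹ * w⁻¹ = (r * c * r⁻¹ * c⁻¹) * (c * c) := by
        rw [hc]; group
      rw [e, hsq c hcw, mul_one]
      exact h2
    refine h.le_kq (inf_le_right.trans hll) ?_ fun r hr => ⟨1, ?_⟩
    · refine le_normalizer_of_forall fun c hc n hn => ?_
      exact ⟨conj_mem_of_normalizer hNn hc hn.1,
        conj_mem_of_normalizer (centralizer_le_normalizer_ll V z) hc hn.2⟩
    · rw [pow_one, pow_two]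
      refine ⟨mul_mem (hll hr.2) (hll hr.2), key r hr, fun w hw => ?_⟩
      have := key r⁻¹ (inv_mem hr) w hw
      have e : r⁻¹ * r⁻¹ * w * (r⁻¹ * r⁻¹)⁻¹ * w⁻¹ = (r * r)⁻¹ * w * (r * r) * w⁻¹ := by
        simp only [mul_inv_rev, inv_inv, mul_assoc]
      rwa [e] at this
  -- Step B
  let X : Subgroup G :=
    { carrier := {w | w ∈ ws V z ∧ w ∈ centralizer ({z} : Set G) ∧ ∀ g ∈ N, g * w * g⁻¹ * w⁻¹ ∈ zpowers z}
      mul_mem' := by
        rintro v w ⟨hv, hvz, hv1⟩ ⟨hw, hwz, hw1⟩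
        refine ⟨mul_mem hv hw, mul_mem hvz hwz, fun a ha => ?_⟩
        have e : a * (v * w) * a⁻¹ * (v * w)⁻¹ = (a * v * a⁻¹ * v⁻¹) * (v * (a * w * a⁻¹ * w⁻¹) * v⁻¹) := by
          group
        rw [e, conj_zpowers hvz (hw1 a ha)]
        exact mul_mem (hv1 a ha) (hw1 a ha)
      one_mem' := ⟨one_mem _, one_mem _, fun a ha => by simp⟩
      inv_mem' := by
        rintro w ⟨hw, hwz, hw1⟩
        refine ⟨inv_mem hw, inv_mem hwz, fun a ha => ?_⟩
        have e : a * w⁻¹ * a⁻¹ * w⁻¹⁻¹ = w⁻¹ * (a * w * a⁻¹ * w⁻¹)⁻¹ * w⁻¹⁻¹ := by group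
        rw [e, conj_zpowers (inv_mem hwz) (inv_mem (hw1 a ha))]
        exact inv_mem (hw1 a ha) }
  have hX : IsSub V z X :=
    { z_mem := by
        refine ⟨h.ln.V_le_ws hz, h.ws_le_cent (h.ln.V_le_ws hz), fun a ha => ?_⟩
        rw [conj_zpowers ha.1 (mem_zpowers z), mul_inv_cancel]
        exact one_mem _
      le := fun _ hx => hx.1
      norm := by
        refine le_normalizer_of_forall fun c hc w hw => ?_
        have hcz : c * z * c⁻¹ = z := conj_eq_of_comm (mem_centralizer_singleton_iff.mp hc)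
        refine ⟨?_, mul_mem (mul_mem hc hw.2.1) (inv_mem hc), fun a ha => ?_⟩
        · have := conj_mem_ws c hw.1
          rwa [hcz] at this
        · have h1 := hw.2.2 _ (conj_mem_of_normalizer' hNn hc ha)
          have e : a * (c * w * c⁻¹) * a⁻¹ * (c * w * c⁻¹)⁻¹ =
              c * (c⁻¹ * a * c * w * (c⁻¹ * a * c)⁻¹ * w⁻¹) * c⁻¹ := by group
          rw [e, conj_zpowers hc h1]
          exact h1 }
  obtain ⟨y, hy, hy1, hyz⟩ := h.ln.exists_y
  have hXw : X = ws V z := by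
    refine h.eq_ws_of_comm hX hy hy1 hyz fun a ha w hw => ?_
    have hal : a ∈ ll V z := ws_le_ll (h.mem_nb hy hy1 hyz) ha
    have haz := hll hal
    have haw : a * w * a⁻¹ ∈ ws V z := by
      have := conj_mem_ws a hw
      rwa [conj_eq_of_comm (mem_centralizer_singleton_iff.mp haz)] at this
    have hd : a * w * a⁻¹ * w⁻¹ ∈ ws V z := mul_mem haw (inv_mem hw)
    refine ⟨hd, h.ws_le_cent hd, fun g hg => ?_⟩
    -- `g w g⁻¹ = c w`, `g a g⁻¹ = κ a`
    have hc := hg.2 w hw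
    set c := g * w * g⁻¹ * w⁻¹ with hcdef
    have hcw : c ∈ ws V z := cm_le V z hc
    have hκ : g * a * g⁻¹ * a⁻¹ ∈ kq V z := by
      refine hA ⟨?_, ?_⟩
      · have e : g * a * g⁻¹ * a⁻¹ = g * (a * g⁻¹ * a⁻¹) := by group
        rw [e]
        exact N.mul_mem hg (conj_mem_of_normalizer hNn haz (N.inv_mem hg))
      · exact (ll V z).mul_mem (conj_mem_of_normalizer (centralizer_le_normalizer_ll V z) hg.1 hal)
          ((ll V z).inv_mem hal)
    set κ := g * a * g⁻¹ * a⁻¹ with hκdef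
    have h1 := h.mem_cm hc hal
    have hac : a * c * a⁻¹ ∈ ws V z := by
      have := conj_mem_ws a hcw
      rwa [conj_eq_of_comm (mem_centralizer_singleton_iff.mp haz)] at this
    have hx : (a * c * a⁻¹) * (a * w * a⁻¹) ∈ ws V z := mul_mem hac haw
    have h2 := kq_comm hκ hx
    have hab := h.ab
    -- the commutator is `[κ, x] [a, c]` up to conjugation
    have e : g * (a * w * a⁻¹ * w⁻¹) * g⁻¹ * (a * w * a⁻¹ * w⁻¹)⁻¹ =
        (κ * ((a * c * a⁻¹) * (a * w * a⁻¹)) * κ⁻¹ * ((a * c * a⁻¹) * (a * w * a⁻¹))⁻¹) *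
        ((a * c * a⁻¹) * ((a * w * a⁻¹) * (w⁻¹ * c⁻¹)) * (w * (a * w * a⁻¹)⁻¹)) := by
      have e1 : g * a * g⁻¹ = κ * a := by rw [hκdef]; group
      have e2 : g * w * g⁻¹ = c * w := by rw [hcdef]; group
      have e3 : g * w⁻¹ * g⁻¹ = w⁻¹ * c⁻¹ := by rw [hcdef]; group
      have e4 : g * a⁻¹ * g⁻¹ = a⁻¹ * κ⁻¹ := by rw [hκdef]; group
      calc g * (a * w * a⁻¹ * w⁻¹) * g⁻¹ * (a * w * a⁻¹ * w⁻¹)⁻¹ =
          (g * a * g⁻¹) * (g * w * g⁻¹) * (g * a⁻¹ * g⁻¹) * (g * w⁻¹ * g⁻¹) * (a * w * a⁻¹ * w⁻¹)⁻¹ := by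
            group
        _ = _ := by rw [e1, e2, e3, e4]; group
    have e5 : (a * c * a⁻¹) * ((a * w * a⁻¹) * (w⁻¹ * c⁻¹)) * (w * (a * w * a⁻¹)⁻¹) =
        a * c * a⁻¹ * c⁻¹ := by
      set b := a * w * a⁻¹ with hb
      have f1 := hab _ (inv_mem hw) _ (inv_mem hcw)
      have f2 := hab _ haw _ (inv_mem hcw)
      calc (a * c * a⁻¹) * (b * (w⁻¹ * c⁻¹)) * (w * b⁻¹) =
          (a * c * a⁻¹) * (b * (c⁻¹ * w⁻¹)) * (w * b⁻¹) := by rw [f1]
        _ = (a * c * a⁻¹) * (b * c⁻¹) * b⁻¹ := by group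
        _ = (a * c * a⁻¹) * (c⁻¹ * b) * b⁻¹ := by rw [f2]
        _ = a * c * a⁻¹ * c⁻¹ := by group
    rw [e, e5]
    exact mul_mem h2 h1
  have hgN : g ∈ N := ⟨hg, hgw⟩
  have h8 : ∀ g ∈ N, ∀ w ∈ ws V z, g * w * g⁻¹ * w⁻¹ ∈ zpowers z := by
    intro g hg w hw
    rw [← hXw] at hw
    exact hw.2.2 g hg
  refine ⟨hg, h8 g hgN, fun w hw => ?_⟩
  have := h8 g⁻¹ (inv_mem hgN) w hw
  rwa [inv_inv] at this

end One

end Cfsg.Agent.Omega.NO3S.TwoOne

end

section


/-!
# NO-3S, `q = 2`, `n = 1` (helper881's text #13700): (VI) planes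

* `Pln V U` : `U` is elementary abelian of order 8, any two of its points are on a line;
* `One.exists_plane` : a line `L` on `z`, `L ≤ ii V`, `L ≠ V`, gives a plane `⟨V, L⟩ ≤ ii V`;
* `One.pln_trv` : `K_p` induces on a plane all transvections with centre `p`.
-/

set_option autoImplicit false
set_option linter.unusedSectionVars false

namespace Cfsg.Agent.Omega.NO3S.TwoOne

open Subgroup Cfsg Cfsg.Agent.ZN Cfsg.Agent.MinSimple.Geo Cfsg.Agent.Omega.CaseL
open Cfsg.Agent.ZN.Block (conj_mem_of_normalizer conj_mem_of_normalizer' le_normalizer_of_forall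
  mem_normalizer_of)

universe u

variable {G : Type u} [Group G]

/-- `U` is a plane -/
structure Pln (V U : Subgroup G) : Prop where
  card : Nat.card U = 8
  sq : ∀ u ∈ U, u * u = 1
  line : ∀ p ∈ U, ∀ q ∈ U, p ≠ 1 → q ≠ 1 → p ≠ q → ∃ L ∈ lines V p, q ∈ L

namespace One

variable {T V : Subgroup G} {z : G}

theorem line_of_line [Finite G] (h : One T V z) {u : G} (hu : u ∈ ii V) (huV : u ∉ V) {p q : G} (hp : p ∈ V)
    (hp1 : p ≠ 1) (hq : q ∈ V) (hq1 : q ≠ 1) (hL : ∃ L ∈ lines V q, u ∈ L) : ∃ L ∈ lines V p, u ∈ L := by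
  obtain ⟨L, hL, huL⟩ := hL
  obtain ⟨g, -, hgu, hgq⟩ := h.ftwo hu huV hq hq1 hp hp1
  refine ⟨cj g L, ?_, ?_⟩
  · have := mem_lines_cj (g := g) hL
    rwa [hgq] at this
  · have := conj_mem_cj (g := g) huL
    rwa [conj_eq_of_comm hgu] at this

/-- (VI): the lines of the plane `⟨V, u⟩` -/
theorem plane_line [Finite G] (h : One T V z) {u : G} (hu : u ∈ ii V) (huV : u ∉ V)
    (hL : ∃ L ∈ lines V z, u ∈ L) {p v : G} (hp : p ∈ V) (hp1 : p ≠ 1) (hv : v ∈ V) :
    ∃ L ∈ lines V p, v * u ∈ L := by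
  have hz := h.ln.z_mem
  have hz1 := h.ln.z_ne
  by_cases hv1 : v = 1
  · rw [hv1, one_mul]
    exact h.line_of_line hu huV hp hp1 hz hz1 hL
  · have huV' : v * u ∉ V := fun e => huV (by
      have := mul_mem (inv_mem hv) e
      rwa [inv_mul_cancel_left] at this)
    refine h.line_of_line (mul_mem (h.V_le_ii hv) hu) huV' hp hp1 hv hv1 ?_
    obtain ⟨L, hL', huL⟩ := h.line_of_line hu huV hv hv1 hz hz1 hL
    exact ⟨L, hL', mul_mem hL'.2 huL⟩

/-- a line `L` on `z`, in `ii V`, `L ≠ V`, spans with `V` a plane -/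
theorem exists_plane [Finite G] (h : One T V z) {u : G} (hu : u ∈ ii V) (huV : u ∉ V)
    (hL : ∃ L ∈ lines V z, u ∈ L) : ∃ U : Subgroup G, Pln V U ∧ V ≤ U ∧ u ∈ U ∧ U ≤ ii V := by
  have hz := h.ln.z_mem
  have hz1 := h.ln.z_ne
  have hsq := h.sqz
  have hab := h.ab
  have hiz : ∀ x ∈ ii V, x ∈ ws V z := fun x hx => ii_le hz hz1 hx
  have huu : u * u = 1 := hsq u (hiz u hu)
  have hvu : ∀ v ∈ V, v * u = u * v := fun v hv => hab v (h.V_le hz hz1 hv) u (hiz u hu)
  let U : Subgroup G :=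
    { carrier := {x | x ∈ V ∨ u * x ∈ V}
      mul_mem' := by
        rintro a b (ha | ha) (hb | hb)
        · exact Or.inl (mul_mem ha hb)
        · right
          have e : u * (a * b) = a * (u * b) := by
            rw [← mul_assoc, ← hvu a ha, mul_assoc]
          rw [e]; exact mul_mem ha hb
        · right
          rw [← mul_assoc]; exact mul_mem ha hb
        · left
          have e : a * b = (u * a) * (u * b) := by
            have h1 := hvu _ ha
            calc a * b = (u * u) * a * b := by rw [huu, one_mul]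
              _ = u * (u * a) * b := by group
              _ = (u * a) * u * b := by rw [← h1]
              _ = (u * a) * (u * b) := by group
          rw [e]; exact mul_mem ha hb
      one_mem' := Or.inl (one_mem _)
      inv_mem' := by
        rintro a (ha | ha)
        · exact Or.inl (inv_mem ha)
        · right
          have h1 := hvu _ (inv_mem ha)
          have e : u * a⁻¹ = (u * a)⁻¹ := by
            rw [mul_inv_rev, inv_eq_self huu] at h1 ⊢
            calc u * a⁻¹ = u * (a⁻¹ * u) * u⁻¹ := by group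
              _ = a⁻¹ * u * u * u⁻¹ := by rw [← h1]
              _ = a⁻¹ * u := by group
          rw [e]; exact inv_mem ha }
  have hVU : V ≤ U := fun v hv => Or.inl hv
  have huU : u ∈ U := by
    right; rw [huu]; exact one_mem _
  have hUi : U ≤ ii V := by
    rintro x (hx | hx)
    · exact h.V_le_ii hx
    · have := mul_mem (inv_mem hu) (h.V_le_ii hx)
      rwa [inv_mul_cancel_left] at this
  -- an element outside `V` is `v u`
  have hout : ∀ x ∈ U, x ∉ V → ∃ v ∈ V, x = v * u := by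
    rintro x (hx | hx) hxV
    · exact absurd hx hxV
    · refine ⟨u * x, hx, ?_⟩
      have hxz : x ∈ ws V z := by
        have := mul_mem (inv_mem hu) (h.V_le_ii hx)
        rw [inv_mul_cancel_left] at this
        exact hiz x this
      rw [hab u (hiz u hu) x hxz, mul_assoc, huu, mul_one]
  have hsqU : ∀ x ∈ U, x * x = 1 := fun x hx => hsq x (hiz x (hUi hx))
  have hcard : Nat.card U = 8 := by
    have h1 : V.relIndex U = 2 := by
      refine Subgroup.relIndex_eq_two_iff.mpr ?_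
      refine ⟨u, huU, fun b hb => ?_⟩
      by_cases hbV : b ∈ V
      · right
        refine ⟨hbV, fun e => huV ?_⟩
        have := mul_mem (inv_mem hbV) e
        rwa [inv_mul_cancel_left] at this
      · left
        obtain ⟨v, hv, rfl⟩ := hout b hb hbV
        refine ⟨?_, hbV⟩
        rw [mul_assoc, huu, mul_one]; exact hv
    have h2 := Block.card_mul_relIndex' hVU
    rw [← h2, h1, h.ln.card_V]
  refine ⟨U, ⟨hcard, hsqU, fun p hp q hq hp1 hq1 hpq => ?_⟩, hVU, huU, hUi⟩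
  -- the lines
  have key : ∀ p ∈ V, p ≠ 1 → ∀ q ∈ U, q ∉ V → ∃ L ∈ lines V p, q ∈ L := by
    intro p hp hp1 q hq hqV
    obtain ⟨v, hv, rfl⟩ := hout q hq hqV
    exact h.plane_line hu huV hL hp hp1 hv
  by_cases hpV : p ∈ V
  · by_cases hqV : q ∈ V
    · exact ⟨V, ⟨⟨1, (cj_one V).symm⟩, hpV⟩, hqV⟩
    · exact key p hpV hp1 q hq hqV
  · by_cases hqV : q ∈ V
    · obtain ⟨L, hL', hpL⟩ := key q hqV hq1 p hp hpV
      exact ⟨L, ⟨hL'.1, hpL⟩, hL'.2⟩
    · -- `p q ∈ V`
      obtain ⟨v, hv, hpv⟩ := hout p hp hpV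
      obtain ⟨w, hw, hqw⟩ := hout q hq hqV
      have hpq' : p * q = v * w := by
        have h1 := hvu w hw
        rw [hpv, hqw]
        calc v * u * (w * u) = v * (u * w) * u := by group
          _ = v * w * (u * u) := by rw [← h1]; group
          _ = v * w := by rw [huu, mul_one]
      have hpqV : p * q ∈ V := by rw [hpq']; exact mul_mem hv hw
      have hpq1 : p * q ≠ 1 := fun e => hpq (by
        rw [mul_eq_one_iff_eq_inv.mp e, inv_eq_self (hsqU q hq)])
      obtain ⟨L, hL', hpL⟩ := key _ hpqV hpq1 p hp hpV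
      refine ⟨L, ⟨hL'.1, hpL⟩, ?_⟩
      have := mul_mem (inv_mem hpL) hL'.2
      rwa [inv_mul_cancel_left] at this

/-- `K_p` induces on a plane all transvections with centre `p`. -/
theorem pln_trv [Finite G] (h : One T V z) {U : Subgroup G} (hU : Pln V U) {p q r : G} (hp : p ∈ U)
    (hp1 : p ≠ 1) (hq : q ∈ U) (hq1 : q ≠ 1) (hqp : q ≠ p) (hr : r ∈ U) (hr1 : r ≠ 1) (hrp : r ≠ p)
    (hrq : r ≠ q) (hrpq : r ≠ p * q) : ∃ k ∈ kq V p, k * q * k⁻¹ = p * q ∧ k * r * k⁻¹ = r := by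
  have hpp := hU.sq p hp
  have hUw : ∀ x ∈ U, x ∈ ws V p := by
    intro x hx
    by_cases hx1 : x = 1
    · rw [hx1]; exact one_mem _
    by_cases hxp : x = p
    · obtain ⟨L, hL, -⟩ := hU.line p hp q hq hp1 hq1 (Ne.symm hqp)
      rw [hxp]; exact le_ws hL hL.2
    · obtain ⟨L, hL, hxL⟩ := hU.line p hp x hx hp1 hx1 (Ne.symm hxp)
      exact le_ws hL hxL
  have cases : ∀ k ∈ kq V p, ∀ x ∈ U, k * x * k⁻¹ = x ∨ k * x * k⁻¹ = p * x := by
    intro k hk x hx
    rcases (mem_zpowers_iff_of_mul_self hpp).mp (kq_comm hk (hUw x hx)) with e | e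
    · left
      calc k * x * k⁻¹ = (k * x * k⁻¹ * x⁻¹) * x := by group
        _ = x := by rw [e, one_mul]
    · right
      calc k * x * k⁻¹ = (k * x * k⁻¹ * x⁻¹) * x := by group
        _ = p * x := by rw [e]
  have hkp : ∀ k ∈ kq V p, k * p * k⁻¹ = p := fun k hk =>
    conj_eq_of_comm (mem_centralizer_singleton_iff.mp (kq_le_centralizer V p hk))
  -- (F1) on the line `⟨p, x⟩`
  have mv : ∀ x ∈ U, x ≠ 1 → x ≠ p → ∃ k ∈ kq V p, k * x * k⁻¹ = p * x := by
    intro x hx hx1 hxp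
    obtain ⟨L, hL, hxL⟩ := hU.line p hp x hx hp1 hx1 (Ne.symm hxp)
    obtain ⟨g, rfl, T', h'⟩ := h.of_line hL hp1
    obtain ⟨k, hk, hk1⟩ := h'.f1
    refine ⟨k, by rwa [kq_cj] at hk, ?_⟩
    exact h'.move hL.2 hp1 hxL hx1 hxp hk hk1
  -- products
  have hmul : ∀ a ∈ kq V p, ∀ b ∈ kq V p, ∀ x, a * b * x * (a * b)⁻¹ = a * (b * x * b⁻¹) * a⁻¹ :=
    fun a _ b _ x => by group
  have hpx : ∀ k ∈ kq V p, ∀ x, k * (p * x) * k⁻¹ = p * (k * x * k⁻¹) := by
    intro k hk x
    calc k * (p * x) * k⁻¹ = (k * p * k⁻¹) * (k * x * k⁻¹) := by group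
      _ = p * (k * x * k⁻¹) := by rw [hkp k hk]
  have hppx : ∀ x, p * (p * x) = x := fun x => by rw [← mul_assoc, hpp, one_mul]
  obtain ⟨a, ha, haq⟩ := mv q hq hq1 hqp
  obtain ⟨b, hb, hbr⟩ := mv r hr hr1 hrp
  rcases cases a ha r hr with har | har
  · exact ⟨a, ha, haq, har⟩
  rcases cases b hb q hq with hbq | hbq
  · -- `a b`
    refine ⟨a * b, mul_mem ha hb, ?_, ?_⟩
    · rw [hmul a ha b hb, hbq, haq]
    · rw [hmul a ha b hb, hbr, hpx a ha, har, hppx]
  · -- third line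
    have hqr : q * r ≠ 1 := fun e => hrq (by
      rw [mul_eq_one_iff_eq_inv.mp e, inv_eq_self (hU.sq r hr)])
    have hqrp : q * r ≠ p := fun e => hrpq (by
      have h1 : r = q⁻¹ * p := by rw [← e]; group
      have h2 := hU.sq _ (mul_mem (inv_mem hq) hp)
      have h3 : q⁻¹ = q := inv_eq_self (hU.sq q hq)
      rw [h3] at h1 h2
      rw [h1]
      have h4 : (q * p)⁻¹ = q * p := inv_eq_self h2
      rw [← h4, mul_inv_rev, h3, inv_eq_self hpp])
    obtain ⟨c, hc, hcx⟩ := mv (q * r) (mul_mem hq hr) hqr hqrp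
    have e : c * (q * r) * c⁻¹ = (c * q * c⁻¹) * (c * r * c⁻¹) := by group
    have hpq : p * q = q * p := by
      have h1 := hU.sq _ (mul_mem hp hq)
      have h2 := inv_eq_self h1
      rw [mul_inv_rev, inv_eq_self hpp, inv_eq_self (hU.sq q hq)] at h2
      exact h2.symm
    rw [e] at hcx
    rcases cases c hc q hq with hcq | hcq <;> rcases cases c hc r hr with hcr | hcr
    · exfalso
      rw [hcq, hcr] at hcx
      exact hp1 (by simpa using hcx.symm)
    · -- `c` moves `r`, not `q`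
      refine ⟨a * c, mul_mem ha hc, ?_, ?_⟩
      · rw [hmul a ha c hc, hcq, haq]
      · rw [hmul a ha c hc, hcr, hpx a ha, har, hppx]
    · exact ⟨c, hc, hcq, hcr⟩
    · exfalso
      rw [hcq, hcr] at hcx
      have e2 : p * q * (p * r) = q * r := by
        calc p * q * (p * r) = (q * p) * (p * r) := by rw [hpq]
          _ = q * (p * p) * r := by group
          _ = q * r := by rw [hpp, mul_one]
      rw [e2] at hcx
      exact hp1 (by simpa using hcx.symm)

end One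

end Cfsg.Agent.Omega.NO3S.TwoOne

end
end

-- part: Mrg/Omega/NO3S/Pt/Path
section
prune_inst 0xc01006105322000000180500a00022501800000200670001e140020007488541e0410701906032101112a264203e8020035400494030000020008200411805a1042a22c29048100021000040f885180c00000000000000000000000000000000000000000
set_option linter.all false
open scoped Cfsg.Agent.FastGrp

-- merged: Cfsg.Agent.Mrg.Omega.NO3S.Pt.Base
section

/-!
# NO-3S, `|V| = 4`: points as involutions, all critical distances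

`Fr T V z` : a flag `(z, V)` as in `CaseL.Ln` (K-free), `W_z = ws V z` abelian, and (F1): `K_z = kq V z` moves the
points of `V`.  Points: the conjugates of `z`; lines: the conjugates of `V` (`lines V x`); `W_x = ws V x`;
`TwoOne.ii V` = the intersection of the `W_p`, `p ∈ V#`.
(The statements and proofs are those of `TwoOne/Base.lean`, without the condition `[W_z, W_y] ≠ 1`.)

* `Fr.conj`, `Fr.point`, `Fr.of_mem` : every flag is as good as `(z, V)`;
* `Fr.mem_ii` : `ii V` is the intersection of any two of the `W_p`;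
* `Fr.fu` (FU) : for `u ∈ ii V`, `u ∉ V` and every point `p` of `V` some `k ∈ K_p ∩ C_G(V)` has `k u k⁻¹ = p u`;
* `Fr.ftwo` (F2) : `N_G(V) ∩ C_G(u)` is transitive on the points of `V`.
-/

set_option autoImplicit false
set_option linter.unusedSectionVars false

namespace Cfsg.Agent.Omega.NO3S.Pt

open Subgroup Cfsg Cfsg.Agent.ZN Cfsg.Agent.MinSimple.Geo Cfsg.Agent.Omega.CaseL Cfsg.Agent.Omega.NO3S.TwoOne
open Cfsg.Agent.ZN.Block (conj_mem_of_normalizer conj_mem_of_normalizer' le_normalizer_of_forall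
  mem_normalizer_of)

universe u

variable {G : Type u} [Group G]

/-- a flag, with (F1) -/
structure Fr (T V : Subgroup G) (z : G) : Prop where
  ln : Ln T V z
  ab : ∀ a ∈ ws V z, ∀ b ∈ ws V z, a * b = b * a
  f1 : ∃ k ∈ kq V z, k ∉ centralizer (V : Set G)

namespace Fr

variable {T V : Subgroup G} {z : G}

theorem conj (h : Fr T V z) (g : G) : Fr (cj g T) (cj g V) (g * z * g⁻¹) where
  ln := h.ln.conj g
  ab := by
    rw [ws_cj, ← cj_ws]
    intro a ha b hb
    have := h.ab _ (mem_of_cj ha) _ (mem_of_cj hb)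
    calc a * b = g * ((g⁻¹ * a * g) * (g⁻¹ * b * g)) * g⁻¹ := by group
      _ = g * ((g⁻¹ * b * g) * (g⁻¹ * a * g)) * g⁻¹ := by rw [this]
      _ = b * a := by group
  f1 := by
    obtain ⟨k, hk, hk1⟩ := h.f1
    refine ⟨g * k * g⁻¹, ?_, ?_⟩
    · rw [kq_cj]; exact conj_mem_kq g hk
    · intro e
      apply hk1
      rw [mem_centralizer_iff] at e ⊢
      intro v hv
      have := e _ (conj_mem_cj hv)
      calc v * k = g⁻¹ * ((g * v * g⁻¹) * (g * k * g⁻¹)) * g := by group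
        _ = g⁻¹ * ((g * k * g⁻¹) * (g * v * g⁻¹)) * g := by rw [this]
        _ = k * v := by group

theorem point (h : Fr T V z) {p : G} (hp : p ∈ V) (hp1 : p ≠ 1) :
    ∃ g ∈ normalizer (V : Set G), g * z * g⁻¹ = p ∧ Fr (cj g T) V p := by
  obtain ⟨g, hg, rfl⟩ := h.ln.trans p hp hp1
  refine ⟨g, hg, rfl, ?_⟩
  have := h.conj g
  rwa [cj_eq_of_mem_normalizer hg] at this

theorem sqz (h : Fr T V z) : ∀ a ∈ ws V z, a * a = 1 := ws_sq h.ln h.ab

/-! ### all points of `V` -/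

section points

variable {p q : G}

theorem sq (h : Fr T V z) (hp : p ∈ V) (hp1 : p ≠ 1) : ∀ a ∈ ws V p, a * a = 1 := by
  obtain ⟨g, -, -, hg⟩ := h.point hp hp1
  exact hg.sqz

theorem comm (h : Fr T V z) (hp : p ∈ V) (hp1 : p ≠ 1) : ∀ a ∈ ws V p, ∀ b ∈ ws V p, a * b = b * a := by
  obtain ⟨g, -, -, hg⟩ := h.point hp hp1
  exact hg.ab

theorem V_le (h : Fr T V z) (hp : p ∈ V) (hp1 : p ≠ 1) : V ≤ ws V p := by
  obtain ⟨g, -, -, hg⟩ := h.point hp hp1
  exact hg.ln.V_le_ws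

theorem ws_le_centralizer_V (h : Fr T V z) (hp : p ∈ V) (hp1 : p ≠ 1) :
    ws V p ≤ centralizer (V : Set G) := by
  intro a ha
  rw [mem_centralizer_iff]
  intro v hv
  exact h.comm hp hp1 v (h.V_le hp hp1 hv) a ha

theorem V_comm (_ : Fr T V z) {v c : G} (hv : v ∈ V) (hc : c ∈ centralizer (V : Set G)) :
    v * c = c * v := mem_centralizer_iff.mp hc v hv

theorem cent_le_centralizer (_ : Fr T V z) (hp : p ∈ V) :
    centralizer (V : Set G) ≤ centralizer ({p} : Set G) := by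
  intro c hc
  rw [mem_centralizer_singleton_iff]
  exact (mem_centralizer_iff.mp hc p hp).symm

theorem mul_ne_one (h : Fr T V z) (hq : q ∈ V) (hpq : p ≠ q) : p * q ≠ 1 := fun e =>
  hpq (by rw [mul_eq_one_iff_eq_inv.mp e, h.ln.inv_eq hq])

theorem mem_centralizer_of (h : Fr T V z) (hp : p ∈ V) (hp1 : p ≠ 1) (hq : q ∈ V) (hq1 : q ≠ 1)
    (hqp : q ≠ p) {g : G} (h1 : g * p = p * g) (h2 : g * q = q * g) :
    g ∈ centralizer (V : Set G) := by
  obtain ⟨g, -, -, hg⟩ := h.point hp hp1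
  exact hg.ln.mem_centralizer_V hq hq1 hqp h1 h2

theorem exists_q (h : Fr T V z) (hp : p ∈ V) (hp1 : p ≠ 1) : ∃ q ∈ V, q ≠ 1 ∧ q ≠ p := by
  obtain ⟨g, -, -, hg⟩ := h.point hp hp1
  exact hg.ln.exists_y

/-- elements of `K_p` act on `W_p` by multiplication with `1` or `p` -/
theorem kq_cases (h : Fr T V z) (hp : p ∈ V) {k w : G} (hk : k ∈ kq V p) (hw : w ∈ ws V p) :
    k * w * k⁻¹ = w ∨ k * w * k⁻¹ = p * w := by
  rcases (mem_zpowers_iff_of_mul_self (h.ln.sq p hp)).mp (kq_comm hk hw) with e | e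
  · left
    calc k * w * k⁻¹ = (k * w * k⁻¹ * w⁻¹) * w := by group
      _ = w := by rw [e, one_mul]
  · right
    calc k * w * k⁻¹ = (k * w * k⁻¹ * w⁻¹) * w := by group
      _ = p * w := by rw [e]

theorem kq_p (_ : Fr T V z) {k : G} (hk : k ∈ kq V p) : k * p = p * k :=
  mem_centralizer_singleton_iff.mp (kq_le_centralizer V p hk)

/-- `K_p` normalizes `V` -/
theorem kq_le_normalizer (h : Fr T V z) (hp : p ∈ V) (hp1 : p ≠ 1) :
    kq V p ≤ normalizer (V : Set G) := by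
  refine le_normalizer_of_forall fun k hk v hv => ?_
  rcases h.kq_cases hp hk (h.V_le hp hp1 hv) with e | e
  · rw [e]; exact hv
  · rw [e]; exact mul_mem hp hv

/-- (F1) at every point -/
theorem exists_mover (h : Fr T V z) (hp : p ∈ V) (hp1 : p ≠ 1) :
    ∃ k ∈ kq V p, k ∉ centralizer (V : Set G) := by
  obtain ⟨g, -, -, hg⟩ := h.point hp hp1
  exact hg.f1

/-- a mover of `K_p` moves the points `q ≠ p` to `p q` -/
theorem move (h : Fr T V z) (hp : p ∈ V) (hp1 : p ≠ 1) (hq : q ∈ V) (hq1 : q ≠ 1) (hqp : q ≠ p)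
    {k : G} (hk : k ∈ kq V p) (hk1 : k ∉ centralizer (V : Set G)) : k * q * k⁻¹ = p * q := by
  rcases h.kq_cases hp hk (h.V_le hp hp1 hq) with e | e
  · exfalso
    exact hk1 (h.mem_centralizer_of hp hp1 hq hq1 hqp (h.kq_p hk) (comm_of_conj_eq e))
  · exact e

/-- the movers of `K_p` form one coset of `K_p ∩ C_G(V)` -/
theorem mover_coset (h : Fr T V z) (hp : p ∈ V) (hp1 : p ≠ 1) {k k' : G} (hk : k ∈ kq V p)
    (hk1 : k ∉ centralizer (V : Set G)) (hk' : k' ∈ kq V p) (hk1' : k' ∉ centralizer (V : Set G)) :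
    k' * k⁻¹ ∈ centralizer (V : Set G) := by
  obtain ⟨q, hq, hq1, hqp⟩ := h.exists_q hp hp1
  refine h.mem_centralizer_of hp hp1 (mul_mem hp hq) (h.mul_ne_one hq (Ne.symm hqp)) ?_ ?_ ?_
  · intro e'
    exact hq1 (by simpa using e')
  · exact mul_comm_of (h.kq_p hk') (inv_comm_of (h.kq_p hk))
  · refine comm_of_conj_eq ?_
    have e1 := h.move hp hp1 hq hq1 hqp hk hk1
    have e2 := h.move hp hp1 hq hq1 hqp hk' hk1'
    calc k' * k⁻¹ * (p * q) * (k' * k⁻¹)⁻¹ = k' * (k⁻¹ * (p * q) * k) * k'⁻¹ := by group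
      _ = k' * (k⁻¹ * (k * q * k⁻¹) * k) * k'⁻¹ := by rw [e1]
      _ = k' * q * k'⁻¹ := by group
      _ = p * q := e2

end points

end Fr

namespace Fr

variable {T V : Subgroup G} {z : G}

theorem V_le_ii (h : Fr T V z) : V ≤ ii V := fun _ hv _ hp hp1 => h.V_le hp hp1 hv

theorem ii_le_centralizer (h : Fr T V z) : ii V ≤ centralizer (V : Set G) :=
  (ii_le h.ln.z_mem h.ln.z_ne).trans (h.ws_le_centralizer_V h.ln.z_mem h.ln.z_ne)

/-- `ii V` is the intersection of any two of the `W_p`. -/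
theorem mem_ii (h : Fr T V z) {p q u : G} (hp : p ∈ V) (hp1 : p ≠ 1) (hq : q ∈ V) (hq1 : q ≠ 1)
    (hqp : q ≠ p) (h1 : u ∈ ws V p) (h2 : u ∈ ws V q) : u ∈ ii V := by
  intro r hr hr1
  obtain ⟨g, -, -, hg⟩ := h.point hp hp1
  rcases hg.ln.four hp hq hp1 hq1 (Ne.symm hqp) hr with e | e | e | e
  · exact absurd e hr1
  · rw [e]; exact h1
  · rw [e]; exact h2
  · obtain ⟨k, hk, hk1⟩ := h.exists_mover hp hp1
    have e1 := h.move hp hp1 hq hq1 hqp hk hk1
    have h3 := conj_mem_ws k h2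
    rw [e1, ← e] at h3
    rcases h.kq_cases hp hk h1 with e2 | e2
    · rwa [e2] at h3
    · rw [e2] at h3
      have h4 := mul_mem (h.V_le hr hr1 hp) h3
      rwa [← mul_assoc, h.ln.sq p hp, one_mul] at h4

/-- the fixed points of all `K_p` on `ii V` are trivial -/
theorem fix_triv [Finite G] (h : Fr T V z) {u : G} (hu : u ∈ ii V)
    (hf : ∀ p ∈ V, p ≠ 1 → ∀ k ∈ kq V p, k * u = u * k) : u = 1 := by
  let D : Subgroup G :=
    { carrier := {d | d ∈ ii V ∧ ∀ p ∈ V, p ≠ 1 → ∀ k ∈ kq V p, k * d = d * k}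
      mul_mem' := by
        rintro a b ⟨ha, ha1⟩ ⟨hb, hb1⟩
        exact ⟨mul_mem ha hb, fun p hp hp1 k hk => comm_mul_of (ha1 p hp hp1 k hk) (hb1 p hp hp1 k hk)⟩
      one_mem' := ⟨one_mem _, fun p hp hp1 k hk => by simp⟩
      inv_mem' := by
        rintro a ⟨ha, ha1⟩
        exact ⟨inv_mem ha, fun p hp hp1 k hk => comm_inv_of (ha1 p hp hp1 k hk)⟩ }
  have hDn : D ≤ normalizer (V : Set G) := fun d hd =>
    centralizer_le_normalizer _ (h.ii_le_centralizer hd.1)
  have hN : normalizer (V : Set G) ≤ normalizer (D : Set G) := by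
    refine le_normalizer_of_forall fun g hg d hd => ?_
    refine ⟨conj_mem_of_normalizer (normalizer_le_normalizer_ii V) hg hd.1, fun p hp hp1 k hk => ?_⟩
    have hp' : g⁻¹ * p * g ∈ V := (mem_normalizer_iff''.mp hg p).mp hp
    have hp1' : g⁻¹ * p * g ≠ 1 := fun e => hp1 (by
      have : p = g * (g⁻¹ * p * g) * g⁻¹ := by group
      rw [this, e]; group)
    have hk' : g⁻¹ * k * g ∈ kq V (g⁻¹ * p * g) := by
      have := conj_mem_kq g⁻¹ hk
      rwa [inv_inv] at this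
    have := hd.2 _ hp' hp1' _ hk'
    calc k * (g * d * g⁻¹) = g * ((g⁻¹ * k * g) * d) * g⁻¹ := by group
      _ = g * (d * (g⁻¹ * k * g)) * g⁻¹ := by rw [this]
      _ = g * d * g⁻¹ * k := by group
  have hD : D = ⊥ := by
    by_contra hne
    have hz := h.ln.z_mem_of_normal hDn hN hne
    obtain ⟨y, hy, hy1, hyz⟩ := h.ln.exists_y
    obtain ⟨k, hk, hk1⟩ := h.exists_mover hy hy1
    have e1 := h.move hy hy1 h.ln.z_mem h.ln.z_ne (Ne.symm hyz) hk hk1
    have e2 := hz.2 y hy hy1 k hk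
    rw [conj_eq_of_comm e2] at e1
    exact hy1 (by simpa using e1.symm)
  have : u ∈ D := ⟨hu, hf⟩
  rw [hD] at this
  exact mem_bot.mp this

/-- (FU), for some point -/
theorem fu_aux [Finite G] (h : Fr T V z) {u : G} (hu : u ∈ ii V) (huV : u ∉ V) :
    ∃ p ∈ V, p ≠ 1 ∧ ∃ k ∈ kq V p, k ∈ centralizer (V : Set G) ∧ k * u * k⁻¹ = p * u := by
  by_contra hcon
  push Not at hcon
  have hcent : ∀ p ∈ V, p ≠ 1 → ∀ k ∈ kq V p, k ∈ centralizer (V : Set G) → k * u = u * k := by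
    intro p hp hp1 k hk hkV
    rcases h.kq_cases hp hk (hu p hp hp1) with e | e
    · exact comm_of_conj_eq e
    · exact absurd e (hcon p hp hp1 k hk hkV)
  have hz := h.ln.z_mem
  have hz1 := h.ln.z_ne
  have hzz := h.ln.zz
  obtain ⟨y, hy, hy1, hyz⟩ := h.ln.exists_y
  have hyy := h.ln.sq y hy
  obtain ⟨s, hs, hs1⟩ := h.exists_mover hz hz1
  obtain ⟨t, ht, ht1⟩ := h.exists_mover hy hy1
  have hzy := h.ln.comm hz hy
  have hsy := h.move hz hz1 hy hy1 hyz hs hs1
  have htz := h.move hy hy1 hz hz1 (Ne.symm hyz) ht ht1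
  have hsz : s * z * s⁻¹ = z := conj_eq_of_comm (h.kq_p hs)
  have hty : t * y * t⁻¹ = y := conj_eq_of_comm (h.kq_p ht)
  have huc := h.ii_le_centralizer hu
  have huz := h.V_comm hz huc
  have huy := h.V_comm hy huc
  -- a point of `u V` fixed by `s` and `t`
  obtain ⟨v, hv, hsv, htv⟩ : ∃ v ∈ V, s * (v * u) * s⁻¹ = v * u ∧ t * (v * u) * t⁻¹ = v * u := by
    have es : ∀ v, s * (v * u) * s⁻¹ = (s * v * s⁻¹) * (s * u * s⁻¹) := fun v => by group
    have et : ∀ v, t * (v * u) * t⁻¹ = (t * v * t⁻¹) * (t * u * t⁻¹) := fun v => by group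
    rcases h.kq_cases hz hs (hu z hz hz1) with e1 | e1 <;>
      rcases h.kq_cases hy ht (hu y hy hy1) with e2 | e2
    · exact ⟨1, one_mem _, by simpa only [_root_.one_mul] using e1, by simpa only [_root_.one_mul] using e2⟩
    · -- `v = z`
      refine ⟨z, hz, ?_, ?_⟩
      · rw [es, hsz, e1]
      · rw [et, htz, e2]
        calc y * z * (y * u) = y * (z * y) * u := by group
          _ = (y * y) * (z * u) := by rw [hzy]; group
          _ = z * u := by rw [hyy, one_mul]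
    · refine ⟨y, hy, ?_, ?_⟩
      · rw [es, hsy, e1]
        calc z * y * (z * u) = z * (y * z) * u := by group
          _ = (z * z) * (y * u) := by rw [← hzy]; group
          _ = y * u := by rw [hzz, one_mul]
      · rw [et, hty, e2]
    · refine ⟨y * z, mul_mem hy hz, ?_, ?_⟩
      · have : s * (y * z) * s⁻¹ = (s * y * s⁻¹) * (s * z * s⁻¹) := by group
        rw [es, this, hsy, hsz, e1]
        calc z * y * z * (z * u) = z * y * (z * z) * u := by group
          _ = z * y * u := by rw [hzz, mul_one]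
          _ = y * z * u := by rw [hzy]
      · have : t * (y * z) * t⁻¹ = (t * y * t⁻¹) * (t * z * t⁻¹) := by group
        rw [et, this, hty, htz, e2]
        calc y * (y * z) * (y * u) = (y * y) * (z * y) * u := by group
          _ = (z * y) * u := by rw [hyy, one_mul]
          _ = y * z * u := by rw [hzy]
  set a := v * u with ha
  have hai : a ∈ ii V := mul_mem (h.V_le_ii hv) hu
  have hacent : ∀ p ∈ V, p ≠ 1 → ∀ k ∈ kq V p, k ∈ centralizer (V : Set G) → k * a = a * k :=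
    fun p hp hp1 k hk hkV => comm_mul_of (h.V_comm hv hkV).symm (hcent p hp hp1 k hk hkV)
  -- one mover which fixes `a` is enough
  have hone : ∀ p ∈ V, p ≠ 1 → ∀ m ∈ kq V p, m ∉ centralizer (V : Set G) → m * a = a * m →
      ∀ k ∈ kq V p, k * a = a * k := by
    intro p hp hp1 m hm hm1 hma k hk
    by_cases hk1 : k ∈ centralizer (V : Set G)
    · exact hacent p hp hp1 k hk hk1
    · have h1 := hacent p hp hp1 _ (mul_mem hk (inv_mem hm)) (h.mover_coset hp hp1 hm hm1 hk hk1)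
      have h2 := mul_comm_of h1 hma
      simpa only [_root_.inv_mul_cancel_right] using h2
  have ha1 : a = 1 := by
    refine h.fix_triv hai fun p hp hp1 => ?_
    rcases h.ln.four hz hy hz1 hy1 (Ne.symm hyz) hp with e | e | e | e
    · exact absurd e hp1
    · subst e; exact hone _ hz hz1 s hs hs1 (comm_of_conj_eq hsv)
    · subst e; exact hone _ hy hy1 t ht ht1 (comm_of_conj_eq htv)
    · have hm := conj_mem_kq s ht
      rw [hsy, ← e] at hm
      refine hone p hp hp1 (s * t * s⁻¹) hm ?_ ?_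
      · intro hc
        apply ht1
        have := conj_mem_of_normalizer' (normalizer_le_normalizer_centralizer V)
          (h.kq_le_normalizer hz hz1 hs) hc
        have e' : s⁻¹ * (s * t * s⁻¹) * s = t := by group
        rwa [e'] at this
      · have h1 := comm_of_conj_eq hsv
        have h2 := comm_of_conj_eq htv
        exact mul_comm_of (mul_comm_of h1 h2) (inv_comm_of h1)
  apply huV
  have : u = v⁻¹ * a := by rw [ha]; group
  rw [this, ha1, mul_one]
  exact inv_mem hv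

/-- (FU): for `u ∈ I - V` and every point `p` some element of `K_p ∩ C_G(V)` moves `u` to `p u`. -/
theorem fu [Finite G] (h : Fr T V z) {u : G} (hu : u ∈ ii V) (huV : u ∉ V) {p : G} (hp : p ∈ V)
    (hp1 : p ≠ 1) : ∃ k ∈ kq V p, k ∈ centralizer (V : Set G) ∧ k * u * k⁻¹ = p * u := by
  obtain ⟨q, hq, hq1, k, hk, hkV, hku⟩ := h.fu_aux hu huV
  by_cases hpq : p = q
  · subst hpq; exact ⟨k, hk, hkV, hku⟩
  have hw : p * q ∈ V := mul_mem hp hq
  have hw1 : p * q ≠ 1 := h.mul_ne_one hq hpq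
  have hqw : q ≠ p * q := fun e => hp1 (by simpa using e.symm)
  obtain ⟨t, ht, ht1⟩ := h.exists_mover hw hw1
  have e1 := h.move hw hw1 hq hq1 hqw ht ht1
  have e2 : p * q * q = p := by rw [mul_assoc, h.ln.sq q hq, mul_one]
  rw [e2] at e1
  have htn := h.kq_le_normalizer hw hw1 ht
  refine ⟨t * k * t⁻¹, ?_, conj_mem_of_normalizer (normalizer_le_normalizer_centralizer V) htn hkV, ?_⟩
  · have := conj_mem_kq t hk
    rwa [e1] at this
  · have htw : t * (p * q) * t⁻¹ = p * q := conj_eq_of_comm (h.kq_p ht)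
    have huc := h.ii_le_centralizer hu
    have hkw : k * (p * q) * k⁻¹ = p * q := conj_eq_of_comm (h.V_comm hw hkV).symm
    rcases h.kq_cases hw ht (hu _ hw hw1) with e3 | e3
    · have e4 : t⁻¹ * u * t = u := by
        calc t⁻¹ * u * t = t⁻¹ * (t * u * t⁻¹) * t := by rw [e3]
          _ = u := by group
      calc t * k * t⁻¹ * u * (t * k * t⁻¹)⁻¹ = t * (k * (t⁻¹ * u * t) * k⁻¹) * t⁻¹ := by group
        _ = t * (q * u) * t⁻¹ := by rw [e4, hku]
        _ = (t * q * t⁻¹) * (t * u * t⁻¹) := by group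
        _ = p * u := by rw [e1, e3]
    · have e4 : t⁻¹ * u * t = p * q * u := by
        have h5 : t * (p * q * u) * t⁻¹ = u := by
          calc t * (p * q * u) * t⁻¹ = (t * (p * q) * t⁻¹) * (t * u * t⁻¹) := by group
            _ = (p * q) * (p * q) * u := by rw [htw, e3]; group
            _ = u := by rw [h.ln.sq _ hw, one_mul]
        calc t⁻¹ * u * t = t⁻¹ * (t * (p * q * u) * t⁻¹) * t := by rw [h5]
          _ = p * q * u := by group
      calc t * k * t⁻¹ * u * (t * k * t⁻¹)⁻¹ = t * (k * (t⁻¹ * u * t) * k⁻¹) * t⁻¹ := by group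
        _ = t * ((k * (p * q) * k⁻¹) * (k * u * k⁻¹)) * t⁻¹ := by rw [e4]; group
        _ = t * (p * q * (q * u)) * t⁻¹ := by rw [hkw, hku]
        _ = (t * (p * q) * t⁻¹) * (t * q * t⁻¹) * (t * u * t⁻¹) := by group
        _ = (p * q) * p * (p * q * u) := by rw [htw, e1, e3]
        _ = (p * q) * (p * p) * (q * u) := by group
        _ = p * (q * q) * u := by rw [h.ln.sq p hp, mul_one]; group
        _ = p * u := by rw [h.ln.sq q hq, mul_one]

/-- (F2): for `u ∈ I - V` the group `N_G(V) ∩ C_G(u)` is transitive on the points of `V`. -/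
theorem ftwo [Finite G] (h : Fr T V z) {u : G} (hu : u ∈ ii V) (huV : u ∉ V) {p q : G} (hp : p ∈ V)
    (hp1 : p ≠ 1) (hq : q ∈ V) (hq1 : q ≠ 1) :
    ∃ g ∈ normalizer (V : Set G), g * u = u * g ∧ g * p * g⁻¹ = q := by
  by_cases hpq : p = q
  · subst hpq
    exact ⟨1, one_mem _, by simp, by simp⟩
  have hw : q * p ∈ V := mul_mem hq hp
  have hw1 : q * p ≠ 1 := h.mul_ne_one hp (Ne.symm hpq)
  have hpw : p ≠ q * p := fun e => hq1 (by simpa using e.symm)
  obtain ⟨t, ht, ht1⟩ := h.exists_mover hw hw1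
  have e1 := h.move hw hw1 hp hp1 hpw ht ht1
  have e2 : q * p * p = q := by rw [mul_assoc, h.ln.sq p hp, mul_one]
  rw [e2] at e1
  have htn := h.kq_le_normalizer hw hw1 ht
  rcases h.kq_cases hw ht (hu _ hw hw1) with e3 | e3
  · exact ⟨t, htn, comm_of_conj_eq e3, e1⟩
  · obtain ⟨k, hk, hkV, hku⟩ := h.fu hu huV hw hw1
    refine ⟨k * t, mul_mem (h.kq_le_normalizer hw hw1 hk) htn, comm_of_conj_eq ?_, ?_⟩
    · have hkw : k * (q * p) * k⁻¹ = q * p := conj_eq_of_comm (h.V_comm hw hkV).symm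
      calc k * t * u * (k * t)⁻¹ = k * (t * u * t⁻¹) * k⁻¹ := by group
        _ = (k * (q * p) * k⁻¹) * (k * u * k⁻¹) := by rw [e3]; group
        _ = (q * p) * (q * p) * u := by rw [hkw, hku]; group
        _ = u := by rw [h.ln.sq _ hw, one_mul]
    · calc k * t * p * (k * t)⁻¹ = k * (t * p * t⁻¹) * k⁻¹ := by group
        _ = k * q * k⁻¹ := by rw [e1]
        _ = q := conj_eq_of_comm (h.V_comm hq hkV).symm

end Fr



end Cfsg.Agent.Omega.NO3S.Pt

end

-- merged: Cfsg.Agent.Mrg.Omega.NO3S.Pt.Path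
section

section


/-!
# NO-3S, `|V| = 4`: collinearity, paths, critical pairs

* `Col V x y` : `x`, `y` are nontrivial elements of a conjugate of `V` (reflexive on points);
* `Pth V k x y` : a path of length `k` (repetitions allowed, so `Pth.mono`);
* `Com V x y` : `[W_x, W_y] = 1`; `Mn V n` : all pairs of distance `< n` commute;
* `Cr V n x y` : critical pair at distance `n`;
* `Fr.flag` : every flag `(x, L)` is as good as `(z, V)`;
* `Fr.ws_le_o2_of_pth` (T1) : `W_x ≤ O₂(C_G(y))` at distance `< n`;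
* `Cr.last` : the last line `L = {y', y, ..}` of a critical pair: `W_x ≤ O₂(C_G(L))`;
* `Cr.cent`, `Cr.norm`, `Cr.comm_mem_left`, `Cr.comm_mem_right`, `Cr.star` (STAR).
-/

set_option autoImplicit false
set_option linter.unusedSectionVars false

namespace Cfsg.Agent.Omega.NO3S.Pt

open Subgroup Cfsg Cfsg.Agent.ZN Cfsg.Agent.MinSimple.Geo Cfsg.Agent.Omega.CaseL Cfsg.Agent.Omega.NO3S.TwoOne
open Cfsg.Agent.ZN.Block (conj_mem_of_normalizer conj_mem_of_normalizer' le_normalizer_of_forall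
  mem_normalizer_of)

universe u

variable {G : Type u} [Group G]

theorem conj_mem_cent {A : Set G} {c a : G} (hc : c ∈ centralizer A) (ha : a ∈ centralizer A) :
    c * a * c⁻¹ ∈ centralizer A := mul_mem (mul_mem hc ha) (inv_mem hc)

/-! ### paths -/

/-- collinear (or equal) points: two nontrivial elements of a line -/
def Col (V : Subgroup G) (x y : G) : Prop := ∃ g : G, x ∈ cj g V ∧ y ∈ cj g V ∧ x ≠ 1 ∧ y ≠ 1

namespace Col

variable {V : Subgroup G} {x y : G}

theorem symm (h : Col V x y) : Col V y x := by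
  obtain ⟨g, h1, h2, h3, h4⟩ := h
  exact ⟨g, h2, h1, h4, h3⟩

theorem left (h : Col V x y) : Col V x x := by
  obtain ⟨g, h1, h2, h3, h4⟩ := h
  exact ⟨g, h1, h1, h3, h3⟩

theorem right (h : Col V x y) : Col V y y := h.symm.left

theorem ne_one (h : Col V x y) : x ≠ 1 := h.choose_spec.2.2.1

theorem conj (g : G) (h : Col V x y) : Col V (g * x * g⁻¹) (g * y * g⁻¹) := by
  obtain ⟨k, h1, h2, h3, h4⟩ := h
  refine ⟨g * k, ?_, ?_, fun e => h3 (conj_eq_one_iff.mp e), fun e => h4 (conj_eq_one_iff.mp e)⟩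
  · rw [← cj_cj]; exact conj_mem_cj h1
  · rw [← cj_cj]; exact conj_mem_cj h2

theorem of_mem {g : G} (hx : x ∈ cj g V) (hy : y ∈ cj g V) (hx1 : x ≠ 1) (hy1 : y ≠ 1) : Col V x y :=
  ⟨g, hx, hy, hx1, hy1⟩

end Col

/-- a path of length `k` -/
inductive Pth (V : Subgroup G) : ℕ → G → G → Prop
  | zero {x : G} (hx : Col V x x) : Pth V 0 x x
  | step {k : ℕ} {x y w : G} (h : Pth V k x y) (c : Col V y w) : Pth V (k + 1) x w

namespace Pth

variable {V : Subgroup G} {x y w : G} {k m : ℕ}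

theorem right (h : Pth V k x y) : Col V y y := by
  cases h with
  | zero hx => exact hx
  | step _ c => exact c.right

theorem left (h : Pth V k x y) : Col V x x := by
  induction h with
  | zero hx => exact hx
  | step _ _ ih => exact ih

theorem head (c : Col V x y) (h : Pth V k y w) : Pth V (k + 1) x w := by
  induction h with
  | zero _ => exact (Pth.zero c.left).step c
  | step _ c' ih => exact (ih c).step c'

theorem symm (h : Pth V k x y) : Pth V k y x := by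
  induction h with
  | zero hx => exact .zero hx
  | step _ c ih => exact ih.head c.symm

theorem trans (h : Pth V k x y) (h' : Pth V m y w) : Pth V (k + m) x w := by
  induction h' with
  | zero _ => exact h
  | step _ c ih => exact (ih h).step c

theorem conj (g : G) (h : Pth V k x y) : Pth V k (g * x * g⁻¹) (g * y * g⁻¹) := by
  induction h with
  | zero hx => exact .zero (hx.conj g)
  | step _ c ih => exact ih.step (c.conj g)

theorem succ (h : Pth V k x y) : Pth V (k + 1) x y := h.step h.right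

theorem mono (h : Pth V k x y) (hkm : k ≤ m) : Pth V m x y := by
  induction hkm with
  | refl => exact h
  | step _ ih => exact ih.succ

theorem of_col (c : Col V x y) : Pth V 1 x y := (Pth.zero c.left).step c

theorem col (h : Pth V 1 x y) : Col V x y := by
  cases h with
  | step h c =>
    cases h with
    | zero _ => exact c

theorem exists_mid (h : Pth V 2 x y) : ∃ r, Col V x r ∧ Col V r y := by
  cases h with
  | step h c => exact ⟨_, h.col, c⟩

end Pth

/-- `[W_x, W_y] = 1` -/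
def Com (V : Subgroup G) (x y : G) : Prop := ∀ a ∈ ws V x, ∀ b ∈ ws V y, a * b = b * a

theorem Com.symm {V : Subgroup G} {x y : G} (h : Com V x y) : Com V y x := fun a ha b hb => (h b hb a ha).symm

theorem Com.conj {V : Subgroup G} {x y : G} (h : Com V x y) (g : G) : Com V (g * x * g⁻¹) (g * y * g⁻¹) := by
  unfold Com
  rw [← cj_ws, ← cj_ws]
  intro a ha b hb
  have h1 := h _ (mem_cj.mp ha) _ (mem_cj.mp hb)
  calc a * b = g * ((g⁻¹ * a * g) * (g⁻¹ * b * g)) * g⁻¹ := by group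
    _ = g * ((g⁻¹ * b * g) * (g⁻¹ * a * g)) * g⁻¹ := by rw [h1]
    _ = b * a := by group

theorem Com.of_conj {V : Subgroup G} {x y : G} (g : G) (h : Com V (g * x * g⁻¹) (g * y * g⁻¹)) : Com V x y := by
  have := h.conj g⁻¹
  have e : ∀ x : G, g⁻¹ * (g * x * g⁻¹) * g⁻¹⁻¹ = x := fun x => by group
  rwa [e, e] at this

/-- all pairs of distance `< n` commute -/
def Mn (V : Subgroup G) (n : ℕ) : Prop := ∀ k < n, ∀ a b, Pth V k a b → Com V a b

/-- critical pair -/
structure Cr (V : Subgroup G) (n : ℕ) (x y : G) : Prop where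
  path : Pth V n x y
  ne : ¬ Com V x y
  min : Mn V n

namespace Cr

variable {V : Subgroup G} {n : ℕ} {x y : G}

theorem symm (h : Cr V n x y) : Cr V n y x := ⟨h.path.symm, fun e => h.ne e.symm, h.min⟩

theorem conj (h : Cr V n x y) (g : G) : Cr V n (g * x * g⁻¹) (g * y * g⁻¹) :=
  ⟨h.path.conj g, fun e => h.ne (e.of_conj g), h.min⟩

end Cr

/-! ### all flags -/

namespace Fr

variable {T V : Subgroup G} {z : G}

theorem flag (h : Fr T V z) {g x : G} (hx : x ∈ cj g V) (hx1 : x ≠ 1) :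
    ∃ k, cj k V = cj g V ∧ k * z * k⁻¹ = x ∧ Fr (cj k T) (cj g V) x := by
  rw [mem_cj] at hx
  have hx1' : g⁻¹ * x * g ≠ 1 := fun e => hx1 (by
    have : x = g * (g⁻¹ * x * g) * g⁻¹ := by group
    rw [this, e]; group)
  obtain ⟨m, hm, hmz, hf⟩ := h.point hx hx1'
  have h1 := hf.conj g
  have e : g * (g⁻¹ * x * g) * g⁻¹ = x := by group
  rw [e, cj_cj] at h1
  refine ⟨g * m, ?_, ?_, h1⟩
  · rw [← cj_cj, cj_eq_of_mem_normalizer hm]
  · calc g * m * z * (g * m)⁻¹ = g * (m * z * m⁻¹) * g⁻¹ := by group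
      _ = x := by rw [hmz]; group

theorem exists_flag (h : Fr T V z) {x : G} (hx : Col V x x) :
    ∃ g k, x ∈ cj g V ∧ cj k V = cj g V ∧ k * z * k⁻¹ = x ∧ Fr (cj k T) (cj g V) x := by
  obtain ⟨g, h1, -, h2, -⟩ := hx
  obtain ⟨k, hk⟩ := h.flag h1 h2
  exact ⟨g, k, h1, hk⟩

theorem isPt (h : Fr T V z) {x : G} (hx : Col V x x) : ∃ k, k * z * k⁻¹ = x := by
  obtain ⟨-, k, -, -, hk, -⟩ := h.exists_flag hx
  exact ⟨k, hk⟩

theorem col_z (h : Fr T V z) : Col V z z :=
  ⟨1, by rw [cj_one]; exact h.ln.z_mem, by rw [cj_one]; exact h.ln.z_mem, h.ln.z_ne, h.ln.z_ne⟩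

theorem col_conj_z (h : Fr T V z) (g : G) : Col V (g * z * g⁻¹) (g * z * g⁻¹) := h.col_z.conj g

/-- two points are conjugate -/
theorem exists_conj (h : Fr T V z) {x y : G} (hx : Col V x x) (hy : Col V y y) : ∃ g, g * x * g⁻¹ = y := by
  obtain ⟨a, ha⟩ := h.isPt hx
  obtain ⟨b, hb⟩ := h.isPt hy
  refine ⟨b * a⁻¹, ?_⟩
  calc b * a⁻¹ * x * (b * a⁻¹)⁻¹ = b * (a⁻¹ * x * a) * b⁻¹ := by group
    _ = b * (a⁻¹ * (a * z * a⁻¹) * a) * b⁻¹ := by rw [ha]
    _ = b * z * b⁻¹ := by group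
    _ = y := hb

section basic

variable {x y : G}

theorem pt_sq (h : Fr T V z) (hx : Col V x x) : x * x = 1 := by
  obtain ⟨_, _, -, -, -, hf⟩ := h.exists_flag hx
  exact hf.ln.zz

theorem col_comm (h : Fr T V z) (hx : Col V x y) : x * y = y * x := by
  obtain ⟨g, h1, h2, h3, h4⟩ := hx
  obtain ⟨k, hk⟩ := h.flag h1 h3
  exact hk.2.2.ln.comm h1 h2

theorem line_le_ws (_ : Fr T V z) {g : G} (hx : x ∈ cj g V) : cj g V ≤ ws V x := le_ws ⟨⟨g, rfl⟩, hx⟩

theorem mem_ws_of_col (h : Fr T V z) (hx : Col V x y) : y ∈ ws V x := by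
  obtain ⟨g, h1, h2, -, -⟩ := hx
  exact h.line_le_ws h1 h2

theorem mem_ws_self (h : Fr T V z) (hx : Col V x x) : x ∈ ws V x := h.mem_ws_of_col hx

theorem ws_comm (h : Fr T V z) (hx : Col V x x) : ∀ a ∈ ws V x, ∀ b ∈ ws V x, a * b = b * a := by
  obtain ⟨g, _, -, -, -, hf⟩ := h.exists_flag hx
  have := hf.ab
  rwa [ws_cj] at this

theorem ws_sq (h : Fr T V z) (hx : Col V x x) : ∀ a ∈ ws V x, a * a = 1 := by
  obtain ⟨g, _, -, -, -, hf⟩ := h.exists_flag hx
  have := hf.sqz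
  rwa [ws_cj] at this

theorem ws_le_o2 [Finite G] (h : Fr T V z) (hx : Col V x x) : ws V x ≤ o2 (centralizer ({x} : Set G)) := by
  obtain ⟨g, _, -, -, -, hf⟩ := h.exists_flag hx
  have := hf.ln.ws_le_o2
  rwa [ws_cj] at this

theorem ws_le_cent [Finite G] (h : Fr T V z) (hx : Col V x x) : ws V x ≤ centralizer ({x} : Set G) :=
  (h.ws_le_o2 hx).trans (o2_le _)

theorem isPGroup_ws (h : Fr T V z) (hx : Col V x x) : IsPGroup 2 (ws V x) := by
  intro a
  refine ⟨1, ?_⟩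
  ext
  simpa only [pow_two, _root_.pow_one, _root_.Subgroup.coe_mul, _root_.OneMemClass.coe_one] using h.ws_sq hx a a.2

end basic

/-- (T1): at distance `< n` the group `W_x` lies in `O₂(C_G(y))` -/
theorem ws_le_o2_of_pth [Finite G] (h : Fr T V z) {n : ℕ} (hm : Mn V n) :
    ∀ k < n, ∀ x y, Pth V k x y → ws V x ≤ o2 (centralizer ({y} : Set G)) := by
  intro k
  induction k with
  | zero =>
    intro _ x y hxy
    cases hxy with
    | zero hx => exact h.ws_le_o2 hx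
  | succ k ih =>
    intro hk x y hxy
    have hxy0 := hxy
    cases hxy with
    | @step _ _ y' _ hp c =>
      have h1 := ih (by omega) x y' hp
      obtain ⟨g, hy', hy, hy'1, hy1⟩ := id c
      -- `W_x ≤ C(L)`
      have h2 : ws V x ≤ centralizer ((cj g V : Subgroup G) : Set G) := by
        intro a ha
        rw [mem_centralizer_iff]
        intro b hb
        exact (hm k (by omega) x y' hp a ha b (h.line_le_ws hy' hb)).symm
      have h3 : centralizer ((cj g V : Subgroup G) : Set G) ≤ centralizer ({y'} : Set G) := by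
        intro c hc
        rw [mem_centralizer_singleton_iff]
        exact (mem_centralizer_iff.mp hc y' hy').symm
      have h4 : ws V x ≤ o2 (centralizer ((cj g V : Subgroup G) : Set G)) := by
        refine le_trans (le_inf h1 h2) (le_o2 inf_le_right ((isPGroup_o2 _).to_le inf_le_left) ?_)
        refine le_normalizer_of_forall fun c hc a ha => ?_
        exact ⟨conj_mem_of_normalizer (le_normalizer_o2 _) (h3 hc) ha.1, conj_mem_cent hc ha.2⟩
      have h5 : centralizer (ws V y : Set G) ≤ centralizer ((cj g V : Subgroup G) : Set G) :=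
        centralizer_le (h.line_le_ws hy)
      have h6 : ws V x ≤ centralizer (ws V y : Set G) := by
        intro a ha
        rw [mem_centralizer_iff]
        intro b hb
        exact (hm (k + 1) hk x y hxy0 a ha b hb).symm
      have h7 : ws V x ≤ o2 (centralizer (ws V y : Set G)) := by
        refine le_trans (le_inf h4 h6) (le_o2 inf_le_right ((isPGroup_o2 _).to_le inf_le_left) ?_)
        refine le_normalizer_of_forall fun c hc a ha => ?_
        exact ⟨conj_mem_of_normalizer (le_normalizer_o2 _) (h5 hc) ha.1, conj_mem_cent hc ha.2⟩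
      refine h7.trans ?_
      have h8 : centralizer (ws V y : Set G) ≤ centralizer ({y} : Set G) := by
        intro c' hc'
        rw [mem_centralizer_singleton_iff]
        exact (mem_centralizer_iff.mp hc' y (h.mem_ws_self c.right)).symm
      refine le_o2 ((o2_le _).trans h8) (isPGroup_o2 _) ?_
      exact ((centralizer_le_normalizer_ws V y).trans (normalizer_le_normalizer_centralizer _)).trans
        (normalizer_le_normalizer_o2 _)

/-- `I_l`: the intersection of two of the `W_y`, `y` on the line `cj g V`, is the intersection of all -/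
theorem mem_ii_cj (h : Fr T V z) {g p q u : G} (hp : p ∈ cj g V) (hp1 : p ≠ 1) (hq : q ∈ cj g V) (hq1 : q ≠ 1)
    (hqp : q ≠ p) (h1 : u ∈ ws V p) (h2 : u ∈ ws V q) : u ∈ ii (cj g V) := by
  obtain ⟨k, -, -, hf⟩ := h.flag hp hp1
  refine hf.mem_ii hp hp1 hq hq1 hqp ?_ ?_
  · rwa [ws_cj]
  · rwa [ws_cj]

theorem ii_cj_le (_ : Fr T V z) {g p : G} (hp : p ∈ cj g V) (hp1 : p ≠ 1) : ii (cj g V) ≤ ws V p := by
  have := ii_le hp hp1
  rwa [ws_cj] at this

/-- (F2) for the line `cj g V` -/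
theorem ftwo_cj [Finite G] (h : Fr T V z) {g u : G} (hu : u ∈ ii (cj g V)) (huV : u ∉ cj g V) {p q : G}
    (hp : p ∈ cj g V) (hp1 : p ≠ 1) (hq : q ∈ cj g V) (hq1 : q ≠ 1) :
    ∃ c ∈ normalizer ((cj g V : Subgroup G) : Set G), c * u = u * c ∧ c * p * c⁻¹ = q := by
  obtain ⟨k, -, -, hf⟩ := h.flag hp hp1
  exact hf.ftwo hu huV hp hp1 hq hq1

/-- (FU) for the line `cj g V` -/
theorem fu_cj [Finite G] (h : Fr T V z) {g u : G} (hu : u ∈ ii (cj g V)) (huV : u ∉ cj g V) {p : G}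
    (hp : p ∈ cj g V) (hp1 : p ≠ 1) :
    ∃ k ∈ kq V p, k ∈ centralizer ((cj g V : Subgroup G) : Set G) ∧ k * u * k⁻¹ = p * u := by
  obtain ⟨k, -, -, hf⟩ := h.flag hp hp1
  have := hf.fu hu huV hp hp1
  rwa [kq_cj] at this

/-- (F1) for the line `cj g V` -/
theorem mover_cj (h : Fr T V z) {g p : G} (hp : p ∈ cj g V) (hp1 : p ≠ 1) :
    ∃ k ∈ kq V p, k ∉ centralizer ((cj g V : Subgroup G) : Set G) ∧
      ∀ q ∈ cj g V, q ≠ 1 → q ≠ p → k * q * k⁻¹ = p * q := by
  obtain ⟨k, -, -, hf⟩ := h.flag hp hp1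
  obtain ⟨m, hm, hm1⟩ := hf.exists_mover hp hp1
  rw [kq_cj] at hm
  refine ⟨m, hm, hm1, fun q hq hq1 hqp => ?_⟩
  refine hf.move hp hp1 hq hq1 hqp ?_ hm1
  rwa [kq_cj]

theorem kq_cases' (h : Fr T V z) {p k w : G} (hp : Col V p p) (hk : k ∈ kq V p) (hw : w ∈ ws V p) :
    k * w * k⁻¹ = w ∨ k * w * k⁻¹ = p * w := by
  obtain ⟨g, k', hpg, -, -, hf⟩ := h.exists_flag hp
  refine hf.kq_cases hf.ln.z_mem ?_ ?_
  · rwa [kq_cj]
  · rwa [ws_cj]

end Fr

/-! ### critical pairs -/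

namespace Cr

variable {T V : Subgroup G} {z : G} {n : ℕ} {x y : G}

/-- the last line of the path of a critical pair -/
theorem last [Finite G] (h : Fr T V z) (hc : Cr V (n + 1) x y) :
    ∃ y' g, Pth V n x y' ∧ y' ∈ cj g V ∧ y ∈ cj g V ∧ y' ≠ 1 ∧ y ≠ 1 ∧ y' ≠ y ∧
      ws V x ≤ o2 (centralizer ((cj g V : Subgroup G) : Set G)) := by
  have hp := hc.path
  cases hp with
  | @step _ _ y' _ hp c =>
    obtain ⟨g, hy', hy, hy'1, hy1⟩ := id c
    have hne : y' ≠ y := by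
      rintro rfl
      exact hc.ne (hc.min n (by omega) x y' hp)
    refine ⟨y', g, hp, hy', hy, hy'1, hy1, hne, ?_⟩
    have h1 := h.ws_le_o2_of_pth hc.min n (by omega) x y' hp
    have h2 : ws V x ≤ centralizer ((cj g V : Subgroup G) : Set G) := by
      intro a ha
      rw [mem_centralizer_iff]
      intro b hb
      exact (hc.min n (by omega) x y' hp a ha b (h.line_le_ws hy' hb)).symm
    have h3 : centralizer ((cj g V : Subgroup G) : Set G) ≤ centralizer ({y'} : Set G) := by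
      intro c hc
      rw [mem_centralizer_singleton_iff]
      exact (mem_centralizer_iff.mp hc y' hy').symm
    refine le_trans (le_inf h1 h2) (le_o2 inf_le_right ((isPGroup_o2 _).to_le inf_le_left) ?_)
    refine le_normalizer_of_forall fun c hc a ha => ?_
    exact ⟨conj_mem_of_normalizer (le_normalizer_o2 _) (h3 hc) ha.1, conj_mem_cent hc ha.2⟩

/-- `W_x` centralises `y` -/
theorem cent [Finite G] (h : Fr T V z) (hc : Cr V (n + 1) x y) : ws V x ≤ centralizer ({y} : Set G) := by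
  obtain ⟨y', g, -, -, hy, -, -, -, hle⟩ := hc.last h
  refine (hle.trans (o2_le _)).trans fun c hc => ?_
  rw [mem_centralizer_singleton_iff]
  exact (mem_centralizer_iff.mp hc y hy).symm

theorem norm [Finite G] (h : Fr T V z) (hc : Cr V (n + 1) x y) :
    ws V x ≤ normalizer ((ws V y : Subgroup G) : Set G) :=
  (hc.cent h).trans (centralizer_le_normalizer_ws V y)

theorem comm_mem_right [Finite G] (h : Fr T V z) (hc : Cr V (n + 1) x y) {a b : G} (ha : a ∈ ws V x)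
    (hb : b ∈ ws V y) : a * b * a⁻¹ * b⁻¹ ∈ ws V y :=
  mul_mem (conj_mem_of_normalizer (hc.norm h) ha hb) (inv_mem hb)

theorem comm_mem_left [Finite G] (h : Fr T V z) (hc : Cr V (n + 1) x y) {a b : G} (ha : a ∈ ws V x)
    (hb : b ∈ ws V y) : a * b * a⁻¹ * b⁻¹ ∈ ws V x := by
  have e : a * b * a⁻¹ * b⁻¹ = a * (b * a⁻¹ * b⁻¹) := by group
  rw [e]
  exact mul_mem ha (conj_mem_of_normalizer (hc.symm.norm h) hb (inv_mem ha))

/-- (STAR): for the last line `L = {y', y, ..}` of a critical pair, `x ∉ W_{y'} ∩ W_y` (`n ≥ 2`) -/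
theorem star [Finite G] (h : Fr T V z) (hc : Cr V (n + 2) x y) {y' g : G} (hp : Pth V (n + 1) x y')
    (hy' : y' ∈ cj g V) (hy : y ∈ cj g V) (hy'1 : y' ≠ 1) (hy1 : y ≠ 1) (h1 : x ∈ ws V y) :
    x ∉ ws V y' := by
  intro h2
  have hne : y' ≠ y := by
    rintro rfl
    exact hc.ne (hc.min (n + 1) (by omega) x y' hp)
  have hx1 : x ≠ 1 := hc.path.left.ne_one
  have hii := h.mem_ii_cj hy' hy'1 hy hy1 hne.symm h2 h1
  have hxL : x ∉ cj g V := by
    intro hx
    have : Pth V 1 x y := Pth.of_col ⟨g, hx, hy, hx1, hy1⟩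
    exact hc.ne (hc.min 1 (by omega) x y this)
  obtain ⟨c, -, hcx, hcy⟩ := h.ftwo_cj hii hxL hy' hy'1 hy hy1
  have h3 := (hc.min (n + 1) (by omega) x y' hp).conj c
  rw [hcy, conj_eq_of_comm hcx] at h3
  exact hc.ne h3

end Cr

end Cfsg.Agent.Omega.NO3S.Pt

end

section


/-!
# NO-3S, `|V| = 4`, critical distance 2 (TwoMid): the base

* `Mid T V z p r q` : `p ~ r ~ q`, `[W_p, W_q] ≠ 1`, pairs at distance `< 2` commute;
* `Mid.not_mem` : `p ∉ W_q`; `Mid.cent_of_kq` : `W_q ∩ K_p ≤ C(W_p)`;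
  `Mid.comm_of_mod` : `w ∈ W_p`, `[w, W_q] ≤ ⟨p⟩` implies `[w, W_q] = 1`;
* `rr V p q = [W_p, W_q]`, `rr_le_inf`, `p ∉ rr`;
* `uu V r = U_r = ⟨W_y : y ~ r⟩`: `uu_le_o2`, `uu_le_cent` (`U_r ≤ C(W_r)`), `uu_norm` (`U_r` normalises `W_y`, `y ~ r`).
-/

set_option autoImplicit false
set_option linter.unusedSectionVars false

namespace Cfsg.Agent.Omega.NO3S.TwoMid

open Subgroup Cfsg Cfsg.Agent.ZN Cfsg.Agent.MinSimple.Geo Cfsg.Agent.Omega.CaseL Cfsg.Agent.Omega.NO3S.TwoOne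
  Cfsg.Agent.Omega.NO3S.Pt
open Cfsg.Agent.ZN.Block (conj_mem_of_normalizer conj_mem_of_normalizer' le_normalizer_of_forall
  mem_normalizer_of)

universe u

variable {G : Type u} [Group G]

/-- the situation of a critical distance `2` -/
structure Two (T V : Subgroup G) (z : G) : Prop where
  fr : Fr T V z
  mn : Mn V 2

/-- critical triple: `p ~ r ~ q`, `[W_p, W_q] ≠ 1`, critical distance 2 -/
structure Mid (T V : Subgroup G) (z p r q : G) : Prop extends Two T V z where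
  pr : Col V p r
  rq : Col V r q
  ne : ¬ Com V p q

theorem Mid.of_cr {T V : Subgroup G} {z p q : G} (h : Fr T V z) (hc : Cr V 2 p q) :
    ∃ r, Mid T V z p r q := by
  obtain ⟨r, h1, h2⟩ := hc.path.exists_mid
  exact ⟨r, ⟨h, hc.min⟩, h1, h2, hc.ne⟩

/-- `U_r = ⟨W_y : y ~ r⟩` -/
def uu (V : Subgroup G) (r : G) : Subgroup G := sSup {W | ∃ y, Col V r y ∧ W = ws V y}

theorem ws_le_uu {V : Subgroup G} {r y : G} (h : Col V r y) : ws V y ≤ uu V r := le_sSup ⟨y, h, rfl⟩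

theorem uu_le {V U : Subgroup G} {r : G} (h : ∀ y, Col V r y → ws V y ≤ U) : uu V r ≤ U := by
  refine sSup_le ?_
  rintro _ ⟨y, hy, rfl⟩
  exact h y hy

theorem cj_uu (V : Subgroup G) (g r : G) : cj g (uu V r) = uu V (g * r * g⁻¹) := by
  have key : ∀ g r : G, cj g (uu V r) ≤ uu V (g * r * g⁻¹) := by
    intro g r
    rw [cj_le_iff]
    refine uu_le fun y hy => ?_
    rw [← cj_le_iff, cj_ws]
    exact ws_le_uu (hy.conj g)
  refine le_antisymm (key g r) ?_
  have h := key g⁻¹ (g * r * g⁻¹)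
  have e : g⁻¹ * (g * r * g⁻¹) * g⁻¹⁻¹ = r := by group
  rw [e, cj_le_iff, inv_inv] at h
  exact h

theorem centralizer_le_normalizer_uu (V : Subgroup G) (r : G) :
    centralizer ({r} : Set G) ≤ normalizer ((uu V r : Subgroup G) : Set G) := by
  intro g hg
  rw [mem_normalizer_iff_cj, cj_uu]
  have : g * r * g⁻¹ = r := by rw [mem_centralizer_singleton_iff.mp hg]; group
  rw [this]

namespace Two

variable {T V : Subgroup G} {z : G} {p r q a b : G}

theorem conj (h : Two T V z) (g : G) : Two (cj g T) (cj g V) (g * z * g⁻¹) where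
  fr := h.fr.conj g
  mn := by
    intro k hk a b hab u hu w hw
    rw [ws_cj] at hu hw
    refine h.mn k hk a b ?_ u hu w hw
    clear hu hw
    have key : ∀ {x y : G}, Col (cj g V) x y → Col V x y := by
      rintro x y ⟨m, h1, h2, h3, h4⟩
      rw [cj_cj] at h1 h2
      exact ⟨m * g, h1, h2, h3, h4⟩
    induction hab with
    | zero hx => exact .zero (key hx)
    | step _ c ih => exact (ih (by omega)).step (key c)

/-- collinear points: `W_p`, `W_r` commute -/
theorem com (h : Two T V z) (hpr : Col V p r) : Com V p r :=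
  h.mn 1 (by omega) p r (Pth.of_col hpr)

/-- `W_y ≤ O₂(C(r))`, `y ~ r` -/
theorem ws_le_o2 [Finite G] (h : Two T V z) (hpr : Col V p r) : ws V p ≤ o2 (centralizer ({r} : Set G)) :=
  h.fr.ws_le_o2_of_pth h.mn 1 (by omega) p r (Pth.of_col hpr)

theorem ws_le_cent (h : Two T V z) (hpr : Col V p r) : ws V p ≤ centralizer (ws V r : Set G) := by
  intro a ha
  rw [mem_centralizer_iff]
  intro b hb
  exact (h.com hpr a ha b hb).symm

/-- `U_r ≤ O₂(C(r))` -/
theorem uu_le_o2 [Finite G] (h : Two T V z) (r : G) : uu V r ≤ o2 (centralizer ({r} : Set G)) :=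
  uu_le fun _ hy => h.ws_le_o2 hy.symm

/-- `U_r ≤ C(W_r)` -/
theorem uu_le_cent (h : Two T V z) (r : G) : uu V r ≤ centralizer (ws V r : Set G) :=
  uu_le fun _ hy => h.ws_le_cent hy.symm

/-- elements centralising `W_r` centralise the points `y ~ r` -/
theorem cent_ws_le (h : Two T V z) (hry : Col V r a) : centralizer (ws V r : Set G) ≤ centralizer ({a} : Set G) := by
  intro c hc
  rw [mem_centralizer_singleton_iff]
  exact (mem_centralizer_iff.mp hc a (h.fr.mem_ws_of_col hry)).symm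

/-- `U_r` normalises `W_y`, `y ~ r` -/
theorem uu_norm (h : Two T V z) (hry : Col V r a) : uu V r ≤ normalizer ((ws V a : Subgroup G) : Set G) :=
  ((h.uu_le_cent r).trans (h.cent_ws_le hry)).trans (centralizer_le_normalizer_ws V a)

theorem isPGroup_uu [Finite G] (h : Two T V z) (r : G) : IsPGroup 2 (uu V r) :=
  (isPGroup_o2 _).to_le (h.uu_le_o2 r)

/-- `W_a`, `W_b` normalise each other if `a ~ r ~ b` -/
theorem norm (h : Two T V z) (har : Col V a r) (hrb : Col V r b) :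
    ws V a ≤ normalizer ((ws V b : Subgroup G) : Set G) :=
  (ws_le_uu har.symm).trans (h.uu_norm hrb)

theorem comm_mem (h : Two T V z) (har : Col V a r) (hrb : Col V r b) {x y : G} (hx : x ∈ ws V a)
    (hy : y ∈ ws V b) : x * y * x⁻¹ * y⁻¹ ∈ ws V a ⊓ ws V b := by
  refine mem_inf.mpr ⟨?_, (ws V b).mul_mem (conj_mem_of_normalizer (h.norm har hrb) hx hy)
    ((ws V b).inv_mem hy)⟩
  have e : x * y * x⁻¹ * y⁻¹ = x * (y * x⁻¹ * y⁻¹) := by group
  rw [e]
  exact (ws V a).mul_mem hx (conj_mem_of_normalizer (h.norm hrb.symm har.symm) hy ((ws V a).inv_mem hx))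

end Two

/-- `[W_p, W_q]` -/
def rr (V : Subgroup G) (p q : G) : Subgroup G :=
  _root_.Subgroup.closure {c | ∃ x ∈ ws V p, ∃ y ∈ ws V q, c = x * y * x⁻¹ * y⁻¹}

theorem comm_mem_rr {V : Subgroup G} {p q x y : G} (hx : x ∈ ws V p) (hy : y ∈ ws V q) :
    x * y * x⁻¹ * y⁻¹ ∈ rr V p q := subset_closure ⟨x, hx, y, hy, rfl⟩

theorem rr_comm (V : Subgroup G) (p q : G) : rr V p q = rr V q p := by
  have key : ∀ p q : G, rr V p q ≤ rr V q p := by
    intro p q
    refine (closure_le _).mpr ?_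
    rintro _ ⟨x, hx, y, hy, rfl⟩
    have : x * y * x⁻¹ * y⁻¹ = (y * x * y⁻¹ * x⁻¹)⁻¹ := by group
    rw [this]
    exact inv_mem (comm_mem_rr hy hx)
  exact le_antisymm (key p q) (key q p)

theorem cj_rr (V : Subgroup G) (g p q : G) : cj g (rr V p q) = rr V (g * p * g⁻¹) (g * q * g⁻¹) := by
  have key : ∀ g p q : G, cj g (rr V p q) ≤ rr V (g * p * g⁻¹) (g * q * g⁻¹) := by
    intro g p q
    rw [cj_le_iff]
    refine (closure_le _).mpr ?_
    rintro _ ⟨x, hx, y, hy, rfl⟩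
    refine mem_cj.mpr ?_
    have e : g⁻¹⁻¹ * (x * y * x⁻¹ * y⁻¹) * g⁻¹ =
        (g * x * g⁻¹) * (g * y * g⁻¹) * (g * x * g⁻¹)⁻¹ * (g * y * g⁻¹)⁻¹ := by group
    rw [e]
    exact comm_mem_rr (conj_mem_ws g hx) (conj_mem_ws g hy)
  refine le_antisymm (key g p q) ?_
  have h := key g⁻¹ (g * p * g⁻¹) (g * q * g⁻¹)
  have e : ∀ x : G, g⁻¹ * (g * x * g⁻¹) * g⁻¹⁻¹ = x := fun x => by group
  rw [e, e, cj_le_iff, inv_inv] at h
  exact h

namespace Mid

variable {T V : Subgroup G} {z : G} {p r q : G}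

theorem cr (h : Mid T V z p r q) : Cr V 2 p q := ⟨(Pth.of_col h.pr).step h.rq, h.ne, h.mn⟩

theorem symm (h : Mid T V z p r q) : Mid T V z q r p :=
  { h.toTwo with pr := h.rq.symm, rq := h.pr.symm, ne := fun e => h.ne e.symm }

theorem conj (h : Mid T V z p r q) (g : G) : Mid T V z (g * p * g⁻¹) (g * r * g⁻¹) (g * q * g⁻¹) :=
  { h.toTwo with pr := h.pr.conj g, rq := h.rq.conj g, ne := fun e => h.ne (e.of_conj g) }

theorem ne_pr (h : Mid T V z p r q) : p ≠ r := by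
  rintro rfl
  exact h.ne (h.toTwo.com h.rq)

theorem ne_rq (h : Mid T V z p r q) : r ≠ q := by
  rintro rfl
  exact h.ne (h.toTwo.com h.pr)

theorem not_col (h : Mid T V z p r q) : ¬ Col V p q := fun e => h.ne (h.toTwo.com e)

/-- `p ∉ W_q` -/
theorem not_mem [Finite G] (h : Mid T V z p r q) : p ∉ ws V q := by
  intro hp
  obtain ⟨g, hr, hq, hr1, hq1⟩ := h.rq
  exact h.cr.star h.fr (Pth.of_col h.pr) hr hq hr1 hq1 hp (h.fr.mem_ws_of_col h.pr.symm)

theorem not_mem' [Finite G] (h : Mid T V z p r q) : q ∉ ws V p := h.symm.not_mem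

/-- `W_q` centralises `p` -/
theorem cent (h : Mid T V z p r q) : ws V q ≤ centralizer ({p} : Set G) :=
  (h.toTwo.ws_le_cent h.rq.symm).trans (h.toTwo.cent_ws_le h.pr.symm)

theorem norm (h : Mid T V z p r q) : ws V q ≤ normalizer ((ws V p : Subgroup G) : Set G) :=
  h.cent.trans (centralizer_le_normalizer_ws V p)

theorem comm_mem (h : Mid T V z p r q) {x y : G} (hx : x ∈ ws V p) (hy : y ∈ ws V q) :
    x * y * x⁻¹ * y⁻¹ ∈ ws V p ⊓ ws V q := h.toTwo.comm_mem h.pr h.rq hx hy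

theorem rr_le (h : Mid T V z p r q) : rr V p q ≤ ws V p ⊓ ws V q := by
  refine (closure_le _).mpr ?_
  rintro _ ⟨x, hx, y, hy, rfl⟩
  exact h.comm_mem hx hy

theorem rr_ne_bot (h : Mid T V z p r q) : rr V p q ≠ ⊥ := by
  intro e
  apply h.ne
  intro x hx y hy
  have := comm_mem_rr hx hy (V := V)
  rw [e, mem_bot] at this
  calc x * y = (x * y * x⁻¹ * y⁻¹) * (y * x) := by group
    _ = y * x := by rw [this, one_mul]

/-- `r ∈ W_p ∩ W_q` -/
theorem r_mem (h : Mid T V z p r q) : r ∈ ws V p ⊓ ws V q :=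
  ⟨h.fr.mem_ws_of_col h.pr, h.fr.mem_ws_of_col h.rq.symm⟩

/-- an element of `⟨p⟩ ∩ W_q` is trivial -/
theorem eq_one_of_mem [Finite G] (h : Mid T V z p r q) {c : G} (hc : c ∈ zpowers p) (hq : c ∈ ws V q) : c = 1 := by
  rcases (mem_zpowers_iff_of_mul_self (h.fr.pt_sq h.pr.left)).mp hc with e | e
  · exact e
  · exact absurd (e ▸ hq) h.not_mem

/-- `W_q ∩ K_p ≤ C(W_p)` -/
theorem cent_of_kq [Finite G] (h : Mid T V z p r q) {b : G} (hb : b ∈ ws V q) (hk : b ∈ kq V p) :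
    b ∈ centralizer (ws V p : Set G) := by
  rw [mem_centralizer_iff]
  intro w hw
  have h1 : b * w * b⁻¹ * w⁻¹ = 1 := by
    refine h.eq_one_of_mem (kq_comm hk hw) ?_
    exact (h.symm.comm_mem hb hw).1
  calc w * b = (b * w * b⁻¹ * w⁻¹)⁻¹ * (b * w) := by group
    _ = b * w := by rw [h1, inv_one, one_mul]

/-- `w ∈ W_p`, `[w, W_q] ≤ ⟨p⟩` implies `[w, W_q] = 1` -/
theorem comm_of_mod [Finite G] (h : Mid T V z p r q) {w : G} (hw : w ∈ ws V p)
    (hk : ∀ b ∈ ws V q, w * b * w⁻¹ * b⁻¹ ∈ zpowers p) : w ∈ centralizer (ws V q : Set G) := by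
  rw [mem_centralizer_iff]
  intro b hb
  have h1 : w * b * w⁻¹ * b⁻¹ = 1 := h.eq_one_of_mem (hk b hb) (h.comm_mem hw hb).2
  calc b * w = (w * b * w⁻¹ * b⁻¹)⁻¹ * (w * b) := by group
    _ = w * b := by rw [h1, inv_one, one_mul]

theorem not_mem_rr' [Finite G] (h : Mid T V z p r q) : q ∉ rr V p q := fun e => h.not_mem' (h.rr_le e).1

end Mid

end Cfsg.Agent.Omega.NO3S.TwoMid

end

section


/-!
# NO-3S, `|V| = 4`, critical distance 2: TYPE N (`[W_a, W_b] ≤ ⟨r⟩` for all `a ~ r ~ b`)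

helper986 #11290 (b), helper502 #15661 (5), helper740 (UM).

* `TyN T V z` : `Two` and `[W_a, W_b] ≤ ⟨r⟩` for every path `a ~ r ~ b`;
* `TyN.uu_comm` : `[U_r, U_r] ≤ ⟨r⟩`, `TyN.uu_sq` : `x² ∈ ⟨r⟩` for `x ∈ U_r`, `TyN.inf_comm` : `U_r ∩ U_p` is abelian,
  of exponent 2 (`TyN.inf_sq`), `r ≠ p`;
* `TyN.dihedral` : `a ~ r ~ p`, `w ∈ U_p`, `y ∈ W_a` : `[y, [y, w]] = 1`; `TyN.dihedral_all` : for all `y ∈ U_r`;
* `TyN.middle` : the middle of a critical pair is unique; `TyN.inf_eq` (UM).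
-/

set_option autoImplicit false
set_option linter.unusedSectionVars false

namespace Cfsg.Agent.Omega.NO3S.TwoMid

open Subgroup Cfsg Cfsg.Agent.ZN Cfsg.Agent.MinSimple.Geo Cfsg.Agent.Omega.CaseL Cfsg.Agent.Omega.NO3S.TwoOne
  Cfsg.Agent.Omega.NO3S.Pt
open Cfsg.Agent.ZN.Block (conj_mem_of_normalizer conj_mem_of_normalizer' le_normalizer_of_forall
  mem_normalizer_of)

universe u

variable {G : Type u} [Group G]

/-- type N -/
structure TyN (T V : Subgroup G) (z : G) : Prop extends Two T V z where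
  n : ∀ a r b, Col V a r → Col V r b → ∀ x ∈ ws V a, ∀ y ∈ ws V b, x * y * x⁻¹ * y⁻¹ ∈ zpowers r

namespace TyN

variable {T V : Subgroup G} {z : G} {a b p r : G}

/-- elements of `C(r)` centralise `⟨r⟩` -/
theorem zc {c y : G} (hc : c ∈ centralizer ({r} : Set G)) (hy : y ∈ zpowers r) : c * y * c⁻¹ = y := by
  obtain ⟨n, rfl⟩ := mem_zpowers_iff.mp hy
  have h : Commute c r := mem_centralizer_singleton_iff.mp hc
  rw [(h.zpow_right n).eq, mul_inv_cancel_right]

/-- commutators of elements of `C(r)` with commutators in `⟨r⟩` -/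
theorem comm_closure {A B : Set G} (hA : A ⊆ centralizer ({r} : Set G)) (hB : B ⊆ centralizer ({r} : Set G))
    (h : ∀ x ∈ A, ∀ y ∈ B, x * y * x⁻¹ * y⁻¹ ∈ zpowers r) :
    ∀ x ∈ _root_.Subgroup.closure A, ∀ y ∈ closure B, x * y * x⁻¹ * y⁻¹ ∈ zpowers r := by
  have hAc : _root_.Subgroup.closure A ≤ centralizer ({r} : Set G) := (closure_le _).mpr hA
  have hBc : closure B ≤ centralizer ({r} : Set G) := (closure_le _).mpr hB
  have h1 : ∀ x ∈ A, ∀ y ∈ closure B, x * y * x⁻¹ * y⁻¹ ∈ zpowers r := by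
    intro x hx y hy
    induction hy using closure_induction with
    | mem y hy => exact h x hx y hy
    | one => simp
    | mul y y' hy hy' h1 h2 =>
      have e : x * (y * y') * x⁻¹ * (y * y')⁻¹ =
          (x * y * x⁻¹ * y⁻¹) * (y * (x * y' * x⁻¹ * y'⁻¹) * y⁻¹) := by group
      rw [e, zc (hBc hy) h2]
      exact mul_mem h1 h2
    | inv y hy h1 =>
      have e : x * y⁻¹ * x⁻¹ * y⁻¹⁻¹ = (y⁻¹ * (x * y * x⁻¹ * y⁻¹) * y⁻¹⁻¹)⁻¹ := by group
      rw [e, zc (inv_mem (hBc hy)) h1]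
      exact inv_mem h1
  intro x hx y hy
  induction hx using closure_induction with
  | mem x hx => exact h1 x hx y hy
  | one => simp
  | mul x x' hx hx' h1 h2 =>
    have e : x * x' * y * (x * x')⁻¹ * y⁻¹ =
        (x * (x' * y * x'⁻¹ * y⁻¹) * x⁻¹) * (x * y * x⁻¹ * y⁻¹) := by group
    rw [e, zc (hAc hx) h2]
    exact mul_mem h2 h1
  | inv x hx h1 =>
    have e : x⁻¹ * y * x⁻¹⁻¹ * y⁻¹ = (x⁻¹ * (x * y * x⁻¹ * y⁻¹) * x⁻¹⁻¹)⁻¹ := by group
    rw [e, zc (inv_mem (hAc hx)) h1]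
    exact inv_mem h1

theorem uu_eq_closure (V : Subgroup G) (r : G) : uu V r = _root_.Subgroup.closure {x | ∃ y, Col V r y ∧ x ∈ ws V y} := by
  apply le_antisymm
  · refine uu_le fun y hy x hx => subset_closure ⟨y, hy, hx⟩
  · rw [closure_le]
    rintro x ⟨y, hy, hx⟩
    exact ws_le_uu hy hx

variable [Finite G]

theorem uu_le_cr (h : TyN T V z) (r : G) : uu V r ≤ centralizer ({r} : Set G) :=
  (h.toTwo.uu_le_o2 r).trans (o2_le _)

/-- `[U_r, U_r] ≤ ⟨r⟩` -/
theorem uu_comm (h : TyN T V z) {x y : G} (hx : x ∈ uu V r) (hy : y ∈ uu V r) :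
    x * y * x⁻¹ * y⁻¹ ∈ zpowers r := by
  have hle : {x | ∃ y, Col V r y ∧ x ∈ ws V y} ⊆ (centralizer ({r} : Set G) : Set G) := by
    rintro x ⟨y, hy, hx⟩
    exact h.uu_le_cr r (ws_le_uu hy hx)
  rw [uu_eq_closure] at hx hy
  refine comm_closure hle hle ?_ x hx y hy
  rintro x ⟨a, ha, hx⟩ y ⟨b, hb, hy⟩
  exact h.n a r b ha.symm hb x hx y hy

/-- `x² ∈ ⟨r⟩`, `x ∈ U_r` -/
theorem uu_sq (h : TyN T V z) {x : G} (hx : x ∈ uu V r) : x * x ∈ zpowers r := by
  have hx' := hx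
  rw [uu_eq_closure] at hx
  have hc : ∀ x ∈ _root_.Subgroup.closure {x | ∃ y, Col V r y ∧ x ∈ ws V y}, x ∈ uu V r := by
    intro x hx
    rwa [uu_eq_closure]
  clear hx'
  induction hx using closure_induction with
  | mem x hx =>
    obtain ⟨y, hy, hx⟩ := hx
    rw [h.fr.ws_sq hy.right x hx]
    exact one_mem _
  | one => simp
  | mul x y hx hy h1 h2 =>
    have e : x * y * (x * y) = (x * x) * (x⁻¹ * (y * x * y⁻¹ * x⁻¹) * x⁻¹⁻¹) * (y * y) := by group
    rw [e, zc (inv_mem (h.uu_le_cr r (hc x hx))) (h.uu_comm (hc y hy) (hc x hx))]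
    exact mul_mem (mul_mem h1 (h.uu_comm (hc y hy) (hc x hx))) h2
  | inv x hx h1 =>
    have e : x⁻¹ * x⁻¹ = (x * x)⁻¹ := by group
    rw [e]
    exact inv_mem h1

/-- `⟨p⟩ ∩ ⟨r⟩ = 1` -/
theorem eq_one (h : TyN T V z) (hpr : Col V p r) (hne : p ≠ r) {c : G} (h1 : c ∈ zpowers p) (h2 : c ∈ zpowers r) :
    c = 1 := by
  rcases (mem_zpowers_iff_of_mul_self (h.fr.pt_sq hpr.left)).mp h1 with e | e
  · exact e
  rcases (mem_zpowers_iff_of_mul_self (h.fr.pt_sq hpr.right)).mp h2 with e' | e'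
  · exact e'
  · exact absurd (e.symm.trans e') hne

theorem inf_sq (h : TyN T V z) (hpr : Col V p r) (hne : p ≠ r) {x : G} (hx : x ∈ uu V p ⊓ uu V r) :
    x * x = 1 := h.eq_one hpr hne (h.uu_sq hx.1) (h.uu_sq hx.2)

/-- `U_p` normalises `U_r`, `p ~ r` -/
theorem uu_norm_uu (h : TyN T V z) (hpr : Col V p r) : uu V p ≤ normalizer ((uu V r : Subgroup G) : Set G) :=
  ((h.toTwo.uu_le_cent p).trans (h.toTwo.cent_ws_le hpr)).trans (centralizer_le_normalizer_uu V r)

/-- `[U_r, U_p] ≤ U_r ∩ U_p` -/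
theorem comm_mem_inf (h : TyN T V z) (hpr : Col V p r) {x y : G} (hx : x ∈ uu V r) (hy : y ∈ uu V p) :
    x * y * x⁻¹ * y⁻¹ ∈ uu V p ⊓ uu V r := by
  refine mem_inf.mpr ⟨?_, ?_⟩
  · exact (uu V p).mul_mem (conj_mem_of_normalizer (h.uu_norm_uu hpr.symm) hx hy) ((uu V p).inv_mem hy)
  · have e : x * y * x⁻¹ * y⁻¹ = x * (y * x⁻¹ * y⁻¹) := by group
    rw [e]
    exact (uu V r).mul_mem hx (conj_mem_of_normalizer (h.uu_norm_uu hpr) hy ((uu V r).inv_mem hx))

/-- **DIHEDRAL TRICK**: `a ~ r ~ p`, `w ∈ U_p`, `y ∈ W_a`: `y` commutes with `y^w`, so with `[y, w]` -/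
theorem dihedral (h : TyN T V z) (har : Col V a r) (hrp : Col V r p) (hne : p ≠ r) {w y : G}
    (hw : w ∈ uu V p) (hy : y ∈ ws V a) : y * (y * w * y⁻¹ * w⁻¹) = (y * w * y⁻¹ * w⁻¹) * y := by
  set c := y * w * y⁻¹ * w⁻¹ with hc
  have hyU : y ∈ uu V r := ws_le_uu har.symm hy
  have hcm : c ∈ uu V p ⊓ uu V r := h.comm_mem_inf hrp.symm hyU hw
  have hyy : y * y = 1 := h.fr.ws_sq har.left y hy
  have hyi : y⁻¹ = y := inv_eq_self hyy
  have e1 : w * y * w⁻¹ = c⁻¹ * y := by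
    rw [hc]
    calc w * y * w⁻¹ = w * y⁻¹⁻¹ * w⁻¹ := by rw [inv_inv]
      _ = (y * w * y⁻¹ * w⁻¹)⁻¹ * y := by group
  have hcc : c * c = 1 := h.inf_sq hrp.symm hne hcm
  have hci : c⁻¹ = c := inv_eq_self hcc
  -- `(c y)² = 1` because `c y = w y w⁻¹` (up to `c = c⁻¹`)
  have e3 : c * y * (c * y) = 1 := by
    have : w * y * w⁻¹ * (w * y * w⁻¹) = 1 := by
      calc w * y * w⁻¹ * (w * y * w⁻¹) = w * (y * y) * w⁻¹ := by group
        _ = 1 := by rw [hyy]; group
    rwa [e1, hci] at this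
  have e4 : y * c * y⁻¹ * c⁻¹ = 1 := by
    rw [hyi, hci]
    have : c * y * c * y = 1 := by
      calc c * y * c * y = c * y * (c * y) := by group
        _ = 1 := e3
    calc y * c * y * c = y * (c * y * c * y) * y⁻¹ := by group
      _ = 1 := by rw [this]; group
  calc y * c = (y * c * y⁻¹ * c⁻¹) * (c * y) := by group
    _ = c * y := by rw [e4, one_mul]

end TyN

end Cfsg.Agent.Omega.NO3S.TwoMid

end

section


/-!
# TwoFar (`|V_P| = 4`, `n ≥ 3`): THEOREM LL (#18157), section 3: the GRANDCHILD LEMMA, geometry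

* `four'` : the elements of a line;
* `colTrans` : (F2) as: `u ∈ W_a ∩ W_b`, `a`, `b` on a line, `u` not on the line, `u` collinear with `a` ⟹ with `b`;
* `grand` : a path `x₂, x₁, y₀, y₁, ..` as in section 3 of #18157 : `W_{x₂} ∩ W_{x₁} ∩ W_{y₀} ∩ W_{y₁}` contains no
  point `e ∼ x₂` with `e ≠ x₂, x₁, x₂x₁`.
-/

set_option autoImplicit false
set_option linter.unusedSectionVars false

namespace Cfsg.Agent.Omega.NOThree.LL

open Subgroup Cfsg Cfsg.Agent.ZN Cfsg.Agent.MinSimple.Geo Cfsg.Agent.Omega.CaseL Cfsg.Agent.Omega.NO3S.TwoOne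
open Cfsg.Agent.Omega.NO3S.Pt

universe u

variable {G : Type u} [Group G] {T V : Subgroup G} {z : G}

/-- the elements of the line of `a`, `b` -/
theorem four' (h : Fr T V z) {g a b e : G} (ha : a ∈ cj g V) (ha1 : a ≠ 1) (hb : b ∈ cj g V) (hb1 : b ≠ 1)
    (hne : b ≠ a) (he : e ∈ cj g V) : e = 1 ∨ e = a ∨ e = b ∨ e = a * b := by
  obtain ⟨k, -, -, hf⟩ := h.flag ha ha1
  exact hf.ln.four ha hb ha1 hb1 (Ne.symm hne) he

/-- (F2): `a`, `b` on a line, `u ∈ W_a ∩ W_b` not on it: `u ∼ a` implies `u ∼ b`. -/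
theorem colTrans [Finite G] (h : Fr T V z) {g a b u : G} (ha : a ∈ cj g V) (ha1 : a ≠ 1) (hb : b ∈ cj g V)
    (hb1 : b ≠ 1) (hne : b ≠ a) (hua : u ∈ ws V a) (hub : u ∈ ws V b) (hu : u ∉ cj g V) (hc : Col V u a) :
    Col V u b := by
  have hii := h.mem_ii_cj ha ha1 hb hb1 hne hua hub
  obtain ⟨c, -, hcu, hcab⟩ := h.ftwo_cj hii hu ha ha1 hb hb1
  have := hc.conj c
  rwa [conj_eq_of_comm hcu, hcab] at this

/-- geometry of section 3: `x₂ ∼ x₁ ∼ y₀ ∼ y₁`, `d(x₂, y₀) = 2`, `d(x₁, y₁) = 2` -/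
theorem grand_geo [Finite G] (h : Fr T V z) {x2 x1 y0 y1 e : G} (c21 : Col V x2 x1) (c10 : Col V x1 y0)
    (c01 : Col V y0 y1) (hx21 : x2 ≠ x1) (h20 : ¬ Col V x2 y0) (h11 : ¬ Col V x1 y1) (h1 : x1 ≠ y0) (h0 : y0 ≠ y1)
    (he2 : e ∈ ws V x2) (he1 : e ∈ ws V x1) (he0 : e ∈ ws V y0) (hey : e ∈ ws V y1)
    (hne1 : e ≠ x1) (hne2 : e ≠ x2) (hne21 : e ≠ x2 * x1) (hc : Col V e x2) : Col V e y1 := by
  obtain ⟨g, a1, a2, a3, a4⟩ := id c21
  obtain ⟨g', b1, b2, b3, b4⟩ := id c10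
  obtain ⟨g'', d1, d2, d3, d4⟩ := id c01
  have hee : e ≠ 1 := hc.ne_one
  -- `y₀ ∉ W_{x₂}`
  have hy0 : y0 ∉ ws V x2 := by
    intro hy
    by_cases hl : y0 ∈ cj g V
    · exact h20 ⟨g, a1, hl, a3, b4⟩
    · exact h20 (colTrans h a2 a4 a1 a3 hx21 (h.mem_ws_of_col c10) hy hl c10.symm).symm
  -- `y₁ ∉ W_{x₁}`
  have hy1 : y1 ∉ ws V x1 := by
    intro hy
    by_cases hl : y1 ∈ cj g' V
    · exact h11 ⟨g', b1, hl, b3, d4⟩
    · exact h11 (colTrans h b2 b4 b1 b3 h1 (h.mem_ws_of_col c01) hy hl c01.symm).symm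
  -- `e ∼ x₁`
  have e1 : Col V e x1 := by
    refine colTrans h a1 a3 a2 a4 hx21.symm he2 he1 ?_ hc
    intro hl
    rcases four' h a1 a3 a2 a4 hx21.symm hl with e' | e' | e' | e'
    · exact hee e'
    · exact hne2 e'
    · exact hne1 e'
    · exact hne21 e'
  -- `e ∼ y₀`
  have hx12 : x1 ∈ ws V x2 := h.mem_ws_of_col c21
  have e0 : Col V e y0 := by
    refine colTrans h b1 b3 b2 b4 h1.symm he1 he0 ?_ e1
    intro hl
    rcases four' h b1 b3 b2 b4 h1.symm hl with e' | e' | e' | e'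
    · exact hee e'
    · exact hne1 e'
    · exact hy0 (e' ▸ he2)
    · apply hy0
      have : y0 = x1⁻¹ * e := by rw [e']; group
      rw [this]
      exact mul_mem (inv_mem hx12) he2
  -- `e ∼ y₁`
  refine colTrans h d1 d3 d2 d4 h0.symm he0 hey ?_ e0
  intro hl
  have hy01 : y0 ∈ ws V x1 := h.mem_ws_of_col c10
  rcases four' h d1 d3 d2 d4 h0.symm hl with e' | e' | e' | e'
  · exact hee e'
  · exact hy0 (e' ▸ he2)
  · exact hy1 (e' ▸ he1)
  · apply hy1
    have : y1 = y0⁻¹ * e := by rw [e']; group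
    rw [this]
    exact mul_mem (inv_mem hy01) he1

/-- a piece of the path `y` -/
theorem pth_seg {y : ℕ → G} {n : ℕ} (hy : ∀ i < n, Col V (y i) (y (i + 1))) {i k : ℕ} (hk : i + k ≤ n)
    (hn : 0 < n) : Pth V k (y i) (y (i + k)) := by
  induction k with
  | zero =>
    rcases Nat.lt_or_ge i n with hi | hi
    · exact Pth.zero (hy i hi).left
    · obtain rfl : i = n := by omega
      obtain ⟨j, rfl⟩ : ∃ j, i = j + 1 := ⟨i - 1, by omega⟩
      exact Pth.zero (hy j (by omega)).right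
  | succ k ih => exact (ih (by omega)).step (hy (i + k) (by omega))

/-- **GRANDCHILD LEMMA** (#18157, section 3 (d)): `y` a geodesic, `(x₁, y_{n-1})` and `(x₂, y_{n-2})` critical. -/
theorem grand_path [Finite G] (h : Fr T V z) {m : ℕ} {y : ℕ → G} {x1 x2 e : G}
    (hy : ∀ i < m + 3, Col V (y i) (y (i + 1))) (c0 : Cr V (m + 3) (y 0) (y (m + 3)))
    (c1 : Cr V (m + 3) x1 (y (m + 2))) (c2 : Cr V (m + 3) x2 (y (m + 1))) (c10 : Col V x1 (y 0))
    (c21 : Col V x2 x1) (he2 : e ∈ ws V x2) (he1 : e ∈ ws V x1) (he0 : e ∈ ws V (y 0)) (hey : e ∈ ws V (y 1))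
    (hne1 : e ≠ x1) (hne2 : e ≠ x2) (hne21 : e ≠ x2 * x1) : ¬ Col V e x2 := by
  intro hc
  have h20 : ¬ Col V x2 (y 0) := fun hh => c2.ne (c2.min (m + 2) (by omega) _ _ (by
    have := pth_seg hy (i := 0) (k := m + 1) (by omega) (by omega)
    rw [zero_add] at this
    exact this.head hh))
  have h11 : ¬ Col V x1 (y 1) := fun hh => c1.ne (c1.min (m + 2) (by omega) _ _ (by
    have := pth_seg hy (i := 1) (k := m + 1) (by omega) (by omega)
    rw [show 1 + (m + 1) = m + 2 by omega] at this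
    exact this.head hh))
  have hx21 : x2 ≠ x1 := fun hh => h20 (hh ▸ c10)
  have h1 : x1 ≠ y 0 := fun hh => h11 (hh ▸ hy 0 (by omega))
  have h0 : y 0 ≠ y 1 := fun hh => c0.ne (c0.min (m + 2) (by omega) _ _ (by
    have := pth_seg hy (i := 1) (k := m + 2) (by omega) (by omega)
    rw [show 1 + (m + 2) = m + 3 by omega, ← hh] at this
    exact this))
  have key := grand_geo h c21 c10 (hy 0 (by omega)) hx21 h20 h11 h1 h0 he2 he1 he0 hey hne1 hne2 hne21 hc
  refine c2.ne (c2.min (m + 2) (by omega) _ _ ?_)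
  have := pth_seg hy (i := 1) (k := m) (by omega) (by omega)
  rw [show 1 + m = m + 1 by omega] at this
  exact (this.head key).head hc.symm

end Cfsg.Agent.Omega.NOThree.LL

end

end
end

-- part: Mrg/Omega/NO3S/Dual/Basic
section
prune_inst 0xc00002105322000000000500a00022501800000200670001e100020006488541c0400700902032101102a624003c000000dc00490018000020000200411801a0002a22821040000020000000b885180c00000000000000000000000000000000000000000
set_option linter.all false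
open scoped Cfsg.Agent.FastGrp

section


/-!
# NO-3S, `q = 2`: duality tools (helper804 #14168), abstract part

`DW q W K` : `q` is an involution (or 1) of the elementary abelian 2-group `W`, and `K ≤ C_G(q)` acts on `W` by
`k w k⁻¹ ∈ {w, q w}`; `nn W K = C_W(K)`.

* `DW.dual` (D0) : `C_W(C_K(U)) = U C_W(K)` for `U ≤ W`; `DW.exists_mover` : the same, in elements;
* `DW.comm_mem` (D2) : `p ∈ W`, `X ≤ C(q) ∩ N(W) ∩ N(K)` normalised by `C_K(p)`, `w ∈ C_W(X ∩ K)`:
  `[w, X] ≤ ⟨p⟩ C_W(K)`; `DW.comm_mem'` : the same for all `w ∈ W` if `q ∉ X`, `W ≤ N(X)`;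
* `DW.count` (D4), in the general form: `b` centralises `X ∩ K` and `q ∉ [b, A]`; `DW.count'` : `q ∉ X`;
* `DW.exists_e` (D5) : if no element of `b C_W(x)` centralises `E ≤ K`, some `e ∈ E` has `[b, e] = q` and
  `C_W(x) ≤ C_W(e)`;
* `inf_conj_eq` (D7).
-/

set_option autoImplicit false

namespace Cfsg.Agent.Omega.NO3S.Dual

open Subgroup

variable {G : Type*} [Group G]

/-- `C_W(K)` -/
def nn (W K : Subgroup G) : Subgroup G := W ⊓ centralizer (K : Set G)

theorem mem_nn {W K : Subgroup G} {w : G} : w ∈ nn W K ↔ w ∈ W ∧ ∀ k ∈ K, k * w = w * k := by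
  unfold nn
  rw [mem_inf, mem_centralizer_iff]
  rfl

/-- `K` acts on the elementary abelian 2-group `W` by multiplication with `1` or `q ∈ W`. -/
structure DW (q : G) (W K : Subgroup G) : Prop where
  q_mem : q ∈ W
  comm : ∀ a ∈ W, ∀ b ∈ W, a * b = b * a
  sq : ∀ a ∈ W, a * a = 1
  cent : ∀ k ∈ K, k * q = q * k
  act : ∀ k ∈ K, ∀ w ∈ W, k * w * k⁻¹ = w ∨ k * w * k⁻¹ = q * w

theorem comm_of_conj_eq {a b : G} (h : a * b * a⁻¹ = b) : a * b = b * a := by
  calc a * b = (a * b * a⁻¹) * a := by group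
    _ = b * a := by rw [h]

theorem conj_eq_of_comm {a b : G} (h : a * b = b * a) : a * b * a⁻¹ = b := by
  rw [h]; group

theorem card_mul_relIndex_of_le {H K : Subgroup G} (h : H ≤ K) : Nat.card H * H.relIndex K = Nat.card K := by
  have h1 := Subgroup.relIndex_mul_relIndex ⊥ H K bot_le h
  rwa [relIndex_bot_left, relIndex_bot_left] at h1

/-- the product of two commuting subgroups -/
theorem mem_sup_of_comm {W A B : Subgroup G} (hW : ∀ a ∈ W, ∀ b ∈ W, a * b = b * a) (hA : A ≤ W)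
    (hB : B ≤ W) {x : G} (hx : x ∈ A ⊔ B) : ∃ a ∈ A, ∃ b ∈ B, x = a * b := by
  let D : Subgroup G :=
    { carrier := {x | ∃ a ∈ A, ∃ b ∈ B, x = a * b}
      mul_mem' := by
        rintro _ _ ⟨a, ha, b, hb, rfl⟩ ⟨a', ha', b', hb', rfl⟩
        refine ⟨a * a', mul_mem ha ha', b * b', mul_mem hb hb', ?_⟩
        calc a * b * (a' * b') = a * (b * a') * b' := by group
          _ = a * (a' * b) * b' := by rw [hW b (hB hb) a' (hA ha')]
          _ = a * a' * (b * b') := by group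
      one_mem' := ⟨1, one_mem _, 1, one_mem _, by simp⟩
      inv_mem' := by
        rintro _ ⟨a, ha, b, hb, rfl⟩
        refine ⟨a⁻¹, inv_mem ha, b⁻¹, inv_mem hb, ?_⟩
        rw [hW a (hA ha) b (hB hb)]
        group }
  have h1 : A ⊔ B ≤ D := sup_le (fun a ha => ⟨a, ha, 1, one_mem _, by simp⟩)
    fun b hb => ⟨1, one_mem _, b, hb, by simp⟩
  exact h1 hx

namespace DW

variable {q : G} {W K : Subgroup G}

theorem mono (h : DW q W K) {E : Subgroup G} (hE : E ≤ K) : DW q W E :=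
  ⟨h.q_mem, h.comm, h.sq, fun k hk => h.cent k (hE hk), fun k hk => h.act k (hE hk)⟩

theorem inv_eq (h : DW q W K) {a : G} (ha : a ∈ W) : a⁻¹ = a := inv_eq_of_mul_eq_one_left (h.sq a ha)

theorem qq (h : DW q W K) : q * q = 1 := h.sq q h.q_mem

theorem q_mem_nn (h : DW q W K) : q ∈ nn W K := mem_nn.2 ⟨h.q_mem, h.cent⟩

/-- a product of two movers is not a mover -/
theorem two_movers (h : DW q W K) {k k' u : G} (hk : k ∈ K) (hk' : k' ∈ K) (hu : k * u * k⁻¹ = q * u)
    (hu' : k' * u * k'⁻¹ = q * u) : k' * k⁻¹ * u = u * (k' * k⁻¹) := by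
  have e1 : k⁻¹ * (q * u) * k = u := by
    calc k⁻¹ * (q * u) * k = k⁻¹ * (k * u * k⁻¹) * k := by rw [hu]
      _ = u := by group
  have hq1 : k⁻¹ * q * k = q := by
    have := h.cent k hk
    calc k⁻¹ * q * k = k⁻¹ * (q * k) := by group
      _ = k⁻¹ * (k * q) := by rw [this]
      _ = q := by group
  have e2 : k⁻¹ * u * k = q * u := by
    have h1 : q * (k⁻¹ * u * k) = u := by
      calc q * (k⁻¹ * u * k) = (k⁻¹ * q * k) * (k⁻¹ * u * k) := by rw [hq1]
        _ = k⁻¹ * (q * u) * k := by group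
        _ = u := e1
    calc k⁻¹ * u * k = q * q * (k⁻¹ * u * k) := by rw [h.qq, one_mul]
      _ = q * (q * (k⁻¹ * u * k)) := by group
      _ = q * u := by rw [h1]
  refine comm_of_conj_eq ?_
  have hq2 : k' * q * k'⁻¹ = q := conj_eq_of_comm (h.cent k' hk')
  calc k' * k⁻¹ * u * (k' * k⁻¹)⁻¹ = k' * (k⁻¹ * u * k) * k'⁻¹ := by group
    _ = (k' * q * k'⁻¹) * (k' * u * k'⁻¹) := by rw [e2]; group
    _ = q * q * u := by rw [hq2, hu']; group
    _ = u := by rw [h.qq, one_mul]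

/-- (D0) for the subgroup generated by a finite set -/
theorem dual_aux (h : DW q W K) (s : Finset G) (hs : ∀ u ∈ s, u ∈ W) :
    ∀ w ∈ W, (∀ k ∈ K, (∀ u ∈ s, k * u = u * k) → k * w = w * k) →
      w ∈ _root_.Subgroup.closure (s : Set G) ⊔ nn W K := by
  classical
  induction s using Finset.induction_on with
  | empty =>
    intro w hw hk
    exact mem_sup_right (mem_nn.2 ⟨hw, fun k hk' => hk k hk' (by simp)⟩)
  | insert u s hus ih =>
    intro w hw hkw
    have hs' : ∀ v ∈ s, v ∈ W := fun v hv => hs v (Finset.mem_insert_of_mem hv)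
    have hu : u ∈ W := hs u (Finset.mem_insert_self u s)
    have hle : _root_.Subgroup.closure (s : Set G) ⊔ nn W K ≤ closure ((insert u s : Finset G) : Set G) ⊔ nn W K :=
      sup_le_sup_right (Subgroup.closure_mono (by simp)) _
    have hu' : u ∈ _root_.Subgroup.closure ((insert u s : Finset G) : Set G) ⊔ nn W K :=
      mem_sup_left (_root_.Subgroup.subset_closure (by simp))
    by_cases hA : ∀ k ∈ K, (∀ v ∈ s, k * v = v * k) → k * u = u * k
    · refine hle (ih hs' w hw fun k hk hks => hkw k hk fun v hv => ?_)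
      rcases Finset.mem_insert.1 hv with rfl | hv
      · exact hA k hk hks
      · exact hks v hv
    · push Not at hA
      obtain ⟨k, hk, hks, hku⟩ := hA
      have hku' : k * u * k⁻¹ = q * u := (h.act k hk u hu).resolve_left fun e => hku (comm_of_conj_eq e)
      -- the correction of `w`
      have key : ∀ w' ∈ W, k * w' = w' * k →
          (∀ k' ∈ K, (∀ v ∈ s, k' * v = v * k') → k' * u = u * k' → k' * w' = w' * k') →
          w' ∈ _root_.Subgroup.closure (s : Set G) ⊔ nn W K := by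
        intro w' hw' hkw' hk2
        refine ih hs' w' hw' fun k' hk' hks' => ?_
        by_cases hk'u : k' * u = u * k'
        · exact hk2 k' hk' hks' hk'u
        · have hk'u' : k' * u * k'⁻¹ = q * u :=
            (h.act k' hk' u hu).resolve_left fun e => hk'u (comm_of_conj_eq e)
          have h1 := h.two_movers hk hk' hku' hk'u'
          have h2 := hk2 _ (mul_mem hk' (inv_mem hk)) (fun v hv => by
            have e1 := hks v hv
            have e2 := hks' v hv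
            have e3 : k⁻¹ * v = v * k⁻¹ := by
              calc k⁻¹ * v = k⁻¹ * (v * k) * k⁻¹ := by group
                _ = k⁻¹ * (k * v) * k⁻¹ := by rw [e1]
                _ = v * k⁻¹ := by group
            calc k' * k⁻¹ * v = k' * (k⁻¹ * v) := by group
              _ = k' * v * k⁻¹ := by rw [e3]; group
              _ = v * (k' * k⁻¹) := by rw [e2]; group) h1
          calc k' * w' = (k' * k⁻¹) * (k * w') := by group
            _ = (k' * k⁻¹ * w') * k := by rw [hkw']; group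
            _ = w' * k' := by rw [h2]; group
      rcases h.act k hk w hw with e | e
      · refine hle (key w hw (comm_of_conj_eq e) fun k' hk' hks' hk'u => hkw k' hk' fun v hv => ?_)
        rcases Finset.mem_insert.1 hv with rfl | hv
        · exact hk'u
        · exact hks' v hv
      · have hwu : w * u ∈ _root_.Subgroup.closure (s : Set G) ⊔ nn W K := by
          refine key (w * u) (mul_mem hw hu) (comm_of_conj_eq ?_) fun k' hk' hks' hk'u => ?_
          · calc k * (w * u) * k⁻¹ = (k * w * k⁻¹) * (k * u * k⁻¹) := by group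
              _ = q * (w * q) * u := by rw [e, hku']; group
              _ = q * (q * w) * u := by rw [h.comm w hw q h.q_mem]
              _ = (q * q) * (w * u) := by group
              _ = w * u := by rw [h.qq, one_mul]
          · have h1 := hkw k' hk' fun v hv => by
              rcases Finset.mem_insert.1 hv with rfl | hv
              · exact hk'u
              · exact hks' v hv
            calc k' * (w * u) = (k' * w) * u := by group
              _ = w * (k' * u) := by rw [h1]; group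
              _ = w * u * k' := by rw [hk'u]; group
        have e2 : w = w * u * u := by rw [mul_assoc, h.sq u hu, mul_one]
        rw [e2]
        exact mul_mem (hle hwu) hu'

/-- **(D0)** an element of `W` centralised by `C_K(U)` is in `U C_W(K)`. -/
theorem dual (h : DW q W K) {U : Subgroup G} [Finite U] (hU : U ≤ W) {w : G} (hw : w ∈ W)
    (hc : ∀ k ∈ K, (∀ u ∈ U, k * u = u * k) → k * w = w * k) : w ∈ U ⊔ nn W K := by
  classical
  have : Fintype (U : Set G) := Fintype.ofFinite U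
  have h1 := h.dual_aux (U : Set G).toFinset (fun u hu => hU (by simpa using hu)) w hw
    (fun k hk hks => hc k hk fun u hu => hks u (by simpa using hu))
  simpa only [_root_.Set.coe_toFinset, _root_.Subgroup.closure_eq] using h1

/-- **(D0)**, in elements -/
theorem exists_mover (h : DW q W K) {U : Subgroup G} [Finite U] (hU : U ≤ W) {w : G} (hw : w ∈ W)
    (hn : w ∉ U ⊔ nn W K) : ∃ k ∈ K, (∀ u ∈ U, k * u = u * k) ∧ k * w * k⁻¹ = q * w := by
  by_contra hcon
  push Not at hcon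
  refine hn (h.dual hU hw fun k hk hks => ?_)
  rcases h.act k hk w hw with e | e
  · exact comm_of_conj_eq e
  · exact absurd e (hcon k hk hks)

/-! ### (D2) -/

/-- The hypotheses on `X` in (D2). -/
structure Nrm (q p : G) (W K X : Subgroup G) : Prop where
  p_mem : p ∈ W
  cent : ∀ u ∈ X, u * q = q * u
  W_norm : ∀ u ∈ X, ∀ w ∈ W, u * w * u⁻¹ ∈ W
  K_norm : ∀ u ∈ X, ∀ k ∈ K, u * k * u⁻¹ ∈ K
  norm : ∀ k ∈ K, k * p = p * k → ∀ u ∈ X, k * u * k⁻¹ ∈ X

/-- **(D2)**, general form: `w ∈ C_W(X ∩ K)` implies `[w, X] ≤ ⟨p⟩ C_W(K)`. -/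
theorem comm_mem (h : DW q W K) {p : G} {X : Subgroup G} (hX : Nrm q p W K X) {w : G} (hw : w ∈ W)
    (hwc : ∀ e ∈ X ⊓ K, e * w = w * e) {u : G} (hu : u ∈ X) :
    u * w * u⁻¹ * w⁻¹ ∈ zpowers p ⊔ nn W K := by
  have hp2 : p ^ 2 = 1 := by rw [pow_two]; exact h.sq p hX.p_mem
  have : Finite (zpowers p) := by
    have : IsOfFinOrder p := isOfFinOrder_iff_pow_eq_one.2 ⟨2, by norm_num, hp2⟩
    exact this.finite_zpowers
  have hw' := hX.W_norm u hu w hw
  refine h.dual ((zpowers_le).2 hX.p_mem) (mul_mem hw' (inv_mem hw)) fun k hk hks => ?_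
  have hkp := hks p (mem_zpowers p)
  -- `e = k⁻¹ (u⁻¹ k u)`
  have hku : u⁻¹ * k * u ∈ K := by
    have := hX.K_norm u⁻¹ (inv_mem hu) k hk
    simpa using this
  have hk'p : k⁻¹ * p = p * k⁻¹ := by
    calc k⁻¹ * p = k⁻¹ * (p * k) * k⁻¹ := by group
      _ = k⁻¹ * (k * p) * k⁻¹ := by rw [hkp]
      _ = p * k⁻¹ := by group
  have he1 : k⁻¹ * u⁻¹ * k ∈ X := by
    have := hX.norm k⁻¹ (inv_mem hk) hk'p u⁻¹ (inv_mem hu)
    simpa only [_root_.inv_inv] using this
  set e := k⁻¹ * (u⁻¹ * k * u) with he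
  have heX : e ∈ X := by
    have : e = (k⁻¹ * u⁻¹ * k) * u := by rw [he]; group
    rw [this]
    exact mul_mem he1 hu
  have heK : e ∈ K := mul_mem (inv_mem hk) hku
  have hew := conj_eq_of_comm (hwc e ⟨heX, heK⟩)
  have hk2 : u⁻¹ * k * u = k * e := by rw [he]; group
  have hmain : k * (u * w * u⁻¹) * k⁻¹ = u * (k * w * k⁻¹) * u⁻¹ := by
    calc k * (u * w * u⁻¹) * k⁻¹ = u * ((u⁻¹ * k * u) * w * (u⁻¹ * k * u)⁻¹) * u⁻¹ := by group
      _ = u * (k * (e * w * e⁻¹) * k⁻¹) * u⁻¹ := by rw [hk2]; group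
      _ = u * (k * w * k⁻¹) * u⁻¹ := by rw [hew]
  refine comm_of_conj_eq ?_
  have hsplit : k * (u * w * u⁻¹ * w⁻¹) * k⁻¹ = (k * (u * w * u⁻¹) * k⁻¹) * (k * w * k⁻¹)⁻¹ := by group
  rcases h.act k hk w hw with e' | e'
  · rw [hsplit, hmain, e']
  · have huq : u * q * u⁻¹ = q := conj_eq_of_comm (hX.cent u hu)
    have e3 : u * (q * w) * u⁻¹ = (u * w * u⁻¹) * q := by
      calc u * (q * w) * u⁻¹ = (u * q * u⁻¹) * (u * w * u⁻¹) := by group
        _ = q * (u * w * u⁻¹) := by rw [huq]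
        _ = (u * w * u⁻¹) * q := h.comm q h.q_mem _ hw'
    rw [hsplit, hmain, e', e3]
    have e4 : (q * w)⁻¹ = q⁻¹ * w⁻¹ := by
      rw [h.comm q h.q_mem w hw]; group
    rw [e4]
    group

/-! ### (D4), the count -/

/-- `|F| ≤ 2 |F ∩ N|` if `F ≤ ⟨p⟩ N`, `p * p = 1`, in an abelian group -/
theorem card_le_two (h : DW q W K) [Finite G] {p : G} (hp : p ∈ W) {F : Subgroup G}
    (hF : F ≤ zpowers p ⊔ nn W K) : Nat.card F ≤ 2 * Nat.card (F ⊓ nn W K : Subgroup G) := by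
  have hpp := h.sq p hp
  have hNW : nn W K ≤ W := inf_le_left
  have hmem : ∀ f ∈ F, f ∈ nn W K ∨ ∃ n ∈ nn W K, f = p * n := by
    intro f hf
    obtain ⟨a, ha, n, hn, e⟩ := mem_sup_of_comm h.comm ((zpowers_le).2 hp) hNW (hF hf)
    obtain ⟨k, rfl⟩ := mem_zpowers_iff.1 ha
    have h2 : p ^ (2 : ℤ) = 1 := by
      rw [zpow_two, hpp]
    rcases Int.even_or_odd' k with ⟨m, hm | hm⟩
    · left
      have : p ^ k = 1 := by rw [hm, zpow_mul, h2, one_zpow]
      rw [e, this, one_mul]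
      exact hn
    · right
      have : p ^ k = p := by rw [hm, zpow_add, zpow_mul, h2, one_zpow, one_mul, zpow_one]
      exact ⟨n, hn, by rw [e, this]⟩
  have hidx : (F ⊓ nn W K : Subgroup G).relIndex F ≤ 2 := by
    by_cases hall : ∀ f ∈ F, f ∈ nn W K
    · have : F ⊓ nn W K = F := inf_eq_left.2 hall
      rw [this, relIndex_self]
      norm_num
    · push Not at hall
      obtain ⟨f₀, hf₀, hf₀n⟩ := hall
      refine le_of_eq ?_
      rw [Subgroup.relIndex_eq_two_iff]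
      refine ⟨f₀, hf₀, fun f hf => ?_⟩
      obtain ⟨n₀, hn₀, e₀⟩ := (hmem f₀ hf₀).resolve_left hf₀n
      have hf₀W : f₀ ∈ W := by rw [e₀]; exact mul_mem hp (hNW hn₀)
      have hfW : f ∈ W := by
        rcases hmem f hf with h1 | ⟨n, hn, e⟩
        · exact hNW h1
        · rw [e]; exact mul_mem hp (hNW hn)
      by_cases hfn : f ∈ nn W K
      · right
        refine ⟨⟨hf, hfn⟩, fun hc => hf₀n ?_⟩
        have : f₀ = f⁻¹ * (f * f₀) := by group
        rw [this]
        exact mul_mem (inv_mem hfn) hc.2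
      · left
        obtain ⟨n, hn, e⟩ := (hmem f hf).resolve_left hfn
        refine ⟨⟨mul_mem hf hf₀, ?_⟩, fun hc => hfn hc.2⟩
        have : f * f₀ = n * n₀ := by
          rw [e, e₀]
          calc p * n * (p * n₀) = p * (n * p) * n₀ := by group
            _ = p * (p * n) * n₀ := by rw [h.comm n (hNW hn) p hp]
            _ = (p * p) * (n * n₀) := by group
            _ = n * n₀ := by rw [hpp, one_mul]
        rw [this]
        exact mul_mem hn hn₀
  have h3 := card_mul_relIndex_of_le (H := F ⊓ nn W K) (K := F) inf_le_left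
  calc Nat.card F = Nat.card (F ⊓ nn W K : Subgroup G) * (F ⊓ nn W K : Subgroup G).relIndex F := h3.symm
    _ ≤ Nat.card (F ⊓ nn W K : Subgroup G) * 2 := Nat.mul_le_mul_left _ hidx
    _ = 2 * Nat.card (F ⊓ nn W K : Subgroup G) := by ring

/-- **(D4)**, general form. `b ∈ C_W(X ∩ K)`, `F ≤ [b, A]`, `A ≤ X`, `q ∉ F`, `I ∩ C_W(K) ≤ ⟨q⟩`,
`2 |W : I| ≤ |F|`, `A` centralises `F` and `I`: then `A` centralises `b`. -/
theorem count (h : DW q W K) [Finite G] {p : G} {X : Subgroup G} (hX : Nrm q p W K X) {b : G} (hb : b ∈ W)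
    (hbc : ∀ e ∈ X ⊓ K, e * b = b * e) {A F I : Subgroup G} (hAX : A ≤ X)
    (hF : ∀ f ∈ F, ∃ a ∈ A, f = a * b * a⁻¹ * b⁻¹) (hq : q ∉ F) (hIW : I ≤ W)
    (hI : I ⊓ nn W K ≤ zpowers q) (hcard : 2 * I.relIndex W ≤ Nat.card F)
    (hAF : ∀ a ∈ A, ∀ f ∈ F, a * f = f * a) (hAI : ∀ a ∈ A, ∀ f ∈ I, a * f = f * a) {x : G} (hx : x ∈ A) :
    x * b = b * x := by
  have hFW : F ≤ W := by
    intro f hf
    obtain ⟨a, ha, rfl⟩ := hF f hf
    exact mul_mem (hX.W_norm a (hAX ha) b hb) (inv_mem hb)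
  have hFN : F ≤ zpowers p ⊔ nn W K := by
    intro f hf
    obtain ⟨a, ha, rfl⟩ := hF f hf
    exact h.comm_mem hX hb hbc (hAX ha)
  have h1 := h.card_le_two hX.p_mem hFN
  set D := F ⊓ nn W K with hD
  have h2 : I.relIndex W ≤ Nat.card D := by omega
  -- `D ∩ I = 1`
  have h3 : D ⊓ I = ⊥ := by
    rw [eq_bot_iff]
    intro y hy
    rw [hD, mem_inf, mem_inf] at hy
    obtain ⟨⟨hyF, hyN⟩, hyI⟩ := hy
    have h4 := hI (mem_inf.2 ⟨hyI, hyN⟩)
    obtain ⟨k, rfl⟩ := mem_zpowers_iff.1 h4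
    have hq2 : q ^ (2 : ℤ) = 1 := by
      rw [zpow_two, h.qq]
    rcases Int.even_or_odd' k with ⟨m, hm | hm⟩
    · rw [mem_bot, hm, zpow_mul, hq2, one_zpow]
    · exfalso
      apply hq
      have : q ^ k = q := by rw [hm, zpow_add, zpow_mul, hq2, one_zpow, one_mul, zpow_one]
      rwa [this] at hyF
  have hDW' : D ≤ W := inf_le_left.trans hFW
  have hle : D ⊔ I ≤ W := sup_le hDW' hIW
  -- `|D I| = |D| |I|`
  have h5 : Nat.card W ≤ Nat.card (D ⊔ I : Subgroup G) := by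
    have hcI := card_mul_relIndex_of_le hIW
    have h6 : Nat.card D * Nat.card I ≤ Nat.card (D ⊔ I : Subgroup G) := by
      have : Function.Injective (fun y : D × I => (⟨(y.1 : G) * y.2,
          mul_mem (mem_sup_left y.1.2) (mem_sup_right y.2.2)⟩ : (D ⊔ I : Subgroup G))) := by
        rintro ⟨⟨d, hd⟩, ⟨i, hi⟩⟩ ⟨⟨d', hd'⟩, ⟨i', hi'⟩⟩ e
        have e1 : d * i = d' * i' := congrArg Subtype.val e
        have e2 : d'⁻¹ * d = i' * i⁻¹ := by
          calc d'⁻¹ * d = d'⁻¹ * (d * i) * i⁻¹ := by group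
            _ = d'⁻¹ * (d' * i') * i⁻¹ := by rw [e1]
            _ = i' * i⁻¹ := by group
        have e3 : d'⁻¹ * d ∈ D ⊓ I :=
          mem_inf.2 ⟨mul_mem (inv_mem hd') hd, by rw [e2]; exact mul_mem hi' (inv_mem hi)⟩
        rw [h3, mem_bot] at e3
        have e4 : d = d' := by
          calc d = d' * (d'⁻¹ * d) := by group
            _ = d' := by rw [e3, mul_one]
        have e5 : i = i' := by
          rw [e4] at e1
          exact mul_left_cancel e1
        subst e4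
        subst e5
        rfl
      have := Nat.card_le_card_of_injective _ this
      rwa [Nat.card_prod] at this
    calc Nat.card W = Nat.card I * I.relIndex W := hcI.symm
      _ ≤ Nat.card I * Nat.card D := Nat.mul_le_mul_left _ h2
      _ = Nat.card D * Nat.card I := mul_comm _ _
      _ ≤ _ := h6
  have h7 : D ⊔ I = W := Subgroup.eq_of_le_of_card_ge hle h5
  have hb' : b ∈ D ⊔ I := by rw [h7]; exact hb
  obtain ⟨d, hd, i, hi, rfl⟩ := mem_sup_of_comm h.comm hDW' hIW hb'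
  have e1 := hAF x hx d hd.1
  have e2 := hAI x hx i hi
  calc x * (d * i) = (x * d) * i := by group
    _ = d * (x * i) := by rw [e1]; group
    _ = d * i * x := by rw [e2]; group

/-! ### (D5) -/

/-- **(D5)**: `C ≤ W`, `b ∈ W`, `E ≤ K`. If no element of `C b` is centralised by `E`, some `e ∈ E` centralises `C`
and moves `b` to `q b`. -/
theorem exists_e (h : DW q W K) {C E : Subgroup G} [Finite C] (hC : C ≤ W) (hE : E ≤ K) {b : G} (hb : b ∈ W)
    (hn : ∀ c ∈ C, ∃ e ∈ E, e * (c * b) ≠ c * b * e) :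
    ∃ e ∈ E, (∀ c ∈ C, e * c = c * e) ∧ e * b * e⁻¹ = q * b := by
  refine (h.mono hE).exists_mover hC hb fun hmem => ?_
  obtain ⟨c, hc, n, hn', rfl⟩ := mem_sup_of_comm h.comm hC (inf_le_left : nn W E ≤ W) hmem
  obtain ⟨e, he, hne⟩ := hn c⁻¹ (inv_mem hc)
  apply hne
  have : c⁻¹ * (c * n) = n := by group
  rw [this]
  exact (mem_nn.1 hn').2 e he

end DW

/-! ### (D7) -/

end Cfsg.Agent.Omega.NO3S.Dual

end

section


/-!
# NO-3S, `q = 2`: duality tools (helper804 #14168), the flags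

`Flag T V z` : helper391's `TwoOne.One` without the hypothesis `[W_z, W_y] ≠ 1`: `Ln T V z`, `W_z` abelian and (F1)
`K_z` moves the points of `V`. All facts of `TwoOne/Base.lean` hold for `Flag` (same names).

* `Flag.dw` : `DW p (ws V p) (kq V p)` for the points of `V`; `Flag.dw_conj` : for all points;
* `Flag.nn_inf` (D1) : `N_p ∩ W_q = ⟨p⟩` for `p ≠ q` in `V#`, `N_p = C_{W_p}(K_p)`; `Flag.card_nn` : `|N_p| ≤ 2 |W_p : I|`;
* `Flag.exists_transv` (D6) : `K_p ∩ C(V)` induces on `I = ii V` all transvections with centre `p` and axis over `V`;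
* `Flag.comm_mem` (D3) : `p ∈ W_q`, `[W_p ∩ K_q, W_q] = 1` implies `[W_q, W_p] ≤ ⟨p⟩ N_q`;
* `Flag.count`, `Flag.count'`, `Flag.exists_e` (D4), (D5) : claim A (a).
-/

set_option autoImplicit false
set_option linter.unusedSectionVars false

namespace Cfsg.Agent.Omega.NO3S.Dual

open Subgroup Cfsg Cfsg.Agent.ZN Cfsg.Agent.MinSimple.Geo Cfsg.Agent.Omega.CaseL
open Cfsg.Agent.Omega.NO3S.TwoOne (kq_le_centralizer kq_comm cj_kq conj_mem_kq centralizer_le_normalizer_kq kq_cj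
  ws_sq ii ii_le normalizer_le_normalizer_ii One)
open Cfsg.Agent.ZN.Block (conj_mem_of_normalizer conj_mem_of_normalizer' le_normalizer_of_forall
  mem_normalizer_of)

universe u

variable {G : Type u} [Group G]

/-- a flag `(z, V)`, `W_z` abelian, with (F1) -/
structure Flag (T V : Subgroup G) (z : G) : Prop where
  ln : Ln T V z
  ab : ∀ a ∈ ws V z, ∀ b ∈ ws V z, a * b = b * a
  f1 : ∃ k ∈ kq V z, k ∉ centralizer (V : Set G)

theorem Flag.of_one {T V : Subgroup G} {z : G} (h : _root_.Cfsg.Agent.Omega.NO3S.TwoOne.One T V z) : Flag T V z := ⟨h.ln, h.ab, h.f1⟩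

namespace Flag

variable {T V : Subgroup G} {z : G}

theorem conj (h : Flag T V z) (g : G) : Flag (cj g T) (cj g V) (g * z * g⁻¹) where
  ln := h.ln.conj g
  ab := by
    rw [ws_cj, ← cj_ws]
    intro a ha b hb
    have := h.ab _ (mem_of_cj ha) _ (mem_of_cj hb)
    calc a * b = g * ((g⁻¹ * a * g) * (g⁻¹ * b * g)) * g⁻¹ := by group
      _ = g * ((g⁻¹ * b * g) * (g⁻¹ * a * g)) * g⁻¹ := by rw [this]
      _ = b * a := by group
  f1 := by
    obtain ⟨k, hk, hk1⟩ := h.f1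
    refine ⟨g * k * g⁻¹, ?_, ?_⟩
    · rw [kq_cj]; exact conj_mem_kq g hk
    · intro e
      apply hk1
      rw [mem_centralizer_iff] at e ⊢
      intro v hv
      have := e _ (conj_mem_cj hv)
      calc v * k = g⁻¹ * ((g * v * g⁻¹) * (g * k * g⁻¹)) * g := by group
        _ = g⁻¹ * ((g * k * g⁻¹) * (g * v * g⁻¹)) * g := by rw [this]
        _ = k * v := by group

theorem point (h : Flag T V z) {p : G} (hp : p ∈ V) (hp1 : p ≠ 1) :
    ∃ g ∈ normalizer (V : Set G), g * z * g⁻¹ = p ∧ Flag (cj g T) V p := by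
  obtain ⟨g, hg, rfl⟩ := h.ln.trans p hp hp1
  refine ⟨g, hg, rfl, ?_⟩
  have := h.conj g
  rwa [cj_eq_of_mem_normalizer hg] at this

theorem sqz (h : Flag T V z) : ∀ a ∈ ws V z, a * a = 1 := ws_sq h.ln h.ab

/-! ### all points of `V` -/

section points

variable {p q : G}

theorem sq (h : Flag T V z) (hp : p ∈ V) (hp1 : p ≠ 1) : ∀ a ∈ ws V p, a * a = 1 := by
  obtain ⟨g, -, -, hg⟩ := h.point hp hp1
  exact hg.sqz

theorem comm (h : Flag T V z) (hp : p ∈ V) (hp1 : p ≠ 1) : ∀ a ∈ ws V p, ∀ b ∈ ws V p, a * b = b * a := by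
  obtain ⟨g, -, -, hg⟩ := h.point hp hp1
  exact hg.ab

theorem V_le (h : Flag T V z) (hp : p ∈ V) (hp1 : p ≠ 1) : V ≤ ws V p := by
  obtain ⟨g, -, -, hg⟩ := h.point hp hp1
  exact hg.ln.V_le_ws

theorem ws_le_centralizer_V (h : Flag T V z) (hp : p ∈ V) (hp1 : p ≠ 1) :
    ws V p ≤ centralizer (V : Set G) := by
  intro a ha
  rw [mem_centralizer_iff]
  intro v hv
  exact h.comm hp hp1 v (h.V_le hp hp1 hv) a ha

theorem V_comm (_ : Flag T V z) {v c : G} (hv : v ∈ V) (hc : c ∈ centralizer (V : Set G)) :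
    v * c = c * v := mem_centralizer_iff.mp hc v hv

theorem cent_le_centralizer (_ : Flag T V z) (hp : p ∈ V) :
    centralizer (V : Set G) ≤ centralizer ({p} : Set G) := by
  intro c hc
  rw [mem_centralizer_singleton_iff]
  exact (mem_centralizer_iff.mp hc p hp).symm

theorem mul_ne_one (h : Flag T V z) (hq : q ∈ V) (hpq : p ≠ q) : p * q ≠ 1 := fun e =>
  hpq (by rw [mul_eq_one_iff_eq_inv.mp e, h.ln.inv_eq hq])

theorem mem_centralizer_of (h : Flag T V z) (hp : p ∈ V) (hp1 : p ≠ 1) (hq : q ∈ V) (hq1 : q ≠ 1)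
    (hqp : q ≠ p) {g : G} (h1 : g * p = p * g) (h2 : g * q = q * g) :
    g ∈ centralizer (V : Set G) := by
  obtain ⟨g, -, -, hg⟩ := h.point hp hp1
  exact hg.ln.mem_centralizer_V hq hq1 hqp h1 h2

theorem exists_q (h : Flag T V z) (hp : p ∈ V) (hp1 : p ≠ 1) : ∃ q ∈ V, q ≠ 1 ∧ q ≠ p := by
  obtain ⟨g, -, -, hg⟩ := h.point hp hp1
  exact hg.ln.exists_y

/-- elements of `K_p` act on `W_p` by multiplication with `1` or `p` -/
theorem kq_cases (h : Flag T V z) (hp : p ∈ V) {k w : G} (hk : k ∈ kq V p) (hw : w ∈ ws V p) :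
    k * w * k⁻¹ = w ∨ k * w * k⁻¹ = p * w := by
  rcases (mem_zpowers_iff_of_mul_self (h.ln.sq p hp)).mp (kq_comm hk hw) with e | e
  · left
    calc k * w * k⁻¹ = (k * w * k⁻¹ * w⁻¹) * w := by group
      _ = w := by rw [e, one_mul]
  · right
    calc k * w * k⁻¹ = (k * w * k⁻¹ * w⁻¹) * w := by group
      _ = p * w := by rw [e]

theorem kq_p (_ : Flag T V z) {k : G} (hk : k ∈ kq V p) : k * p = p * k :=
  mem_centralizer_singleton_iff.mp (kq_le_centralizer V p hk)

/-- `K_p` normalizes `V` -/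
theorem kq_le_normalizer (h : Flag T V z) (hp : p ∈ V) (hp1 : p ≠ 1) :
    kq V p ≤ normalizer (V : Set G) := by
  refine le_normalizer_of_forall fun k hk v hv => ?_
  rcases h.kq_cases hp hk (h.V_le hp hp1 hv) with e | e
  · rw [e]; exact hv
  · rw [e]; exact mul_mem hp hv

/-- (F1) at every point -/
theorem exists_mover (h : Flag T V z) (hp : p ∈ V) (hp1 : p ≠ 1) :
    ∃ k ∈ kq V p, k ∉ centralizer (V : Set G) := by
  obtain ⟨g, -, -, hg⟩ := h.point hp hp1
  exact hg.f1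

/-- a mover of `K_p` moves the points `q ≠ p` to `p q` -/
theorem move (h : Flag T V z) (hp : p ∈ V) (hp1 : p ≠ 1) (hq : q ∈ V) (hq1 : q ≠ 1) (hqp : q ≠ p)
    {k : G} (hk : k ∈ kq V p) (hk1 : k ∉ centralizer (V : Set G)) : k * q * k⁻¹ = p * q := by
  rcases h.kq_cases hp hk (h.V_le hp hp1 hq) with e | e
  · exfalso
    exact hk1 (h.mem_centralizer_of hp hp1 hq hq1 hqp (h.kq_p hk) (comm_of_conj_eq e))
  · exact e

/-- the movers of `K_p` form one coset of `K_p ∩ C_G(V)` -/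
theorem mover_coset (h : Flag T V z) (hp : p ∈ V) (hp1 : p ≠ 1) {k k' : G} (hk : k ∈ kq V p)
    (hk1 : k ∉ centralizer (V : Set G)) (hk' : k' ∈ kq V p) (hk1' : k' ∉ centralizer (V : Set G)) :
    k' * k⁻¹ ∈ centralizer (V : Set G) := by
  obtain ⟨q, hq, hq1, hqp⟩ := h.exists_q hp hp1
  refine h.mem_centralizer_of hp hp1 (mul_mem hp hq) (h.mul_ne_one hq (Ne.symm hqp)) ?_ ?_ ?_
  · intro e'
    exact hq1 (by simpa using e')
  · exact mul_comm_of (h.kq_p hk') (inv_comm_of (h.kq_p hk))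
  · refine comm_of_conj_eq ?_
    have e1 := h.move hp hp1 hq hq1 hqp hk hk1
    have e2 := h.move hp hp1 hq hq1 hqp hk' hk1'
    calc k' * k⁻¹ * (p * q) * (k' * k⁻¹)⁻¹ = k' * (k⁻¹ * (p * q) * k) * k'⁻¹ := by group
      _ = k' * (k⁻¹ * (k * q * k⁻¹) * k) * k'⁻¹ := by rw [e1]
      _ = k' * q * k'⁻¹ := by group
      _ = p * q := e2

end points

end Flag

namespace Flag

variable {T V : Subgroup G} {z : G}

theorem V_le_ii (h : Flag T V z) : V ≤ ii V := fun _ hv _ hp hp1 => h.V_le hp hp1 hv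

theorem ii_le_centralizer (h : Flag T V z) : ii V ≤ centralizer (V : Set G) :=
  (ii_le h.ln.z_mem h.ln.z_ne).trans (h.ws_le_centralizer_V h.ln.z_mem h.ln.z_ne)

/-- `ii V` is the intersection of any two of the `W_p`. -/
theorem mem_ii (h : Flag T V z) {p q u : G} (hp : p ∈ V) (hp1 : p ≠ 1) (hq : q ∈ V) (hq1 : q ≠ 1)
    (hqp : q ≠ p) (h1 : u ∈ ws V p) (h2 : u ∈ ws V q) : u ∈ ii V := by
  intro r hr hr1
  obtain ⟨g, -, -, hg⟩ := h.point hp hp1
  rcases hg.ln.four hp hq hp1 hq1 (Ne.symm hqp) hr with e | e | e | e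
  · exact absurd e hr1
  · rw [e]; exact h1
  · rw [e]; exact h2
  · obtain ⟨k, hk, hk1⟩ := h.exists_mover hp hp1
    have e1 := h.move hp hp1 hq hq1 hqp hk hk1
    have h3 := conj_mem_ws k h2
    rw [e1, ← e] at h3
    rcases h.kq_cases hp hk h1 with e2 | e2
    · rwa [e2] at h3
    · rw [e2] at h3
      have h4 := mul_mem (h.V_le hr hr1 hp) h3
      rwa [← mul_assoc, h.ln.sq p hp, one_mul] at h4

/-- the fixed points of all `K_p` on `ii V` are trivial -/
theorem fix_triv [Finite G] (h : Flag T V z) {u : G} (hu : u ∈ ii V)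
    (hf : ∀ p ∈ V, p ≠ 1 → ∀ k ∈ kq V p, k * u = u * k) : u = 1 := by
  let D : Subgroup G :=
    { carrier := {d | d ∈ ii V ∧ ∀ p ∈ V, p ≠ 1 → ∀ k ∈ kq V p, k * d = d * k}
      mul_mem' := by
        rintro a b ⟨ha, ha1⟩ ⟨hb, hb1⟩
        exact ⟨mul_mem ha hb, fun p hp hp1 k hk => comm_mul_of (ha1 p hp hp1 k hk) (hb1 p hp hp1 k hk)⟩
      one_mem' := ⟨one_mem _, fun p hp hp1 k hk => by simp⟩
      inv_mem' := by
        rintro a ⟨ha, ha1⟩
        exact ⟨inv_mem ha, fun p hp hp1 k hk => comm_inv_of (ha1 p hp hp1 k hk)⟩ }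
  have hDn : D ≤ normalizer (V : Set G) := fun d hd =>
    centralizer_le_normalizer _ (h.ii_le_centralizer hd.1)
  have hN : normalizer (V : Set G) ≤ normalizer (D : Set G) := by
    refine le_normalizer_of_forall fun g hg d hd => ?_
    refine ⟨conj_mem_of_normalizer (normalizer_le_normalizer_ii V) hg hd.1, fun p hp hp1 k hk => ?_⟩
    have hp' : g⁻¹ * p * g ∈ V := (mem_normalizer_iff''.mp hg p).mp hp
    have hp1' : g⁻¹ * p * g ≠ 1 := fun e => hp1 (by
      have : p = g * (g⁻¹ * p * g) * g⁻¹ := by group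
      rw [this, e]; group)
    have hk' : g⁻¹ * k * g ∈ kq V (g⁻¹ * p * g) := by
      have := conj_mem_kq g⁻¹ hk
      rwa [inv_inv] at this
    have := hd.2 _ hp' hp1' _ hk'
    calc k * (g * d * g⁻¹) = g * ((g⁻¹ * k * g) * d) * g⁻¹ := by group
      _ = g * (d * (g⁻¹ * k * g)) * g⁻¹ := by rw [this]
      _ = g * d * g⁻¹ * k := by group
  have hD : D = ⊥ := by
    by_contra hne
    have hz := h.ln.z_mem_of_normal hDn hN hne
    obtain ⟨y, hy, hy1, hyz⟩ := h.ln.exists_y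
    obtain ⟨k, hk, hk1⟩ := h.exists_mover hy hy1
    have e1 := h.move hy hy1 h.ln.z_mem h.ln.z_ne (Ne.symm hyz) hk hk1
    have e2 := hz.2 y hy hy1 k hk
    rw [conj_eq_of_comm e2] at e1
    exact hy1 (by simpa using e1.symm)
  have : u ∈ D := ⟨hu, hf⟩
  rw [hD] at this
  exact mem_bot.mp this

/-- (FU), for some point -/
theorem fu_aux [Finite G] (h : Flag T V z) {u : G} (hu : u ∈ ii V) (huV : u ∉ V) :
    ∃ p ∈ V, p ≠ 1 ∧ ∃ k ∈ kq V p, k ∈ centralizer (V : Set G) ∧ k * u * k⁻¹ = p * u := by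
  by_contra hcon
  push Not at hcon
  have hcent : ∀ p ∈ V, p ≠ 1 → ∀ k ∈ kq V p, k ∈ centralizer (V : Set G) → k * u = u * k := by
    intro p hp hp1 k hk hkV
    rcases h.kq_cases hp hk (hu p hp hp1) with e | e
    · exact comm_of_conj_eq e
    · exact absurd e (hcon p hp hp1 k hk hkV)
  have hz := h.ln.z_mem
  have hz1 := h.ln.z_ne
  have hzz := h.ln.zz
  obtain ⟨y, hy, hy1, hyz⟩ := h.ln.exists_y
  have hyy := h.ln.sq y hy
  obtain ⟨s, hs, hs1⟩ := h.exists_mover hz hz1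
  obtain ⟨t, ht, ht1⟩ := h.exists_mover hy hy1
  have hzy := h.ln.comm hz hy
  have hsy := h.move hz hz1 hy hy1 hyz hs hs1
  have htz := h.move hy hy1 hz hz1 (Ne.symm hyz) ht ht1
  have hsz : s * z * s⁻¹ = z := conj_eq_of_comm (h.kq_p hs)
  have hty : t * y * t⁻¹ = y := conj_eq_of_comm (h.kq_p ht)
  have huc := h.ii_le_centralizer hu
  have huz := h.V_comm hz huc
  have huy := h.V_comm hy huc
  -- a point of `u V` fixed by `s` and `t`
  obtain ⟨v, hv, hsv, htv⟩ : ∃ v ∈ V, s * (v * u) * s⁻¹ = v * u ∧ t * (v * u) * t⁻¹ = v * u := by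
    have es : ∀ v, s * (v * u) * s⁻¹ = (s * v * s⁻¹) * (s * u * s⁻¹) := fun v => by group
    have et : ∀ v, t * (v * u) * t⁻¹ = (t * v * t⁻¹) * (t * u * t⁻¹) := fun v => by group
    rcases h.kq_cases hz hs (hu z hz hz1) with e1 | e1 <;>
      rcases h.kq_cases hy ht (hu y hy hy1) with e2 | e2
    · exact ⟨1, one_mem _, by simpa only [_root_.one_mul] using e1, by simpa only [_root_.one_mul] using e2⟩
    · -- `v = z`
      refine ⟨z, hz, ?_, ?_⟩
      · rw [es, hsz, e1]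
      · rw [et, htz, e2]
        calc y * z * (y * u) = y * (z * y) * u := by group
          _ = (y * y) * (z * u) := by rw [hzy]; group
          _ = z * u := by rw [hyy, one_mul]
    · refine ⟨y, hy, ?_, ?_⟩
      · rw [es, hsy, e1]
        calc z * y * (z * u) = z * (y * z) * u := by group
          _ = (z * z) * (y * u) := by rw [← hzy]; group
          _ = y * u := by rw [hzz, one_mul]
      · rw [et, hty, e2]
    · refine ⟨y * z, mul_mem hy hz, ?_, ?_⟩
      · have : s * (y * z) * s⁻¹ = (s * y * s⁻¹) * (s * z * s⁻¹) := by group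
        rw [es, this, hsy, hsz, e1]
        calc z * y * z * (z * u) = z * y * (z * z) * u := by group
          _ = z * y * u := by rw [hzz, mul_one]
          _ = y * z * u := by rw [hzy]
      · have : t * (y * z) * t⁻¹ = (t * y * t⁻¹) * (t * z * t⁻¹) := by group
        rw [et, this, hty, htz, e2]
        calc y * (y * z) * (y * u) = (y * y) * (z * y) * u := by group
          _ = (z * y) * u := by rw [hyy, one_mul]
          _ = y * z * u := by rw [hzy]
  set a := v * u with ha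
  have hai : a ∈ ii V := mul_mem (h.V_le_ii hv) hu
  have hacent : ∀ p ∈ V, p ≠ 1 → ∀ k ∈ kq V p, k ∈ centralizer (V : Set G) → k * a = a * k :=
    fun p hp hp1 k hk hkV => comm_mul_of (h.V_comm hv hkV).symm (hcent p hp hp1 k hk hkV)
  -- one mover which fixes `a` is enough
  have hone : ∀ p ∈ V, p ≠ 1 → ∀ m ∈ kq V p, m ∉ centralizer (V : Set G) → m * a = a * m →
      ∀ k ∈ kq V p, k * a = a * k := by
    intro p hp hp1 m hm hm1 hma k hk
    by_cases hk1 : k ∈ centralizer (V : Set G)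
    · exact hacent p hp hp1 k hk hk1
    · have h1 := hacent p hp hp1 _ (mul_mem hk (inv_mem hm)) (h.mover_coset hp hp1 hm hm1 hk hk1)
      have h2 := mul_comm_of h1 hma
      simpa only [_root_.inv_mul_cancel_right] using h2
  have ha1 : a = 1 := by
    refine h.fix_triv hai fun p hp hp1 => ?_
    rcases h.ln.four hz hy hz1 hy1 (Ne.symm hyz) hp with e | e | e | e
    · exact absurd e hp1
    · subst e; exact hone _ hz hz1 s hs hs1 (comm_of_conj_eq hsv)
    · subst e; exact hone _ hy hy1 t ht ht1 (comm_of_conj_eq htv)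
    · have hm := conj_mem_kq s ht
      rw [hsy, ← e] at hm
      refine hone p hp hp1 (s * t * s⁻¹) hm ?_ ?_
      · intro hc
        apply ht1
        have := conj_mem_of_normalizer' (normalizer_le_normalizer_centralizer V)
          (h.kq_le_normalizer hz hz1 hs) hc
        have e' : s⁻¹ * (s * t * s⁻¹) * s = t := by group
        rwa [e'] at this
      · have h1 := comm_of_conj_eq hsv
        have h2 := comm_of_conj_eq htv
        exact mul_comm_of (mul_comm_of h1 h2) (inv_comm_of h1)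
  apply huV
  have : u = v⁻¹ * a := by rw [ha]; group
  rw [this, ha1, mul_one]
  exact inv_mem hv

/-- (FU): for `u ∈ I - V` and every point `p` some element of `K_p ∩ C_G(V)` moves `u` to `p u`. -/
theorem fu [Finite G] (h : Flag T V z) {u : G} (hu : u ∈ ii V) (huV : u ∉ V) {p : G} (hp : p ∈ V)
    (hp1 : p ≠ 1) : ∃ k ∈ kq V p, k ∈ centralizer (V : Set G) ∧ k * u * k⁻¹ = p * u := by
  obtain ⟨q, hq, hq1, k, hk, hkV, hku⟩ := h.fu_aux hu huV
  by_cases hpq : p = q
  · subst hpq; exact ⟨k, hk, hkV, hku⟩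
  have hw : p * q ∈ V := mul_mem hp hq
  have hw1 : p * q ≠ 1 := h.mul_ne_one hq hpq
  have hqw : q ≠ p * q := fun e => hp1 (by simpa using e.symm)
  obtain ⟨t, ht, ht1⟩ := h.exists_mover hw hw1
  have e1 := h.move hw hw1 hq hq1 hqw ht ht1
  have e2 : p * q * q = p := by rw [mul_assoc, h.ln.sq q hq, mul_one]
  rw [e2] at e1
  have htn := h.kq_le_normalizer hw hw1 ht
  refine ⟨t * k * t⁻¹, ?_, conj_mem_of_normalizer (normalizer_le_normalizer_centralizer V) htn hkV, ?_⟩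
  · have := conj_mem_kq t hk
    rwa [e1] at this
  · have htw : t * (p * q) * t⁻¹ = p * q := conj_eq_of_comm (h.kq_p ht)
    have huc := h.ii_le_centralizer hu
    have hkw : k * (p * q) * k⁻¹ = p * q := conj_eq_of_comm (h.V_comm hw hkV).symm
    rcases h.kq_cases hw ht (hu _ hw hw1) with e3 | e3
    · have e4 : t⁻¹ * u * t = u := by
        calc t⁻¹ * u * t = t⁻¹ * (t * u * t⁻¹) * t := by rw [e3]
          _ = u := by group
      calc t * k * t⁻¹ * u * (t * k * t⁻¹)⁻¹ = t * (k * (t⁻¹ * u * t) * k⁻¹) * t⁻¹ := by group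
        _ = t * (q * u) * t⁻¹ := by rw [e4, hku]
        _ = (t * q * t⁻¹) * (t * u * t⁻¹) := by group
        _ = p * u := by rw [e1, e3]
    · have e4 : t⁻¹ * u * t = p * q * u := by
        have h5 : t * (p * q * u) * t⁻¹ = u := by
          calc t * (p * q * u) * t⁻¹ = (t * (p * q) * t⁻¹) * (t * u * t⁻¹) := by group
            _ = (p * q) * (p * q) * u := by rw [htw, e3]; group
            _ = u := by rw [h.ln.sq _ hw, one_mul]
        calc t⁻¹ * u * t = t⁻¹ * (t * (p * q * u) * t⁻¹) * t := by rw [h5]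
          _ = p * q * u := by group
      calc t * k * t⁻¹ * u * (t * k * t⁻¹)⁻¹ = t * (k * (t⁻¹ * u * t) * k⁻¹) * t⁻¹ := by group
        _ = t * ((k * (p * q) * k⁻¹) * (k * u * k⁻¹)) * t⁻¹ := by rw [e4]; group
        _ = t * (p * q * (q * u)) * t⁻¹ := by rw [hkw, hku]
        _ = (t * (p * q) * t⁻¹) * (t * q * t⁻¹) * (t * u * t⁻¹) := by group
        _ = (p * q) * p * (p * q * u) := by rw [htw, e1, e3]
        _ = (p * q) * (p * p) * (q * u) := by group
        _ = p * (q * q) * u := by rw [h.ln.sq p hp, mul_one]; group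
        _ = p * u := by rw [h.ln.sq q hq, mul_one]

/-- (F2): for `u ∈ I - V` the group `N_G(V) ∩ C_G(u)` is transitive on the points of `V`. -/
theorem ftwo [Finite G] (h : Flag T V z) {u : G} (hu : u ∈ ii V) (huV : u ∉ V) {p q : G} (hp : p ∈ V)
    (hp1 : p ≠ 1) (hq : q ∈ V) (hq1 : q ≠ 1) :
    ∃ g ∈ normalizer (V : Set G), g * u = u * g ∧ g * p * g⁻¹ = q := by
  by_cases hpq : p = q
  · subst hpq
    exact ⟨1, one_mem _, by simp, by simp⟩
  have hw : q * p ∈ V := mul_mem hq hp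
  have hw1 : q * p ≠ 1 := h.mul_ne_one hp (Ne.symm hpq)
  have hpw : p ≠ q * p := fun e => hq1 (by simpa using e.symm)
  obtain ⟨t, ht, ht1⟩ := h.exists_mover hw hw1
  have e1 := h.move hw hw1 hp hp1 hpw ht ht1
  have e2 : q * p * p = q := by rw [mul_assoc, h.ln.sq p hp, mul_one]
  rw [e2] at e1
  have htn := h.kq_le_normalizer hw hw1 ht
  rcases h.kq_cases hw ht (hu _ hw hw1) with e3 | e3
  · exact ⟨t, htn, comm_of_conj_eq e3, e1⟩
  · obtain ⟨k, hk, hkV, hku⟩ := h.fu hu huV hw hw1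
    refine ⟨k * t, mul_mem (h.kq_le_normalizer hw hw1 hk) htn, comm_of_conj_eq ?_, ?_⟩
    · have hkw : k * (q * p) * k⁻¹ = q * p := conj_eq_of_comm (h.V_comm hw hkV).symm
      calc k * t * u * (k * t)⁻¹ = k * (t * u * t⁻¹) * k⁻¹ := by group
        _ = (k * (q * p) * k⁻¹) * (k * u * k⁻¹) := by rw [e3]; group
        _ = (q * p) * (q * p) * u := by rw [hkw, hku]; group
        _ = u := by rw [h.ln.sq _ hw, one_mul]
    · calc k * t * p * (k * t)⁻¹ = k * (t * p * t⁻¹) * k⁻¹ := by group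
        _ = k * q * k⁻¹ := by rw [e1]
        _ = q := conj_eq_of_comm (h.V_comm hq hkV).symm

end Flag


namespace Flag

variable {T V : Subgroup G} {z : G}

/-! ### the duality at the points -/

/-- `K_p` acts on `W_p` by multiplication with `1` or `p` -/
theorem dw (h : Flag T V z) {p : G} (hp : p ∈ V) (hp1 : p ≠ 1) : DW p (ws V p) (kq V p) where
  q_mem := h.V_le hp hp1 hp
  comm := h.comm hp hp1
  sq := h.sq hp hp1
  cent := fun _ hk => h.kq_p hk
  act := fun _ hk _ hw => h.kq_cases hp hk hw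

/-- the same for all points of the geometry -/
theorem dw_conj (h : Flag T V z) (g : G) :
    DW (g * z * g⁻¹) (ws V (g * z * g⁻¹)) (kq V (g * z * g⁻¹)) := by
  have h1 := (h.conj g).dw (h.conj g).ln.z_mem (h.conj g).ln.z_ne
  rwa [ws_cj, kq_cj] at h1

/-- `N_p ∩ V = ⟨p⟩` -/
theorem nn_inf_V (h : Flag T V z) {p u : G} (hp : p ∈ V) (hp1 : p ≠ 1) (hu : u ∈ V)
    (hun : u ∈ nn (ws V p) (kq V p)) : u = 1 ∨ u = p := by
  by_contra hcon
  push Not at hcon
  obtain ⟨k, hk, hk1⟩ := h.exists_mover hp hp1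
  have e1 := h.move hp hp1 hu hcon.1 hcon.2 hk hk1
  have e2 := (mem_nn.1 hun).2 k hk
  rw [conj_eq_of_comm e2] at e1
  exact hp1 (by simpa using e1.symm)

/-- **(D1)** `N_p ∩ I = ⟨p⟩` -/
theorem nn_ii [Finite G] (h : Flag T V z) {p u : G} (hp : p ∈ V) (hp1 : p ≠ 1) (hu : u ∈ ii V)
    (hun : u ∈ nn (ws V p) (kq V p)) : u = 1 ∨ u = p := by
  by_cases huV : u ∈ V
  · exact h.nn_inf_V hp hp1 huV hun
  · obtain ⟨k, hk, -, e⟩ := h.fu hu huV hp hp1
    have e2 := (mem_nn.1 hun).2 k hk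
    rw [conj_eq_of_comm e2] at e
    exact absurd (by simpa using e.symm) hp1

/-- **(D1)** `N_p ∩ W_q = ⟨p⟩` for `p ≠ q` on a line -/
theorem nn_inf [Finite G] (h : Flag T V z) {p q : G} (hp : p ∈ V) (hp1 : p ≠ 1) (hq : q ∈ V) (hq1 : q ≠ 1)
    (hqp : q ≠ p) : nn (ws V p) (kq V p) ⊓ ws V q = zpowers p := by
  apply le_antisymm
  · intro u hu
    obtain ⟨hu1, hu2⟩ := mem_inf.1 hu
    have hui : u ∈ ii V := h.mem_ii hp hp1 hq hq1 hqp (mem_nn.1 hu1).1 hu2
    rcases h.nn_ii hp hp1 hui hu1 with e | e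
    · rw [e]; exact one_mem _
    · rw [e]; exact mem_zpowers _
  · rw [zpowers_le]
    exact mem_inf.2 ⟨(h.dw hp hp1).q_mem_nn, h.V_le hq hq1 hp⟩

theorem nn_inf_ii [Finite G] (h : Flag T V z) {p : G} (hp : p ∈ V) (hp1 : p ≠ 1) :
    nn (ws V p) (kq V p) ⊓ ii V = zpowers p := by
  obtain ⟨q, hq, hq1, hqp⟩ := h.exists_q hp hp1
  apply le_antisymm
  · rw [← h.nn_inf hp hp1 hq hq1 hqp]
    exact inf_le_inf_left _ (ii_le hq hq1)
  · rw [zpowers_le]
    exact mem_inf.2 ⟨(h.dw hp hp1).q_mem_nn, h.V_le_ii hp⟩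

/-! ### (D6) -/

/-- **(D6)** `V ≤ U ≤ I`, `w ∈ I - U`: some element of `K_p ∩ C(V)` centralises `U` and moves `w` to `p w`. -/
theorem exists_transv [Finite G] (h : Flag T V z) {p : G} (hp : p ∈ V) (hp1 : p ≠ 1) {U : Subgroup G}
    (hVU : V ≤ U) (hU : U ≤ ii V) {w : G} (hw : w ∈ ii V) (hwU : w ∉ U) :
    ∃ k ∈ kq V p, k ∈ centralizer (V : Set G) ∧ (∀ u ∈ U, k * u = u * k) ∧ k * w * k⁻¹ = p * w := by
  have hDW := h.dw hp hp1
  have hUW : U ≤ ws V p := hU.trans (ii_le hp hp1)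
  obtain ⟨k, hk, hkU, hkw⟩ := hDW.exists_mover hUW (ii_le hp hp1 hw) (fun hmem => hwU (by
    obtain ⟨u, hu, n, hn, rfl⟩ := mem_sup_of_comm hDW.comm hUW (inf_le_left : nn (ws V p) (kq V p) ≤ _) hmem
    have hni : n ∈ ii V := by
      have : n = u⁻¹ * (u * n) := by group
      rw [this]
      exact mul_mem (inv_mem (hU hu)) hw
    rcases h.nn_ii hp hp1 hni hn with e | e
    · rw [e, mul_one]; exact hu
    · rw [e]; exact mul_mem hu (hVU hp)))
  refine ⟨k, hk, ?_, hkU, hkw⟩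
  rw [mem_centralizer_iff]
  exact fun v hv => (hkU v (hVU hv)).symm

/-! ### (D2), (D3) -/

theorem le_normalizer_ws' {V : Subgroup G} {q u : G} (hu : u * q = q * u) :
    (∀ w ∈ ws V q, u * w * u⁻¹ ∈ ws V q) ∧ ∀ k ∈ kq V q, u * k * u⁻¹ ∈ kq V q := by
  have hu' : u ∈ centralizer ({q} : Set G) := mem_centralizer_singleton_iff.2 hu
  exact ⟨fun w hw => (mem_normalizer_iff.1 (centralizer_le_normalizer_ws V q hu') w).1 hw,
    fun k hk => (mem_normalizer_iff.1 (centralizer_le_normalizer_kq V q hu') k).1 hk⟩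

/-- The hypotheses of (D2) for `X ≤ C(q)` and `p ∈ W_q`, `X` normalised by `C_{K_q}(p)`. -/
theorem nrm {V X : Subgroup G} {p q : G} (hp : p ∈ ws V q) (hX : ∀ u ∈ X, u * q = q * u)
    (hn : ∀ k ∈ kq V q, k * p = p * k → ∀ u ∈ X, k * u * k⁻¹ ∈ X) : DW.Nrm q p (ws V q) (kq V q) X where
  p_mem := hp
  cent := hX
  W_norm := fun u hu w hw => (le_normalizer_ws' (hX u hu)).1 w hw
  K_norm := fun u hu k hk => (le_normalizer_ws' (hX u hu)).2 k hk
  norm := hn

/-- the case `X = W_p` -/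
theorem nrm_ws {V : Subgroup G} {p q : G} (hp : p ∈ ws V q) (hX : ∀ u ∈ ws V p, u * q = q * u) :
    DW.Nrm q p (ws V q) (kq V q) (ws V p) :=
  nrm hp hX fun _ _ hkp u hu => (le_normalizer_ws' hkp).1 u hu

/-- **(D3)**, all conjugates: `q = z^g`, `p ∈ W_q`, `W_p ≤ C(q)`, `W_p ∩ K_q` centralises `W_q`:
`[W_q, W_p] ≤ ⟨p⟩ N_q`. -/
theorem comm_mem (h : Flag T V z) {g p q : G} (hq : q = g * z * g⁻¹) (hp : p ∈ ws V q)
    (hX : ∀ u ∈ ws V p, u * q = q * u) (hc : ∀ e ∈ ws V p, e ∈ kq V q → ∀ w ∈ ws V q, e * w = w * e)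
    {w u : G} (hw : w ∈ ws V q) (hu : u ∈ ws V p) :
    u * w * u⁻¹ * w⁻¹ ∈ zpowers p ⊔ nn (ws V q) (kq V q) := by
  subst hq
  exact (h.dw_conj g).comm_mem (nrm_ws hp hX) hw (fun e he => hc e (mem_inf.1 he).1 (mem_inf.1 he).2 w hw) hu

/-! ### (D4), (D5): claim A (a) -/

/-- `N_q ∩ I_l ≤ ⟨q⟩` for the line `l = V^g` on the point `q = z^g` -/
theorem ii_inf_nn_conj [Finite G] (h : Flag T V z) (g : G) :
    ii (cj g V) ⊓ nn (ws V (g * z * g⁻¹)) (kq V (g * z * g⁻¹)) ≤ zpowers (g * z * g⁻¹) := by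
  have h1 := (h.conj g).nn_inf_ii (h.conj g).ln.z_mem (h.conj g).ln.z_ne
  rw [ws_cj, kq_cj] at h1
  rw [inf_comm]
  exact h1.le

/-- `I_l ≤ W_q` for the line `l = V^g` on the point `q = z^g` -/
theorem ii_le_ws_conj (h : Flag T V z) (g : G) : ii (cj g V) ≤ ws V (g * z * g⁻¹) := by
  have h1 := ii_le (V := cj g V) (h.conj g).ln.z_mem (h.conj g).ln.z_ne
  rwa [ws_cj] at h1

/-- **(D4)**, general form: `q = z^g`, `l = V^g` a line on `q`, `I = ii (V^g)`; `b ∈ W_q` centralises `X ∩ K_q`,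
`A ≤ X`, `F ≤ [A, b]`, `q ∉ F`, `2 |W_q : I| ≤ |F|`, `A` centralises `F` and `I`: then `A` centralises `b`. -/
theorem count [Finite G] (h : Flag T V z) {g p q b : G} (hq : q = g * z * g⁻¹) {X A F : Subgroup G}
    (hX : DW.Nrm q p (ws V q) (kq V q) X) (hb : b ∈ ws V q) (hbc : ∀ e ∈ X, e ∈ kq V q → e * b = b * e)
    (hAX : A ≤ X) (hF : ∀ f ∈ F, ∃ a ∈ A, f = a * b * a⁻¹ * b⁻¹) (hqF : q ∉ F)
    (hcard : 2 * (ii (cj g V)).relIndex (ws V q) ≤ Nat.card F)
    (hAF : ∀ a ∈ A, ∀ f ∈ F, a * f = f * a) (hAI : ∀ a ∈ A, ∀ f ∈ ii (cj g V), a * f = f * a)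
    {x : G} (hx : x ∈ A) : x * b = b * x := by
  subst hq
  exact (h.dw_conj g).count hX hb (fun e he => hbc e (mem_inf.1 he).1 (mem_inf.1 he).2) hAX hF hqF
    (h.ii_le_ws_conj g) (h.ii_inf_nn_conj g) hcard hAF hAI hx

/-- **(D4) + (D5)**: claim A (a). `x ∈ A ≤ X` does not centralise `b ∈ W_q`; for every `c ∈ C_{W_q}(x)` the
commutators `[A, c b]` contain a group `F` centralised by `A`, `q ∉ F`, `2 |W_q : I| ≤ |F|`. Then some
`e ∈ X ∩ K_q` centralises `C_{W_q}(x)` and moves `b` to `q b`. -/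
theorem exists_e [Finite G] (h : Flag T V z) {g p q b x : G} (hq : q = g * z * g⁻¹) {X A : Subgroup G}
    (hX : DW.Nrm q p (ws V q) (kq V q) X) (hb : b ∈ ws V q) (hAX : A ≤ X) (hx : x ∈ A) (hxb : x * b ≠ b * x)
    (hF : ∀ c ∈ ws V q, x * c = c * x → ∃ F : Subgroup G,
      (∀ f ∈ F, ∃ a ∈ A, f = a * (c * b) * a⁻¹ * (c * b)⁻¹) ∧ q ∉ F ∧
      2 * (ii (cj g V)).relIndex (ws V q) ≤ Nat.card F ∧ ∀ a ∈ A, ∀ f ∈ F, a * f = f * a)
    (hAI : ∀ a ∈ A, ∀ f ∈ ii (cj g V), a * f = f * a) :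
    ∃ e ∈ X, e ∈ kq V q ∧ (∀ c ∈ ws V q, x * c = c * x → e * c = c * e) ∧ e * b * e⁻¹ = q * b := by
  have hDW : DW q (ws V q) (kq V q) := by subst hq; exact h.dw_conj g
  let C : Subgroup G := ws V q ⊓ centralizer ({x} : Set G)
  obtain ⟨e, he, heC, heb⟩ := hDW.exists_e (C := C) (E := X ⊓ kq V q) inf_le_left inf_le_right hb (by
    intro c hc
    obtain ⟨hcW, hcx⟩ := mem_inf.1 hc
    rw [mem_centralizer_singleton_iff] at hcx
    by_contra hcon
    push Not at hcon
    obtain ⟨F, hF1, hF2, hF3, hF4⟩ := hF c hcW hcx.symm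
    have h1 := h.count hq hX (mul_mem hcW hb) (fun e he1 he2 => hcon e (mem_inf.2 ⟨he1, he2⟩)) hAX hF1 hF2 hF3
      hF4 hAI hx
    apply hxb
    calc x * b = c⁻¹ * (c * x) * b := by group
      _ = c⁻¹ * (x * (c * b)) := by rw [hcx]; group
      _ = c⁻¹ * (c * b * x) := by rw [h1]
      _ = b * x := by group)
  obtain ⟨he1, he2⟩ := mem_inf.1 he
  exact ⟨e, he1, he2, fun c hc hcx => heC c (mem_inf.2 ⟨hc, mem_centralizer_singleton_iff.2 hcx.symm⟩), heb⟩

end Flag

end Cfsg.Agent.Omega.NO3S.Dual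

end

section


/-!
# NO-3S, `q = 2`: `Dual.Flag` is helper740's `Pt.Fr`
-/

set_option autoImplicit false

namespace Cfsg.Agent.Omega.NO3S.Dual

universe u

variable {G : Type u} [Group G] {T V : Subgroup G} {z : G}

end Cfsg.Agent.Omega.NO3S.Dual

namespace Cfsg.Agent.Omega.NO3S.Pt.Fr

open Subgroup Cfsg Cfsg.Agent.ZN Cfsg.Agent.MinSimple.Geo Cfsg.Agent.Omega.CaseL
open Cfsg.Agent.Omega.NO3S.Dual

universe u

variable {G : Type u} [Group G] {T V : Subgroup G} {z : G}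

/-- the flag of helper804's duality tools -/
theorem toFlag (h : Fr T V z) : _root_.Cfsg.Agent.Omega.NO3S.Dual.Flag T V z := ⟨h.ln, h.ab, h.f1⟩

end Cfsg.Agent.Omega.NO3S.Pt.Fr

end

section


/-!
# NO-3S, `|V| = 4`: LEMMA D (helper502 #15661), K-free, all `n ≥ 1`

* `Fr.dw` : `DW p (W_p) (K_p)` for every point `p` (duality, `Dual/Basic.lean`);
* `Fr.lemD` : `x`, `x'` collinear with `p`, `≠ p`, `G* = ⟨C(W_x), C(W_x')⟩`: either `W_x ∩ W_x' ≤ W_p`, or the
  `G*`-conjugates of `x` and of `x'` lie in `⟨x, x'⟩ N_p`, `N_p = C_{W_p}(K_p)`;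
* `Fr.inf_mul_le` : `W_x ∩ W_{px} ≤ W_p`.
-/

set_option autoImplicit false
set_option linter.unusedSectionVars false

namespace Cfsg.Agent.Omega.NO3S.Pt

open Subgroup Cfsg Cfsg.Agent.ZN Cfsg.Agent.MinSimple.Geo Cfsg.Agent.Omega.CaseL Cfsg.Agent.Omega.NO3S.TwoOne
open Cfsg.Agent.Omega.NO3S.Dual (nn mem_nn DW)
open Cfsg.Agent.ZN.Block (conj_mem_of_normalizer conj_mem_of_normalizer' le_normalizer_of_forall
  mem_normalizer_of)

universe u

variable {G : Type u} [Group G] {T V : Subgroup G} {z : G}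

theorem Fr.dw (h : Fr T V z) {p : G} (hp : Col V p p) : DW p (ws V p) (kq V p) where
  q_mem := h.mem_ws_self hp
  comm := h.ws_comm hp
  sq := h.ws_sq hp
  cent := fun _ hk => mem_centralizer_singleton_iff.mp (kq_le_centralizer V p hk)
  act := fun _ hk _ hw => h.kq_cases' hp hk hw

/-- `W_x ∩ W_{px} ≤ W_p` -/
theorem Fr.inf_mul_le (h : Fr T V z) {p x : G} (hx : Col V p x) (hxp : x ≠ p) :
    ws V x ⊓ ws V (p * x) ≤ ws V p := by
  rintro u ⟨h1, h2⟩
  obtain ⟨g, hp, hx', hp1, hx1⟩ := hx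
  obtain ⟨k, -, -, hf⟩ := h.flag hp hp1
  have hpx : p * x ∈ cj g V := mul_mem hp hx'
  have hpx1 : p * x ≠ 1 := hf.mul_ne_one hx' (Ne.symm hxp)
  exact h.ii_cj_le hp hp1 (h.mem_ii_cj hx' hx1 hpx hpx1 (fun e => hp1 (by simpa using e)) h1 h2)

/-- **LEMMA D** -/
theorem Fr.lemD [Finite G] (h : Fr T V z) {p x x' : G} (hx : Col V p x) (hx' : Col V p x') (hxp : x ≠ p)
    (hxp' : x' ≠ p) :
    ws V x ⊓ ws V x' ≤ ws V p ∨
      ∀ g ∈ centralizer (ws V x : Set G) ⊔ centralizer (ws V x' : Set G),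
        g * x * g⁻¹ ∈ _root_.Subgroup.closure {x, x'} ⊔ nn (ws V p) (kq V p) ∧
        g * x' * g⁻¹ ∈ closure {x, x'} ⊔ nn (ws V p) (kq V p) := by
  set Gs := centralizer (ws V x : Set G) ⊔ centralizer (ws V x' : Set G) with hGs
  -- `G* ≤ C(p)`
  have hpx : p ∈ ws V x := h.mem_ws_of_col hx.symm
  have hpx' : p ∈ ws V x' := h.mem_ws_of_col hx'.symm
  have hGp : Gs ≤ centralizer ({p} : Set G) := by
    refine sup_le ?_ ?_
    · intro c hc
      rw [mem_centralizer_singleton_iff]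
      exact (mem_centralizer_iff.mp hc p hpx).symm
    · intro c hc
      rw [mem_centralizer_singleton_iff]
      exact (mem_centralizer_iff.mp hc p hpx').symm
  have hGX : Gs ≤ centralizer ((ws V x ⊓ ws V x' : Subgroup G) : Set G) :=
    sup_le (centralizer_le inf_le_left) (centralizer_le inf_le_right)
  -- an element of `X` lies in every `W_{x^g}`
  have hmem : ∀ y : G, ∀ g ∈ Gs, ∀ u ∈ ws V x ⊓ ws V x', u ∈ ws V y → u ∈ ws V (g * y * g⁻¹) := by
    intro y g hg u hu huy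
    have h1 := conj_mem_ws g huy
    have h2 := mem_centralizer_iff.mp (hGX hg) u hu
    have h3 : g * u * g⁻¹ = u := by rw [← h2]; group
    rwa [h3] at h1
  -- case A
  by_cases hA : ∃ g ∈ Gs, g * x * g⁻¹ = p * x
  · left
    obtain ⟨g, hg, e⟩ := hA
    intro u hu
    have := hmem x g hg u hu hu.1
    rw [e] at this
    exact h.inf_mul_le hx hxp ⟨hu.1, this⟩
  by_cases hA' : ∃ g ∈ Gs, g * x' * g⁻¹ = p * x'
  · left
    obtain ⟨g, hg, e⟩ := hA'
    intro u hu
    have := hmem x' g hg u hu hu.2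
    rw [e] at this
    exact h.inf_mul_le hx' hxp' ⟨hu.2, this⟩
  right
  have hU : _root_.Subgroup.closure {x, x'} ≤ ws V p := by
    rw [closure_le]
    rintro y (rfl | rfl)
    · exact h.mem_ws_of_col hx
    · exact h.mem_ws_of_col hx'
  have hxU : x ∈ closure ({x, x'} : Set G) := _root_.Subgroup.subset_closure (Or.inl rfl)
  have hxU' : x' ∈ closure ({x, x'} : Set G) := _root_.Subgroup.subset_closure (Or.inr rfl)
  have hgen : ∀ y ∈ closure ({x, x'} : Set G), (¬ ∃ g ∈ Gs, g * y * g⁻¹ = p * y) → ∀ g ∈ Gs,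
      g * y * g⁻¹ ∈ closure {x, x'} ⊔ nn (ws V p) (kq V p) := by
    intro y hy hno g hg
    refine (h.dw hx.left).dual hU ?_ fun k hk hkU => ?_
    · exact conj_mem_of_normalizer (centralizer_le_normalizer_ws V p) (hGp hg) (hU hy)
    · have hkx := hkU x hxU
      have hkx' := hkU x' hxU'
      have hky := hkU y hy
      have hkn : ∀ w : G, k * w = w * k → k ∈ normalizer ((centralizer (ws V w : Set G) : Subgroup G) : Set G) :=
        fun w hw => normalizer_le_normalizer_centralizer _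
          (centralizer_le_normalizer_ws V w (mem_centralizer_singleton_iff.mpr hw))
      have hkG : k * g * k⁻¹ ∈ Gs := by
        have h1 : cj k Gs = Gs := by
          rw [hGs]
          change Subgroup.map _ _ = _
          rw [Subgroup.map_sup]
          change cj k _ ⊔ cj k _ = _
          rw [cj_eq_of_mem_normalizer (hkn x hkx), cj_eq_of_mem_normalizer (hkn x' hkx')]
        rw [← h1]
        exact conj_mem_cj hg
      have hgy : g * y * g⁻¹ ∈ ws V p :=
        conj_mem_of_normalizer (centralizer_le_normalizer_ws V p) (hGp hg) (hU hy)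
      rcases h.kq_cases' hx.left hk hgy with e | e
      · exact comm_of_conj_eq e
      · exfalso
        refine hno ⟨g⁻¹ * (k * g * k⁻¹), mul_mem (inv_mem hg) hkG, ?_⟩
        have h3 : k⁻¹ * y * k = y := by
          have : k * y = y * k := hky
          rw [mul_assoc, ← this, inv_mul_cancel_left]
        have h4 : g⁻¹ * p * g = p := by
          have := mem_centralizer_singleton_iff.mp (hGp hg)
          rw [mul_assoc, ← this, inv_mul_cancel_left]
        calc g⁻¹ * (k * g * k⁻¹) * y * (g⁻¹ * (k * g * k⁻¹))⁻¹ =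
            g⁻¹ * (k * (g * (k⁻¹ * y * k) * g⁻¹) * k⁻¹) * g := by group
          _ = g⁻¹ * (p * (g * y * g⁻¹)) * g := by rw [h3, e]
          _ = (g⁻¹ * p * g) * y := by group
          _ = p * y := by rw [h4]
  exact fun g hg => ⟨hgen x hxU hA g hg, hgen x' hxU' hA' g hg⟩

end Cfsg.Agent.Omega.NO3S.Pt

end

section


/-!
# NO-3S, `|V| = 4`, `n ≥ 2`: the world W0 (`N_p ≠ p`), definitions (helper56 #21024)

* `NoOv V` : (NO) for the groups `M_q = W_q/⟨q⟩` (from (ML): `TwoFar.gdat` + `MLK.grp`);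
* `Wz T V z n` : the world: (NO); no `x ∼ p` is moved to `p x` by some `f ∈ W_q`, `(p, q)` critical; no mover
  `(x, f)`, `x = r^h`, `h` of odd order inverted by `f ∈ W_q`, `r` the neighbour of `p`, has (D), i.e.
  `W_x ∩ W_{x^f} ≤ W_p`;
* `Can V NV` : a system of canonical vectors: `NV x L c` = "`c ∈ N_x` is a canonical vector of the flag `(x, L)`";
* `One V NV n` : (1) of #21024, `Five V NV n` : (5) of #21024.
-/

set_option autoImplicit false

namespace Cfsg.Agent.Omega.NO3S.WZero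

open Subgroup Cfsg Cfsg.Agent.ZN Cfsg.Agent.MinSimple.Geo Cfsg.Agent.Omega.CaseL Cfsg.Agent.Omega.NO3S.TwoOne
open Cfsg.Agent.Omega.NO3S.Pt
open Cfsg.Agent.Omega.NO3S.Dual (nn mem_nn DW)

universe u

variable {G : Type u} [Group G]

/-- **(NO)**: for every line `L = cj g V` on `q` and every elementary abelian `A ≤ O₂(C_G(L))`:
`|A : C_A(M_q)| ≤ |M_q : C_{M_q}(A)|`, `M_q = W_q/⟨q⟩`. -/
def NoOv (V : Subgroup G) : Prop :=
  ∀ g q : G, q ∈ cj g V → q ≠ 1 → ∀ A : Subgroup G, A ≤ o2 (centralizer ((cj g V : Subgroup G) : Set G)) →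
    (∀ a ∈ A, a * a = 1) →
    ∀ N C : Subgroup G, (∀ a, a ∈ N ↔ a ∈ A ∧ ∀ u ∈ ws V q, a * u * a⁻¹ * u⁻¹ ∈ zpowers q) →
      (∀ u, u ∈ C ↔ u ∈ ws V q ∧ ∀ a ∈ A, a * u * a⁻¹ * u⁻¹ ∈ zpowers q) →
      N.relIndex A ≤ C.relIndex (ws V q)

/-- **the world W0** (without `N_z ≠ ⟨z⟩`) -/
structure Wz (T V : Subgroup G) (z : G) (n : ℕ) : Prop where
  fr : Fr T V z
  two : 2 ≤ n
  noov : NoOv V
  nosw : ∀ p q, Cr V n p q → ∀ x f, Col V p x → x ≠ p → f ∈ ws V q → f * x * f⁻¹ ≠ p * x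
  noD : ∀ p q r, Cr V n p q → Col V p r → r ≠ p → Pth V (n - 1) r q → ∀ f h, f ∈ ws V q → h * p = p * h →
    Odd (orderOf h) → f * h * f⁻¹ = h⁻¹ → h ≠ 1 → f * (h * r * h⁻¹) * f⁻¹ ≠ h * r * h⁻¹ →
    ¬ (ws V (h * r * h⁻¹) ⊓ ws V (f * (h * r * h⁻¹) * f⁻¹) ≤ ws V p)

/-- a system of canonical vectors; the lines are the `cj g V` -/
structure Can (V : Subgroup G) (NV : G → Subgroup G → G → Prop) : Prop where
  /-- existence, for every flag -/
  ex : ∀ {g x : G}, x ∈ cj g V → x ≠ 1 → ∃ c, NV x (cj g V) c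
  /-- equivariance -/
  conj : ∀ {x : G} {L : Subgroup G} {c : G} (g : G), NV x L c → NV (g * x * g⁻¹) (cj g L) (g * c * g⁻¹)
  /-- `n_{x,L} ∈ N_x` -/
  mem : ∀ {x : G} {L : Subgroup G} {c : G}, NV x L c → c ∈ nn (ws V x) (kq V x)
  /-- unique modulo `⟨x⟩` -/
  uniq : ∀ {x : G} {L : Subgroup G} {c c' : G}, NV x L c → NV x L c' → c' = c ∨ c' = x * c
  mulx : ∀ {x : G} {L : Subgroup G} {c : G}, NV x L c → NV x L (x * c)
  /-- `n_{x,L} ∉ ⟨x⟩` -/
  nin : ∀ {x : G} {L : Subgroup G} {c : G}, NV x L c → c ∉ zpowers x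
  /-- `ν = n_{x,L} y` depends only on `y N_x` -/
  shift : ∀ {x : G} {g g' c c' y y' : G}, NV x (cj g V) c → NV x (cj g' V) c' → x ∈ cj g V → x ∈ cj g' V →
    y ∈ cj g V → y' ∈ cj g' V → y ∉ zpowers x → y' ∉ zpowers x →
    y * y' ∈ nn (ws V x) (kq V x) → c * c' * (y * y') ∈ zpowers x

/-- **(1)**: `n_{y,L}` commutes with `W_q` if `L` has a point at distance `< n` from `q` -/
def One (V : Subgroup G) (NV : G → Subgroup G → G → Prop) (n : ℕ) : Prop :=
  ∀ g q r y c : G, r ∈ cj g V → r ≠ 1 → (∃ k < n, Pth V k q r) → y ∈ cj g V → y ≠ 1 → NV y (cj g V) c →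
    ∀ b ∈ ws V q, b * c = c * b

/-- **(5)**: `f ∈ N_q`, `x ∼ p`, `x ∉ W_q`: `n_x n_x^f ∈ W_p`, `n_x = n_{x,px}` -/
def Five (V : Subgroup G) (NV : G → Subgroup G → G → Prop) (n : ℕ) : Prop :=
  ∀ p q f g x c : G, Cr V n p q → f ∈ nn (ws V q) (kq V q) → p ∈ cj g V → x ∈ cj g V → x ≠ 1 → x ≠ p →
    x ∉ ws V q → NV x (cj g V) c → c * (f * c * f⁻¹) ∈ ws V p

/-- **LEMMA S0**, (6) of #21024 -/
def SZero (V : Subgroup G) (NV : G → Subgroup G → G → Prop) : Prop :=
  ∀ p x x' g g' c c' : G, p ∈ cj g V → x ∈ cj g V → p ∈ cj g' V → x' ∈ cj g' V → p ≠ 1 → x ≠ 1 → x' ≠ 1 →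
    x ≠ p → x' ≠ p → x' ≠ x → x' ≠ p * x → x * x' ∈ nn (ws V p) (kq V p) →
    NV x (cj g V) c → NV x' (cj g' V) c' → c * c' ∉ ws V p

end Cfsg.Agent.Omega.NO3S.WZero

end

section


/-!
# NO-3S, `|V| = 4`: LEMMA S0 of helper56 #21024 (6)

`CV V nv` : a family of canonical vectors: `nv x L n` = "`n` is a lift of the canonical vector of the flag `x ∈ L`"
(`L` a conjugate of `V`): `n ∈ N_x = C_{W_x}(K_x)`, unique up to `x`, equivariant, and `inj`: for `x' ∈ x N_p` the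
canonical vectors of the flags `(p, px)`, `(p, px')` are different modulo `p` unless `x' ∈ x⟨p⟩`.

* `t6` : `Ω₁ Z(C_G(V)) = V`;
* `CV.s0` : `x, x' ~ p`, `x' ∈ x N_p`, `x' ∉ x⟨p⟩` implies `n_x n_x' ∉ W_p`;
* `sZero` : the same for `Can` (`WZero/Def.lean`).
-/

set_option autoImplicit false
set_option linter.unusedSectionVars false

namespace Cfsg.Agent.Omega.NO3S.WZero

open Subgroup Cfsg Cfsg.Agent.ZN Cfsg.Agent.MinSimple.Geo Cfsg.Agent.Omega.CaseL Cfsg.Agent.Omega.NO3S.TwoOne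
  Cfsg.Agent.Omega.NO3S.Pt
open Cfsg.Agent.Omega.NO3S.Dual (nn mem_nn DW)
open Cfsg.Agent.ZN.Block (conj_mem_of_normalizer conj_mem_of_normalizer' le_normalizer_of_forall
  mem_normalizer_of)

universe u

variable {G : Type u} [Group G]

/-! ### (T6) -/

/-- **(T6)**: `Ω₁ Z(C_G(V)) ≤ V` -/
theorem t6 [Finite G] {T V : Subgroup G} {z : G} (h : Ln T V z) {u : G}
    (hu : u ∈ centralizer (V : Set G)) (huc : ∀ c ∈ centralizer (V : Set G), c * u = u * c)
    (hsq : u * u = 1) : u ∈ V := by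
  have hVc : ∀ {v}, v ∈ V → v ∈ centralizer (V : Set G) := by
    intro v hv
    rw [mem_centralizer_iff]
    intro w hw
    exact h.comm hw hv
  -- the case `u ∈ T`
  have key : ∀ u ∈ T, u ∈ centralizer (V : Set G) → (∀ c ∈ centralizer (V : Set G), c * u = u * c) →
      u * u = 1 → u ∈ V := by
    intro u huT hu huc hsq
    by_cases hall : ∀ s ∈ T, s * u = u * s
    · rcases h.soc u huT hsq hall with e | e
      · rw [e]; exact one_mem _
      · rw [e]; exact h.z_mem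
    push Not at hall
    obtain ⟨s, hs, hsu⟩ := hall
    have hsn := h.T_norm hs
    have hsz : s * z = z * s := mem_centralizer_singleton_iff.mp (h.T_le hs)
    obtain ⟨y, hy, hy1, hyz⟩ := h.exists_y
    -- `s y s⁻¹ = z y`
    have hnc : ∀ t ∈ T, t ∉ centralizer (V : Set G) → t * y * t⁻¹ = z * y := by
      intro t ht htc
      have htz : t * z = z * t := mem_centralizer_singleton_iff.mp (h.T_le ht)
      have h1 : t * y * t⁻¹ ∈ V := conj_mem_of_normalizer le_rfl (h.T_norm ht) hy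
      rcases h.four h.z_mem hy h.z_ne hy1 (Ne.symm hyz) h1 with e | e | e | e
      · exfalso
        apply hy1
        have : y = t⁻¹ * (t * y * t⁻¹) * t := by group
        rw [this, e]; group
      · exfalso
        apply hyz
        have : y = t⁻¹ * (t * y * t⁻¹) * t := by group
        rw [this, e, mul_assoc, ← htz]; group
      · exfalso
        exact htc (h.mem_centralizer_V hy hy1 hyz htz (comm_of_conj_eq e))
      · exact e
    have hsc : s ∉ centralizer (V : Set G) := fun e => hsu (huc s e)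
    have hsy := hnc s hs hsc
    have hcos : ∀ t ∈ T, t ∉ centralizer (V : Set G) → s⁻¹ * t ∈ centralizer (V : Set G) := by
      intro t ht htc
      have hty := hnc t ht htc
      refine h.mem_centralizer_V hy hy1 hyz ?_ ?_
      · exact mem_centralizer_singleton_iff.mp (mul_mem (inv_mem (h.T_le hs)) (h.T_le ht))
      · refine comm_of_conj_eq ?_
        calc s⁻¹ * t * y * (s⁻¹ * t)⁻¹ = s⁻¹ * (t * y * t⁻¹) * s := by group
          _ = s⁻¹ * (s * y * s⁻¹) * s := by rw [hty, hsy]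
          _ = y := by group
    -- an element which commutes with `s` and `C(V)` commutes with `T`
    have hT : ∀ v : G, s * v = v * s → (∀ c ∈ centralizer (V : Set G), c * v = v * c) →
        ∀ t ∈ T, t * v = v * t := by
      intro v hv hvc t ht
      by_cases htc : t ∈ centralizer (V : Set G)
      · exact hvc t htc
      · have h1 := hvc _ (hcos t ht htc)
        have h2 := mul_comm_of hv h1
        have e : s * (s⁻¹ * t) = t := by group
        rwa [e] at h2
    have hss : s * s ∈ centralizer (V : Set G) := by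
      by_contra hc
      have := hcos (s * s) (mul_mem hs hs) hc
      have e : s⁻¹ * (s * s) = s := by group
      rw [e] at this
      exact hsc this
    set u' := s * u * s⁻¹ with hu'
    have hu'c : u' ∈ centralizer (V : Set G) :=
      conj_mem_of_normalizer (normalizer_le_normalizer_centralizer V) hsn hu
    have hu'cc : ∀ c ∈ centralizer (V : Set G), c * u' = u' * c := by
      intro c hc
      have h1 := huc _ (conj_mem_of_normalizer' (normalizer_le_normalizer_centralizer V) hsn hc)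
      calc c * (s * u * s⁻¹) = s * ((s⁻¹ * c * s) * u) * s⁻¹ := by group
        _ = s * (u * (s⁻¹ * c * s)) * s⁻¹ := by rw [h1]
        _ = s * u * s⁻¹ * c := by group
    have hv1 : s * (u * u') = u * u' * s := by
      apply comm_of_conj_eq
      have h1 : s * s * u = u * (s * s) := huc _ hss
      calc s * (u * u') * s⁻¹ = (s * u * s⁻¹) * ((s * s) * u * (s * s)⁻¹) := by rw [hu']; group
        _ = u' * u := by rw [conj_eq_of_comm h1]
        _ = u * u' := huc u' hu'c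
    have hv2 : ∀ c ∈ centralizer (V : Set G), c * (u * u') = u * u' * c := fun c hc =>
      comm_mul_of (huc c hc) (hu'cc c hc)
    have hvT : u * u' ∈ T := mul_mem huT (mul_mem (mul_mem hs huT) (inv_mem hs))
    have hu'sq : u' * u' = 1 := by
      calc s * u * s⁻¹ * (s * u * s⁻¹) = s * (u * u) * s⁻¹ := by group
        _ = 1 := by rw [hsq]; group
    have hvsq : u * u' * (u * u') = 1 := by
      calc u * u' * (u * u') = u * (u' * u) * u' := by group
        _ = u * (u * u') * u' := by rw [huc u' hu'c]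
        _ = (u * u) * (u' * u') := by group
        _ = 1 := by rw [hsq, hu'sq, one_mul]
    have hui : u⁻¹ = u := inv_eq_of_mul_eq_one_right hsq
    rcases h.soc _ hvT hvsq (hT _ hv1 hv2) with e | e
    · exfalso
      apply hsu
      apply comm_of_conj_eq
      have : u' = u⁻¹ := (inv_eq_of_mul_eq_one_right e).symm
      rw [← hu', this, hui]
    · -- `u' = u z`
      have e1 : s * u * s⁻¹ = u * z := by
        rw [← hu']
        calc u' = u⁻¹ * (u * u') := by group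
          _ = u * z := by rw [e, hui]
      have hzu : u * z = z * u := (huc z (hVc h.z_mem)).symm
      have hyu : y * u = u * y := huc y (hVc hy)
      have hw1 : s * (u * y) = u * y * s := by
        apply comm_of_conj_eq
        calc s * (u * y) * s⁻¹ = (s * u * s⁻¹) * (s * y * s⁻¹) := by group
          _ = u * z * (z * y) := by rw [e1, hsy]
          _ = u * (z * z) * y := by group
          _ = u * y := by rw [h.zz, mul_one]
      have hw2 : ∀ c ∈ centralizer (V : Set G), c * (u * y) = u * y * c := fun c hc =>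
        comm_mul_of (huc c hc) (mem_centralizer_iff.mp hc y hy).symm
      have hwsq : u * y * (u * y) = 1 := by
        calc u * y * (u * y) = u * (y * u) * y := by group
          _ = (u * u) * (y * y) := by rw [hyu]; group
          _ = 1 := by rw [hsq, h.sq y hy, one_mul]
      have hw := h.soc _ (mul_mem huT (h.V_le hy)) hwsq (hT _ hw1 hw2)
      have e2 : u = u * y * y := by rw [mul_assoc, h.sq y hy, mul_one]
      rw [e2]
      rcases hw with e3 | e3
      · rw [e3, one_mul]; exact hy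
      · rw [e3]; exact mul_mem h.z_mem hy
  have hun : u ∈ normalizer (V : Set G) := centralizer_le_normalizer _ hu
  obtain ⟨c, hc, hcT⟩ := exists_cj_le_of_sylow h.T_norm h.two h.T_syl'
    (A := zpowers u) (by simpa using hun) (isPGroup_zpowers hsq)
  have h1 := key (c * u * c⁻¹) (hcT (conj_mem_cj (mem_zpowers _)))
    (conj_mem_of_normalizer (normalizer_le_normalizer_centralizer V) hc hu) ?_ ?_
  · have h2 := conj_mem_of_normalizer' le_rfl hc h1
    have e : c⁻¹ * (c * u * c⁻¹) * c = u := by group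
    rwa [e] at h2
  · intro d hd
    have h1 := huc _ (conj_mem_of_normalizer' (normalizer_le_normalizer_centralizer V) hc hd)
    calc d * (c * u * c⁻¹) = c * ((c⁻¹ * d * c) * u) * c⁻¹ := by group
      _ = c * (u * (c⁻¹ * d * c)) * c⁻¹ := by rw [h1]
      _ = c * u * c⁻¹ * d := by group
  · calc c * u * c⁻¹ * (c * u * c⁻¹) = c * (u * u) * c⁻¹ := by group
      _ = 1 := by rw [hsq]; group

/-! ### canonical vectors -/

/-- a family of canonical vectors of the flags -/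
structure CV (V : Subgroup G) (nv : G → Subgroup G → G → Prop) : Prop where
  mem : ∀ g x n, x ∈ cj g V → x ≠ 1 → nv x (cj g V) n → n ∈ nn (ws V x) (kq V x)
  mul : ∀ g x n, x ∈ cj g V → x ≠ 1 → nv x (cj g V) n → nv x (cj g V) (x * n)
  uniq : ∀ g x n n', x ∈ cj g V → x ≠ 1 → nv x (cj g V) n → nv x (cj g V) n' → n' = n ∨ n' = x * n
  conj : ∀ c g x n, x ∈ cj g V → x ≠ 1 → nv x (cj g V) n →
    nv (c * x * c⁻¹) (cj c (cj g V)) (c * n * c⁻¹)
  ex : ∀ g x, x ∈ cj g V → x ≠ 1 → ∃ n, nv x (cj g V) n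
  inj : ∀ g g' p x x' n n', p ∈ cj g V → x ∈ cj g V → p ∈ cj g' V → x' ∈ cj g' V → p ≠ 1 → x ≠ 1 →
    x' ≠ 1 → x ≠ p → x' ≠ p → x⁻¹ * x' ∈ nn (ws V p) (kq V p) → nv p (cj g V) n → nv p (cj g' V) n' →
    (n' = n ∨ n' = p * n) → x' = x ∨ x' = p * x

namespace CV

variable {T V : Subgroup G} {z : G} {nv : G → Subgroup G → G → Prop}

theorem cj' (c : CV V nv) (a : G) : CV (cj a V) nv where
  mem g x n := by rw [cj_cj, ws_cj, kq_cj]; exact c.mem _ x n
  mul g x n := by rw [cj_cj]; exact c.mul _ x n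
  uniq g x n n' := by rw [cj_cj]; exact c.uniq _ x n n'
  conj b g x n := by
    have := c.conj b (g * a) x n
    rw [← cj_cj g a V] at this
    exact this
  ex g x := by rw [cj_cj]; exact c.ex _ x
  inj g g' p x x' n n' := by rw [cj_cj, cj_cj, ws_cj, kq_cj]; exact c.inj _ _ p x x' n n'

section one

variable {p x y n : G}

theorem mem1 (c : CV V nv) (hx : x ∈ V) (hx1 : x ≠ 1) (hn : nv x V n) : n ∈ nn (ws V x) (kq V x) := by
  have := c.mem 1 x n
  rw [cj_one] at this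
  exact this hx hx1 hn

theorem mul1 (c : CV V nv) (hx : x ∈ V) (hx1 : x ≠ 1) (hn : nv x V n) : nv x V (x * n) := by
  have := c.mul 1 x n
  rw [cj_one] at this
  exact this hx hx1 hn

theorem uniq1 (c : CV V nv) {n' : G} (hx : x ∈ V) (hx1 : x ≠ 1) (hn : nv x V n) (hn' : nv x V n') :
    n' = n ∨ n' = x * n := by
  have := c.uniq 1 x n n'
  rw [cj_one] at this
  exact this hx hx1 hn hn'

theorem conj1 (c : CV V nv) {g : G} (hg : g ∈ normalizer (V : Set G)) (hx : x ∈ V) (hx1 : x ≠ 1)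
    (hn : nv x V n) : nv (g * x * g⁻¹) V (g * n * g⁻¹) := by
  have := c.conj g 1 x n
  rw [cj_one, cj_eq_of_mem_normalizer hg] at this
  exact this hx hx1 hn

theorem ex1 (c : CV V nv) (hx : x ∈ V) (hx1 : x ≠ 1) : ∃ n, nv x V n := by
  have := c.ex 1 x
  rw [cj_one] at this
  exact this hx hx1

/-- an element of `C(V)` multiplies `n_x` by `1` or `x` -/
theorem cent_cases (c : CV V nv) {t : G} (ht : t ∈ centralizer (V : Set G)) (hx : x ∈ V) (hx1 : x ≠ 1)
    (hn : nv x V n) : t * n * t⁻¹ = n ∨ t * n * t⁻¹ = x * n := by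
  have h1 := c.conj1 (centralizer_le_normalizer _ ht) hx hx1 hn
  rw [conj_eq_of_comm (mem_centralizer_iff.mp ht x hx).symm] at h1
  exact c.uniq1 hx hx1 hn h1

end one

/-- (A): `K_p ∩ C(L)` centralises the canonical vectors of `L` -/
def AA (V : Subgroup G) (nv : G → Subgroup G → G → Prop) : Prop :=
  ∀ p ∈ V, p ≠ 1 → ∀ x ∈ V, x ≠ 1 → ∀ k ∈ kq V p, k ∈ centralizer (V : Set G) → ∀ n, nv x V n →
    k * n * k⁻¹ = n

/-- (A) for one pair gives (A) for all -/
theorem aa_of (h : Fr T V z) (c : CV V nv) {p x n : G} (hp : p ∈ V) (hp1 : p ≠ 1) (hx : x ∈ V)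
    (hx1 : x ≠ 1) (hxp : x ≠ p) (hn : nv x V n)
    (ha : ∀ k ∈ kq V p, k ∈ centralizer (V : Set G) → k * n * k⁻¹ = n) : AA V nv := by
  intro p' hp' hp'1 x' hx' hx'1 k hk hkV n' hn'
  by_cases hxp' : x' = p'
  · subst hxp'
    exact conj_eq_of_comm ((mem_nn.mp (c.mem1 hx' hx'1 hn')).2 k hk)
  -- an element of `N(V)` which maps `(p, x)` to `(p', x')`
  obtain ⟨g, hg, hgp, hgx⟩ : ∃ g ∈ normalizer (V : Set G), g * p * g⁻¹ = p' ∧ g * x * g⁻¹ = x' := by
    obtain ⟨a, ha, hap⟩ := h.ln.trans p hp hp1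
    obtain ⟨b, hb, hbp⟩ := h.ln.trans p' hp' hp'1
    set g := b * a⁻¹ with hg
    have hgn : g ∈ normalizer (V : Set G) := mul_mem hb (inv_mem ha)
    have hgp : g * p * g⁻¹ = p' := by
      calc g * p * g⁻¹ = b * (a⁻¹ * p * a) * b⁻¹ := by rw [hg]; group
        _ = b * (a⁻¹ * (a * z * a⁻¹) * a) * b⁻¹ := by rw [hap]
        _ = b * z * b⁻¹ := by group
        _ = p' := hbp
    have hgx := conj_mem_of_normalizer le_rfl hgn hx
    have hgx1 : g * x * g⁻¹ ≠ 1 := fun e => hx1 (conj_eq_one_iff.mp e)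
    have hgxp : g * x * g⁻¹ ≠ p' := by
      rw [← hgp]
      intro e
      exact hxp (by simpa only [_root_.mul_left_inj, _root_.mul_right_inj] using e)
    rcases h.ln.four hp' hx' hp'1 hx'1 (Ne.symm hxp') hgx with e | e | e | e
    · exact absurd e hgx1
    · exact absurd e hgxp
    · exact ⟨g, hgn, hgp, e⟩
    · obtain ⟨m, hm, hm1⟩ := h.exists_mover hp' hp'1
      have e1 := h.move hp' hp'1 hgx hgx1 hgxp hm hm1
      refine ⟨m * g, mul_mem (h.kq_le_normalizer hp' hp'1 hm) hgn, ?_, ?_⟩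
      · calc m * g * p * (m * g)⁻¹ = m * (g * p * g⁻¹) * m⁻¹ := by group
          _ = p' := by rw [hgp, conj_eq_of_comm (h.kq_p hm)]
      · calc m * g * x * (m * g)⁻¹ = m * (g * x * g⁻¹) * m⁻¹ := by group
          _ = p' * (p' * x') := by rw [e1, e]
          _ = x' := by rw [← mul_assoc, h.ln.sq p' hp', one_mul]
  have h1 := c.conj1 hg hx hx1 hn
  rw [hgx] at h1
  -- `k` centralises `g n g⁻¹`
  have hk1 : g⁻¹ * k * g ∈ kq V p := by
    have := conj_mem_kq g⁻¹ hk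
    have e : g⁻¹ * p' * g⁻¹⁻¹ = p := by rw [← hgp]; group
    rwa [e, inv_inv] at this
  have hk2 : g⁻¹ * k * g ∈ centralizer (V : Set G) :=
    conj_mem_of_normalizer' (normalizer_le_normalizer_centralizer V) hg hkV
  have h2 := ha _ hk1 hk2
  have h3 : k * (g * n * g⁻¹) * k⁻¹ = g * n * g⁻¹ := by
    calc k * (g * n * g⁻¹) * k⁻¹ = g * (g⁻¹ * k * g * n * (g⁻¹ * k * g)⁻¹) * g⁻¹ := by group
      _ = g * n * g⁻¹ := by rw [h2]
  rcases c.uniq1 hx' hx'1 h1 hn' with e | e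
  · rw [e, h3]
  · have hkx : k * x' * k⁻¹ = x' := conj_eq_of_comm (mem_centralizer_iff.mp hkV x' hx').symm
    calc k * n' * k⁻¹ = (k * x' * k⁻¹) * (k * (g * n * g⁻¹) * k⁻¹) := by rw [e]; group
      _ = n' := by rw [hkx, h3, e]

/-- (B): `t ∈ C(V)` which centralises `n_x` centralises `n_y` -/
theorem step_b (h : Fr T V z) (c : CV V nv) (hA : AA V nv) {x y n m t : G} (hx : x ∈ V) (hx1 : x ≠ 1)
    (hy : y ∈ V) (hy1 : y ≠ 1) (hxy : x ≠ y) (hn : nv x V n) (hm : nv y V m)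
    (ht : t ∈ centralizer (V : Set G)) (h1 : t * n * t⁻¹ = n) : t * m * t⁻¹ = m := by
  -- the third point
  set p := y * x with hp
  have hpV : p ∈ V := mul_mem hy hx
  have hp1 : p ≠ 1 := h.mul_ne_one hx (Ne.symm hxy)
  have hxp : x ≠ p := fun e => hy1 (by simpa [hp] using e.symm)
  obtain ⟨k, hk, hkc⟩ := h.exists_mover hpV hp1
  have e1 : k * x * k⁻¹ = y := by
    rw [h.move hpV hp1 hx hx1 hxp hk hkc, hp, mul_assoc, h.ln.sq x hx, mul_one]
  have hkn := h.kq_le_normalizer hpV hp1 hk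
  have h2 := c.conj1 hkn hx hx1 hn
  rw [e1] at h2
  -- `k' = t k t⁻¹`
  have htn : t ∈ normalizer (V : Set G) := centralizer_le_normalizer _ ht
  have htp : t * p * t⁻¹ = p := conj_eq_of_comm (mem_centralizer_iff.mp ht p hpV).symm
  have hk' : t * k * t⁻¹ ∈ kq V p := by
    have := conj_mem_kq t hk
    rwa [htp] at this
  have hq : k⁻¹ * (t * k * t⁻¹) ∈ kq V p := mul_mem (inv_mem hk) hk'
  have hqc : k⁻¹ * (t * k * t⁻¹) ∈ centralizer (V : Set G) := by
    have e : k⁻¹ * (t * k * t⁻¹) = (k⁻¹ * t * k) * t⁻¹ := by group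
    rw [e]
    exact mul_mem (conj_mem_of_normalizer' (normalizer_le_normalizer_centralizer V) hkn ht) (inv_mem ht)
  have h3 := hA p hpV hp1 x hx hx1 _ hq hqc n hn
  have h4 : t * (k * n * k⁻¹) * t⁻¹ = k * n * k⁻¹ := by
    calc t * (k * n * k⁻¹) * t⁻¹ =
        k * (k⁻¹ * (t * k * t⁻¹) * (t * n * t⁻¹) * (k⁻¹ * (t * k * t⁻¹))⁻¹) * k⁻¹ := by group
      _ = k * n * k⁻¹ := by rw [h1, h3]
  rcases c.uniq1 hy hy1 h2 hm with e | e
  · rw [e, h4]
  · have hty : t * y * t⁻¹ = y := conj_eq_of_comm (mem_centralizer_iff.mp ht y hy).symm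
    calc t * m * t⁻¹ = (t * y * t⁻¹) * (t * (k * n * k⁻¹) * t⁻¹) := by rw [e]; group
      _ = m := by rw [hty, h4, e]

/-- (C): for a mover `k ∈ K_p`, `n_x (k n_x k⁻¹)` is a canonical vector of the flag `(p, L)` -/
theorem step_c [Finite G] (h : Fr T V z) (c : CV V nv) (hA : AA V nv) (hcom : ∀ x ∈ V, ∀ y ∈ V, x ≠ 1 → y ≠ 1 →
    Com V x y) {p x n k : G} (hp : p ∈ V) (hp1 : p ≠ 1)
    (hx : x ∈ V) (hx1 : x ≠ 1) (hxp : x ≠ p) (hn : nv x V n) (hk : k ∈ kq V p)
    (hkc : k ∉ centralizer (V : Set G)) : nv p V (n * (k * n * k⁻¹)) := by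
  have e1 := h.move hp hp1 hx hx1 hxp hk hkc
  have hkn := h.kq_le_normalizer hp hp1 hk
  set y := p * x with hy
  have hyV : y ∈ V := mul_mem hp hx
  have hy1 : y ≠ 1 := h.mul_ne_one hx (Ne.symm hxp)
  have hyp : y ≠ p := fun e => hx1 (by simpa [hy] using e)
  have hyx : y ≠ x := fun e => hp1 (by simpa [hy] using e)
  obtain ⟨a, ha⟩ := c.ex1 hp hp1
  have hd := c.conj1 hkn hx hx1 hn
  rw [e1] at hd
  set d := k * n * k⁻¹ with hdd
  have haW := (mem_nn.mp (c.mem1 hp hp1 ha)).1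
  have hnW := (mem_nn.mp (c.mem1 hx hx1 hn)).1
  have hdW := (mem_nn.mp (c.mem1 hyV hy1 hd)).1
  -- commutations
  have can : a * n = n * a := hcom p hp x hx hp1 hx1 a haW n hnW
  have cad : a * d = d * a := hcom p hp y hyV hp1 hy1 a haW d hdW
  have cnd : n * d = d * n := hcom x hx y hyV hx1 hy1 n hnW d hdW
  have sa := h.sq hp hp1 a haW
  have sn := h.sq hx hx1 n hnW
  have sd := h.sq hyV hy1 d hdW
  have cV : ∀ v ∈ V, ∀ q ∈ V, q ≠ 1 → ∀ w ∈ ws V q, v * w = w * v := fun v hv q hq hq1 w hw =>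
    h.V_comm hv (h.ws_le_centralizer_V hq hq1 hw)
  -- `u = a n d` centralises `C(V)`
  have hu1 : a * n * d ∈ centralizer (V : Set G) :=
    mul_mem (mul_mem (h.ws_le_centralizer_V hp hp1 haW) (h.ws_le_centralizer_V hx hx1 hnW))
      (h.ws_le_centralizer_V hyV hy1 hdW)
  have hpxy : p * x * y = 1 := by
    rw [hy, ← mul_assoc, mul_assoc p x p, h.ln.comm hx hp, ← mul_assoc, h.ln.sq p hp, one_mul,
      h.ln.sq x hx]
  have hu2 : ∀ t ∈ centralizer (V : Set G), t * (a * n * d) = a * n * d * t := by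
    intro t ht
    apply comm_of_conj_eq
    rcases c.cent_cases ht hx hx1 hn with e | e
    · have e2 := step_b h c hA hx hx1 hp hp1 hxp hn ha ht e
      have e3 := step_b h c hA hx hx1 hyV hy1 (Ne.symm hyx) hn hd ht e
      calc t * (a * n * d) * t⁻¹ = (t * a * t⁻¹) * (t * n * t⁻¹) * (t * d * t⁻¹) := by group
        _ = a * n * d := by rw [e2, e, e3]
    · have hne : t * n * t⁻¹ ≠ n := by
        rw [e]; intro e'; exact hx1 (by simpa using e')
      have e2 : t * a * t⁻¹ = p * a := by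
        rcases c.cent_cases ht hp hp1 ha with e' | e'
        · exact absurd (step_b h c hA hp hp1 hx hx1 (Ne.symm hxp) ha hn ht e') hne
        · exact e'
      have e3 : t * d * t⁻¹ = y * d := by
        rcases c.cent_cases ht hyV hy1 hd with e' | e'
        · exact absurd (step_b h c hA hyV hy1 hx hx1 hyx hd hn ht e') hne
        · exact e'
      calc t * (a * n * d) * t⁻¹ = (t * a * t⁻¹) * (t * n * t⁻¹) * (t * d * t⁻¹) := by group
        _ = p * a * (x * n) * (y * d) := by rw [e2, e, e3]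
        _ = p * (a * x) * (n * y) * d := by group
        _ = p * (x * a) * (y * n) * d := by
            rw [cV x hx p hp hp1 a haW, cV y hyV x hx hx1 n hnW]
        _ = p * x * (a * y) * n * d := by group
        _ = p * x * (y * a) * n * d := by rw [cV y hyV p hp hp1 a haW]
        _ = (p * x * y) * (a * n * d) := by group
        _ = a * n * d := by rw [hpxy, one_mul]
  have husq : a * n * d * (a * n * d) = 1 := by
    calc a * n * d * (a * n * d) = a * n * (d * a) * (n * d) := by group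
      _ = a * (n * a) * d * (n * d) := by rw [← cad]; group
      _ = (a * a) * n * (d * n) * d := by rw [← can]; group
      _ = (a * a) * (n * n) * (d * d) := by rw [← cnd]; group
      _ = 1 := by rw [sa, sn, sd]; simp
  have huV := t6 h.ln hu1 hu2 husq
  -- `k` swaps `n` and `d` and fixes `a`
  have hka : k * a * k⁻¹ = a := conj_eq_of_comm ((mem_nn.mp (c.mem1 hp hp1 ha)).2 k hk)
  have hkk : k * k ∈ centralizer (V : Set G) := by
    refine h.mem_centralizer_of hp hp1 hx hx1 hxp (mul_comm_of (h.kq_p hk) (h.kq_p hk)) ?_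
    apply comm_of_conj_eq
    have hkp : k * p * k⁻¹ = p := conj_eq_of_comm (h.kq_p hk)
    calc k * k * x * (k * k)⁻¹ = k * (k * x * k⁻¹) * k⁻¹ := by group
      _ = k * (p * x) * k⁻¹ := by rw [e1]
      _ = (k * p * k⁻¹) * (k * x * k⁻¹) := by group
      _ = p * (p * x) := by rw [hkp, e1]
      _ = x := by rw [← mul_assoc, h.ln.sq p hp, one_mul]
  have hkd : k * d * k⁻¹ = n := by
    have := hA p hp hp1 x hx hx1 _ (mul_mem hk hk) hkk n hn
    calc k * d * k⁻¹ = k * k * n * (k * k)⁻¹ := by rw [hdd]; group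
      _ = n := this
  have hku : k * (a * n * d) * k⁻¹ = a * n * d := by
    calc k * (a * n * d) * k⁻¹ = (k * a * k⁻¹) * (k * n * k⁻¹) * (k * d * k⁻¹) := by group
      _ = a * d * n := by rw [hka, hkd]
      _ = a * n * d := by rw [mul_assoc, ← cnd, mul_assoc]
  have hnd : n * d = a * (a * n * d) := by
    calc n * d = (a * a) * (n * d) := by rw [sa, one_mul]
      _ = a * (a * n * d) := by group
  rcases h.ln.four hp hx hp1 hx1 (Ne.symm hxp) huV with e | e | e | e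
  · rw [hnd, e, mul_one]; exact ha
  · rw [hnd, e, ← cV p hp p hp hp1 a haW]; exact c.mul1 hp hp1 ha
  · exfalso
    rw [e, e1] at hku
    exact hyx hku
  · exfalso
    rw [e] at hku
    have hkp : k * p * k⁻¹ = p := conj_eq_of_comm (h.kq_p hk)
    have : k * (p * x) * k⁻¹ = x := by
      calc k * (p * x) * k⁻¹ = (k * p * k⁻¹) * (k * x * k⁻¹) := by group
        _ = p * (p * x) := by rw [hkp, e1, hy]
        _ = x := by rw [← mul_assoc, h.ln.sq p hp, one_mul]
    rw [this] at hku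
    exact hyx hku.symm

/-- **LEMMA S0** -/
theorem s0 [Finite G] (h : Fr T V z) (c : CV V nv) (hm : Mn V 2) {p x x' g g' n n' : G} (hp : p ∈ cj g V)
    (hx : x ∈ cj g V) (hp' : p ∈ cj g' V) (hx' : x' ∈ cj g' V) (hp1 : p ≠ 1) (hx1 : x ≠ 1) (hx1' : x' ≠ 1)
    (hxp : x ≠ p) (hxp' : x' ≠ p) (hne : x' ≠ x) (hnp : x' ≠ p * x)
    (hν : x * x' ∈ nn (ws V p) (kq V p)) (hn : nv x (cj g V) n) (hn' : nv x' (cj g' V) n') :
    n * n' ∉ ws V p := by
  intro hw
  set w := n * n' with hwd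
  obtain ⟨a, -, -, hf⟩ := h.flag hp hp1
  obtain ⟨a', -, -, hf'⟩ := h.flag hp' hp1
  have cL := c.cj' g
  have cL' := c.cj' g'
  have hpc : Col V p p := ⟨g, hp, hp, hp1, hp1⟩
  have hpx : Col V p x := ⟨g, hp, hx, hp1, hx1⟩
  have hpx' : Col V p x' := ⟨g', hp', hx', hp1, hx1'⟩
  have hcom : ∀ a b, Col V a b → Com V a b := fun a b hab => hm 1 (by omega) a b (Pth.of_col hab)
  have hnW : n ∈ ws V x := (mem_nn.mp (c.mem _ _ _ hx hx1 hn)).1
  have hnW' : n' ∈ ws V x' := (mem_nn.mp (c.mem _ _ _ hx' hx1' hn')).1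
  have hxW : x ∈ ws V p := h.mem_ws_of_col hpx
  have hxW' : x' ∈ ws V p := h.mem_ws_of_col hpx'
  have hpW : p ∈ ws V p := h.mem_ws_self hpc
  have xx := h.pt_sq hpx.right
  have xx' := h.pt_sq hpx'.right
  have pp := h.pt_sq hpc
  have hνK : ∀ k ∈ kq V p, k * (x * x') = x * x' * k := (mem_nn.mp hν).2
  have hkp : ∀ k ∈ kq V p, k * p = p * k := fun k hk =>
    mem_centralizer_singleton_iff.mp (kq_le_centralizer V p hk)
  -- `k ∈ K_p`: `C(L)` iff `C(L')`
  have hLL' : ∀ k ∈ kq V p, k ∈ centralizer ((cj g V : Subgroup G) : Set G) →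
      k ∈ centralizer ((cj g' V : Subgroup G) : Set G) := by
    intro k hk hkL
    have e1 : k * x = x * k := (mem_centralizer_iff.mp hkL x hx).symm
    have e2 : k * x' = x' * k := by
      have h3 := comm_mul_of (comm_inv_of e1) (hνK k hk)
      rwa [inv_mul_cancel_left] at h3
    exact hf'.mem_centralizer_of hp' hp1 hx' hx1' hxp' (hkp k hk) e2
  have hL'L : ∀ k ∈ kq V p, k ∈ centralizer ((cj g' V : Subgroup G) : Set G) →
      k ∈ centralizer ((cj g V : Subgroup G) : Set G) := by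
    intro k hk hkL
    have e1 : k * x' = x' * k := (mem_centralizer_iff.mp hkL x' hx').symm
    have e2 : k * x = x * k := by
      have h3 := comm_mul_of (hνK k hk) e1
      rwa [mul_assoc, xx', mul_one] at h3
    exact hf.mem_centralizer_of hp hp1 hx hx1 hxp (hkp k hk) e2
  -- (a)
  have hfix : ∀ k ∈ kq V p, k ∈ centralizer ((cj g V : Subgroup G) : Set G) →
      k * n * k⁻¹ = n ∧ k * n' * k⁻¹ = n' := by
    intro k hk hkL
    have e1 := cL.cent_cases hkL hx hx1 hn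
    have e2 := cL'.cent_cases (hLL' k hk hkL) hx' hx1' hn'
    have e3 := h.kq_cases' hpc hk hw
    have e4 : k * w * k⁻¹ = (k * n * k⁻¹) * (k * n' * k⁻¹) := by rw [hwd]; group
    have cx'n : x' * n = n * x' := hcom p x hpx x' hxW' n hnW
    rw [e4] at e3
    rcases e1 with e1 | e1 <;> rcases e2 with e2 | e2
    · exact ⟨e1, e2⟩
    · exfalso
      rw [e1, e2] at e3
      have e5 : n * (x' * n') = x' * w := by rw [hwd, ← mul_assoc, ← cx'n, mul_assoc]
      rw [e5] at e3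
      rcases e3 with e | e
      · exact hx1' (by simpa using e)
      · exact hxp' (mul_right_cancel e)
    · exfalso
      rw [e1, e2] at e3
      have e5 : x * n * n' = x * w := by rw [hwd, mul_assoc]
      rw [e5] at e3
      rcases e3 with e | e
      · exact hx1 (by simpa using e)
      · exact hxp (mul_right_cancel e)
    · exfalso
      rw [e1, e2] at e3
      have e5 : x * n * (x' * n') = x * x' * w := by
        calc x * n * (x' * n') = x * (n * x') * n' := by group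
          _ = x * x' * w := by rw [← cx'n, hwd]; group
      rw [e5] at e3
      rcases e3 with e | e
      · have e6 : x * x' = 1 := by simpa only [_root_.mul_eq_right] using e
        apply hne
        calc x' = x * (x * x') := by rw [← mul_assoc, xx, one_mul]
          _ = x := by rw [e6, mul_one]
      · have e6 : x * x' = p := mul_right_cancel e
        apply hnp
        calc x' = x * (x * x') := by rw [← mul_assoc, xx, one_mul]
          _ = p * x := by rw [e6, h.ws_comm hpc x hxW p hpW]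
  have hA : AA (cj g V) nv := by
    refine aa_of hf cL hp hp1 hx hx1 hxp hn fun k hk hkL => ?_
    rw [kq_cj] at hk
    exact (hfix k hk hkL).1
  have hA' : AA (cj g' V) nv := by
    refine aa_of hf' cL' hp' hp1 hx' hx1' hxp' hn' fun k hk hkL => ?_
    rw [kq_cj] at hk
    exact (hfix k hk (hL'L k hk hkL)).2
  have hcomL : ∀ g : G, ∀ a ∈ cj g V, ∀ b ∈ cj g V, a ≠ 1 → b ≠ 1 → Com (cj g V) a b := by
    intro g a ha b hb ha1 hb1
    unfold Com
    rw [ws_cj, ws_cj]
    exact hcom a b ⟨g, ha, hb, ha1, hb1⟩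
  -- a mover
  obtain ⟨k, hk, hkL⟩ := hf.exists_mover hp hp1
  have e1 := hf.move hp hp1 hx hx1 hxp hk hkL
  have hkV := hk
  rw [kq_cj] at hkV
  have hkL' : k ∉ centralizer ((cj g' V : Subgroup G) : Set G) := fun e => hkL (hL'L k hkV e)
  have hk' : k ∈ kq (cj g' V) p := by rwa [kq_cj]
  have hα := step_c hf cL hA (hcomL g) hp hp1 hx hx1 hxp hn hk hkL
  have hα' := step_c hf' cL' hA' (hcomL g') hp' hp1 hx' hx1' hxp' hn' hk' hkL'
  set m := k * n * k⁻¹ with hmd
  set m' := k * n' * k⁻¹ with hmd'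
  -- `m` commutes with `n'`
  have hmW : m ∈ ws V (p * x) := by
    rw [← e1]
    exact conj_mem_ws k hnW
  have hpxL : p * x ∈ cj g V := mul_mem hp hx
  have hpx1 : p * x ≠ 1 := hf.mul_ne_one hx (Ne.symm hxp)
  have c1 : m * w = w * m := hcom (p * x) p ⟨g, hpxL, hp, hpx1, hp1⟩ m hmW w hw
  have c2 : m * n = n * m := hcom (p * x) x ⟨g, hpxL, hx, hpx1, hx1⟩ m hmW n hnW
  have c3 : m * n' = n' * m := by
    have h3 := comm_mul_of (comm_inv_of c2) c1
    rw [hwd] at h3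
    rwa [inv_mul_cancel_left] at h3
  have hprod : w * (k * w * k⁻¹) = n * m * (n' * m') := by
    calc w * (k * w * k⁻¹) = n * (n' * m) * m' := by rw [hwd, hmd, hmd']; group
      _ = n * m * (n' * m') := by rw [← c3]; group
  have hαW := (mem_nn.mp (c.mem _ _ _ hp hp1 hα)).1
  have sα := h.ws_sq hpc _ hαW
  have sw := h.ws_sq hpc _ hw
  have haux : ∀ α β : G, α * α = 1 → α * (α * β) = β := fun α β e => by rw [← mul_assoc, e, one_mul]
  have key : n' * m' = n * m ∨ n' * m' = p * (n * m) := by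
    rcases h.kq_cases' hpc hkV hw with e | e
    · left
      rw [e, sw] at hprod
      calc n' * m' = n * m * (n * m * (n' * m')) := (haux _ _ sα).symm
        _ = n * m := by rw [← hprod, mul_one]
    · right
      have e5 : w * (p * w) = p := by
        rw [← mul_assoc, h.ws_comm hpc w hw p hpW, mul_assoc, sw, mul_one]
      rw [e, e5] at hprod
      calc n' * m' = n * m * (n * m * (n' * m')) := (haux _ _ sα).symm
        _ = n * m * p := by rw [← hprod]
        _ = p * (n * m) := h.ws_comm hpc _ hαW p hpW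
  have hν' : x⁻¹ * x' ∈ nn (ws V p) (kq V p) := by
    have : x⁻¹ = x := inv_eq_of_mul_eq_one_right xx
    rwa [this]
  rcases c.inj g g' p x x' _ _ hp hx hp' hx' hp1 hx1 hx1' hxp hxp' hν' hα hα' key with e | e
  · exact hne e
  · exact hnp e

end CV

/-- a system of canonical vectors gives a `CV` -/
theorem Can.cv {T V : Subgroup G} {z : G} {NV : G → Subgroup G → G → Prop} (h : Fr T V z) (hc : Can V NV) :
    CV V NV where
  mem _ _ _ _ _ h3 := hc.mem h3
  mul _ _ _ _ _ h3 := hc.mulx h3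
  uniq _ _ _ _ _ _ h3 h4 := hc.uniq h3 h4
  conj c _ _ _ _ _ h3 := hc.conj c h3
  ex _ _ h1 h2 := hc.ex h1 h2
  inj := by
    intro g g' p x x' n n' hp hx hp' hx' hp1 hx1 hx1' hxp hxp' hν hn hn' hnn
    have hpc : Col V p p := ⟨g, hp, hp, hp1, hp1⟩
    have pp := h.pt_sq hpc
    have xx := h.pt_sq (show Col V x x from ⟨g, hx, hx, hx1, hx1⟩)
    have xx' := h.pt_sq (show Col V x' x' from ⟨g', hx', hx', hx1', hx1'⟩)
    have hzp : ∀ y : G, y ≠ 1 → y ≠ p → y ∉ zpowers p := by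
      intro y hy hyp hy'
      rcases (mem_zpowers_iff_of_mul_self pp).mp hy' with e | e
      · exact hy e
      · exact hyp e
    have hν' : x * x' ∈ nn (ws V p) (kq V p) := by
      have e : x⁻¹ = x := inv_eq_of_mul_eq_one_right xx
      rwa [e] at hν
    have h1 := hc.shift hn hn' hp hp' hx hx' (hzp x hx1 hxp) (hzp x' hx1' hxp') hν'
    have hnW := (mem_nn.mp (hc.mem hn)).1
    have nn1 := h.ws_sq hpc n hnW
    have hpW : p ∈ ws V p := h.mem_ws_self hpc
    have h2 : x * x' ∈ zpowers p := by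
      have h3 : n * n' ∈ zpowers p := by
        rcases hnn with e | e
        · rw [e, nn1]; exact one_mem _
        · have : n * n' = p := by
            rw [e, ← mul_assoc, h.ws_comm hpc n hnW p hpW, mul_assoc, nn1, mul_one]
          rw [this]; exact mem_zpowers p
      have h4 := mul_mem (inv_mem h3) h1
      rwa [inv_mul_cancel_left] at h4
    rcases (mem_zpowers_iff_of_mul_self pp).mp h2 with e | e
    · left
      calc x' = x * (x * x') := by rw [← mul_assoc, xx, one_mul]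
        _ = x := by rw [e, mul_one]
    · right
      have hxW : x ∈ ws V p := h.mem_ws_of_col ⟨g, hp, hx, hp1, hx1⟩
      calc x' = x * (x * x') := by rw [← mul_assoc, xx, one_mul]
        _ = p * x := by rw [e, h.ws_comm hpc x hxW p hpW]

/-- **LEMMA S0**, (6) of helper56 #21024 -/
theorem sZero [Finite G] {T V : Subgroup G} {z : G} {NV : G → Subgroup G → G → Prop} (h : Fr T V z)
    (hm : Mn V 2) (hc : Can V NV) : SZero V NV := by
  intro p x x' g g' n n' hp hx hp' hx' hp1 hx1 hx1' hxp hxp' h1 h2 h3 h4 h5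
  exact (hc.cv h).s0 h hm hp hx hp' hx' hp1 hx1 hx1' hxp hxp' h1 h2 h3 h4 h5

end Cfsg.Agent.Omega.NO3S.WZero

end
end

-- part: Mrg/Omega/NOThree/TF/Blk
section
prune_inst 0x10420000000000000080000050080000000040000000000000040804404000000090202000000288040030002001c400000000000000000000011804810000020200400000000000001804000000000000000000000000000000000000000000000
set_option linter.all false
open scoped Cfsg.Agent.FastGrp

-- part: Omega/NOThree/LL/Block
section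
/-!
# TwoFar, THEOREM LL (#18157), section 4: a transvection with centre outside `Λ`, two blocks

`H` a finite group on a finite `F₂`-space `M`; `IsT t d φ` : `t` is the transvection `m ↦ m + φ m • d`,
`Th H d` the set of the functionals of the transvections of `H` with centre `d`.

* `Sys` : `Δ` a class of vectors generating `M`, some transvection has its centre in `Δ`;
  `Sys.J_symm` ((4.1)), `Sys.th_inf` ((4.2)), `Sys.diam` (two elements of a component are equal, joined or have a common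
  neighbour), `Sys.tl2` (LEMMA TL2);
* `Blk` : the situation of (4.3), (4.4); `Blk.comm_mem` : `[M, b] ≤ ⟨c, c + λ⟩` for `b ∈ B_λ`; `Blk.card_le`,
  `Blk.exists_block` : the blocks have order at most `|M : U_λ|`.
-/

set_option autoImplicit false
set_option linter.unusedSectionVars false

namespace Cfsg.Agent.Omega.NOThree.LL.Block

open Subgroup Cfsg Cfsg.Agent

/-! ### scalars -/

theorem zc (a : ZMod 2) : a = 0 ∨ a = 1 := by
  revert a; decide

theorem zne {a : ZMod 2} : a ≠ 0 ↔ a = 1 := by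
  revert a; decide

variable {H : Type*} [Group H] {M : Type*} [AddCommGroup M] [Module (ZMod 2) M] [DistribMulAction H M]

theorem add_self (m : M) : m + m = 0 := by
  rw [← two_smul (ZMod 2) m, show (2 : ZMod 2) = 0 from rfl, zero_smul]

theorem smul_zm (g : H) (a : ZMod 2) (m : M) : g • (a • m) = a • (g • m) := by
  rcases zc a with rfl | rfl
  · rw [zero_smul, zero_smul, smul_zero]
  · rw [one_smul, one_smul]

theorem hom_zm (φ : M →+ ZMod 2) (a : ZMod 2) (m : M) : φ (a • m) = a * φ m := by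
  rcases zc a with rfl | rfl
  · rw [zero_smul, zero_mul, map_zero]
  · rw [one_smul, one_mul]

/-! ### transvections -/

/-- `t` is the transvection `m ↦ m + φ m • d` -/
def IsT (t : H) (d : M) (φ : M →+ ZMod 2) : Prop := ∀ m : M, t • m = m + φ m • d

/-- the functional `φ ∘ g⁻¹` -/
def tw (g : H) (φ : M →+ ZMod 2) : M →+ ZMod 2 where
  toFun m := φ (g⁻¹ • m)
  map_zero' := by rw [smul_zero, map_zero]
  map_add' m n := by rw [smul_add, map_add]

@[simp] theorem tw_apply (g : H) (φ : M →+ ZMod 2) (m : M) : tw g φ m = φ (g⁻¹ • m) := rfl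

variable (H) in
/-- the functionals of the transvections with centre `d` -/
def Th (d : M) : Set (M →+ ZMod 2) := {φ | ∃ t : H, IsT t d φ}

theorem IsT.self {t : H} {d : M} {φ : M →+ ZMod 2} (h : IsT t d φ) (hd : d ≠ 0) : φ d = 0 := by
  by_contra h0
  have h1 := h d
  rw [zne.1 h0, one_smul, add_self, smul_eq_zero_iff_eq] at h1
  exact hd h1

theorem IsT.mul {t s : H} {d : M} {φ ψ : M →+ ZMod 2} (h : IsT t d φ) (h' : IsT s d ψ) (h0 : φ d = 0) :
    IsT (t * s) d (φ + ψ) := by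
  intro m
  rw [mul_smul, h' m, h, map_add, hom_zm, h0, mul_zero, add_zero, AddMonoidHom.add_apply, add_smul]
  abel

theorem IsT.conj {t : H} {d : M} {φ : M →+ ZMod 2} (h : IsT t d φ) (g : H) : IsT (g * t * g⁻¹) (g • d) (tw g φ) := by
  intro m
  rw [mul_smul, mul_smul, h, smul_add, smul_inv_smul, smul_zm, tw_apply]

theorem Th.conj {d : M} {φ : M →+ ZMod 2} (h : φ ∈ Th H d) (g : H) : tw g φ ∈ Th H (g • d) := by
  obtain ⟨t, ht⟩ := h
  exact ⟨_, ht.conj g⟩

theorem Th.self {d : M} {φ : M →+ ZMod 2} (h : φ ∈ Th H d) (hd : d ≠ 0) : φ d = 0 := by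
  obtain ⟨t, ht⟩ := h
  exact ht.self hd

theorem Th.add {d : M} {φ ψ : M →+ ZMod 2} (h : φ ∈ Th H d) (h' : ψ ∈ Th H d) (hd : d ≠ 0) : φ + ψ ∈ Th H d := by
  obtain ⟨t, ht⟩ := h
  obtain ⟨s, hs⟩ := h'
  exact ⟨_, ht.mul hs (ht.self hd)⟩

theorem Th.zero (d : M) : (0 : M →+ ZMod 2) ∈ Th H d :=
  ⟨1, fun m => by rw [one_smul, AddMonoidHom.zero_apply, zero_smul, add_zero]⟩

/-- the same functional at two centres gives it at the sum -/
theorem Th.sum {d e : M} {φ : M →+ ZMod 2} (h : φ ∈ Th H d) (h' : φ ∈ Th H e) (hd : φ e = 0) : φ ∈ Th H (d + e) := by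
  obtain ⟨t, ht⟩ := h
  obtain ⟨s, hs⟩ := h'
  refine ⟨t * s, fun m => ?_⟩
  rw [mul_smul, hs m, ht, map_add, hom_zm, hd, mul_zero, add_zero, smul_add]
  abel

/-- conjugation of `(d, φ)` with the transvection `(e, ρ)` -/
theorem Th.twist {d e : M} {φ ρ : M →+ ZMod 2} (h : φ ∈ Th H d) (h' : ρ ∈ Th H e) (he : e ≠ 0) (h0 : φ e = 0) :
    φ ∈ Th H (d + ρ d • e) := by
  obtain ⟨s, hs⟩ := h'
  have h1 := Th.conj h s
  rw [hs d] at h1
  convert h1 using 1
  ext m
  have h2 : s⁻¹ • m = m + ρ m • e := by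
    rw [inv_smul_eq_iff, smul_add, smul_zm, hs m, hs e, hs.self he, zero_smul, add_zero, add_assoc, add_self,
      add_zero]
  rw [tw_apply, h2, map_add, hom_zm, h0, mul_zero, add_zero]

theorem tw_inj (g : H) : Function.Injective (tw g : (M →+ ZMod 2) → (M →+ ZMod 2)) := by
  intro φ ψ h
  ext m
  have h1 := DFunLike.congr_fun h (g • m)
  rwa [tw_apply, tw_apply, inv_smul_smul] at h1

theorem finite_dual [Finite M] : Finite (M →+ ZMod 2) :=
  Finite.of_injective (fun φ : M →+ ZMod 2 => (φ : M → ZMod 2)) DFunLike.coe_injective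

theorem ncard_Th [Finite M] (d : M) (g : H) : (Th H (g • d)).ncard = (Th H d).ncard := by
  have hf : Finite (M →+ ZMod 2) := finite_dual
  have h1 : ∀ (d : M) (g : H), (Th H d).ncard ≤ (Th H (g • d)).ncard := by
    intro d g
    rw [← Set.ncard_image_of_injective (Th H d) (tw_inj g)]
    refine Set.ncard_le_ncard ?_ (Set.toFinite _)
    rintro _ ⟨φ, hφ, rfl⟩
    exact Th.conj hφ g
  refine le_antisymm ?_ (h1 d g)
  have h2 := h1 (g • d) g⁻¹
  rwa [inv_smul_smul] at h2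

/-! ### a class of centres -/

/-- `Δ` is a class of vectors generating `M`; some transvection `≠ 1` of `H` has its centre in `Δ` -/
structure Sys (H : Type*) [Group H] {M : Type*} [AddCommGroup M] [Module (ZMod 2) M] [DistribMulAction H M]
    (Δ : Set M) : Prop where
  conj : ∀ g : H, ∀ d ∈ Δ, g • d ∈ Δ
  trans : ∀ d ∈ Δ, ∀ e ∈ Δ, ∃ g : H, g • d = e
  zero : (0 : M) ∉ Δ
  span : AddSubgroup.closure Δ = ⊤
  ex : ∃ d ∈ Δ, ∃ φ ∈ Th H d, φ ≠ 0

variable (H) in
/-- `d` and `e` are joined -/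
def J (Δ : Set M) (d e : M) : Prop := d ∈ Δ ∧ e ∈ Δ ∧ ∃ φ ∈ Th H d, φ e = 1

namespace Sys

variable {Δ : Set M}

theorem ne_zero (S : Sys H Δ) {d : M} (hd : d ∈ Δ) : d ≠ 0 := fun h => S.zero (h ▸ hd)

/-- every `d ∈ Δ` is the centre of a transvection `≠ 1` -/
theorem exists_Th (S : Sys H Δ) {d : M} (hd : d ∈ Δ) : ∃ φ ∈ Th H d, φ ≠ 0 := by
  obtain ⟨e, he, φ, hφ, h0⟩ := S.ex
  obtain ⟨g, rfl⟩ := S.trans e he d hd
  refine ⟨_, Th.conj hφ g, fun h => h0 (tw_inj g ?_)⟩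
  rw [h]
  ext m
  rfl

/-- a functional `≠ 0` does not vanish on `Δ` -/
theorem exists_ne (S : Sys H Δ) {φ : M →+ ZMod 2} (h : φ ≠ 0) : ∃ e ∈ Δ, φ e = 1 := by
  by_contra hcon
  push Not at hcon
  apply h
  have h1 : AddSubgroup.closure Δ ≤ φ.ker := by
    rw [AddSubgroup.closure_le]
    intro e he
    rcases zc (φ e) with h2 | h2
    · exact h2
    · exact absurd h2 (hcon e he)
  rw [S.span] at h1
  ext m
  exact h1 (AddSubgroup.mem_top m)

theorem exists_J (S : Sys H Δ) {d : M} (hd : d ∈ Δ) : ∃ e, J H Δ d e := by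
  obtain ⟨φ, hφ, h0⟩ := S.exists_Th hd
  obtain ⟨e, he, h1⟩ := S.exists_ne h0
  exact ⟨e, hd, he, φ, hφ, h1⟩

/-- (4.1): joined is symmetric -/
theorem J_symm [Finite M] (S : Sys H Δ) {d e : M} (h : J H Δ d e) : J H Δ e d := by
  have hf : Finite (M →+ ZMod 2) := finite_dual
  obtain ⟨hd, he, φ, hφ, h1⟩ := h
  by_contra hcon
  have h0 : ∀ χ ∈ Th H e, χ d = 0 := by
    intro χ hχ
    by_contra h
    exact hcon ⟨he, hd, χ, hχ, zne.1 h⟩
  have h2 : Th H e ⊆ Th H d := by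
    intro χ hχ
    have h3 := Th.twist hχ hφ (S.ne_zero hd) (h0 χ hχ)
    rw [h1, one_smul] at h3
    have h4 := Th.sum hχ h3 (by rw [map_add, h0 χ hχ, Th.self hχ (S.ne_zero he), add_zero])
    rwa [← add_assoc, add_self, zero_add] at h4
  obtain ⟨g, rfl⟩ := S.trans d hd _ he
  have h3 := Set.eq_of_subset_of_ncard_le h2 (ncard_Th d g).ge (Set.toFinite _)
  rw [← h3] at hφ
  have h4 := Th.self hφ (S.ne_zero he)
  rw [h1] at h4
  exact one_ne_zero h4

theorem J_add_mem (S : Sys H Δ) {d e : M} (h : J H Δ d e) : d + e ∈ Δ := by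
  obtain ⟨hd, he, φ, ⟨t, ht⟩, h1⟩ := h
  have h2 := S.conj t e he
  rw [ht e, h1, one_smul, add_comm] at h2
  exact h2

/-- (4.2) -/
theorem th_inf [Finite M] (S : Sys H Δ) {d e : M} (h : J H Δ d e) {φ : M →+ ZMod 2} (hφ : φ ∈ Th H d)
    (h0 : φ e = 0) : φ ∈ Th H e := by
  obtain ⟨he, hd, ρ, hρ, h1⟩ := S.J_symm h
  have h2 := Th.twist hφ hρ (S.ne_zero he) h0
  rw [h1, one_smul] at h2
  have h3 := Th.sum hφ h2 (by rw [map_add, h0, Th.self hφ (S.ne_zero hd), add_zero])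
  rwa [← add_assoc, add_self, zero_add] at h3

/-- two elements of a component are equal, joined or have a common neighbour -/
theorem diam [Finite M] (S : Sys H Δ) {d e : M} (h : Relation.ReflTransGen (J H Δ) d e) :
    d = e ∨ J H Δ d e ∨ ∃ x, J H Δ d x ∧ J H Δ x e := by
  induction h with
  | refl => exact Or.inl rfl
  | tail h1 h2 ih =>
    rename_i y z
    rcases ih with rfl | h3 | ⟨x, h3, h4⟩
    · exact Or.inr (Or.inl h2)
    · exact Or.inr (Or.inr ⟨_, h3, h2⟩)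
    · by_cases k1 : J H Δ d y
      · exact Or.inr (Or.inr ⟨_, k1, h2⟩)
      by_cases k2 : J H Δ x z
      · exact Or.inr (Or.inr ⟨_, h3, k2⟩)
      refine Or.inr (Or.inr ⟨x + y, ?_, ?_⟩)
      · obtain ⟨hd, hx, φ, hφ, e1⟩ := h3
        refine ⟨hd, S.J_add_mem h4, φ, hφ, ?_⟩
        have e2 : φ y = 0 := by
          by_contra h
          exact k1 ⟨hd, h2.1, φ, hφ, zne.1 h⟩
        rw [map_add, e1, e2, add_zero]
      · obtain ⟨hz, hy, χ, hχ, e1⟩ := S.J_symm h2
        refine S.J_symm ⟨hz, S.J_add_mem h4, χ, hχ, ?_⟩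
        have e2 : χ x = 0 := by
          by_contra h
          exact k2 (S.J_symm ⟨hz, h3.2.1, χ, hχ, zne.1 h⟩)
        rw [map_add, e1, e2, zero_add]

theorem rtg_symm [Finite M] (S : Sys H Δ) {d e : M} (h : Relation.ReflTransGen (J H Δ) d e) :
    Relation.ReflTransGen (J H Δ) e d := by
  induction h with
  | refl => exact Relation.ReflTransGen.refl
  | tail _ h2 ih => exact Relation.ReflTransGen.head (S.J_symm h2) ih

theorem J_conj (S : Sys H Δ) {d e : M} (h : J H Δ d e) (g : H) : J H Δ (g • d) (g • e) := by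
  obtain ⟨hd, he, φ, hφ, h1⟩ := h
  exact ⟨S.conj g d hd, S.conj g e he, _, Th.conj hφ g, by rw [tw_apply, inv_smul_smul, h1]⟩

theorem rtg_conj (S : Sys H Δ) {d e : M} (h : Relation.ReflTransGen (J H Δ) d e) (g : H) :
    Relation.ReflTransGen (J H Δ) (g • d) (g • e) := by
  induction h with
  | refl => exact Relation.ReflTransGen.refl
  | tail _ h2 ih => exact ih.tail (S.J_conj h2 g)

theorem rtg_mem {d e : M} (h : Relation.ReflTransGen (J H Δ) d e) (hd : d ∈ Δ) : e ∈ Δ := by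
  induction h with
  | refl => exact hd
  | tail _ h2 _ => exact h2.2.1

end Sys

/-! ### LEMMA TL2 -/

section tl2

theorem closure_conj {s : Set H} {g : H} (h : ∀ x ∈ s, g * x * g⁻¹ ∈ _root_.Subgroup.closure s) {x : H} (hx : x ∈ closure s) :
    g * x * g⁻¹ ∈ closure s := by
  have h1 : closure s ≤ (closure s).comap (MulAut.conj g).toMonoidHom := by
    rw [closure_le]
    exact fun x hx => h x hx
  exact h1 hx

theorem mem_norm [Finite H] {X : Subgroup H} {y : H} (h : ∀ x ∈ X, y * x * y⁻¹ ∈ X) :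
    y ∈ normalizer (X : Set H) := by
  have h1 : X.map (MulAut.conj y).toMonoidHom ≤ X := by
    rintro _ ⟨x, hx, rfl⟩
    exact h x hx
  have h2 : X.map (MulAut.conj y).toMonoidHom = X := by
    refine Subgroup.eq_of_le_of_card_ge h1 (le_of_eq ?_)
    exact (Nat.card_congr (X.equivMapOfInjective _ (MulAut.conj y).injective).toEquiv)
  rw [mem_normalizer_iff]
  intro x
  refine ⟨h x, fun hx => ?_⟩
  have h3 : y * x * y⁻¹ ∈ X.map (MulAut.conj y).toMonoidHom := by rw [h2]; exact hx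
  obtain ⟨z, hz, e⟩ := h3
  have e1 : y * z * y⁻¹ = y * x * y⁻¹ := e
  rwa [← mul_left_cancel (mul_right_cancel e1)]

theorem normal_of_le {X Y : Subgroup H} (h : Y ≤ normalizer (X : Set H)) : (X.subgroupOf Y).Normal :=
  ⟨fun x hx g => by
    rw [mem_subgroupOf] at hx ⊢
    exact (mem_normalizer_iff.1 (h g.2) _).1 hx⟩

theorem IsT.inv_smul {t : H} {d : M} {φ : M →+ ZMod 2} (h : IsT t d φ) (hd : d ≠ 0) (m : M) :
    t⁻¹ • m = m + φ m • d := by
  rw [inv_smul_eq_iff, smul_add, smul_zm, h m, h d, h.self hd, zero_smul, add_zero, add_assoc, add_self, add_zero]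

theorem IsT.tw {t : H} {d : M} {φ : M →+ ZMod 2} (h : IsT t d φ) (hd : d ≠ 0) (ψ : M →+ ZMod 2) (m : M) :
    tw t ψ m = ψ m + φ m * ψ d := by
  rw [tw_apply, h.inv_smul hd, map_add, hom_zm]

theorem IsT.congr [FaithfulSMul H M] {t s : H} {d : M} {φ : M →+ ZMod 2} (h : IsT t d φ) (h' : IsT s d φ) : t = s :=
  FaithfulSMul.eq_of_smul_eq_smul (α := M) fun m => by rw [h m, h' m]

variable {Δ : Set M}

/-- **TL2**: the centres of all the transvections of `H` are in `Δ` -/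
theorem Sys.tl2 [Finite H] [Finite M] [FaithfulSMul H M] (S : Sys H Δ) (hO : pCore 2 H = ⊥) {r : M}
    {φ : M →+ ZMod 2} (hr : r ≠ 0) (hφ : φ ∈ Th H r) (h0 : φ ≠ 0) : r ∈ Δ := by
  by_contra hrΔ
  -- (A)
  have hA : ∀ φ ∈ Th H r, ∀ ν ∈ Δ, φ ν = 1 → ν + r ∈ Δ ∧ ∀ ψ ∈ Th H ν, ψ r = 0 ∧ ψ ∈ Th H r := by
    intro φ hφ ν hν h1
    obtain ⟨t, ht⟩ := id hφ
    have h2 : ν + r ∈ Δ := by
      have := S.conj t ν hν
      rwa [ht ν, h1, one_smul] at this
    refine ⟨h2, fun ψ hψ => ?_⟩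
    have h3 : ψ r = 0 := by
      by_contra h
      obtain ⟨s, hs⟩ := hψ
      have h4 := hs r
      rw [zne.1 h, one_smul] at h4
      have h5 : r = s⁻¹ • (ν + r) := by rw [eq_inv_smul_iff, h4, add_comm]
      rw [h5] at hrΔ
      exact hrΔ (S.conj _ _ h2)
    refine ⟨h3, ?_⟩
    have h4 := Th.twist hψ hφ hr h3
    rw [h1, one_smul] at h4
    have h5 := Th.sum hψ h4 (by rw [map_add, h3, Th.self hψ (S.ne_zero hν), add_zero])
    rwa [← add_assoc, add_self, zero_add] at h5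
  -- (B)
  obtain ⟨SS, hSS⟩ : ∃ SS : Set M, ∀ ν, ν ∈ SS ↔ ν ∈ Δ ∧ ∃ φ ∈ Th H r, φ ν = 1 := ⟨_, fun _ => Iff.rfl⟩
  have hB1 : ∀ ν ∈ SS, ∀ ψ ∈ Th H ν, ψ r = 0 ∧ ψ ∈ Th H r := by
    intro ν hν ψ hψ
    obtain ⟨h1, φ, h2, h3⟩ := (hSS ν).1 hν
    exact (hA φ h2 ν h1 h3).2 ψ hψ
  have hB2 : ∀ ν ∈ SS, ν + r ∈ SS := by
    intro ν hν
    obtain ⟨h1, φ, h2, h3⟩ := (hSS ν).1 hν
    exact (hSS _).2 ⟨(hA φ h2 ν h1 h3).1, φ, h2, by rw [map_add, h3, Th.self h2 hr, add_zero]⟩
  have hB3 : ∀ ν ∈ SS, ∀ δ ∈ Δ, δ ∉ SS → (∀ ψ ∈ Th H ν, ψ δ = 0) ∧ ∀ χ ∈ Th H δ, χ ν = 0 := by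
    intro ν hν δ hδ hδS
    have h1 : ∀ ψ ∈ Th H ν, ψ δ = 0 := by
      intro ψ hψ
      by_contra h
      exact hδS ((hSS δ).2 ⟨hδ, ψ, (hB1 ν hν ψ hψ).2, zne.1 h⟩)
    refine ⟨h1, fun χ hχ => ?_⟩
    by_contra h
    obtain ⟨-, -, ψ, hψ, h2⟩ := S.J_symm ⟨hδ, ((hSS ν).1 hν).1, χ, hχ, zne.1 h⟩
    rw [h1 ψ hψ] at h2
    exact zero_ne_one h2
  have hSne : ∀ ν ∈ SS, ν ≠ 0 := fun ν hν => S.ne_zero ((hSS ν).1 hν).1
  -- (C)
  obtain ⟨gX, hgX⟩ : ∃ g : Set H, ∀ x, x ∈ g ↔ ∃ ν ∈ SS, ∃ ψ, IsT x ν ψ := ⟨_, fun _ => Iff.rfl⟩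
  obtain ⟨gY, hgY⟩ : ∃ g : Set H, ∀ x, x ∈ g ↔ ∃ ν ∈ Δ, ∃ ψ, IsT x ν ψ := ⟨_, fun _ => Iff.rfl⟩
  obtain ⟨gN, hgN⟩ : ∃ g : Set H, ∀ x, x ∈ g ↔ ∃ ν ∈ SS, ∃ ψ ∈ Th H ν, IsT x r ψ := ⟨_, fun _ => Iff.rfl⟩
  have hXY : closure gX ≤ closure gY := _root_.Subgroup.closure_mono fun x hx => by
    obtain ⟨ν, h1, ψ, h2⟩ := (hgX x).1 hx
    exact (hgY x).2 ⟨ν, ((hSS ν).1 h1).1, ψ, h2⟩
  have hY : (closure gY).Normal := by
    refine ⟨fun x hx g => closure_conj (fun x hx => ?_) hx⟩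
    obtain ⟨ν, h1, ψ, h2⟩ := (hgY x).1 hx
    exact _root_.Subgroup.subset_closure ((hgY _).2 ⟨g • ν, S.conj g ν h1, _, h2.conj g⟩)
  have hX : closure gY ≤ normalizer (closure gX : Set H) := by
    rw [closure_le]
    intro y hy
    obtain ⟨δ, hδ, χ, hχ⟩ := (hgY y).1 hy
    by_cases hδS : δ ∈ SS
    · exact le_normalizer (_root_.Subgroup.subset_closure ((hgX y).2 ⟨δ, hδS, χ, hχ⟩))
    · refine mem_norm fun x hx => closure_conj (fun x hx => ?_) hx
      obtain ⟨ν, hν, ψ, hψ⟩ := (hgX x).1 hx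
      obtain ⟨h1, h2⟩ := hB3 ν hν δ hδ hδS
      have h3 := hψ.conj y
      have h4 : y • ν = ν := by rw [hχ ν, h2 χ ⟨y, hχ⟩, zero_smul, add_zero]
      have h5 : tw y ψ = ψ := by
        ext m
        rw [hχ.tw (S.ne_zero hδ), h1 ψ ⟨x, hψ⟩, mul_zero, add_zero]
      rw [h4, h5] at h3
      exact _root_.Subgroup.subset_closure ((hgX _).2 ⟨ν, hν, ψ, h3⟩)
  have hNX : closure gN ≤ closure gX := by
    rw [closure_le]
    intro x hx
    obtain ⟨ν, hν, ψ, hψ, h1⟩ := (hgN x).1 hx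
    obtain ⟨s, hs⟩ := id hψ
    -- `(ν + r, ψ)`
    obtain ⟨h2, -⟩ := hB1 ν hν ψ hψ
    have h3 : IsT (s * x) (ν + r) ψ := by
      intro m
      rw [mul_smul, h1 m, hs, map_add, hom_zm, h2, mul_zero, add_zero, smul_add]
      abel
    have h4 : s * x ∈ _root_.Subgroup.closure gX := _root_.Subgroup.subset_closure ((hgX _).2 ⟨_, hB2 ν hν, ψ, h3⟩)
    have h5 : s ∈ closure gX := _root_.Subgroup.subset_closure ((hgX _).2 ⟨ν, hν, ψ, hs⟩)
    have h6 := mul_mem (inv_mem h5) h4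
    rwa [inv_mul_cancel_left] at h6
  have hN : closure gX ≤ normalizer (closure gN : Set H) := by
    rw [closure_le]
    intro x hx
    obtain ⟨ν, hν, ψ, hψ⟩ := (hgX x).1 hx
    refine mem_norm fun n hn => closure_conj (fun n hn => ?_) hn
    obtain ⟨ν', hν', ψ', hψ', h1⟩ := (hgN n).1 hn
    obtain ⟨h2, h3⟩ := hB1 ν hν ψ ⟨x, hψ⟩
    have h4 := h1.conj x
    have h5 : x • r = r := by rw [hψ r, h2, zero_smul, add_zero]
    rw [h5] at h4
    have h6 : ∀ m, tw x ψ' m = ψ' m + ψ m * ψ' ν := hψ.tw (hSne ν hν) ψ'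
    obtain ⟨n', hn'⟩ := h3
    have hn'N : n' ∈ closure gN := _root_.Subgroup.subset_closure ((hgN _).2 ⟨ν, hν, ψ, ⟨x, hψ⟩, hn'⟩)
    rcases zc (ψ' ν) with h7 | h7
    · have h8 : tw x ψ' = ψ' := by
        ext m
        rw [h6, h7, mul_zero, add_zero]
      rw [h8] at h4
      exact _root_.Subgroup.subset_closure ((hgN _).2 ⟨ν', hν', ψ', hψ', h4⟩)
    · have h8 : tw x ψ' = ψ' + ψ := by
        ext m
        rw [h6, h7, mul_one, AddMonoidHom.add_apply]
      rw [h8] at h4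
      rw [h4.congr (h1.mul hn' (h1.self hr))]
      exact mul_mem (_root_.Subgroup.subset_closure hn) hn'N
  have h2N : IsPGroup 2 (closure gN) := by
    have h1 : ∀ n ∈ closure gN, ∃ ψ, IsT n r ψ := by
      intro n hn
      induction hn using closure_induction with
      | mem n hn =>
        obtain ⟨-, -, ψ, -, h⟩ := (hgN n).1 hn
        exact ⟨ψ, h⟩
      | one => exact ⟨0, fun m => by rw [one_smul, AddMonoidHom.zero_apply, zero_smul, add_zero]⟩
      | mul a b _ _ ha hb =>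
        obtain ⟨ψ, h⟩ := ha
        obtain ⟨ψ', h'⟩ := hb
        exact ⟨_, h.mul h' (h.self hr)⟩
      | inv a _ ha =>
        obtain ⟨ψ, h⟩ := ha
        exact ⟨ψ, h.inv_smul hr⟩
    rintro ⟨n, hn⟩
    obtain ⟨ψ, h⟩ := h1 n hn
    refine ⟨1, Subtype.ext ?_⟩
    change n ^ 2 ^ 1 = 1
    rw [pow_one, pow_two]
    refine FaithfulSMul.eq_of_smul_eq_smul (α := M) fun m => ?_
    rw [mul_smul, h m, smul_add, smul_zm, h m, h r, h.self hr, zero_smul, add_zero, add_assoc, add_self, add_zero,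
      one_smul]
  have hsub : (closure gN).IsSubnormal := by
    have h1 : (closure gY).IsSubnormal := Subgroup.Normal.isSubnormal hY
    have h2 : (closure gX).IsSubnormal := Subgroup.IsSubnormal.step _ _ hXY h1 (normal_of_le hX)
    exact Subgroup.IsSubnormal.step _ _ hNX h2 (normal_of_le hN)
  have hbot := PLocal.SubnormalCore.le_pCore_of_isSubnormal hsub h2N
  rw [hO, le_bot_iff] at hbot
  -- `N ≠ 1`
  obtain ⟨ν, hν, h1⟩ := S.exists_ne h0
  have hνS : ν ∈ SS := (hSS ν).2 ⟨hν, φ, hφ, h1⟩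
  obtain ⟨ψ, hψ, hψ0⟩ := S.exists_Th hν
  obtain ⟨-, n, hn⟩ := hB1 ν hνS ψ hψ
  have h2 : n ∈ closure gN := _root_.Subgroup.subset_closure ((hgN n).2 ⟨ν, hνS, ψ, hψ, hn⟩)
  rw [hbot, mem_bot] at h2
  apply hψ0
  ext m
  have h3 := hn m
  rw [h2, one_smul, left_eq_add] at h3
  rcases zc (ψ m) with h4 | h4
  · exact h4
  · rw [h4, one_smul] at h3
    exact absurd h3 hr

end tl2

/-! ### supports -/

section supp

variable {Δ : Set M}

/-- `d` and `e` are in the same component -/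
abbrev Rt (H : Type*) [Group H] {M : Type*} [AddCommGroup M] [Module (ZMod 2) M] [DistribMulAction H M] (Δ : Set M) :
    M → M → Prop := Relation.ReflTransGen (J H Δ)

variable (H) in
/-- the component of `d` is not in the support of `v` -/
def Z (Δ : Set M) (d v : M) : Prop := ∀ e, Rt H Δ d e → ∀ φ ∈ Th H e, φ v = 0

theorem Z.add {d v w : M} (h : Z H Δ d v) (h' : Z H Δ d w) : Z H Δ d (v + w) := fun e he φ hφ => by
  rw [map_add, h e he φ hφ, h' e he φ hφ, add_zero]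

theorem Z.of_add {d v w : M} (h : Z H Δ d (v + w)) (h' : Z H Δ d w) : Z H Δ d v := by
  have h1 := h.add h'
  rwa [add_assoc, add_self, add_zero] at h1

theorem Z.zero (d : M) : Z H Δ d 0 := fun _ _ _ _ => map_zero _

theorem Z.congr {d d' v : M} (h : Z H Δ d v) (h' : Rt H Δ d d') : Z H Δ d' v := fun e he φ hφ =>
  h e (h'.trans he) φ hφ

namespace Sys

variable [Finite M] (S : Sys H Δ)
include S

theorem Z_self {d : M} (hd : d ∈ Δ) : ¬ Z H Δ d d := by
  intro h
  obtain ⟨e, he⟩ := S.exists_J hd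
  obtain ⟨-, -, φ, hφ, h1⟩ := S.J_symm he
  have h2 := h e (Relation.ReflTransGen.single he) φ hφ
  rw [h1] at h2
  exact one_ne_zero h2

theorem Z_of_not {d e : M} (hd : d ∈ Δ) (he : e ∈ Δ) (h : ¬ Rt H Δ d e) : Z H Δ d e := by
  intro e' he' φ hφ
  by_contra h0
  exact h (he'.tail ⟨rtg_mem he' hd, he, φ, hφ, zne.1 h0⟩)

theorem rt_of_Z {d e : M} (hd : d ∈ Δ) (he : e ∈ Δ) (h : ¬ Z H Δ d e) : Rt H Δ d e := by
  by_contra h0
  exact h (S.Z_of_not hd he h0)

theorem Z_smul {d v : M} (h : Z H Δ d v) (g : H) : Z H Δ (g • d) (g • v) := by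
  intro e he φ hφ
  have h1 := S.rtg_conj he g⁻¹
  rw [inv_smul_smul] at h1
  have h2 := h _ h1 _ (Th.conj hφ g⁻¹)
  rwa [tw_apply, inv_inv] at h2

theorem Z_smul' {d v : M} (g : H) (h : Z H Δ (g⁻¹ • d) v) : Z H Δ d (g • v) := by
  have h1 := S.Z_smul h g
  rwa [smul_inv_smul] at h1

end Sys

end supp

/-! ### the two blocks -/

/-- the situation: `λ ∈ U = U_λ`, `(F2')`, and a transvection `(c, φ₀)` trivial on `U`, `c ∈ U` not conjugate to `λ` -/
structure Blk (H : Type*) [Group H] {M : Type*} [AddCommGroup M] [Module (ZMod 2) M] [DistribMulAction H M]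
    (lam : M) (U : AddSubgroup M) (c : M) (φ₀ : M →+ ZMod 2) : Prop where
  span : AddSubgroup.closure {m : M | ∃ g : H, g • lam = m} = ⊤
  lamU : lam ∈ U
  inv : ∀ k : H, k • lam = lam → ∀ u ∈ U, k • u ∈ U
  F2 : ∀ u ∈ U, u ≠ 0 → u ≠ lam → ∃ k : H, k • lam = lam ∧ k • u = u + lam
  cU : c ∈ U
  c0 : c ≠ 0
  cl : ∀ g : H, g • lam ≠ c
  tr : φ₀ ∈ Th H c
  ne : φ₀ ≠ 0
  kU : ∀ u ∈ U, φ₀ u = 0

variable (H) in
/-- the class of `c` -/
def Del (c : M) : Set M := {m : M | ∃ g : H, g • c = m}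

namespace Blk

variable {lam c : M} {U : AddSubgroup M} {φ₀ : M →+ ZMod 2}

section basic

variable (b : Blk H lam U c φ₀)
include b

theorem lam0 : lam ≠ 0 := by
  rintro rfl
  have h1 : {m : M | ∃ g : H, g • (0 : M) = m} ⊆ (⊥ : AddSubgroup M) := by
    rintro _ ⟨g, rfl⟩
    rw [smul_zero]
    exact zero_mem _
  have h2 := (AddSubgroup.closure_le _).2 h1
  rw [b.span] at h2
  exact b.c0 (AddSubgroup.mem_bot.1 (h2 (AddSubgroup.mem_top c)))

theorem exists_k : ∃ k : H, k • lam = lam ∧ k • c = c + lam :=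
  b.F2 c b.cU b.c0 fun h => b.cl 1 (by rw [one_smul, h])

theorem c_mem : c ∈ Del H c := ⟨1, one_smul _ _⟩

theorem c'_mem : c + lam ∈ Del H c := by
  obtain ⟨k, -, hk⟩ := b.exists_k
  exact ⟨k, hk⟩

theorem lam_not : lam ∉ Del H c := by
  rintro ⟨g, hg⟩
  exact b.cl g⁻¹ (by rw [← hg, inv_smul_smul])

theorem sys : Sys H (Del H c) where
  conj := by
    rintro g _ ⟨h, rfl⟩
    exact ⟨g * h, mul_smul _ _ _⟩
  trans := by
    rintro _ ⟨g, rfl⟩ _ ⟨h, rfl⟩
    exact ⟨h * g⁻¹, by rw [mul_smul, inv_smul_smul]⟩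
  zero := by
    rintro ⟨g, hg⟩
    rw [smul_eq_zero_iff_eq] at hg
    exact b.c0 hg
  span := by
    rw [eq_top_iff, ← b.span, AddSubgroup.closure_le]
    rintro _ ⟨g, rfl⟩
    have h1 : g • c ∈ AddSubgroup.closure (Del H c) := AddSubgroup.subset_closure ⟨g, rfl⟩
    obtain ⟨k, -, hk⟩ := b.exists_k
    have h2 : g • (c + lam) ∈ AddSubgroup.closure (Del H c) :=
      AddSubgroup.subset_closure ⟨g * k, by rw [mul_smul, hk]⟩
    have h3 := add_mem h1 h2
    rwa [smul_add, ← add_assoc, add_self, zero_add] at h3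
  ex := ⟨c, b.c_mem, φ₀, b.tr, b.ne⟩

/-- exchange `c` and `c + λ` -/
theorem exists_swap : Del H (c + lam) = Del H c ∧ ∃ φ₁, Blk H lam U (c + lam) φ₁ := by
  obtain ⟨k, hkl, hk⟩ := b.exists_k
  refine ⟨?_, tw k φ₀, ?_⟩
  · ext m
    constructor
    · rintro ⟨g, rfl⟩
      exact ⟨g * k, by rw [mul_smul, hk]⟩
    · rintro ⟨g, rfl⟩
      exact ⟨g * k⁻¹, by rw [mul_smul, ← hk, inv_smul_smul]⟩
  · exact
      { span := b.span
        lamU := b.lamU
        inv := b.inv
        F2 := b.F2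
        cU := add_mem b.cU b.lamU
        c0 := fun h => b.cl 1 (by
          rw [one_smul]
          have h1 : c + lam + lam = lam := by rw [h, zero_add]
          rw [add_assoc, add_self, add_zero] at h1
          exact h1.symm)
        cl := fun g hg => b.cl (k⁻¹ * g) (by rw [mul_smul, hg, ← hk, inv_smul_smul])
        tr := by rw [← hk]; exact Th.conj b.tr k
        ne := fun h => b.ne (tw_inj k (by rw [h]; ext m; rfl))
        kU := fun u hu => by
          rw [tw_apply]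
          exact b.kU _ (b.inv k⁻¹ (by rw [inv_smul_eq_iff, hkl]) u hu) }

end basic

section main

variable [Finite H] [Finite M] [FaithfulSMul H M] (b : Blk H lam U c φ₀) (hO : pCore 2 H = ⊥)
include b hO

/-- (4.3): `c` and `c + λ` are in different components -/
theorem not_rt : ¬ Rt H (Del H c) c (c + lam) := by
  intro h
  have S := b.sys
  have hnJ : ¬ J H (Del H c) c (c + lam) := by
    intro h
    have h1 := S.J_add_mem h
    rw [← add_assoc, add_self, zero_add] at h1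
    exact b.lam_not h1
  rcases S.diam h with h1 | h1 | ⟨x, h1, h2⟩
  · exact b.lam0 (left_eq_add.1 h1)
  · exact hnJ h1
  · have hx := h2.1
    have hc := b.c_mem
    have hc' := b.c'_mem
    -- the functionals at `c`
    have key : ∀ φ ∈ Th H c, φ x = 0 → φ = 0 := by
      intro φ hφ h0
      by_contra hne
      have k1 := S.th_inf h1 hφ h0
      have k2 : φ (c + lam) = 0 := by
        by_contra h
        exact hnJ ⟨hc, hc', φ, hφ, zne.1 h⟩
      have k3 := S.th_inf h2 k1 k2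
      have k4 := Th.sum hφ k3 k2
      rw [← add_assoc, add_self, zero_add] at k4
      exact b.lam_not (S.tl2 hO b.lam0 k4 hne)
    have hφ0 : φ₀ x = 1 := zne.1 fun h => b.ne (key φ₀ b.tr h)
    have uniq : ∀ φ ∈ Th H c, φ ≠ 0 → φ = φ₀ := by
      intro φ hφ hne
      have k1 : φ x = 1 := zne.1 fun h => hne (key φ hφ h)
      have k2 := key (φ + φ₀) (Th.add hφ b.tr b.c0) (by
        rw [AddMonoidHom.add_apply, k1, hφ0]; decide)
      ext m
      have k3 := DFunLike.congr_fun k2 m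
      rw [AddMonoidHom.add_apply, AddMonoidHom.zero_apply] at k3
      rcases zc (φ m) with e1 | e1 <;> rcases zc (φ₀ m) with e2 | e2 <;> rw [e1, e2] at k3 ⊢
      · exact absurd k3 (by decide)
      · exact absurd k3 (by decide)
    obtain ⟨g, hg⟩ := S.trans c hc x hx
    have uniq' : ∀ ψ ∈ Th H x, ψ ≠ 0 → tw g⁻¹ ψ = φ₀ := by
      intro ψ hψ hne
      refine uniq _ ?_ fun h => hne (tw_inj g⁻¹ (by rw [h]; ext m; rfl))
      have := Th.conj hψ g⁻¹
      rwa [← hg, inv_smul_smul] at this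
    obtain ⟨-, -, δ, hδ, e1⟩ := S.J_symm h1
    obtain ⟨-, -, δ', hδ', e2⟩ := h2
    have hδ0 : δ ≠ 0 := fun h => by rw [h] at e1; exact zero_ne_one e1
    have hδ'0 : δ' ≠ 0 := fun h => by rw [h] at e2; exact zero_ne_one e2
    have e3 : δ = δ' := tw_inj g⁻¹ ((uniq' δ hδ hδ0).trans (uniq' δ' hδ' hδ'0).symm)
    rw [← e3, map_add, e1] at e2
    have e4 : δ lam = 0 := by
      rcases zc (δ lam) with h | h
      · exact h
      · rw [h] at e2
        exact absurd e2 (by decide)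
    obtain ⟨s, hs⟩ := hδ
    have e5 : s • lam = lam := by rw [hs lam, e4, zero_smul, add_zero]
    have e6 := b.inv s e5 c b.cU
    rw [hs c, e1, one_smul] at e6
    have e7 : x ∈ U := by
      have := add_mem b.cU e6
      rwa [← add_assoc, add_self, zero_add] at this
    rw [b.kU x e7] at hφ0
    exact zero_ne_one hφ0

theorem Z1 : Z H (Del H c) c (c + lam) := b.sys.Z_of_not b.c_mem b.c'_mem (b.not_rt hO)

theorem Z2 : Z H (Del H c) (c + lam) c :=
  b.sys.Z_of_not b.c'_mem b.c_mem fun h => b.not_rt hO (b.sys.rtg_symm h)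

theorem not_Z1 : ¬ Z H (Del H c) c lam := fun h => by
  have h1 := (b.Z1 hO).of_add h
  exact b.sys.Z_self b.c_mem h1

theorem not_Z2 : ¬ Z H (Del H c) (c + lam) lam := fun h =>
  b.sys.Z_self b.c'_mem ((b.Z2 hO).add h)

/-- `U ∩ C_M(X) = 0` -/
theorem eq_zero {u : M} (hu : u ∈ U) (h : ∀ d ∈ Del H c, Z H (Del H c) d u) : u = 0 := by
  by_contra hu0
  have S := b.sys
  apply b.not_Z1 hO
  by_cases h1 : u = lam
  · rw [← h1]
    exact h c b.c_mem
  · obtain ⟨k, hkl, hk⟩ := b.F2 u hu hu0 h1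
    have h2 := S.Z_smul' k (h (k⁻¹ • c) (S.conj _ _ b.c_mem))
    rw [hk, add_comm] at h2
    exact h2.of_add (h c b.c_mem)

/-- (i): the support of `u ∈ U` is in `{1, 2}` -/
theorem Z_U {u : M} (hu : u ∈ U) {d : M} (hd : d ∈ Del H c) (h1 : ¬ Rt H (Del H c) c d)
    (h2 : ¬ Rt H (Del H c) (c + lam) d) : Z H (Del H c) d u := by
  have S := b.sys
  intro e he φ hφ
  by_contra hne
  have heΔ := Sys.rtg_mem he hd
  have n1 : ¬ Rt H (Del H c) e c := fun h => h1 (S.rtg_symm (he.trans h))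
  have n2 : ¬ Rt H (Del H c) e (c + lam) := fun h => h2 (S.rtg_symm (he.trans h))
  have k1 : φ c = 0 := by
    by_contra h
    exact n1 (Relation.ReflTransGen.single ⟨heΔ, b.c_mem, φ, hφ, zne.1 h⟩)
  have k2 : φ (c + lam) = 0 := by
    by_contra h
    exact n2 (Relation.ReflTransGen.single ⟨heΔ, b.c'_mem, φ, hφ, zne.1 h⟩)
  have k3 : φ lam = 0 := by rwa [map_add, k1, zero_add] at k2
  obtain ⟨s, hs⟩ := hφ
  have k4 : s • lam = lam := by rw [hs lam, k3, zero_smul, add_zero]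
  have k5 := b.inv s k4 u hu
  rw [hs u, zne.1 hne, one_smul] at k5
  have k6 : e ∈ U := by
    have := add_mem hu k5
    rwa [← add_assoc, add_self, zero_add] at this
  obtain ⟨k, -, hk⟩ := b.F2 e k6 (S.ne_zero heΔ) fun h => b.lam_not (h ▸ heΔ)
  have k7 : e + lam ∈ Del H c := by
    rw [← hk]
    exact S.conj k e heΔ
  have z1 : Z H (Del H c) e c := S.Z_of_not heΔ b.c_mem n1
  have z2 : Z H (Del H c) e (c + lam) := S.Z_of_not heΔ b.c'_mem n2
  have z3 : Z H (Del H c) e lam := by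
    rw [add_comm] at z2
    exact z2.of_add z1
  have r1 : Rt H (Del H c) e (e + lam) := S.rt_of_Z heΔ k7 fun h => S.Z_self heΔ (h.of_add z3)
  have z4 : Z H (Del H c) c e := S.Z_of_not b.c_mem heΔ fun h => n1 (S.rtg_symm h)
  have r2 : Rt H (Del H c) c (e + lam) := S.rt_of_Z b.c_mem k7 fun h => by
    rw [add_comm] at h
    exact b.not_Z1 hO (h.of_add z4)
  exact n1 (r1.trans (S.rtg_symm r2))

/-- (ii): `u ∈ U` with support in `{1}` is `0` or `c` -/
theorem U_one {u : M} (hu : u ∈ U) (h : ∀ d ∈ Del H c, ¬ Rt H (Del H c) c d → Z H (Del H c) d u) :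
    u = 0 ∨ u = c := by
  have S := b.sys
  by_cases hu0 : u = 0
  · exact Or.inl hu0
  right
  have z1 : Z H (Del H c) (c + lam) u := h _ b.c'_mem (b.not_rt hO)
  have hul : u ≠ lam := fun e => b.not_Z2 hO (e ▸ z1)
  obtain ⟨k, hkl, hk⟩ := b.F2 u hu hu0 hul
  have h1 : ∀ d ∈ Del H c, ¬ Rt H (Del H c) (k • c) d → Z H (Del H c) d (u + lam) := by
    intro d hd hn
    rw [← hk]
    refine S.Z_smul' k (h _ (S.conj _ _ hd) fun hr => hn ?_)
    have := S.rtg_conj hr k
    rwa [smul_inv_smul] at this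
  have r1 : Rt H (Del H c) (k • c) (c + lam) := by
    by_contra hn
    have h2 := h1 _ b.c'_mem hn
    rw [add_comm u] at h2
    exact b.not_Z2 hO (h2.of_add z1)
  have z2 : Z H (Del H c) c (u + lam) :=
    h1 c b.c_mem fun hr => b.not_rt hO ((S.rtg_symm hr).trans r1)
  have z3 : Z H (Del H c) c (u + c) := by
    have h2 := z2.add (b.Z1 hO)
    have e : u + lam + (c + lam) = u + c := by
      calc u + lam + (c + lam) = u + c + (lam + lam) := by abel
        _ = u + c := by rw [add_self, add_zero]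
    rwa [e] at h2
  have h2 : u + c = 0 := by
    refine b.eq_zero hO (add_mem hu b.cU) fun d hd => ?_
    by_cases hr : Rt H (Del H c) c d
    · exact z3.congr hr
    · exact (h d hd hr).add (S.Z_of_not hd b.c_mem fun h => hr (S.rtg_symm h))
  have h3 : u + c + c = c := by rw [h2, zero_add]
  rwa [add_assoc, add_self, add_zero] at h3

/-- `u ∈ U` with `Z (c + λ) u` is `0` or `c` -/
theorem U_inf {u : M} (hu : u ∈ U) (h : Z H (Del H c) (c + lam) u) : u = 0 ∨ u = c := by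
  refine b.U_one hO hu fun d hd hn => ?_
  by_cases hr : Rt H (Del H c) (c + lam) d
  · exact h.congr hr
  · exact b.Z_U hO hu hd hn hr

/-- an element of `B_λ` moves `d ∈ Δ` only by `c` or `c + λ` -/
theorem comm_Del {g : H} (hg : ∀ u ∈ U, g • u = u) (hg' : ∀ m : M, g • m + m ∈ U) {d : M} (hd : d ∈ Del H c) :
    g • d + d = 0 ∨ g • d + d = c ∨ g • d + d = c + lam := by
  have S := b.sys
  have hgd := S.conj g d hd
  have e0 : ∀ x : M, x + d + d = x := fun x => by rw [add_assoc, add_self, add_zero]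
  by_cases h1 : Rt H (Del H c) c d
  · have r1 := S.rtg_conj h1 g
    rw [hg c b.cU] at r1
    have z1 : Z H (Del H c) (c + lam) d :=
      S.Z_of_not b.c'_mem hd fun h => b.not_rt hO (h1.trans (S.rtg_symm h))
    have z2 : Z H (Del H c) (c + lam) (g • d) :=
      S.Z_of_not b.c'_mem hgd fun h => b.not_rt hO (r1.trans (S.rtg_symm h))
    rcases b.U_inf hO (hg' d) (z2.add z1) with h | h
    · exact Or.inl h
    · exact Or.inr (Or.inl h)
  by_cases h2 : Rt H (Del H c) (c + lam) d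
  · have r1 := S.rtg_conj h2 g
    rw [hg _ (add_mem b.cU b.lamU)] at r1
    obtain ⟨hΔ, φ₁, b'⟩ := b.exists_swap
    have z1 : Z H (Del H c) c d :=
      S.Z_of_not b.c_mem hd fun h => b.not_rt hO (h.trans (S.rtg_symm h2))
    have z2 : Z H (Del H c) c (g • d) :=
      S.Z_of_not b.c_mem hgd fun h => b.not_rt hO (h.trans (S.rtg_symm r1))
    have h3 := b'.U_inf hO (hg' d)
    rw [hΔ, add_assoc, add_self, add_zero] at h3
    rcases h3 (z2.add z1) with h | h
    · exact Or.inl h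
    · exact Or.inr (Or.inr h)
  · left
    have z1 := b.Z_U hO (hg' d) hd h1 h2
    have r1 : Rt H (Del H c) d (g • d) := S.rt_of_Z hd hgd fun h => by
      apply S.Z_self hd
      have h3 := z1.add h
      rwa [add_comm (g • d), add_assoc, add_self, add_zero] at h3
    refine b.eq_zero hO (hg' d) fun d' hd' => ?_
    by_cases k1 : Rt H (Del H c) c d'
    · have z2 : Z H (Del H c) c d := S.Z_of_not b.c_mem hd h1
      have z3 : Z H (Del H c) c (g • d) := S.Z_of_not b.c_mem hgd fun h => h1 (h.trans (S.rtg_symm r1))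
      exact (z3.add z2).congr k1
    by_cases k2 : Rt H (Del H c) (c + lam) d'
    · have z2 : Z H (Del H c) (c + lam) d := S.Z_of_not b.c'_mem hd h2
      have z3 : Z H (Del H c) (c + lam) (g • d) :=
        S.Z_of_not b.c'_mem hgd fun h => h2 (h.trans (S.rtg_symm r1))
      exact (z3.add z2).congr k2
    · exact b.Z_U hO (hg' d) hd' k1 k2

/-- **(a)**: `[M, g] ≤ ⟨c, c + λ⟩` for `g ∈ B_λ` -/
theorem comm_mem {g : H} (hg : ∀ u ∈ U, g • u = u) (hg' : ∀ m : M, g • m + m ∈ U) (m : M) :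
    g • m + m = 0 ∨ g • m + m = c ∨ g • m + m = c + lam ∨ g • m + m = lam := by
  obtain ⟨W, hW⟩ : ∃ W : AddSubgroup M, ∀ x, x ∈ W ↔ (x = 0 ∨ x = c ∨ x = c + lam ∨ x = lam) := by
    have hs := fun x : M => add_self x
    refine ⟨⟨⟨⟨{x | x = 0 ∨ x = c ∨ x = c + lam ∨ x = lam}, ?_⟩, Or.inl rfl⟩, ?_⟩, fun x => Iff.rfl⟩
    · have e1 : c + (c + lam) = lam := by rw [← add_assoc, hs, zero_add]
      have e2 : c + lam + c = lam := by rw [add_comm, e1]
      have e3 : c + lam + lam = c := by rw [add_assoc, hs, add_zero]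
      have e4 : lam + (c + lam) = c := by rw [add_comm, e3]
      rintro x y (rfl | rfl | rfl | rfl) (rfl | rfl | rfl | rfl)
      all_goals simp only [Set.mem_ofPred_eq, zero_add, add_zero, hs, e1, e2, e3, e4, true_or, or_true]
      rw [add_comm]
      exact Or.inr (Or.inr (Or.inl rfl))
    · intro x hx
      have e : -x = x := neg_eq_of_add_eq_zero_left (hs x)
      change -x ∈ {x | x = 0 ∨ x = c ∨ x = c + lam ∨ x = lam}
      rw [e]
      exact hx
  rw [← hW]
  have h1 : AddSubgroup.closure (Del H c) ≤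
      { carrier := {m : M | g • m + m ∈ W}
        zero_mem' := by
          change g • (0 : M) + 0 ∈ W
          rw [smul_zero, add_zero]; exact zero_mem _
        add_mem' := fun {x y} hx hy => by
          change g • (x + y) + (x + y) ∈ W
          have e : g • (x + y) + (x + y) = (g • x + x) + (g • y + y) := by rw [smul_add]; abel
          rw [e]
          exact add_mem hx hy
        neg_mem' := fun {x} hx => by
          change g • (-x) + -x ∈ W
          have e : g • (-x) + -x = -(g • x + x) := by rw [smul_neg]; abel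
          rw [e]
          exact neg_mem hx } := by
    rw [AddSubgroup.closure_le]
    intro d hd
    change g • d + d ∈ W
    rw [hW]
    rcases b.comm_Del hO hg hg' hd with h | h | h
    · exact Or.inl h
    · exact Or.inr (Or.inl h)
    · exact Or.inr (Or.inr (Or.inl h))
  rw [b.sys.span] at h1
  exact h1 (AddSubgroup.mem_top m)

/-! ### the order of a block -/

omit hO in
theorem card_ker {φ : M →+ ZMod 2} (h : φ ≠ 0) : Nat.card φ.ker * 2 = Nat.card M := by
  have h1 : φ.range = ⊤ := by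
    obtain ⟨m, hm⟩ : ∃ m, φ m ≠ 0 := by
      by_contra hcon
      push Not at hcon
      exact h (AddMonoidHom.ext hcon)
    rw [eq_top_iff]
    intro a _
    rcases zc a with rfl | rfl
    · exact zero_mem _
    · exact ⟨m, zne.1 hm⟩
  have h2 := φ.ker.card_mul_index
  rw [AddSubgroup.index_ker, h1, AddSubgroup.card_top, Nat.card_zmod] at h2
  exact h2

omit b hO in
theorem card_prod (A B : AddSubgroup M) :
    Nat.card A * Nat.card B = Nat.card (A ⊓ B : AddSubgroup M) * Nat.card (A ⊔ B : AddSubgroup M) := by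
  have h1 := AddSubgroup.relIndex_mul_relIndex (⊥ : AddSubgroup M) (A ⊓ B) A bot_le inf_le_left
  have h2 := AddSubgroup.relIndex_mul_relIndex (⊥ : AddSubgroup M) B (A ⊔ B) bot_le le_sup_right
  rw [AddSubgroup.relIndex_bot_left, AddSubgroup.relIndex_bot_left, AddSubgroup.inf_relIndex_left] at h1
  rw [AddSubgroup.relIndex_bot_left, AddSubgroup.relIndex_bot_left, AddSubgroup.relIndex_sup_right] at h2
  rw [← h1, ← h2]
  ring

/-- **the order of a block** -/
theorem card_le : Nat.card (AddSubgroup.closure {e : M | Rt H (Del H c) c e}) * Nat.card U ≤ Nat.card M := by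
  have S := b.sys
  obtain ⟨hΔ, φ₁, b'⟩ := b.exists_swap
  obtain ⟨N2, hN2⟩ : ∃ W : AddSubgroup M, ∀ x, x ∈ W ↔ Z H (Del H c) (c + lam) x := by
    refine ⟨⟨⟨⟨{x | Z H (Del H c) (c + lam) x}, fun {x y} hx hy => hx.add hy⟩, Z.zero _⟩, fun {x} hx => ?_⟩,
      fun x => Iff.rfl⟩
    have e : -x = x := neg_eq_of_add_eq_zero_left (add_self x)
    change Z H (Del H c) (c + lam) (-x)
    rw [e]
    exact hx
  have h1 : AddSubgroup.closure {e : M | Rt H (Del H c) c e} ≤ N2 := by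
    rw [AddSubgroup.closure_le]
    intro e he
    refine (hN2 e).2 (S.Z_of_not b.c'_mem (Sys.rtg_mem he b.c_mem) fun h => b.not_rt hO ?_)
    exact Relation.ReflTransGen.trans he (S.rtg_symm h)
  have h2 : Nat.card (U ⊓ N2 : AddSubgroup M) ≤ 2 := by
    have h3 : ((U ⊓ N2 : AddSubgroup M) : Set M) ⊆ {0, c} := by
      rintro u ⟨hu, hu'⟩
      rcases b.U_inf hO hu ((hN2 u).1 hu') with h | h
      · exact Or.inl h
      · exact Or.inr h
    calc Nat.card (U ⊓ N2 : AddSubgroup M) = ((U ⊓ N2 : AddSubgroup M) : Set M).ncard := rfl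
      _ ≤ ({0, c} : Set M).ncard := Set.ncard_le_ncard h3
      _ ≤ 2 := Set.ncard_insert_le _ _ |>.trans (by rw [Set.ncard_singleton])
  have h3 : U ⊔ N2 ≤ φ₁.ker := by
    refine sup_le (fun u hu => b'.kU u hu) fun v hv => ?_
    exact (hN2 v).1 hv _ Relation.ReflTransGen.refl φ₁ b'.tr
  have h4 := card_ker b' b'.ne
  have h5 : Nat.card (U ⊔ N2 : AddSubgroup M) ≤ Nat.card φ₁.ker := Nat.card_mono (Set.toFinite _) h3
  have h6 : Nat.card (AddSubgroup.closure {e : M | Rt H (Del H c) c e}) ≤ Nat.card N2 :=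
    Nat.card_mono (Set.toFinite _) h1
  calc _ ≤ Nat.card N2 * Nat.card U := Nat.mul_le_mul_right _ h6
    _ = Nat.card U * Nat.card N2 := mul_comm _ _
    _ = Nat.card (U ⊓ N2 : AddSubgroup M) * Nat.card (U ⊔ N2 : AddSubgroup M) := card_prod U N2
    _ ≤ 2 * Nat.card φ₁.ker := Nat.mul_le_mul h2 h5
    _ = Nat.card M := by rw [mul_comm, h4]

/-- **(b)**: the block of a transvection: `B + C_M(T) = M` for the group `T` of the transvections with centre `r` -/
theorem exists_block_sup {t : H} {r : M} {φ : M →+ ZMod 2} (hr : r ≠ 0) (ht : IsT t r φ) (h0 : φ ≠ 0) :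
    r ∈ Del H c ∧ ∃ B : AddSubgroup M, r ∈ B ∧ (∃ m ∈ B, t • m ≠ m) ∧
      (∀ h : H, h • r = r → ∀ m ∈ B, h • m ∈ B) ∧ Nat.card B * Nat.card U ≤ Nat.card M ∧
      ∀ m : M, ∃ m₁ ∈ B, ∃ m₂ : M, m = m₁ + m₂ ∧ ∀ (s : H) (ψ : M →+ ZMod 2), IsT s r ψ → s • m₂ = m₂ := by
  have S := b.sys
  have hrΔ := S.tl2 hO hr ⟨t, ht⟩ h0
  refine ⟨hrΔ, AddSubgroup.closure {e : M | Rt H (Del H c) r e},
    AddSubgroup.subset_closure Relation.ReflTransGen.refl, ?_, ?_, ?_, ?_⟩
  · obtain ⟨e, he, h1⟩ := S.exists_ne h0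
    refine ⟨e, AddSubgroup.subset_closure (Relation.ReflTransGen.single ⟨hrΔ, he, φ, ⟨t, ht⟩, h1⟩), fun h => ?_⟩
    have h2 := ht e
    rw [h, h1, one_smul, left_eq_add] at h2
    exact hr h2
  · intro h hh m hm
    induction hm using AddSubgroup.closure_induction with
    | mem m hm =>
      have h1 := S.rtg_conj hm h
      rw [hh] at h1
      exact AddSubgroup.subset_closure h1
    | zero => rw [smul_zero]; exact zero_mem _
    | add a b _ _ ha hb => rw [smul_add]; exact add_mem ha hb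
    | neg a _ ha => rw [smul_neg]; exact neg_mem ha
  · obtain ⟨g, rfl⟩ := hrΔ
    refine le_trans (Nat.mul_le_mul_right _ ?_) (b.card_le hO)
    let f : M →+ M := DistribSMul.toAddMonoidHom M g
    have h1 : AddSubgroup.closure {e : M | Rt H (Del H c) (g • c) e} ≤
        (AddSubgroup.closure {e : M | Rt H (Del H c) c e}).map f := by
      rw [AddSubgroup.closure_le]
      intro e he
      have h2 := S.rtg_conj he g⁻¹
      rw [inv_smul_smul] at h2
      exact ⟨g⁻¹ • e, AddSubgroup.subset_closure h2, smul_inv_smul _ _⟩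
    refine (Nat.card_mono (Set.toFinite _) h1).trans ?_
    exact Nat.card_le_card_of_surjective
      (fun x : AddSubgroup.closure {e : M | Rt H (Del H c) c e} => (⟨f x, ⟨x, x.2, rfl⟩⟩ :
        (AddSubgroup.closure {e : M | Rt H (Del H c) c e}).map f)) (by
        rintro ⟨_, x, hx, rfl⟩
        exact ⟨⟨x, hx⟩, rfl⟩)
  · intro m
    have hm : m ∈ AddSubgroup.closure (Del H c) := by rw [S.span]; exact AddSubgroup.mem_top m
    induction hm using AddSubgroup.closure_induction with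
    | mem d hd =>
      by_cases hrd : Rt H (Del H c) r d
      · exact ⟨d, AddSubgroup.subset_closure hrd, 0, (add_zero d).symm, fun s _ _ => smul_zero s⟩
      · refine ⟨0, zero_mem _, d, (zero_add d).symm, fun s ψ hs => ?_⟩
        rw [hs d, S.Z_of_not hrΔ hd hrd r Relation.ReflTransGen.refl ψ ⟨s, hs⟩, zero_smul, add_zero]
    | zero => exact ⟨0, zero_mem _, 0, (add_zero 0).symm, fun s _ _ => smul_zero s⟩
    | add x y _ _ hx hy =>
      obtain ⟨x1, h1, x2, rfl, h2⟩ := hx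
      obtain ⟨y1, k1, y2, rfl, k2⟩ := hy
      exact ⟨x1 + y1, add_mem h1 k1, x2 + y2, by abel, fun s ψ hs => by rw [smul_add, h2 s ψ hs, k2 s ψ hs]⟩
    | neg x _ hx =>
      obtain ⟨x1, h1, x2, rfl, h2⟩ := hx
      exact ⟨-x1, neg_mem h1, -x2, by abel, fun s ψ hs => by rw [smul_neg, h2 s ψ hs]⟩

/-- **(b)**: the block of a transvection -/
theorem exists_block {t : H} {r : M} {φ : M →+ ZMod 2} (hr : r ≠ 0) (ht : IsT t r φ) (h0 : φ ≠ 0) :
    r ∈ Del H c ∧ ∃ B : AddSubgroup M, r ∈ B ∧ (∃ m ∈ B, t • m ≠ m) ∧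
      (∀ h : H, h • r = r → ∀ m ∈ B, h • m ∈ B) ∧ Nat.card B * Nat.card U ≤ Nat.card M := by
  obtain ⟨h1, B, h2, h3, h4, h5, -⟩ := b.exists_block_sup hO hr ht h0
  exact ⟨h1, B, h2, h3, h4, h5⟩

end main

end Blk

end Cfsg.Agent.Omega.NOThree.LL.Block
end

-- part: Mrg/Omega/NOThree/TF/Blk
section
section


/-!
# Blocks of a module (NO-3S TwoFar, text #16267, (b1))

`H` acts on the elementary abelian 2-group `M` (additive, the action need not be faithful), `JJ` is a set of subgroups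
of `H`; `BJ M J = [M, J]`, `CC M JJ` = the common fixed points of all `J ∈ JJ`.

* `Blk M JJ` : (b1), `JJ` is `H`-invariant;
* `Blk.mem_CC` : `b ∈ BJ J`, `[b, J] ≤ CC` give `b ∈ CC`; `Blk.inter` : `(BJ J + CC) ∩ (BJ J' + CC) = CC`;
* `Blk.fixed` : the fixed points of `J` in `BJ J`;
* `Blk.stab` : `J ∩ Stab(λ + CC)` fixes `λ` if a Sylow 2-subgroup of `H` fixes `λ`.
-/

set_option autoImplicit false

namespace Cfsg.Agent.Omega.NOThree.TF

open Subgroup Cfsg.Agent.MinSimple.Geo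

universe u v

variable {H : Type u} [Group H] {M : Type v} [AddCommGroup M] [DistribMulAction H M]

variable (M) in
/-- `[M, J]` -/
def BJ (J : Subgroup H) : AddSubgroup M := AddSubgroup.closure {m | ∃ g ∈ J, ∃ v : M, m = g • v - v}

variable (M) in
/-- the common fixed points of the subgroups in `JJ` -/
def CC (JJ : Set (Subgroup H)) : AddSubgroup M where
  carrier := {m | ∀ J ∈ JJ, ∀ g ∈ J, g • m = m}
  add_mem' := by
    intro a b ha hb J hJ g hg
    rw [smul_add, ha J hJ g hg, hb J hJ g hg]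
  zero_mem' := fun J _ g _ => smul_zero g
  neg_mem' := by
    intro a ha J hJ g hg
    rw [smul_neg, ha J hJ g hg]

theorem mem_CC {JJ : Set (Subgroup H)} {m : M} : m ∈ CC M JJ ↔ ∀ J ∈ JJ, ∀ g ∈ J, g • m = m := Iff.rfl

section basic

variable {J : Subgroup H} {g : H} {m v : M}

theorem sub_mem_BJ (hg : g ∈ J) (v : M) : g • v - v ∈ BJ M J := AddSubgroup.subset_closure ⟨g, hg, v, rfl⟩

theorem smul_mem_BJ (hg : g ∈ J) (hm : m ∈ BJ M J) : g • m ∈ BJ M J := by
  have := add_mem (sub_mem_BJ hg m) hm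
  rwa [sub_add_cancel] at this

theorem conj_smul_mem_BJ (g : H) (hm : m ∈ BJ M J) : g • m ∈ BJ M (cj g J) := by
  unfold BJ at hm
  induction hm using AddSubgroup.closure_induction with
  | mem x hx =>
    obtain ⟨j, hj, v, rfl⟩ := hx
    have := sub_mem_BJ (M := M) (conj_mem_cj (g := g) hj) (g • v)
    rw [smul_smul, inv_mul_cancel_right] at this
    rwa [smul_sub, smul_smul]
  | zero => rw [smul_zero]; exact zero_mem _
  | add x y _ _ hx hy => rw [smul_add]; exact add_mem hx hy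
  | neg x _ hx => rw [smul_neg]; exact neg_mem hx

end basic

variable (M) in
/-- (b1) -/
structure Blk (JJ : Set (Subgroup H)) : Prop where
  conj : ∀ J ∈ JJ, ∀ g : H, cj g J ∈ JJ
  ker : ∀ J ∈ JJ, ∀ g : H, (∀ m : M, g • m = m) → g ∈ J
  comm : ∀ J ∈ JJ, ∀ J' ∈ JJ, J ≠ J' → ∀ m ∈ BJ M J, ∀ g ∈ J', g • m = m
  span : (⨆ J ∈ JJ, BJ M J) ⊔ CC M JJ = ⊤
  irr : ∀ J ∈ JJ, ∀ D : AddSubgroup M, D ≤ BJ M J → (∀ g ∈ J, ∀ d ∈ D, g • d ∈ D) →
    D ≤ CC M JJ ∨ BJ M J ≤ D ⊔ CC M JJ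
  nontriv : ∀ J ∈ JJ, ¬ BJ M J ≤ CC M JJ

namespace Blk

variable {JJ : Set (Subgroup H)} (h : Blk M JJ) {J J' : Subgroup H}
include h

theorem smul_CC (g : H) {m : M} (hm : m ∈ CC M JJ) : g • m ∈ CC M JJ := by
  intro J hJ j hj
  have h1 : g⁻¹ * j * g ∈ cj g⁻¹ J := by
    have := conj_mem_cj (g := g⁻¹) hj
    rwa [inv_inv] at this
  have h2 := hm _ (h.conj J hJ g⁻¹) _ h1
  rw [mul_smul, mul_smul] at h2
  rw [← smul_left_cancel_iff g⁻¹, h2, inv_smul_smul]

theorem smul_CC_iff (g : H) {m : M} : g • m ∈ CC M JJ ↔ m ∈ CC M JJ := by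
  refine ⟨fun hm => ?_, h.smul_CC g⟩
  have := h.smul_CC g⁻¹ hm
  rwa [inv_smul_smul] at this

theorem conj_mem_iff (g : H) : cj g J ∈ JJ ↔ J ∈ JJ := by
  refine ⟨fun hJ => ?_, fun hJ => h.conj J hJ g⟩
  have := h.conj _ hJ g⁻¹
  rwa [cj_inv_cj] at this

omit h in
theorem fix_CC (hJ : J ∈ JJ) {g : H} (hg : g ∈ J) {m : M} (hm : m ∈ CC M JJ) : g • m = m := hm J hJ g hg

/-- induction over `M = Σ BJ J + CC` -/
theorem ind {D : AddSubgroup M} (h1 : ∀ J ∈ JJ, BJ M J ≤ D) (h2 : CC M JJ ≤ D) (m : M) : m ∈ D := by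
  have h3 : (⊤ : AddSubgroup M) ≤ D := by
    rw [← h.span]
    exact sup_le (iSup₂_le h1) h2
  exact h3 (AddSubgroup.mem_top m)

/-- the vectors `m` with `[m, J] ≤ D` (`J` acts trivially on `D`) -/
def cm (J : Subgroup H) (D : AddSubgroup M) : AddSubgroup M where
  carrier := {m | ∀ g ∈ J, g • m - m ∈ D}
  add_mem' := by
    intro a b ha hb g hg
    have := add_mem (ha g hg) (hb g hg)
    rwa [show g • (a + b) - (a + b) = g • a - a + (g • b - b) by rw [smul_add]; abel]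
  zero_mem' := fun g _ => by simp [zero_mem]
  neg_mem' := by
    intro a ha g hg
    have := neg_mem (ha g hg)
    rwa [show g • -a - -a = -(g • a - a) by rw [smul_neg]; abel]

/-- no vector of `BJ J - CC` is fixed by `J` modulo `CC` -/
theorem mem_CC (hJ : J ∈ JJ) {b : M} (hb : b ∈ BJ M J) (hfix : ∀ g ∈ J, g • b - b ∈ CC M JJ) : b ∈ CC M JJ := by
  have h1 := h.irr J hJ (BJ M J ⊓ cm J (CC M JJ)) inf_le_left ?_
  · rcases h1 with h1 | h1
    · exact h1 ⟨hb, hfix⟩
    · exfalso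
      refine h.nontriv J hJ ?_
      have h2 : ∀ v : M, v ∈ cm J (CC M JJ) := by
        refine h.ind (fun J' hJ' => ?_) fun c hc g hg => ?_
        · by_cases hJJ : J' = J
          · subst hJJ
            intro b hb g hg
            obtain ⟨d, hd, c, hc, rfl⟩ := AddSubgroup.mem_sup.1 (h1 hb)
            have h3 := hd.2 g hg
            rwa [smul_add, fix_CC hJ hg hc, add_sub_add_right_eq_sub]
          · intro b hb g hg
            rw [h.comm J' hJ' J hJ hJJ b hb g hg, sub_self]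
            exact zero_mem _
        · rw [fix_CC hJ hg hc, sub_self]
          exact zero_mem _
      unfold BJ
      rw [AddSubgroup.closure_le]
      rintro _ ⟨g, hg, v, rfl⟩
      exact h2 v g hg
  · rintro g hg d ⟨hd1, hd2⟩
    refine ⟨smul_mem_BJ hg hd1, fun j hj => ?_⟩
    have e : j • g • d - g • d = ((j * g) • d - d) - (g • d - d) := by rw [mul_smul]; abel
    rw [e]
    exact sub_mem (hd2 _ (mul_mem hj hg)) (hd2 _ hg)

/-- the fixed points of `J` in `BJ J` lie in `CC` -/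
theorem fixed (hJ : J ∈ JJ) {b : M} (hb : b ∈ BJ M J) (hfix : ∀ g ∈ J, g • b = b) : b ∈ CC M JJ :=
  h.mem_CC hJ hb fun g hg => by rw [hfix g hg, sub_self]; exact zero_mem _

/-- `J'` fixes `BJ J + CC` -/
theorem fix_of_ne (hJ : J ∈ JJ) (hJ' : J' ∈ JJ) (hne : J ≠ J') {m : M} (hm : m ∈ BJ M J ⊔ CC M JJ) {g : H}
    (hg : g ∈ J') : g • m = m := by
  obtain ⟨b, hb, c, hc, rfl⟩ := AddSubgroup.mem_sup.1 hm
  rw [smul_add, h.comm J hJ J' hJ' hne b hb g hg, fix_CC hJ' hg hc]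

/-- `J` fixes the vector of `BJ J + CC` : it lies in `CC` -/
theorem mem_CC_of_fix (hJ : J ∈ JJ) {m : M} (hm : m ∈ BJ M J ⊔ CC M JJ) (hf : ∀ g ∈ J, g • m = m) :
    m ∈ CC M JJ := by
  obtain ⟨b, hb, c, hc, rfl⟩ := AddSubgroup.mem_sup.1 hm
  refine add_mem (h.fixed hJ hb fun g hg => ?_) hc
  have := hf g hg
  rw [smul_add, fix_CC hJ hg hc] at this
  exact add_right_cancel this

/-- the sum of the `BJ J` is direct modulo `CC` -/
theorem inter (hJ : J ∈ JJ) (hJ' : J' ∈ JJ) (hne : J ≠ J') {m : M} (hm : m ∈ BJ M J ⊔ CC M JJ)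
    (hm' : m ∈ BJ M J' ⊔ CC M JJ) : m ∈ CC M JJ :=
  h.mem_CC_of_fix hJ hm fun _ hg => h.fix_of_ne hJ' hJ hne.symm hm' hg

/-- `g • (BJ J + CC) = BJ J^g + CC` -/
theorem conj_smul_mem_sup (g : H) {m : M} (hm : m ∈ BJ M J ⊔ CC M JJ) : g • m ∈ BJ M (cj g J) ⊔ CC M JJ := by
  obtain ⟨b, hb, c, hc, rfl⟩ := AddSubgroup.mem_sup.1 hm
  rw [smul_add]
  exact AddSubgroup.mem_sup.2 ⟨_, conj_smul_mem_BJ g hb, _, h.smul_CC g hc, rfl⟩

/-- `g` with `m`, `g • m ∈ BJ J + CC`, `m ∉ CC`, normalises `J` -/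
theorem cj_eq (hJ : J ∈ JJ) {g : H} {m : M} (hm : m ∈ BJ M J ⊔ CC M JJ) (hgm : g • m ∈ BJ M J ⊔ CC M JJ)
    (hC : m ∉ CC M JJ) : cj g J = J := by
  by_contra hne
  exact hC ((h.smul_CC_iff g).1 (h.inter (h.conj J hJ g) hJ hne (h.conj_smul_mem_sup g hm) hgm))

/-- elements of different blocks commute on `M` -/
theorem smul_comm_of_ne (hJ : J ∈ JJ) (hJ' : J' ∈ JJ) (hne : J ≠ J') {g g' : H} (hg : g ∈ J) (hg' : g' ∈ J')
    (m : M) : g • g' • m = g' • g • m := by
  have key : m ∈ ({ carrier := {m | g • g' • m = g' • g • m}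
                    add_mem' := by
                      intro a b ha hb
                      simp only [Set.mem_ofPred_eq, smul_add] at ha hb ⊢
                      rw [ha, hb]
                    zero_mem' := by simp only [_root_.Set.mem_ofPred_eq, _root_.smul_zero]
                    neg_mem' := by
                      intro a ha
                      simp only [Set.mem_ofPred_eq, smul_neg] at ha ⊢
                      rw [ha] } : AddSubgroup M) := by
    refine h.ind (fun J₁ hJ₁ b hb => ?_) (fun c hc => ?_) m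
    · change g • g' • b = g' • g • b
      by_cases h1 : J₁ = J
      · subst h1
        rw [h.comm _ hJ₁ _ hJ' hne b hb g' hg', h.comm _ hJ₁ _ hJ' hne _ (smul_mem_BJ hg hb) g' hg']
      · by_cases h2 : J₁ = J'
        · subst h2
          rw [h.comm _ hJ₁ _ hJ h1 b hb g hg, h.comm _ hJ₁ _ hJ h1 _ (smul_mem_BJ hg' hb) g hg]
        · rw [h.comm _ hJ₁ _ hJ' h2 b hb g' hg', h.comm _ hJ₁ _ hJ h1 b hb g hg,
            h.comm _ hJ₁ _ hJ' h2 b hb g' hg']
    · change g • g' • c = g' • g • c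
      rw [fix_CC hJ' hg' hc, fix_CC hJ hg hc, fix_CC hJ' hg' hc]
  exact key

/-- different blocks normalise each other -/
theorem conj_mem (hJ : J ∈ JJ) (hJ' : J' ∈ JJ) {g g' : H} (hg : g ∈ J) (hg' : g' ∈ J') :
    g' * g * g'⁻¹ ∈ J := by
  by_cases hne : J = J'
  · subst hne
    exact mul_mem (mul_mem hg' hg) (inv_mem hg')
  · have h1 : g' * g * g'⁻¹ * g⁻¹ ∈ J := by
      refine h.ker J hJ _ fun m => ?_
      rw [mul_smul, mul_smul, mul_smul, h.smul_comm_of_ne hJ hJ' hne hg (inv_mem hg'), smul_inv_smul,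
        smul_inv_smul]
    have := mul_mem h1 hg
    rwa [inv_mul_cancel_right] at this

/-- the group generated by the blocks is normal in `H` -/
theorem sSup_normal : (sSup JJ).Normal := by
  refine ⟨fun n hn g => ?_⟩
  have h1 : sSup JJ ≤ cj g⁻¹ (sSup JJ) := by
    refine sSup_le fun J hJ => ?_
    have h2 : cj g J ≤ sSup JJ := le_sSup (h.conj J hJ g)
    rwa [cj_le_iff] at h2
  have h2 := h1 hn
  rwa [mem_cj, inv_inv] at h2

theorem normal_subgroupOf (hJ : J ∈ JJ) : (J.subgroupOf (sSup JJ)).Normal := by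
  rw [normal_subgroupOf_iff_le_normalizer (le_sSup hJ)]
  refine sSup_le fun J' hJ' g' hg' => ?_
  rw [mem_normalizer_iff]
  refine fun g => ⟨fun hg => h.conj_mem hJ hJ' hg hg', fun hg => ?_⟩
  have := h.conj_mem hJ hJ' hg (inv_mem hg')
  have e : g'⁻¹ * (g' * g * g'⁻¹) * g'⁻¹⁻¹ = g := by group
  rwa [e] at this

/-- `T ∩ J` is Sylow in `J` -/
theorem not_dvd_relIndex [Finite H] {T : Subgroup H} (hT : ¬ 2 ∣ T.index) (hJ : J ∈ JJ) : ¬ 2 ∣ T.relIndex J := by
  have := h.sSup_normal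
  have := h.normal_subgroupOf hJ
  have h1 := Cfsg.Agent.Lib.GoldschmidtFusion.relIndex_dvd_index_of_normal_right T (sSup JJ)
  have h2 := Cfsg.Agent.Lib.GoldschmidtFusion.relIndex_dvd_index_of_normal_right (T.subgroupOf (sSup JJ))
    (J.subgroupOf (sSup JJ))
  rw [relIndex_subgroupOf (le_sSup hJ)] at h2
  exact fun h3 => hT ((h3.trans h2).trans h1)

/-- `J ∩ Stab(λ + CC)` fixes `λ`, if a Sylow 2-subgroup of `H` fixes `λ`. -/
theorem stab [Finite H] (two : ∀ m : M, m + m = 0) {T : Subgroup H} (hT : ¬ 2 ∣ T.index) {lam : M}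
    (hlam : ∀ t ∈ T, t • lam = lam) (hJ : J ∈ JJ) {g : H} (hg : g ∈ J) (hgl : g • lam - lam ∈ CC M JJ) :
    g • lam = lam := by
  have : Fact (Nat.Prime 2) := ⟨Nat.prime_two⟩
  let S : Subgroup H :=
    { carrier := {g | g ∈ J ∧ g • lam - lam ∈ CC M JJ}
      one_mem' := ⟨one_mem _, by simp [zero_mem]⟩
      mul_mem' := by
        rintro a b ⟨ha, ha'⟩ ⟨hb, hb'⟩
        refine ⟨mul_mem ha hb, ?_⟩
        have e : (a * b) • lam - lam = a • (b • lam - lam) + (a • lam - lam) := by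
          rw [mul_smul, smul_sub]; abel
        rw [e]
        exact add_mem (h.smul_CC a hb') ha'
      inv_mem' := by
        rintro a ⟨ha, ha'⟩
        refine ⟨inv_mem ha, ?_⟩
        have e : a⁻¹ • lam - lam = -(a⁻¹ • (a • lam - lam)) := by
          rw [smul_sub, inv_smul_smul]; abel
        rw [e]
        exact neg_mem (h.smul_CC _ ha') }
  let φ : S →* Multiplicative M := MonoidHom.mk' (fun g => Multiplicative.ofAdd ((g : H) • lam - lam)) (by
    rintro ⟨a, ha, ha'⟩ ⟨b, hb, hb'⟩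
    change Multiplicative.ofAdd ((a * b) • lam - lam) =
      Multiplicative.ofAdd (a • lam - lam) * Multiplicative.ofAdd (b • lam - lam)
    rw [← ofAdd_add]
    congr 1
    have e : (a * b) • lam - lam = a • (b • lam - lam) + (a • lam - lam) := by
      rw [mul_smul, smul_sub]; abel
    rw [e, fix_CC hJ ha hb', add_comm])
  have h1 : (T ⊓ J).subgroupOf S ≤ φ.ker := by
    rintro ⟨a, ha⟩ ha'
    rw [mem_subgroupOf] at ha'
    rw [MonoidHom.mem_ker]
    change Multiplicative.ofAdd (a • lam - lam) = 1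
    rw [hlam a ha'.1, sub_self, ofAdd_zero]
  have h2 : ¬ 2 ∣ ((T ⊓ J).subgroupOf S).index := by
    have hle : T ⊓ J ≤ S := fun t ht => ⟨ht.2, by rw [hlam t ht.1, sub_self]; exact zero_mem _⟩
    have h3 := relIndex_mul_relIndex (T ⊓ J) S J hle fun s hs => hs.1
    rw [inf_relIndex_right] at h3
    intro h4
    exact h.not_dvd_relIndex hT hJ (h3 ▸ (Dvd.dvd.mul_right h4 _))
  have h3 : ¬ 2 ∣ φ.ker.index := fun h4 => h2 (h4.trans (index_dvd_of_le h1))
  have h4 : IsPGroup 2 φ.range := by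
    rintro ⟨_, s, rfl⟩
    refine ⟨1, Subtype.ext ?_⟩
    change (φ s) ^ (2 ^ 1) = 1
    rw [pow_one, pow_two]
    exact two ((s : H) • lam - lam)
  have : Finite φ.range := Finite.of_surjective _ φ.rangeRestrict_surjective
  obtain ⟨k, hk⟩ := (IsPGroup.iff_card (p := 2)).1 h4
  rw [index_ker, hk] at h3
  have hk0 : k = 0 := by
    by_contra hk0
    exact h3 (dvd_pow_self 2 hk0)
  rw [hk0, pow_zero, Subgroup.card_eq_one] at hk
  have h5 : φ ⟨g, hg, hgl⟩ ∈ φ.range := ⟨_, rfl⟩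
  rw [hk, mem_bot] at h5
  have h6 : g • lam - lam = 0 := congrArg Multiplicative.toAdd h5
  exact sub_eq_zero.1 h6

end Blk

end Cfsg.Agent.Omega.NOThree.TF

end

section


/-!
# Abstract tools for THEOREM LL (#18157): `O₂(H) = 1`, elements inverted by an involution

`H` acts on the elementary abelian 2-group `M` (additive, the action need not be faithful).

* `RedM H M` : `O₂(H/C_H(M)) = 1`; `redM_of` : it holds if a Sylow 2-subgroup fixes `λ` and `M = ⟨λ^H⟩`;
* `Inv M f h` : `h` induces an element `≠ 1` of odd order on `M`, inverted by `f`;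
* `exists_inv` (Baer-Suzuki), `Inv.moves` : `h` moves `λ`, `f` moves `λ^h`; `Inv.fix` : `C(f) ∩ C(f^h) ≤ C(h)`.
-/

set_option autoImplicit false

namespace Cfsg.Agent.Omega.NOThree.LL

open Subgroup

universe u v

variable {H : Type u} [Group H] {M : Type v} [AddCommGroup M] [DistribMulAction H M]

variable (H M) in
/-- `O₂(H/C_H(M)) = 1` -/
def RedM : Prop := ∀ N : Subgroup H, N.Normal → (∀ n ∈ N, ∃ k : ℕ, ∀ m : M, (n ^ 2 ^ k) • m = m) →
  ∀ n ∈ N, ∀ m : M, n • m = m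

/-- the kernel of the action on `M` -/
def kerM (H : Type u) [Group H] (M : Type v) [AddCommGroup M] [DistribMulAction H M] : Subgroup H where
  carrier := {g | ∀ m : M, g • m = m}
  one_mem' := fun m => one_smul _ m
  mul_mem' := by
    intro a b ha hb m
    rw [mul_smul, hb m, ha m]
  inv_mem' := by
    intro a ha m
    rw [inv_smul_eq_iff, ha m]

theorem mem_kerM {g : H} : g ∈ kerM H M ↔ ∀ m : M, g • m = m := Iff.rfl

instance : (kerM H M).Normal := ⟨fun n hn g m => by rw [mul_smul, mul_smul, hn, smul_inv_smul]⟩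

/-- `O₂(H/C_H(M)) = 1` if a Sylow 2-subgroup of `H` fixes `λ` and `M = ⟨λ^H⟩`. -/
theorem redM_of [Finite H] {T : Subgroup H} (hT : ¬ 2 ∣ T.index) {lam : M} (hlam : ∀ t ∈ T, t • lam = lam)
    (hspan : ∀ m : M, m ∈ AddSubgroup.closure {v | ∃ g : H, v = g • lam}) : RedM H M := by
  intro N hN h2
  have hfact : Fact (Nat.Prime 2) := ⟨Nat.prime_two⟩
  -- `N` fixes `λ`
  have h3 : ∀ n ∈ N, n • lam = lam := by
    set S : Subgroup H := MulAction.stabilizer H lam with hS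
    have h4 : ¬ 2 ∣ S.relIndex N := by
      intro hd
      have h5 : T.relIndex N ∣ T.index := Cfsg.Agent.Lib.GoldschmidtFusion.relIndex_dvd_index_of_normal_right T N
      exact hT ((hd.trans (relIndex_dvd_of_le_left N (show T ≤ S from fun t ht => hlam t ht))).trans h5)
    have h5 : IsPGroup 2 (N ⧸ (kerM H M).subgroupOf N) := by
      intro x
      obtain ⟨n, rfl⟩ := QuotientGroup.mk_surjective x
      obtain ⟨k, hk⟩ := h2 n n.2
      refine ⟨k, ?_⟩
      rw [← QuotientGroup.mk_pow, QuotientGroup.eq_one_iff]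
      exact mem_subgroupOf.2 hk
    obtain ⟨m, hm⟩ := IsPGroup.iff_card.1 h5
    have h6 : S.relIndex N ∣ 2 ^ m := by
      have h7 : (kerM H M).relIndex N = 2 ^ m := hm
      rw [← h7]
      exact relIndex_dvd_of_le_left N fun g hg => hg lam
    obtain ⟨k, -, hk⟩ := (Nat.dvd_prime_pow Nat.prime_two).1 h6
    have h7 : S.relIndex N = 1 := by
      rcases Nat.eq_zero_or_pos k with e | e
      · rw [hk, e, pow_zero]
      · exact absurd (hk ▸ dvd_pow_self 2 (by omega)) h4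
    exact fun n hn => relIndex_eq_one.1 h7 hn
  intro n hn m
  have h4 := hspan m
  induction h4 using AddSubgroup.closure_induction with
  | mem x hx =>
    obtain ⟨g, rfl⟩ := hx
    have h5 := h3 _ (hN.conj_mem n hn g⁻¹)
    rw [inv_inv, mul_smul, mul_smul, inv_smul_eq_iff] at h5
    exact h5
  | zero => rw [smul_zero]
  | add x y _ _ hx hy => rw [smul_add, hx, hy]
  | neg x _ hx => rw [smul_neg, hx]

variable (M) in
/-- `h` induces an element `≠ 1` of odd order on `M`, inverted by `f`. -/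
structure Inv (f h : H) : Prop where
  ne : ∃ m : M, h • m ≠ m
  odd : ∃ k : ℕ, Odd k ∧ ∀ m : M, (h ^ k) • m = m
  inv : ∀ m : M, (f * h * f⁻¹) • m = h⁻¹ • m

/-- **Baer-Suzuki**: an involution on `M` inverts an element of odd order. -/
theorem exists_inv [Finite H] (hr : RedM H M) {f : H} (hf : ∀ m : M, f • f • m = m) (hf' : ∃ m : M, f • m ≠ m) :
    ∃ h : H, Inv M f h := by
  set K := kerM H M with hK
  set π := QuotientGroup.mk' K with hπ
  have hπ1 : ∀ y : H, π y = 1 ↔ ∀ m : M, y • m = m := fun y => QuotientGroup.eq_one_iff (N := K) y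
  have haa : π f * π f = 1 := by
    rw [← map_mul, hπ1]
    intro m
    rw [mul_smul, hf]
  obtain ⟨g, hg1, hgo, hgi⟩ := Cfsg.Agent.Involutions.BaerSuzuki.exists_odd_inverted (π f) haa (by
    intro h1
    obtain ⟨m, hm⟩ := hf'
    apply hm
    refine hr ((normalClosure {π f}).comap π) inferInstance ?_ f (subset_normalClosure rfl) m
    intro y hy
    obtain ⟨k, hk⟩ := h1 ⟨π y, hy⟩
    refine ⟨k, ?_⟩
    rw [← hπ1, map_pow]
    exact congrArg Subtype.val hk)
  obtain ⟨h, rfl⟩ := QuotientGroup.mk'_surjective K g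
  refine ⟨h, ?_, ⟨orderOf (π h), hgo, ?_⟩, fun m => ?_⟩
  · by_contra hcon
    push Not at hcon
    exact hg1 ((hπ1 h).2 hcon)
  · rw [← hπ1, map_pow, pow_orderOf_eq_one]
  · have h1 : π (h * (f * h * f⁻¹)) = 1 := by
      rw [map_mul, map_mul, map_mul, map_inv]
      change π h * (π f * π h * (π f)⁻¹) = 1
      rw [hgi, mul_inv_cancel]
    have h2 := (hπ1 _).1 h1 m
    rw [mul_smul] at h2
    rw [eq_inv_smul_iff, h2]

namespace Inv

variable {f h : H}

/-- `h⁻¹ f h = h⁻² f`-type identities on `M` -/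
theorem conj_smul (i : Inv M f h) (m : M) : f • h • m = h⁻¹ • f • m := by
  have := i.inv (f • m)
  rwa [mul_smul, mul_smul, inv_smul_smul] at this

theorem conj_smul' (i : Inv M f h) (m : M) : f • h⁻¹ • m = h • f • m := by
  have := i.conj_smul (h⁻¹ • m)
  rw [smul_inv_smul] at this
  rw [this, smul_inv_smul]

/-- fixed by `h²` implies fixed by `h` -/
theorem fix_of_sq (i : Inv M f h) {m : M} (hm : h • h • m = m) : h • m = m := by
  obtain ⟨k, ⟨j, rfl⟩, hk⟩ := i.odd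
  have h1 : ∀ j : ℕ, (h ^ (2 * j)) • m = m := by
    intro j
    induction j with
    | zero => simp
    | succ j ih =>
      rw [Nat.mul_succ, pow_add, mul_smul, pow_two, mul_smul, hm, ih]
  have h2 := hk m
  rw [pow_succ', mul_smul, h1] at h2
  exact h2

/-- `C(f) ∩ C(h f h⁻¹) ≤ C(h)` -/
theorem fix (i : Inv M f h) {m : M} (h1 : f • m = m) (h2 : h • f • h⁻¹ • m = m) : h • m = m := by
  apply i.fix_of_sq
  rw [i.conj_smul', h1] at h2
  exact h2

/-- if `f` fixes `λ` and `h • λ` then `h` fixes `λ` -/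
theorem fix' (i : Inv M f h) {m : M} (h1 : f • m = m) (h2 : f • h • m = h • m) : h • m = m := by
  rw [i.conj_smul, h1] at h2
  exact i.fix_of_sq (by rw [← h2, smul_inv_smul])

end Inv

end Cfsg.Agent.Omega.NOThree.LL

end

section


/-!
# TwoFar, THEOREM LL (#18157), section 4, for an action which is not faithful

`H` acts on the elementary abelian 2-group `M` with `O₂(H/C_H(M)) = 1` (`RedM H M`).

* `Tr d t` : `t` induces a transvection `≠ 1` with centre `d`;
* `BD H lam U c` : the situation of (4.3), (4.4) : `c ∈ U = U_λ` is not conjugate to `λ`, a transvection with centre `c`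
  fixes `U`;
* `BD.comm_mem` : (a) `[M, g] ≤ ⟨c, λ⟩` for `g ∈ B_λ`;
* `BD.exists_block` : (b) the block of any transvection.
-/

set_option autoImplicit false
set_option linter.unusedSectionVars false

namespace Cfsg.Agent.Omega.NOThree.LL

open Subgroup Cfsg Cfsg.Agent

variable {H : Type*} [Group H] {M : Type*} [AddCommGroup M] [DistribMulAction H M]

/-- `t` induces a transvection `≠ 1` with centre `d` -/
structure Tr (d : M) (t : H) : Prop where
  tr : ∀ m : M, t • m = m ∨ t • m = m + d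
  ne : ∃ m : M, t • m ≠ m

/-- the situation of (4.3), (4.4) -/
structure BD (H : Type*) [Group H] {M : Type*} [AddCommGroup M] [DistribMulAction H M] (lam : M)
    (U : AddSubgroup M) (c : M) : Prop where
  two : ∀ m : M, m + m = 0
  red : RedM H M
  span : ∀ m : M, m ∈ AddSubgroup.closure {v | ∃ g : H, v = g • lam}
  lamU : lam ∈ U
  inv : ∀ h : H, h • lam = lam → ∀ u ∈ U, h • u ∈ U
  F2 : ∀ u ∈ U, u ≠ 0 → u ≠ lam → ∃ k : H, k • lam = lam ∧ k • u = u + lam
  cU : c ∈ U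
  cl : ∀ g : H, g • lam ≠ c
  tr : ∃ t : H, Tr c t ∧ ∀ u ∈ U, t • u = u

section

variable (H M) in
/-- the image of `H` in `Sym M` -/
abbrev Im : Subgroup (Equiv.Perm M) := (MulAction.toPermHom H M).range

/-- `H → Im H M` -/
abbrev toIm : H →* Im H M := (MulAction.toPermHom H M).rangeRestrict

theorem toIm_smul (h : H) (m : M) : (toIm h : Im H M) • m = h • m := rfl

theorem toIm_surj (x : Im H M) : ∃ h : H, (toIm h : Im H M) = x :=
  (MulAction.toPermHom H M).rangeRestrict_surjective x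

instance : DistribMulAction (Im H M) M where
  smul_zero x := by
    obtain ⟨h, rfl⟩ := toIm_surj x
    exact smul_zero h
  smul_add x a b := by
    obtain ⟨h, rfl⟩ := toIm_surj x
    exact smul_add h a b

instance : FaithfulSMul (Im H M) M := ⟨fun h => Subtype.ext (Equiv.ext h)⟩

/-- `O₂(H/C_H(M)) = 1` for the image -/
theorem pCore_im (hr : RedM H M) : pCore 2 (Im H M) = ⊥ := by
  rw [eq_bot_iff]
  intro x hx
  obtain ⟨h, rfl⟩ := toIm_surj x
  rw [mem_bot]
  have h1 := hr ((pCore 2 (Im H M)).comap toIm) inferInstance (fun n hn => by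
    obtain ⟨k, hk⟩ := Lib.Cores.pCore_isPGroup 2 ⟨toIm n, hn⟩
    refine ⟨k, fun m => ?_⟩
    have h2 : (toIm (n ^ 2 ^ k) : Im H M) = 1 := by
      rw [map_pow]
      exact congrArg Subtype.val hk
    rw [← toIm_smul, h2, one_smul]) h hx
  refine Subtype.ext (Equiv.ext fun m => ?_)
  exact h1 m

/-- the functional of a transvection -/
theorem Tr.exists_fun [Module (ZMod 2) M] {d : M} {t : H} (h : Tr d t) (hd : d ≠ 0) :
    ∃ φ : M →+ ZMod 2, φ ≠ 0 ∧ Block.IsT (toIm t : Im H M) d φ := by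
  classical
  have hs : ∀ m : M, m + m = 0 := Block.add_self
  have key : ∀ m : M, (t • m = m) ∨ (t • m = m + d ∧ t • m ≠ m) := by
    intro m
    rcases h.tr m with e | e
    · exact Or.inl e
    · exact Or.inr ⟨e, by rw [e]; intro e'; exact hd (add_eq_left.1 e')⟩
  let φ : M →+ ZMod 2 :=
    { toFun := fun m => if t • m = m then 0 else 1
      map_zero' := by rw [if_pos (smul_zero t)]
      map_add' := by
        intro a b
        rcases key a with ha | ⟨ha, ha'⟩ <;> rcases key b with hb | ⟨hb, hb'⟩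
        · rw [if_pos ha, if_pos hb, if_pos (by rw [smul_add, ha, hb]), add_zero]
        · rw [if_pos ha, if_neg hb', if_neg (by
            rw [smul_add, ha]
            intro e
            exact hb' (add_left_cancel e)), zero_add]
        · rw [if_neg ha', if_pos hb, if_neg (by
            rw [smul_add, hb]
            intro e
            exact ha' (add_right_cancel e)), add_zero]
        · rw [if_neg ha', if_neg hb', if_pos (by
            rw [smul_add, ha, hb]
            calc a + d + (b + d) = a + b + (d + d) := by abel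
              _ = a + b := by rw [hs, add_zero])]
          decide }
  refine ⟨φ, fun h0 => ?_, fun m => ?_⟩
  · obtain ⟨m, hm⟩ := h.ne
    have h1 : φ m = 1 := if_neg hm
    rw [h0] at h1
    exact zero_ne_one h1
  · rw [toIm_smul]
    rcases key m with e | ⟨e, e'⟩
    · rw [show φ m = 0 from if_pos e, zero_smul, add_zero, e]
    · rw [show φ m = 1 from if_neg e', one_smul, e]

end

namespace BD

variable {lam c : M} {U : AddSubgroup M} [Finite H] [Finite M] (b : BD H lam U c)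
include b

theorem c0 : c ≠ 0 := by
  rintro rfl
  obtain ⟨t, ht, -⟩ := b.tr
  obtain ⟨m, hm⟩ := ht.ne
  rcases ht.tr m with e | e
  · exact hm e
  · exact hm (by rw [e, add_zero])

/-- the data of `Block` -/
theorem exists_blk [Module (ZMod 2) M] : ∃ φ : M →+ ZMod 2, Block.Blk (Im H M) lam U c φ := by
  obtain ⟨t, ht, htU⟩ := b.tr
  obtain ⟨φ, hφ, hφt⟩ := ht.exists_fun b.c0
  refine ⟨φ, ?_, b.lamU, ?_, ?_, b.cU, b.c0, ?_, ⟨_, hφt⟩, hφ, ?_⟩
  · rw [eq_top_iff]
    intro m _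
    refine AddSubgroup.closure_mono ?_ (b.span m)
    rintro _ ⟨g, rfl⟩
    exact ⟨toIm g, rfl⟩
  · intro k hk u hu
    obtain ⟨k, rfl⟩ := toIm_surj k
    exact b.inv k hk u hu
  · intro u hu h0 hl
    obtain ⟨k, h1, h2⟩ := b.F2 u hu h0 hl
    exact ⟨toIm k, h1, h2⟩
  · intro g
    obtain ⟨g, rfl⟩ := toIm_surj g
    exact b.cl g
  · intro u hu
    rcases Block.zc (φ u) with e | e
    · exact e
    · have h1 := hφt u
      rw [toIm_smul, htU u hu, e, one_smul, left_eq_add] at h1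
      exact absurd h1 b.c0

/-- **(a)** -/
theorem comm_mem {g : H} (hg : ∀ u ∈ U, g • u = u) (hg' : ∀ m : M, g • m + m ∈ U) (m : M) :
    g • m + m = 0 ∨ g • m + m = c ∨ g • m + m = c + lam ∨ g • m + m = lam := by
  let _ : Module (ZMod 2) M := AddCommGroup.zmodModule fun m => by rw [two_nsmul, b.two]
  obtain ⟨φ, B⟩ := b.exists_blk
  exact B.comm_mem (pCore_im b.red) (g := toIm g) hg hg' m

/-- **(b)**: the block of a transvection: the centre `r` is conjugate to `c`; `B + C_M(T) = M` for the group `T` of the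
transvections with centre `r`, the stabiliser of `r` normalises `B`, and `|B| |U| ≤ |M|` -/
theorem exists_block {r : M} {t : H} (ht : Tr r t) :
    (∃ g : H, g • c = r) ∧ ∃ B : AddSubgroup M, r ∈ B ∧ (∃ m ∈ B, t • m ≠ m) ∧
      (∀ h : H, h • r = r → ∀ m ∈ B, h • m ∈ B) ∧ Nat.card B * Nat.card U ≤ Nat.card M ∧
      ∀ m : M, ∃ m₁ ∈ B, ∃ m₂ : M, m = m₁ + m₂ ∧ ∀ s : H, (∀ x : M, s • x = x ∨ s • x = x + r) → s • m₂ = m₂ := by
  let _ : Module (ZMod 2) M := AddCommGroup.zmodModule fun m => by rw [two_nsmul, b.two]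
  have hr : r ≠ 0 := by
    rintro rfl
    obtain ⟨m, hm⟩ := ht.ne
    rcases ht.tr m with e | e
    · exact hm e
    · exact hm (by rw [e, add_zero])
  obtain ⟨φ, B⟩ := b.exists_blk
  obtain ⟨ψ, hψ, hψt⟩ := ht.exists_fun hr
  obtain ⟨⟨g, hg⟩, B, h1, h2, h3, h4, h5⟩ := B.exists_block_sup (pCore_im b.red) hr hψt hψ
  obtain ⟨g, rfl⟩ := toIm_surj g
  refine ⟨⟨g, hg⟩, B, h1, h2, fun h hh => h3 (toIm h) hh, h4, fun m => ?_⟩
  obtain ⟨m₁, k1, m₂, k2, k3⟩ := h5 m
  refine ⟨m₁, k1, m₂, k2, fun s hs => ?_⟩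
  by_contra hne
  obtain ⟨χ, -, hχ⟩ := Tr.exists_fun (H := H) (t := s) ⟨hs, m₂, hne⟩ hr
  exact hne (k3 _ χ hχ)

end BD

end Cfsg.Agent.Omega.NOThree.LL

end

section


/-!
# TwoMid, the end (bb #18802, #18799 (8)): the module part

`BD H lam U c` (two blocks); `t_c`, `t_d` transvections with the centres `c`, `d = c + λ`.

* `BD.opp` : an opposite line vector `μ = s λ`: `t_c` moves `μ`, `t_c^s` moves `μ + c`, and
  `⟨c, λ⟩ ∩ ⟨s c, s λ⟩ = 0`;
* `exists_nb` : neighbours of a transvection with a centre conjugate to `λ`.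
-/

set_option autoImplicit false
set_option linter.unusedSectionVars false

namespace Cfsg.Agent.Omega.NOThree.LL

open Subgroup Cfsg Cfsg.Agent

namespace Block

variable {H : Type*} [Group H] {M : Type*} [AddCommGroup M] [Module (ZMod 2) M] [DistribMulAction H M]
  [Finite H] [Finite M] [FaithfulSMul H M] {lam c : M} {U : AddSubgroup M} {φ₀ : M →+ ZMod 2}

theorem Blk.opp (b : Blk H lam U c φ₀) (hO : pCore 2 H = ⊥) {tc td : H} {φc φd : M →+ ZMod 2}
    (hc : IsT tc c φc) (hc0 : φc ≠ 0) (hd : IsT td (c + lam) φd) (hd0 : φd ≠ 0) :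
    ∃ s : H, tc • (s • lam) = s • lam + c ∧ td • (s • lam) = s • lam + (c + lam) ∧
      (s * tc * s⁻¹) • (s • lam + lam) = s • lam + lam + s • c ∧
      (s * tc * s⁻¹) • (s • lam + c) = s • lam + c + s • c ∧
      ∀ v : M, (v = 0 ∨ v = c ∨ v = c + lam ∨ v = lam) →
        (v = 0 ∨ v = s • c ∨ v = s • c + s • lam ∨ v = s • lam) → v = 0 := by
  have S := b.sys
  have hs : ∀ m : M, m + m = 0 := add_self
  obtain ⟨e₁, he₁, k1⟩ := S.exists_ne hc0
  obtain ⟨e₂, he₂, k2⟩ := S.exists_ne hd0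
  have J1 : J H (Del H c) c e₁ := ⟨b.c_mem, he₁, φc, ⟨tc, hc⟩, k1⟩
  have J2 : J H (Del H c) (c + lam) e₂ := ⟨b.c'_mem, he₂, φd, ⟨td, hd⟩, k2⟩
  obtain ⟨-, -, ψ₁, ⟨s₁, hs₁⟩, l1⟩ := S.J_symm J1
  obtain ⟨-, -, ψ₂, ⟨s₂, hs₂⟩, l2⟩ := S.J_symm J2
  have R1 : Rt H (Del H c) c e₁ := Relation.ReflTransGen.single J1
  have R2 : Rt H (Del H c) (c + lam) e₂ := Relation.ReflTransGen.single J2
  have n1 : ¬ Rt H (Del H c) c e₂ := fun h => b.not_rt hO (h.trans (S.rtg_symm R2))
  have n2 : ¬ Rt H (Del H c) (c + lam) e₁ := fun h => b.not_rt hO (R1.trans (S.rtg_symm h))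
  have Z1 := b.Z1 hO
  have Z2 := b.Z2 hO
  have Z3 : Z H (Del H c) c e₂ := S.Z_of_not b.c_mem he₂ n1
  have Z4 : Z H (Del H c) (c + lam) e₁ := S.Z_of_not b.c'_mem he₁ n2
  have a1 : φc c = 0 := hc.self b.c0
  have a2 : φc (c + lam) = 0 := Z1 c Relation.ReflTransGen.refl φc ⟨tc, hc⟩
  have a3 : φc lam = 0 := by rwa [map_add, a1, zero_add] at a2
  have b1 : φd (c + lam) = 0 := hd.self (S.ne_zero b.c'_mem)
  have b2 : φd c = 0 := Z2 _ Relation.ReflTransGen.refl φd ⟨td, hd⟩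
  have b3 : φd lam = 0 := by rwa [map_add, b2, zero_add] at b1
  have c1 : φc e₂ = 0 := Z3 c Relation.ReflTransGen.refl φc ⟨tc, hc⟩
  have c2 : φd e₁ = 0 := Z4 _ Relation.ReflTransGen.refl φd ⟨td, hd⟩
  have d1 : ψ₁ (c + lam) = 0 := Z1 e₁ R1 ψ₁ ⟨s₁, hs₁⟩
  have d2 : ψ₁ e₂ = 0 := Z3 e₁ R1 ψ₁ ⟨s₁, hs₁⟩
  have d3 : ψ₁ e₁ = 0 := hs₁.self (S.ne_zero he₁)
  have d4 : ψ₁ lam = 1 := by
    rw [map_add, l1] at d1
    rcases zc (ψ₁ lam) with e | e
    · rw [e] at d1; exact absurd d1 (by decide)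
    · exact e
  have f1 : ψ₂ c = 0 := Z2 e₂ R2 ψ₂ ⟨s₂, hs₂⟩
  have f2 : ψ₂ e₁ = 0 := Z4 e₂ R2 ψ₂ ⟨s₂, hs₂⟩
  have f3 : ψ₂ e₂ = 0 := hs₂.self (S.ne_zero he₂)
  have f4 : ψ₂ lam = 1 := by rwa [map_add, f1, zero_add] at l2
  have g1 : (s₁ * s₂) • c = c + e₁ := by
    rw [mul_smul, hs₂ c, f1, zero_smul, add_zero, hs₁ c, l1, one_smul]
  have g2 : (s₁ * s₂) • lam = lam + e₁ + e₂ := by
    rw [mul_smul, hs₂ lam, f4, one_smul, hs₁, map_add, d4, d2, add_zero, one_smul]
    abel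
  have g3 : (s₁ * s₂)⁻¹ • lam = lam + e₁ + e₂ := by
    rw [inv_smul_eq_iff, mul_smul, hs₂, map_add, map_add, f4, f2, f3, add_zero, add_zero, one_smul, add_assoc,
      add_assoc, hs, add_zero, hs₁, map_add, d4, d3, add_zero, one_smul, add_assoc, hs, add_zero]
  have g4 : (s₁ * s₂)⁻¹ • c = c + e₁ := by
    rw [inv_smul_eq_iff, mul_smul, hs₂, map_add, f1, f2, add_zero, zero_smul, add_zero, hs₁, map_add, l1, d3, add_zero,
      one_smul, add_assoc, hs, add_zero]
  refine ⟨s₁ * s₂, ?_, ?_, ?_, ?_, ?_⟩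
  · rw [g2, hc, map_add, map_add, a3, k1, c1, zero_add, add_zero, one_smul]
  · rw [g2, hd, map_add, map_add, b3, c2, k2, zero_add, zero_add, one_smul]
  · have h1 : (s₁ * s₂) • lam + lam = (s₁ * s₂) • (lam + (s₁ * s₂)⁻¹ • lam) := by
      rw [smul_add, smul_inv_smul]
    rw [mul_smul, mul_smul, h1, inv_smul_smul, g3, hc, ← smul_add]
    congr 2
    rw [map_add, map_add, map_add, a3, k1, c1, zero_add, zero_add, add_zero, one_smul]
  · have h1 : (s₁ * s₂) • lam + c = (s₁ * s₂) • (lam + (s₁ * s₂)⁻¹ • c) := by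
      rw [smul_add, smul_inv_smul]
    rw [mul_smul, mul_smul, h1, inv_smul_smul, g4, hc, ← smul_add]
    congr 2
    rw [map_add, map_add, a3, a1, k1, zero_add, zero_add, one_smul]
  · rw [g1, g2]
    have z1 : ∀ v : M, (v = 0 ∨ v = c ∨ v = c + lam ∨ v = lam) → φc v = 0 ∧ φd v = 0 := by
      rintro v (rfl | rfl | rfl | rfl)
      · exact ⟨map_zero _, map_zero _⟩
      · exact ⟨a1, b2⟩
      · exact ⟨a2, b1⟩
      · exact ⟨a3, b3⟩
    rintro v hv (rfl | rfl | rfl | rfl)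
    · rfl
    · have := (z1 _ hv).1
      rw [map_add, a1, k1] at this
      exact absurd this (by decide)
    · have := (z1 _ hv).2
      rw [map_add, map_add, map_add, map_add, b2, c2, b3, k2] at this
      exact absurd this (by decide)
    · have := (z1 _ hv).1
      rw [map_add, map_add, a3, k1, c1] at this
      exact absurd this (by decide)

end Block

variable {H : Type*} [Group H] {M : Type*} [AddCommGroup M] [DistribMulAction H M]

/-- **the opposite line vector** -/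
theorem BD.opp {lam c : M} {U : AddSubgroup M} [Finite H] [Finite M] (b : BD H lam U c) {tc : H}
    (hc : Tr c tc) :
    ∃ s : H, tc • (s • lam) = s • lam + c ∧ (s * tc * s⁻¹) • (s • lam + c) = s • lam + c + s • c ∧
      ∀ v : M, (v = 0 ∨ v = c ∨ v = c + lam ∨ v = lam) →
        (v = 0 ∨ v = s • c ∨ v = s • c + s • lam ∨ v = s • lam) → v = 0 := by
  let _ : Module (ZMod 2) M := AddCommGroup.zmodModule fun m => by rw [two_nsmul, b.two]
  obtain ⟨φ, B⟩ := b.exists_blk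
  obtain ⟨φc, hc0, hc'⟩ := hc.exists_fun b.c0
  have hcl : c ≠ lam := fun e => b.cl 1 (by rw [one_smul, e])
  obtain ⟨k, hk1, hk2⟩ := b.F2 c b.cU b.c0 hcl
  have hd : Tr (c + lam) (k * tc * k⁻¹) := by
    rw [← hk2]
    refine ⟨fun m => ?_, ?_⟩
    · rw [mul_smul, mul_smul]
      rcases hc.tr (k⁻¹ • m) with e | e
      · left; rw [e, smul_inv_smul]
      · right; rw [e, smul_add, smul_inv_smul]
    · obtain ⟨m, hm⟩ := hc.ne
      refine ⟨k • m, fun e => hm ?_⟩
      rw [mul_smul, mul_smul, inv_smul_smul] at e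
      exact smul_left_cancel k e
  obtain ⟨φd, hd0, hd'⟩ := hd.exists_fun (B.sys.ne_zero B.c'_mem)
  obtain ⟨s, h1, -, -, h3, h4⟩ := B.opp (pCore_im b.red) hc' hc0 hd' hd0
  obtain ⟨s, rfl⟩ := toIm_surj s
  rw [← map_inv, ← map_mul, ← map_mul] at h3
  exact ⟨s, h1, h3, h4⟩

/-- a transvection with a centre conjugate to `λ` has a neighbour -/
theorem exists_nb {lam c : M} [Finite H] [Finite M] (h2 : ∀ m : M, m + m = 0)
    (span : ∀ m : M, m ∈ AddSubgroup.closure {v | ∃ g : H, v = g • lam}) (h0 : c ≠ 0) (hc : ∃ g : H, g • lam = c)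
    {t : H} (ht : Tr c t) :
    ∃ (e : M) (t' : H), (∀ m : M, t' • m = m ∨ t' • m = m + e) ∧ t • e = e + c ∧ t' • c = c + e := by
  let _ : Module (ZMod 2) M := AddCommGroup.zmodModule fun m => by rw [two_nsmul, h2]
  obtain ⟨φ, hφ, hφt⟩ := ht.exists_fun h0
  obtain ⟨g, rfl⟩ := hc
  have S : Block.Sys (Im H M) {v | ∃ g : H, v = g • lam} :=
    { conj := by
        rintro k _ ⟨g, rfl⟩
        obtain ⟨k, rfl⟩ := toIm_surj k
        exact ⟨k * g, by rw [mul_smul]; rfl⟩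
      trans := by
        rintro _ ⟨g, rfl⟩ _ ⟨g', rfl⟩
        refine ⟨toIm (g' * g⁻¹), ?_⟩
        rw [toIm_smul, mul_smul, inv_smul_smul]
      zero := by
        rintro ⟨k, hk⟩
        apply h0
        have : lam = 0 := by rw [← inv_smul_smul k lam, ← hk, smul_zero]
        rw [this, smul_zero]
      span := by
        rw [eq_top_iff]
        intro m _
        exact span m
      ex := ⟨g • lam, ⟨g, rfl⟩, φ, ⟨_, hφt⟩, hφ⟩ }
  obtain ⟨e, he, h1⟩ := S.exists_ne hφ
  have J1 : Block.J (Im H M) {v | ∃ g : H, v = g • lam} (g • lam) e := ⟨⟨g, rfl⟩, he, φ, ⟨_, hφt⟩, h1⟩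
  obtain ⟨-, -, ψ, ⟨t', ht'⟩, h3⟩ := S.J_symm J1
  obtain ⟨t', rfl⟩ := toIm_surj t'
  refine ⟨e, t', fun m => ?_, ?_, ?_⟩
  · have := ht' m
    rw [toIm_smul] at this
    rcases Block.zc (ψ m) with e' | e'
    · left; rw [this, e', zero_smul, add_zero]
    · right; rw [this, e', one_smul]
  · have := hφt e
    rwa [toIm_smul, h1, one_smul] at this
  · have := ht' (g • lam)
    rwa [toIm_smul, h3, one_smul] at this

end Cfsg.Agent.Omega.NOThree.LL

end

section


/-!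
# The module `M_p = W_p/p` of `C_G(p)` (NO-3S TwoFar, text #16267)

`Md V p π` : `π : W_p → M` is a surjective homomorphism with kernel `⟨p⟩`, equivariant under `C_G(p)`
(`M` additive, acted on by `centralizer {p}`, not faithfully: the kernel is `kq V p`).

* `Md.eq_iff`, `Md.two`, `Md.mem_kq_iff`;
* `Md.fix_lift` : `c ∈ C(p)` fixing `π x` (`x ∼ p`): some element of `K_p c` fixes `x`;
* `Md.exists_md` : `M_p` exists.
-/

set_option autoImplicit false
set_option linter.unusedSectionVars false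

namespace Cfsg.Agent.Omega.NOThree.TF

open Subgroup Cfsg Cfsg.Agent.ZN Cfsg.Agent.MinSimple.Geo Cfsg.Agent.Omega.CaseL Cfsg.Agent.Omega.NO3S.TwoOne
open Cfsg.Agent.Omega.NO3S.Pt
open Cfsg.Agent.Omega.NO3S.Dual (nn mem_nn DW)
open Cfsg.Agent.ZN.Block (conj_mem_of_normalizer conj_mem_of_normalizer' le_normalizer_of_forall
  mem_normalizer_of)

universe u v

variable {G : Type u} [Group G] {M : Type v} [AddCommGroup M]

/-- the module `M_p = W_p/p` of `C_G(p)` -/
structure Md (V : Subgroup G) (p : G) [DistribMulAction (centralizer ({p} : Set G)) M] (π : G → M) : Prop where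
  map_mul : ∀ a ∈ ws V p, ∀ b ∈ ws V p, π (a * b) = π a + π b
  surj : ∀ m : M, ∃ a ∈ ws V p, π a = m
  ker : ∀ a ∈ ws V p, π a = 0 ↔ a = 1 ∨ a = p
  smul : ∀ g : centralizer ({p} : Set G), ∀ a ∈ ws V p, π ((g : G) * a * (g : G)⁻¹) = g • π a

/-- `C(p)` normalises `W_p` -/
theorem conj_mem_ws_of_mem {V : Subgroup G} {p g a : G} (hg : g ∈ centralizer ({p} : Set G)) (ha : a ∈ ws V p) :
    g * a * g⁻¹ ∈ ws V p :=
  conj_mem_of_normalizer (centralizer_le_normalizer_ws V p) hg ha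

namespace Md

variable {T V : Subgroup G} {z p : G} [DistribMulAction (centralizer ({p} : Set G)) M] {π : G → M}

theorem map_one (md : Md V p π) : π 1 = 0 := (md.ker 1 (one_mem _)).2 (Or.inl rfl)

theorem map_p (h : Fr T V z) (hp : Col V p p) (md : Md V p π) : π p = 0 :=
  (md.ker p (h.mem_ws_self hp)).2 (Or.inr rfl)

theorem two (h : Fr T V z) (hp : Col V p p) (md : Md V p π) (m : M) : m + m = 0 := by
  obtain ⟨a, ha, rfl⟩ := md.surj m
  rw [← md.map_mul a ha a ha, h.ws_sq hp a ha, md.map_one]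

theorem neg_eq (h : Fr T V z) (hp : Col V p p) (md : Md V p π) (m : M) : -m = m :=
  neg_eq_of_add_eq_zero_left (md.two h hp m)

theorem sub_eq (h : Fr T V z) (hp : Col V p p) (md : Md V p π) (m m' : M) : m - m' = m + m' := by
  rw [sub_eq_add_neg, md.neg_eq h hp]

theorem eq_iff (h : Fr T V z) (hp : Col V p p) (md : Md V p π) {a b : G} (ha : a ∈ ws V p) (hb : b ∈ ws V p) :
    π a = π b ↔ a = b ∨ a = p * b := by
  have h1 : π (a * b) = π a + π b := md.map_mul a ha b hb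
  have h2 : π a = π b ↔ π (a * b) = 0 := by
    rw [h1, ← md.sub_eq h hp, sub_eq_zero]
  rw [h2, md.ker _ (mul_mem ha hb)]
  have hbb := h.ws_sq hp b hb
  refine or_congr ⟨fun e => ?_, fun e => ?_⟩ ⟨fun e => ?_, fun e => ?_⟩
  · calc a = a * b * b := by rw [mul_assoc, hbb, mul_one]
      _ = b := by rw [e, one_mul]
  · rw [e, hbb]
  · calc a = a * b * b := by rw [mul_assoc, hbb, mul_one]
      _ = p * b := by rw [e]
  · rw [e, mul_assoc, hbb, mul_one]

/-- the kernel of the action is `K_p` -/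
theorem mem_kq_iff (h : Fr T V z) (hp : Col V p p) (md : Md V p π) (g : centralizer ({p} : Set G)) :
    (g : G) ∈ kq V p ↔ ∀ m : M, g • m = m := by
  have hpp := h.pt_sq hp
  constructor
  · intro hg m
    obtain ⟨a, ha, rfl⟩ := md.surj m
    rw [← md.smul g a ha, md.eq_iff h hp (conj_mem_ws_of_mem g.2 ha) ha]
    exact h.kq_cases' hp hg ha
  · intro hg
    have key : ∀ g : centralizer ({p} : Set G), (∀ m : M, g • m = m) → ∀ w ∈ ws V p,
        (g : G) * w * (g : G)⁻¹ * w⁻¹ ∈ zpowers p := by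
      intro g hg w hw
      have h1 := hg (π w)
      rw [← md.smul g w hw, md.eq_iff h hp (conj_mem_ws_of_mem g.2 hw) hw] at h1
      rw [mem_zpowers_iff_of_mul_self hpp]
      rcases h1 with e | e
      · left; rw [e]; group
      · right; rw [e]; group
    refine ⟨g.2, key g hg, fun w hw => ?_⟩
    have h1 := key g⁻¹ (fun m => by
      conv_lhs => rw [← hg m]
      exact inv_smul_smul g m) w hw
    simpa only [_root_.InvMemClass.coe_inv, _root_.inv_inv] using h1

/-- an element of `C(p)` fixing the image of a point `x ∼ p` fixes `x` after a correction in `K_p` -/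
theorem fix_lift (h : Fr T V z) (md : Md V p π) {x : G} (hx : Col V p x) (hne : x ≠ p)
    {c : centralizer ({p} : Set G)} (hc : c • π x = π x) :
    ∃ k : centralizer ({p} : Set G), (k : G) ∈ kq V p ∧ (k * c : G) * x * (k * c : G)⁻¹ = x := by
  have hxp : x ∈ ws V p := h.mem_ws_of_col hx
  rw [← md.smul c x hxp, md.eq_iff h hx.left (conj_mem_ws_of_mem c.2 hxp) hxp] at hc
  rcases hc with e | e
  · exact ⟨1, one_mem _, by simpa only [_root_.OneMemClass.coe_one, _root_.one_mul] using e⟩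
  · obtain ⟨g, hp, hx', hp1, hx1⟩ := id hx
    obtain ⟨k, hk, -, hkm⟩ := h.mover_cj hp hp1
    have hpx : p * x ≠ 1 := by
      intro e'
      apply hne
      have := h.pt_sq hx.left
      calc x = p * p * x := by rw [this, one_mul]
        _ = p := by rw [mul_assoc, e', mul_one]
    have h2 := hkm (p * x) (mul_mem hp hx') hpx (fun e' => hx1 (by simpa using e'))
    refine ⟨⟨k, kq_le_centralizer V p hk⟩, hk, ?_⟩
    calc (k * c : G) * x * (k * c : G)⁻¹ = k * (c * x * (c : G)⁻¹) * k⁻¹ := by group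
      _ = p * (p * x) := by rw [e, h2]
      _ = x := by rw [← mul_assoc, h.pt_sq hx.left, one_mul]

/-- two points `∼ p` with the same image are `x`, `p x` -/
theorem pt_eq (h : Fr T V z) (md : Md V p π) {x y : G} (hx : Col V p x) (hy : Col V p y) (e : π x = π y) :
    x = y ∨ x = p * y :=
  (md.eq_iff h hx.left (h.mem_ws_of_col hx) (h.mem_ws_of_col hy)).1 e

theorem pt_ne_zero (h : Fr T V z) (md : Md V p π) {x : G} (hx : Col V p x) (hne : x ≠ p) : π x ≠ 0 := by
  intro e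
  rcases (md.ker x (h.mem_ws_of_col hx)).1 e with e | e
  · exact hx.right.ne_one e
  · exact hne e

end Md

/-- the Sylow 2-subgroup of a flag `(p, l)`, `x` on `l` -/
theorem exists_T [Finite G] {T V : Subgroup G} {z p x : G} (h : Fr T V z) (hx : Col V p x) (hne : x ≠ p) :
    ∃ T' : Subgroup G, T' ≤ centralizer ({p} : Set G) ∧ IsPGroup 2 T' ∧
      ¬ 2 ∣ T'.relIndex (centralizer ({p} : Set G)) ∧ (∀ t ∈ T', t * x * t⁻¹ = x ∨ t * x * t⁻¹ = p * x) ∧
      ws V p ≤ T' ∧ ∀ w ∈ ws V p, (∀ t ∈ T', t * w = w * t) → w = 1 ∨ w = p := by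
  obtain ⟨g, hp, hx', hp1, hx1⟩ := id hx
  obtain ⟨k, hk, -, hf⟩ := h.flag hp hp1
  have hle : ws V p ≤ cj k T := by
    have := hf.ln.ws_le_T
    rwa [ws_cj] at this
  refine ⟨cj k T, hf.ln.T_le, hf.ln.two, hf.ln.T_syl, fun t ht => ?_, hle, fun w hw hc => ?_⟩
  · have h1 : t * x * t⁻¹ ∈ cj g V := conj_mem_of_normalizer hf.ln.T_norm ht hx'
    have htp : t * p = p * t := mem_centralizer_singleton_iff.1 (hf.ln.T_le ht)
    rcases hf.ln.four hp hx' hp1 hx1 (Ne.symm hne) h1 with e | e | e | e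
    · exact absurd (conj_eq_one_iff.1 e) hx1
    · exfalso
      apply hne
      calc x = t⁻¹ * (t * x * t⁻¹) * t := by group
        _ = t⁻¹ * (p * t) := by rw [e]; group
        _ = p := by rw [← htp]; group
    · exact Or.inl e
    · exact Or.inr e
  · exact hf.ln.soc w (hle hw) (h.ws_sq hx.left w hw) hc

/-- `K_p` induces all sign patterns on two points independent modulo a subgroup containing `N_p` -/
theorem exists_sign [Finite G] {T V : Subgroup G} {z p : G} (h : Fr T V z) (hp : Col V p p) {x y : G}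
    (hx : x ∈ ws V p) (hy : y ∈ ws V p) (h1 : x ∉ zpowers y ⊔ nn (ws V p) (kq V p)) :
    ∃ k ∈ kq V p, k * y * k⁻¹ = y ∧ k * x * k⁻¹ = p * x := by
  obtain ⟨k, hk, hku, hkx⟩ := (h.dw hp).exists_mover (U := zpowers y) (by rwa [zpowers_le]) hx h1
  exact ⟨k, hk, NO3S.Dual.conj_eq_of_comm (hku y (mem_zpowers y)), hkx⟩

theorem not_mem_zpowers_sup {V : Subgroup G} {T : Subgroup G} {z p : G}
    [DistribMulAction (centralizer ({p} : Set G)) M] {π : G → M} (h : Fr T V z) (hp : Col V p p)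
    (md : Md V p π) {C : AddSubgroup M} (hN : ∀ w ∈ nn (ws V p) (kq V p), π w ∈ C) {x y : G}
    (hy : y ∈ ws V p) (h1 : π x ∉ C) (h2 : π x + π y ∉ C) :
    x ∉ zpowers y ⊔ nn (ws V p) (kq V p) := by
  intro hx
  obtain ⟨a, ha, b, hb, rfl⟩ := NO3S.Dual.mem_sup_of_comm (h.ws_comm hp) (A := zpowers y) (by rwa [zpowers_le])
    (inf_le_left : nn (ws V p) (kq V p) ≤ ws V p) hx
  have hbw : b ∈ ws V p := (mem_nn.1 hb).1
  rcases (mem_zpowers_iff_of_mul_self (h.ws_sq hp y hy)).1 ha with rfl | rfl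
  · rw [one_mul] at h1
    exact h1 (hN b hb)
  · rw [md.map_mul _ hy _ hbw] at h2
    apply h2
    have e : π a + π b + π a = π b := by
      rw [add_comm, ← add_assoc, md.two h hp, zero_add]
    rw [e]
    exact hN b hb

/-- **the kill**: `x`, `x'` points `∼ p`, `s = x x' ν`, `ν ∈ N_p`, `W_x ∩ W_x' ≤ W_s`; some `k ∈ C(p)` fixes the
images of `x`, `x'` and moves `ν` to `p ν`. -/
theorem inf_le_of_kill [Finite G] {T V : Subgroup G} {z p : G} [DistribMulAction (centralizer ({p} : Set G)) M]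
    {π : G → M} (h : Fr T V z) (md : Md V p π) {C : AddSubgroup M}
    (hN : ∀ w ∈ nn (ws V p) (kq V p), π w ∈ C) {x x' nu k : G} (hx : Col V p x) (hx' : Col V p x')
    (hnu : nu ∈ nn (ws V p) (kq V p)) (h1 : π x ∉ C) (h2 : π x' ∉ C) (h3 : π x + π x' ∉ C)
    (hk : k ∈ centralizer ({p} : Set G)) (hkx : π (k * x * k⁻¹) = π x) (hkx' : π (k * x' * k⁻¹) = π x')
    (hknu : k * nu * k⁻¹ = p * nu) (hs : Col V p (x * x' * nu)) (hsp : x * x' * nu ≠ p)
    (hD : ws V x ⊓ ws V x' ≤ ws V (x * x' * nu)) : ws V x ⊓ ws V x' ≤ ws V p := by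
  have hp := hx.left
  have hxw := h.mem_ws_of_col hx
  have hxw' := h.mem_ws_of_col hx'
  have hpp := h.pt_sq hp
  -- correct `k`
  obtain ⟨k', hk', e1, e2⟩ : ∃ k' ∈ kq V p, k' * (k * x * k⁻¹) * k'⁻¹ = x ∧ k' * (k * x' * k⁻¹) * k'⁻¹ = x' := by
    have hmove : ∃ k' ∈ kq V p, k' * x' * k'⁻¹ = x' ∧ k' * x * k'⁻¹ = p * x :=
      exists_sign h hp hxw hxw' (not_mem_zpowers_sup h hp md hN hxw' h1 h3)
    have hmove' : ∃ k' ∈ kq V p, k' * x * k'⁻¹ = x ∧ k' * x' * k'⁻¹ = p * x' :=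
      exists_sign h hp hxw' hxw (not_mem_zpowers_sup h hp md hN hxw h2 (by rwa [add_comm]))
    have hkp : ∀ k' ∈ kq V p, ∀ y : G, k' * (p * y) * k'⁻¹ = p * (k' * y * k'⁻¹) := by
      intro k' hk' y
      have := mem_centralizer_singleton_iff.1 (kq_le_centralizer V p hk')
      calc k' * (p * y) * k'⁻¹ = (k' * p) * y * k'⁻¹ := by group
        _ = p * (k' * y * k'⁻¹) := by rw [this]; group
    have hppy : ∀ y, p * (p * y) = y := fun y => by rw [← mul_assoc, hpp, one_mul]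
    rcases (md.eq_iff h hp (conj_mem_ws_of_mem hk hxw) hxw).1 hkx with e | e <;>
      rcases (md.eq_iff h hp (conj_mem_ws_of_mem hk hxw') hxw').1 hkx' with e' | e'
    · exact ⟨1, one_mem _, by simpa only [_root_.one_mul, _root_.inv_one, _root_.mul_one] using e, by simpa only [_root_.one_mul, _root_.inv_one, _root_.mul_one] using e'⟩
    · obtain ⟨k', hk', f1, f2⟩ := hmove'
      exact ⟨k', hk', by rw [e, f1], by rw [e', hkp k' hk', f2, hppy]⟩
    · obtain ⟨k', hk', f1, f2⟩ := hmove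
      exact ⟨k', hk', by rw [e, hkp k' hk', f2, hppy], by rw [e', f1]⟩
    · obtain ⟨k', hk', f1, f2⟩ := hmove
      obtain ⟨k'', hk'', g1, g2⟩ := hmove'
      refine ⟨k'' * k', mul_mem hk'' hk', ?_, ?_⟩
      · rw [e]
        calc k'' * k' * (p * x) * (k'' * k')⁻¹ = k'' * (k' * (p * x) * k'⁻¹) * k''⁻¹ := by group
          _ = x := by rw [hkp k' hk', f2, hppy, g1]
      · rw [e']
        calc k'' * k' * (p * x') * (k'' * k')⁻¹ = k'' * (k' * (p * x') * k'⁻¹) * k''⁻¹ := by group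
          _ = x' := by rw [hkp k' hk', f1, hkp k'' hk'', g2, hppy]
  have hkp' : k' ∈ centralizer ({p} : Set G) := kq_le_centralizer V p hk'
  set g := k' * k with hg
  have e1' : g * x * g⁻¹ = x := by
    calc k' * k * x * (k' * k)⁻¹ = k' * (k * x * k⁻¹) * k'⁻¹ := by group
      _ = x := e1
  have e2' : g * x' * g⁻¹ = x' := by
    calc k' * k * x' * (k' * k)⁻¹ = k' * (k * x' * k⁻¹) * k'⁻¹ := by group
      _ = x' := e2
  have e3' : g * nu * g⁻¹ = p * nu := by
    have f1 : k' * p = p * k' := mem_centralizer_singleton_iff.1 hkp'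
    have f2 : k' * nu = nu * k' := (mem_nn.1 hnu).2 k' hk'
    calc k' * k * nu * (k' * k)⁻¹ = k' * (k * nu * k⁻¹) * k'⁻¹ := by group
      _ = (k' * p) * nu * k'⁻¹ := by rw [hknu]; group
      _ = p * (k' * nu) * k'⁻¹ := by rw [f1]; group
      _ = p * nu := by rw [f2]; group
  have hxp : x * p = p * x := h.ws_comm hp x hxw p (h.mem_ws_self hp)
  have hxp' : x' * p = p * x' := h.ws_comm hp x' hxw' p (h.mem_ws_self hp)
  have e4 : g * (x * x' * nu) * g⁻¹ = p * (x * x' * nu) := by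
    calc g * (x * x' * nu) * g⁻¹ = (g * x * g⁻¹) * (g * x' * g⁻¹) * (g * nu * g⁻¹) := by group
      _ = x * (x' * p) * nu := by rw [e1', e2', e3']; group
      _ = (x * p) * x' * nu := by rw [hxp']; group
      _ = p * (x * x' * nu) := by rw [hxp]; group
  refine le_trans (fun u hu => ?_) (h.inf_mul_le hs hsp)
  refine ⟨hD hu, ?_⟩
  have h5 : g⁻¹ * u * g ∈ ws V x ⊓ ws V x' := by
    have f1 := conj_mem_ws g⁻¹ hu.1
    have f2 := conj_mem_ws g⁻¹ hu.2
    have f3 : g⁻¹ * x * g⁻¹⁻¹ = x := by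
      rw [inv_inv]; nth_rewrite 1 [← e1']; group
    have f4 : g⁻¹ * x' * g⁻¹⁻¹ = x' := by
      rw [inv_inv]; nth_rewrite 1 [← e2']; group
    rw [f3] at f1
    rw [f4] at f2
    rw [inv_inv] at f1 f2
    exact ⟨f1, f2⟩
  have h6 := conj_mem_ws g (hD h5)
  rw [e4] at h6
  have e5 : g * (g⁻¹ * u * g) * g⁻¹ = u := by group
  rwa [e5] at h6

end Cfsg.Agent.Omega.NOThree.TF

end

section


/-!
# The module `M_p` exists (NO-3S TwoFar, text #16267)

`MM V p` (a type, for every element `p` of `G`), `instance : AddCommGroup (MM V p)`,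
`instance : DistribMulAction (centralizer {p}) (MM V p)`, `pim V p : G → MM V p`; `md_MM` : for every point `p`,
`Md V p (pim V p)`; `finite_MM`.
-/

set_option autoImplicit false
set_option linter.unusedSectionVars false

namespace Cfsg.Agent.Omega.NOThree.TF

open Subgroup Cfsg Cfsg.Agent.ZN Cfsg.Agent.MinSimple.Geo Cfsg.Agent.Omega.CaseL Cfsg.Agent.Omega.NO3S.TwoOne
open Cfsg.Agent.Omega.NO3S.Pt

universe u v

variable {G : Type u} [Group G]

/-- the subgroup `⟨p⟩` of the abelianization of `W_p` -/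
def SS (V : Subgroup G) (p : G) : Subgroup (Abelianization (ws V p)) :=
  _root_.Subgroup.closure {a | ∃ h : p ∈ ws V p, a = Abelianization.of ⟨p, h⟩}

/-- `M_p = W_p/p` -/
def MM (V : Subgroup G) (p : G) : Type u := Additive (Abelianization (ws V p) ⧸ SS V p)

instance (V : Subgroup G) (p : G) : AddCommGroup (MM V p) :=
  inferInstanceAs (AddCommGroup (Additive (Abelianization (ws V p) ⧸ SS V p)))

/-- the class of an element of `W_p` -/
def pm (V : Subgroup G) (p : G) (a : ws V p) : MM V p :=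
  Additive.ofMul (QuotientGroup.mk (Abelianization.of a) : Abelianization (ws V p) ⧸ SS V p)

theorem pm_mul (V : Subgroup G) (p : G) (a b : ws V p) : pm V p (a * b) = pm V p a + pm V p b := by
  unfold pm
  rw [map_mul]
  rfl

theorem pm_surj (V : Subgroup G) (p : G) (m : MM V p) : ∃ a, pm V p a = m := by
  obtain ⟨x, hx⟩ := QuotientGroup.mk_surjective (Additive.toMul m)
  obtain ⟨a, ha⟩ := QuotientGroup.mk_surjective x
  refine ⟨a, ?_⟩
  have h1 : Abelianization.of a = x := ha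
  unfold pm
  rw [h1, hx]
  rfl

/-- conjugation by an element of `C(p)` on `W_p` -/
def cW (V : Subgroup G) (p : G) (g : centralizer ({p} : Set G)) : ws V p →* ws V p where
  toFun a := ⟨(g : G) * a * (g : G)⁻¹, conj_mem_ws_of_mem g.2 a.2⟩
  map_one' := Subtype.ext (by simp)
  map_mul' a b := Subtype.ext (by
    change (g : G) * (a * b) * (g : G)⁻¹ = (g * a * (g : G)⁻¹) * (g * b * (g : G)⁻¹)
    group)

theorem SS_le (V : Subgroup G) (p : G) (g : centralizer ({p} : Set G)) :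
    SS V p ≤ (SS V p).comap (Abelianization.map (cW V p g)) := by
  conv_lhs => unfold SS
  rw [closure_le]
  rintro _ ⟨h, rfl⟩
  change Abelianization.map (cW V p g) (Abelianization.of ⟨p, h⟩) ∈ SS V p
  rw [Abelianization.map_of]
  refine subset_closure ⟨h, ?_⟩
  congr 1
  refine Subtype.ext ?_
  change (g : G) * p * (g : G)⁻¹ = p
  exact NO3S.Dual.conj_eq_of_comm (mem_centralizer_singleton_iff.1 g.2)

/-- the action of `g ∈ C(p)` on `M_p` -/
def aM (V : Subgroup G) (p : G) (g : centralizer ({p} : Set G)) : MM V p →+ MM V p :=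
  MonoidHom.toAdditive (QuotientGroup.map (SS V p) (SS V p) (Abelianization.map (cW V p g)) (SS_le V p g))

theorem aM_pm (V : Subgroup G) (p : G) (g : centralizer ({p} : Set G)) (a : ws V p) :
    aM V p g (pm V p a) = pm V p (cW V p g a) := rfl

instance (V : Subgroup G) (p : G) : DistribMulAction (centralizer ({p} : Set G)) (MM V p) where
  smul g m := aM V p g m
  one_smul m := by
    obtain ⟨a, rfl⟩ := pm_surj V p m
    change aM V p 1 (pm V p a) = _
    rw [aM_pm]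
    congr 1
    refine Subtype.ext ?_
    change (1 : G) * a * (1 : G)⁻¹ = a
    group
  mul_smul g h m := by
    obtain ⟨a, rfl⟩ := pm_surj V p m
    change aM V p (g * h) (pm V p a) = aM V p g (aM V p h (pm V p a))
    rw [aM_pm, aM_pm, aM_pm]
    congr 1
    refine Subtype.ext ?_
    change (g : G) * h * a * ((g : G) * h)⁻¹ = g * (h * a * (h : G)⁻¹) * (g : G)⁻¹
    group
  smul_zero g := map_zero (aM V p g)
  smul_add g a b := map_add (aM V p g) a b

theorem smul_pm (V : Subgroup G) (p : G) (g : centralizer ({p} : Set G)) (a : ws V p) :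
    g • pm V p a = pm V p (cW V p g a) := rfl

open Classical in
/-- `π : W_p → M_p` (`0` outside `W_p`) -/
noncomputable def pim (V : Subgroup G) (p a : G) : MM V p := if h : a ∈ ws V p then pm V p ⟨a, h⟩ else 0

theorem pim_of_mem {V : Subgroup G} {p a : G} (h : a ∈ ws V p) : pim V p a = pm V p ⟨a, h⟩ := dif_pos h

/-- **`M_p` exists** -/
theorem md_MM {T V : Subgroup G} {z p : G} (h : Fr T V z) (hp : Col V p p) : Md V p (pim V p) where
  map_mul a ha b hb := by
    rw [pim_of_mem ha, pim_of_mem hb, pim_of_mem (mul_mem ha hb), ← pm_mul]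
    rfl
  surj m := by
    obtain ⟨a, rfl⟩ := pm_surj V p m
    exact ⟨a, a.2, pim_of_mem a.2⟩
  ker a ha := by
    have hpw := h.mem_ws_self hp
    rw [pim_of_mem ha]
    have h1 : pm V p ⟨a, ha⟩ = 0 ↔ Abelianization.of (⟨a, ha⟩ : ws V p) ∈ SS V p := by
      rw [← QuotientGroup.eq_one_iff]
      rfl
    have hS : SS V p = zpowers (Abelianization.of ⟨p, hpw⟩) := by
      unfold SS
      rw [zpowers_eq_closure]
      congr 1
      ext x
      constructor
      · rintro ⟨_, rfl⟩; rfl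
      · rintro rfl; exact ⟨hpw, rfl⟩
    have hcomm : _root_.commutator (ws V p) = ⊥ := by
      rw [commutator_def, Subgroup.commutator_eq_bot_iff_le_centralizer]
      rintro x -
      rw [mem_centralizer_iff]
      rintro y -
      exact Subtype.ext (h.ws_comm hp y y.2 x x.2)
    have hinj : Function.Injective (Abelianization.of : ws V p →* Abelianization (ws V p)) := by
      rw [← MonoidHom.ker_eq_bot_iff, Abelianization.ker_of, hcomm]
    have hpp : (⟨p, hpw⟩ : ws V p) * ⟨p, hpw⟩ = 1 := Subtype.ext (h.pt_sq hp)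
    rw [h1, hS, mem_zpowers_iff_of_mul_self (by rw [← map_mul, hpp, map_one])]
    constructor
    · rintro (e | e)
      · left
        rw [← map_one Abelianization.of] at e
        exact congrArg Subtype.val (hinj e)
      · right
        exact congrArg Subtype.val (hinj e)
    · rintro (rfl | rfl)
      · left
        exact map_one Abelianization.of
      · right; rfl
  smul g a ha := by
    rw [pim_of_mem ha, pim_of_mem (conj_mem_ws_of_mem g.2 ha), smul_pm]
    rfl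

instance finite_MM [Finite G] (V : Subgroup G) (p : G) : Finite (MM V p) :=
  Finite.of_surjective (pm V p) (pm_surj V p)

end Cfsg.Agent.Omega.NOThree.TF

end

section


/-!
# TwoFar, text #16267, section 3: (D) for special `x`

`p`, `q` a critical pair at distance `m + 3`, `p₁` the first point of the path, `λ = π p₁`, `A = W_q` as a subgroup of
`H = C(p)`, `JJ` the blocks of `M = M_p`.

* `OJ A J λ` : the group generated by the `A_J^c`, `c ∈ C_J(λ)`, `A_J = A ∩ J`;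
* `Sec` : the hypotheses on the pair, `SecJ` : the hypotheses on the block `J` with `A_J ≠ 1` ((b2), (b4));
* `SecJ.main` : for `x = p₁^h`, `h ∈ J`, `f ∈ W_q` with `c = [λ^h, f] ≠ 0`: `W_x ∩ W_{x^f} ≤ W_p`, or
  `λ ∈ BJ J` and `c ∈ λ^H`.  The type of `J` : either `TyF` (the `[c, O_J^h]` do not lie in two cosets of `CC`), and
  then `W_x ∩ W_{x^f} ≤ W_p`, or (*) every element of `N_H(J)` acts on `BJ J` as an element of `J`.
-/

set_option autoImplicit false
set_option linter.unusedSectionVars false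

namespace Cfsg.Agent.Omega.NOThree.TF

open Subgroup Cfsg Cfsg.Agent.ZN Cfsg.Agent.MinSimple.Geo Cfsg.Agent.Omega.CaseL Cfsg.Agent.Omega.NO3S.TwoOne
open Cfsg.Agent.Omega.NO3S.Pt
open Cfsg.Agent.Omega.NO3S.Dual (nn mem_nn DW)
open Cfsg.Agent.ZN.Block (conj_mem_of_normalizer conj_mem_of_normalizer' le_normalizer_of_forall
  mem_normalizer_of)

universe u v

section defs

variable {H : Type u} [Group H] {M : Type v} [AddCommGroup M] [DistribMulAction H M]

/-- `O_J` : generated by the conjugates of `A_J = A ∩ J` under `C_J(λ)` -/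
def OJ (A J : Subgroup H) (lam : M) : Subgroup H :=
  _root_.Subgroup.closure {y | ∃ a ∈ A ⊓ J, ∃ c ∈ J, c • lam = lam ∧ y = c * a * c⁻¹}

theorem OJ_le (A J : Subgroup H) (lam : M) : OJ A J lam ≤ J := by
  unfold OJ
  rw [closure_le]
  rintro _ ⟨a, ha, c, hc, -, rfl⟩
  exact mul_mem (mul_mem hc ha.2) (inv_mem hc)

theorem OJ_fix {A J : Subgroup H} {lam : M} (hA : ∀ a ∈ A, a • lam = lam) {o : H} (ho : o ∈ OJ A J lam) :
    o • lam = lam := by
  have h1 : OJ A J lam ≤ MulAction.stabilizer H lam := by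
    unfold OJ
    rw [closure_le]
    rintro _ ⟨a, ha, c, -, hcl, rfl⟩
    change (c * a * c⁻¹) • lam = lam
    have e : c⁻¹ • lam = lam := by rw [inv_smul_eq_iff, hcl]
    rw [mul_smul, mul_smul, e, hA a ha.1, hcl]
  exact h1 ho

end defs

variable {G : Type u} [Group G] {M : Type v} [AddCommGroup M]

/-- the commutators `c = [λ^h, a]`, in the order used here -/
def cc {H : Type u} [Group H] [DistribMulAction H M] (h a : H) (lam : M) : M := a • h • lam - h • lam

/-- the pair `(p, q)` and the module `M_p` -/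
structure Sec (T V : Subgroup G) (z : G) (m : ℕ) (p q p₁ : G) [DistribMulAction (centralizer ({p} : Set G)) M]
    (π : G → M) (JJ : Set (Subgroup (centralizer ({p} : Set G)))) : Prop where
  fr : Fr T V z
  cr : Cr V (m + 3) p q
  col : Col V p p₁
  ne : p₁ ≠ p
  pth : Pth V (m + 2) p₁ q
  md : Md V p π
  blk : Blk M JJ
  /-- exactness: `{w ∈ W_p : [w, W_q] ≤ p} = C_{W_p}(W_q)` -/
  ex : ∀ w ∈ ws V p, (∀ f ∈ ws V q, f * w * f⁻¹ = w ∨ f * w * f⁻¹ = p * w) → ∀ f ∈ ws V q, f * w = w * f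
  /-- `A` centralises `CC` (from `A = ∏ A_J`) -/
  cen : ∀ f : centralizer ({p} : Set G), (f : G) ∈ ws V q → ∀ c ∈ CC M JJ, f • c = c
  /-- (b3) -/
  nn_le : ∀ w ∈ nn (ws V p) (kq V p), π w ∈ CC M JJ

/-- the block `J` with `A_J ≠ 1`; `A = W_q`; without (b4) -/
structure SecJ₀ (V : Subgroup G) (p q p₁ : G) [DistribMulAction (centralizer ({p} : Set G)) M]
    (π : G → M) (JJ : Set (Subgroup (centralizer ({p} : Set G)))) (J : Subgroup (centralizer ({p} : Set G))) :
    Prop where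
  mem : J ∈ JJ
  /-- the `J`-component of an element of `A` -/
  act : ∀ f ∈ (ws V q).subgroupOf (centralizer ({p} : Set G)),
    ∃ f' ∈ (ws V q).subgroupOf (centralizer ({p} : Set G)) ⊓ J, ∀ b ∈ BJ M J, f • b = f' • b
  /-- `J = ⟨A_J^J⟩` (modulo the kernel) -/
  gen : ∀ g ∈ J, ∃ y ∈ _root_.Subgroup.closure {y | ∃ a ∈ (ws V q).subgroupOf (centralizer ({p} : Set G)) ⊓ J, ∃ j ∈ J,
    y = j * a * j⁻¹}, ∀ v : M, g • v = y • v
  /-- `v_J ≠ 0` -/
  moves : ∃ g ∈ J, g • π p₁ ≠ π p₁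

/-- (b4) for one `h ∈ J` -/
def B4 (V : Subgroup G) (p q p₁ : G) [DistribMulAction (centralizer ({p} : Set G)) M]
    (π : G → M) (JJ : Set (Subgroup (centralizer ({p} : Set G)))) (J : Subgroup (centralizer ({p} : Set G)))
    (h : centralizer ({p} : Set G)) : Prop :=
  ∀ a ∈ (ws V q).subgroupOf (centralizer ({p} : Set G)) ⊓ J, cc h a (π p₁) ≠ 0 →
    cc h a (π p₁) ∉ CC M JJ ∧ ∃ o ∈ OJ ((ws V q).subgroupOf (centralizer ({p} : Set G))) J (π p₁),
      (h * o * h⁻¹) • cc h a (π p₁) - cc h a (π p₁) ∉ CC M JJ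

/-- type (F) in the form used, for one `h ∈ J` : the `[c, O_J^h]` do not lie in two cosets of `CC` -/
def FF4 (V : Subgroup G) (p q p₁ : G) [DistribMulAction (centralizer ({p} : Set G)) M]
    (π : G → M) (JJ : Set (Subgroup (centralizer ({p} : Set G)))) (J : Subgroup (centralizer ({p} : Set G)))
    (h : centralizer ({p} : Set G)) : Prop :=
  ∀ a ∈ (ws V q).subgroupOf (centralizer ({p} : Set G)) ⊓ J, cc h a (π p₁) ≠ 0 → ∀ v : M,
    ∃ o ∈ OJ ((ws V q).subgroupOf (centralizer ({p} : Set G))) J (π p₁),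
      (h * o * h⁻¹) • cc h a (π p₁) - cc h a (π p₁) ∉ CC M JJ ∧
      (h * o * h⁻¹) • cc h a (π p₁) - cc h a (π p₁) - v ∉ CC M JJ

/-- the block `J` with `A_J ≠ 1`; `A = W_q` -/
structure SecJ (V : Subgroup G) (p q p₁ : G) [DistribMulAction (centralizer ({p} : Set G)) M]
    (π : G → M) (JJ : Set (Subgroup (centralizer ({p} : Set G)))) (J : Subgroup (centralizer ({p} : Set G))) :
    Prop extends SecJ₀ V p q p₁ π JJ J where
  /-- (b4) -/
  b4 : ∀ h ∈ J, B4 V p q p₁ π JJ J h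

/-- type (F) in the form used: the `[c, O_J^h]` do not lie in two cosets of `CC` -/
def TyF (V : Subgroup G) (p q p₁ : G) [DistribMulAction (centralizer ({p} : Set G)) M]
    (π : G → M) (JJ : Set (Subgroup (centralizer ({p} : Set G)))) (J : Subgroup (centralizer ({p} : Set G))) :
    Prop := ∀ h ∈ J, FF4 V p q p₁ π JJ J h

/-- (*) -/
def TyS {H : Type u} [Group H] (M : Type v) [AddCommGroup M] [DistribMulAction H M] (J : Subgroup H) : Prop :=
  ∀ g : H, cj g J = J → ∃ y ∈ J, ∀ b ∈ BJ M J, g • b = y • b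

/-! ### the pair -/

namespace Sec

variable {T V : Subgroup G} {z : G} {m : ℕ} {p q p₁ : G} [DistribMulAction (centralizer ({p} : Set G)) M]
  {π : G → M} {JJ : Set (Subgroup (centralizer ({p} : Set G)))} (s : Sec T V z m p q p₁ π JJ)
include s

theorem hp : Col V p p := s.col.left

theorem hq : Col V q q := s.cr.path.right

theorem wq_le [Finite G] : ws V q ≤ centralizer ({p} : Set G) := s.cr.symm.cent s.fr

/-- `W_q` centralises `W_{p₁}` -/
theorem com₁ : NO3S.Pt.Com V p₁ q := s.cr.min (m + 2) (by omega) _ _ s.pth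

theorem p₁_mem : p₁ ∈ ws V p := s.fr.mem_ws_of_col s.col

theorem p₁_mem' : p₁ ∈ ws V p₁ := s.fr.mem_ws_self s.col.right

/-- `A` fixes `λ` -/
theorem fix_lam {f : centralizer ({p} : Set G)} (hf : (f : G) ∈ ws V q) : f • π p₁ = π p₁ := by
  rw [← s.md.smul f p₁ s.p₁_mem]
  congr 1
  exact NO3S.Dual.conj_eq_of_comm (s.com₁ p₁ s.p₁_mem' f hf).symm

/-- every element of `O_J^h` is induced by an element centralising `W_x`, `x = p₁^h` -/
theorem lift_OJ (J : Subgroup (centralizer ({p} : Set G))) (h : centralizer ({p} : Set G))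
    {o : centralizer ({p} : Set G)} (ho : o ∈ OJ ((ws V q).subgroupOf (centralizer ({p} : Set G))) J (π p₁)) :
    ∃ g : centralizer ({p} : Set G), (g : G) ∈ centralizer (ws V (h * p₁ * (h : G)⁻¹) : Set G) ∧
      ∀ v : M, g • v = (h * o * h⁻¹) • v := by
  -- first `h = 1`
  have key : ∃ g : centralizer ({p} : Set G), (g : G) ∈ centralizer (ws V p₁ : Set G) ∧
      ∀ v : M, g • v = o • v := by
    unfold OJ at ho
    induction ho using Subgroup.closure_induction with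
    | mem x hx =>
      obtain ⟨a, ⟨ha, haJ⟩, c, -, hcl, rfl⟩ := hx
      obtain ⟨k, hk, hkc⟩ := s.md.fix_lift s.fr s.col s.ne hcl
      refine ⟨k * c * a * (k * c)⁻¹, ?_, fun v => ?_⟩
      · have h1 : (a : G) ∈ centralizer (ws V p₁ : Set G) := by
          rw [mem_centralizer_iff]
          intro b hb
          exact s.com₁ b hb a ha
        have h2 : ((k * c : centralizer ({p} : Set G)) : G) ∈ centralizer ({p₁} : Set G) := by
          rw [mem_centralizer_singleton_iff]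
          exact NO3S.Dual.comm_of_conj_eq hkc
        exact conj_mem_of_normalizer (normalizer_le_normalizer_centralizer _)
          (centralizer_le_normalizer_ws V p₁ h2) h1
      · have hk' := (s.md.mem_kq_iff s.fr s.hp k).1 hk
        have hk'' : ∀ v : M, k⁻¹ • v = v := fun v => by rw [inv_smul_eq_iff, hk']
        rw [mul_inv_rev]
        simp only [mul_smul, hk', hk'']
    | one => exact ⟨1, one_mem _, fun v => rfl⟩
    | mul x y _ _ hx hy =>
      obtain ⟨g, hg, hg'⟩ := hx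
      obtain ⟨k, hk, hk'⟩ := hy
      exact ⟨g * k, mul_mem hg hk, fun v => by rw [mul_smul, mul_smul, hk', hg']⟩
    | inv x _ hx =>
      obtain ⟨g, hg, hg'⟩ := hx
      exact ⟨g⁻¹, inv_mem hg, fun v => by rw [inv_smul_eq_iff, hg', smul_inv_smul]⟩
  obtain ⟨g, hg, hg'⟩ := key
  refine ⟨h * g * h⁻¹, ?_, fun v => ?_⟩
  · rw [← cj_ws, mem_centralizer_iff]
    intro b hb
    rw [SetLike.mem_coe, mem_cj] at hb
    have := mem_centralizer_iff.1 hg _ hb
    change b * ((h : G) * g * (h : G)⁻¹) = (h : G) * g * (h : G)⁻¹ * b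
    calc b * ((h : G) * g * (h : G)⁻¹) = h * (((h : G)⁻¹ * b * h) * g) * (h : G)⁻¹ := by group
      _ = h * (g * ((h : G)⁻¹ * b * h)) * (h : G)⁻¹ := by rw [this]
      _ = (h : G) * g * (h : G)⁻¹ * b := by group
  · simp only [mul_smul, hg']

/-- **(3.1)** -/
theorem span [Finite G] {x x' : G} (hx : Col V p x) (hx' : Col V p x') (hxp : x ≠ p) (hxp' : x' ≠ p)
    (hbad : ¬ ws V x ⊓ ws V x' ≤ ws V p) {g : G} (hg : g ∈ centralizer (ws V x : Set G)) :
    ∃ a b w, (a = 1 ∨ a = x) ∧ (b = 1 ∨ b = x') ∧ w ∈ nn (ws V p) (kq V p) ∧ g * x' * g⁻¹ = a * b * w := by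
  have hxw := s.fr.mem_ws_of_col hx
  have hxw' := s.fr.mem_ws_of_col hx'
  have h1 := ((s.fr.lemD hx hx' hxp hxp').resolve_left hbad g (mem_sup_left hg)).2
  have hcl : _root_.Subgroup.closure {x, x'} = zpowers x ⊔ zpowers x' := by
    rw [zpowers_eq_closure, zpowers_eq_closure, ← Subgroup.closure_union]
    rfl
  have hzx : zpowers x ≤ ws V p := by rwa [zpowers_le]
  have hzx' : zpowers x' ≤ ws V p := by rwa [zpowers_le]
  rw [hcl] at h1
  obtain ⟨c, hc, w, hw, e⟩ := NO3S.Dual.mem_sup_of_comm (s.fr.ws_comm s.hp) (sup_le hzx hzx')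
    (inf_le_left : nn (ws V p) (kq V p) ≤ ws V p) h1
  obtain ⟨a, ha, b, hb, rfl⟩ := NO3S.Dual.mem_sup_of_comm (s.fr.ws_comm s.hp) hzx hzx' hc
  exact ⟨a, b, w, (mem_zpowers_iff_of_mul_self (s.fr.ws_sq s.hp x hxw)).1 ha,
    (mem_zpowers_iff_of_mul_self (s.fr.ws_sq s.hp x' hxw')).1 hb, hw, e⟩

/-- the point `p₁^h` -/
theorem col_h (h : centralizer ({p} : Set G)) : Col V p (h * p₁ * (h : G)⁻¹) := by
  have h1 := s.col.conj (h : G)
  have e : (h : G) * p * (h : G)⁻¹ = p := NO3S.Dual.conj_eq_of_comm (mem_centralizer_singleton_iff.1 h.2)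
  rwa [e] at h1

theorem ne_h (h : centralizer ({p} : Set G)) : (h : G) * p₁ * (h : G)⁻¹ ≠ p := by
  intro e
  apply s.ne
  have e1 : (h : G) * p = p * h := mem_centralizer_singleton_iff.1 h.2
  calc p₁ = (h : G)⁻¹ * (h * p₁ * (h : G)⁻¹) * h := by group
    _ = (h : G)⁻¹ * (p * h) := by rw [e]; group
    _ = p := by rw [← e1]; group

theorem π_h (h : centralizer ({p} : Set G)) : π (h * p₁ * (h : G)⁻¹) = h • π p₁ := s.md.smul h p₁ s.p₁_mem

theorem lam_not_mem {J : Subgroup (centralizer ({p} : Set G))} (hJ : J ∈ JJ)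
    (hm : ∃ g ∈ J, g • π p₁ ≠ π p₁) : π p₁ ∉ CC M JJ := by
  obtain ⟨g, hg, hne⟩ := hm
  exact fun h => hne (h J hJ g hg)

end Sec

/-! ### the block `J` -/

namespace SecJ₀

variable {T V : Subgroup G} {z : G} {m : ℕ} {p q p₁ : G} [DistribMulAction (centralizer ({p} : Set G)) M]
  {π : G → M} {JJ : Set (Subgroup (centralizer ({p} : Set G)))} {J : Subgroup (centralizer ({p} : Set G))}

/-- `c = [λ^h, f]` only depends on the `J`-component of `f` -/
theorem exists_comp (s : Sec T V z m p q p₁ π JJ) (j : SecJ₀ V p q p₁ π JJ J)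
    {h f : centralizer ({p} : Set G)} (hh : h ∈ J) (hf : (f : G) ∈ ws V q) :
    ∃ f' : centralizer ({p} : Set G), (f' : G) ∈ ws V q ∧ f' ∈ J ∧ (∀ b ∈ BJ M J, f • b = f' • b) ∧
      cc h f (π p₁) = cc h f' (π p₁) := by
  obtain ⟨f', ⟨hf', hf'J⟩, hact⟩ := j.act f hf
  refine ⟨f', hf', hf'J, hact, ?_⟩
  have key : ∀ a : centralizer ({p} : Set G), (a : G) ∈ ws V q →
      cc h a (π p₁) = a • (h • π p₁ - π p₁) - (h • π p₁ - π p₁) := by
    intro a ha
    unfold cc
    rw [smul_sub, s.fix_lam ha]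
    abel
  rw [key f hf, key f' hf', hact _ (sub_mem_BJ hh _)]

theorem cc_mem {h f : centralizer ({p} : Set G)} (hf : f ∈ J) :
    cc h f (π p₁) ∈ BJ M J := sub_mem_BJ hf _

/-- the images of `x = p₁^h` and of its conjugates under `O_J^h` -/
theorem step [Finite G] (s : Sec T V z m p q p₁ π JJ) (j : SecJ₀ V p q p₁ π JJ J)
    {h f : centralizer ({p} : Set G)} (hh : h ∈ J) (hf : (f : G) ∈ ws V q) (hc : cc h f (π p₁) ≠ 0)
    (hb4 : B4 V p q p₁ π JJ J h)
    (hbad : ¬ ws V (h * p₁ * (h : G)⁻¹) ⊓ ws V (((f * h : centralizer ({p} : Set G)) : G) * p₁ *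
      ((f * h : centralizer ({p} : Set G)) : G)⁻¹) ≤ ws V p)
    {o : centralizer ({p} : Set G)} (ho : o ∈ OJ ((ws V q).subgroupOf (centralizer ({p} : Set G))) J (π p₁)) :
    (h * o * h⁻¹) • cc h f (π p₁) - cc h f (π p₁) ∈ CC M JJ ∨
    ∃ g : centralizer ({p} : Set G), (g : G) ∈ centralizer (ws V (h * p₁ * (h : G)⁻¹) : Set G) ∧
      (∀ v : M, g • v = (h * o * h⁻¹) • v) ∧ ∃ w ∈ nn (ws V p) (kq V p),
      (g : G) * (((f * h : centralizer ({p} : Set G)) : G) * p₁ * ((f * h : centralizer ({p} : Set G)) : G)⁻¹) *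
        (g : G)⁻¹ = (h * p₁ * (h : G)⁻¹) * (((f * h : centralizer ({p} : Set G)) : G) * p₁ *
          ((f * h : centralizer ({p} : Set G)) : G)⁻¹) * w ∧
      (h * o * h⁻¹) • cc h f (π p₁) = h • π p₁ + cc h f (π p₁) + π w := by
  obtain ⟨g, hg, hgv⟩ := s.lift_OJ J h ho
  set x : G := h * p₁ * (h : G)⁻¹ with hx
  set x' : G := ((f * h : centralizer ({p} : Set G)) : G) * p₁ * ((f * h : centralizer ({p} : Set G)) : G)⁻¹ with hx'
  set c := cc h f (π p₁) with hcdef
  have hxc : Col V p x := s.col_h h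
  have hxc' : Col V p x' := s.col_h (f * h)
  have hxw := s.fr.mem_ws_of_col hxc
  have hxw' := s.fr.mem_ws_of_col hxc'
  have hπx : π x = h • π p₁ := s.π_h h
  have hπx' : π x' = h • π p₁ + c := by
    rw [s.π_h (f * h), mul_smul, hcdef]
    unfold cc
    abel
  obtain ⟨a, b, w, ha, hb, hw, e⟩ := s.span hxc hxc' (s.ne_h h) (s.ne_h (f * h)) hbad hg
  have hww := (mem_nn.1 hw).1
  have hwC := s.nn_le w hw
  have h1 : π (g * x' * (g : G)⁻¹) = h • π p₁ + (h * o * h⁻¹) • c := by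
    rw [s.md.smul g x' hxw', hgv, hπx', smul_add]
    congr 1
    rw [mul_smul, inv_smul_smul, mul_smul, OJ_fix (fun a ha => s.fix_lam ha) ho]
  have h1' : π (g * x' * (g : G)⁻¹) = (g * (f * h)) • π p₁ := by
    rw [s.md.smul g x' hxw', s.π_h (f * h)]
    simp only [mul_smul]
  have hlam := s.lam_not_mem j.mem j.moves
  obtain ⟨f', hf', hf'J, -, hcf⟩ := j.exists_comp s hh hf
  have hcC : c ∉ CC M JJ := by
    have := (hb4 f' ⟨hf', hf'J⟩ (by rwa [← hcf])).1
    rwa [← hcf] at this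
  have two := s.md.two s.fr s.hp
  rcases ha with rfl | rfl <;> rcases hb with rfl | rfl
  · exfalso
    rw [one_mul, one_mul] at e
    rw [e] at h1'
    rw [h1'] at hwC
    exact hlam ((s.blk.smul_CC_iff _).1 hwC)
  · left
    rw [one_mul] at e
    rw [e, s.md.map_mul _ hxw' _ hww, hπx', add_assoc] at h1
    have h2 := add_left_cancel h1
    rw [← h2, add_sub_cancel_left]
    exact hwC
  · exfalso
    rw [mul_one] at e
    rw [e, s.md.map_mul _ hxw _ hww, hπx] at h1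
    have h2 := add_left_cancel h1
    rw [h2] at hwC
    exact hcC ((s.blk.smul_CC_iff _).1 hwC)
  · right
    refine ⟨g, hg, hgv, w, hw, e, ?_⟩
    rw [e, s.md.map_mul _ (mul_mem hxw hxw') _ hww, s.md.map_mul _ hxw _ hxw', hπx, hπx', add_assoc] at h1
    exact (add_left_cancel h1).symm

/-- the Sylow group `T` on `BJ J + CC ∋ λ` -/
theorem T_fix [Finite G] (s : Sec T V z m p q p₁ π JJ) (j : SecJ₀ V p q p₁ π JJ J) (hS : TyS M J)
    {T' : Subgroup G} (hT : ¬ 2 ∣ T'.relIndex (centralizer ({p} : Set G)))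
    (hTp : ∀ t ∈ T', t * p₁ * t⁻¹ = p₁ ∨ t * p₁ * t⁻¹ = p * p₁) {e y₀ : M} (he : e ∈ BJ M J) (hy₀ : y₀ ∈ CC M JJ)
    (hlam : π p₁ = e + y₀) {t : centralizer ({p} : Set G)} (ht : (t : G) ∈ T') :
    ∃ y ∈ J, (∀ b ∈ BJ M J, t • b = y • b) ∧ t • y₀ = y₀ ∧ ∀ ν ∈ CC M JJ, ν + y₀ ∈ BJ M J → t • ν = ν := by
  have hfix : ∀ t : centralizer ({p} : Set G), (t : G) ∈ T' → t • π p₁ = π p₁ := by
    intro t ht
    rw [← s.md.smul t p₁ s.p₁_mem, s.md.eq_iff s.fr s.hp (conj_mem_ws_of_mem t.2 s.p₁_mem) s.p₁_mem]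
    exact hTp t ht
  have hl : π p₁ ∈ BJ M J ⊔ CC M JJ := by
    rw [hlam]
    exact AddSubgroup.mem_sup.2 ⟨e, he, y₀, hy₀, rfl⟩
  have hcj : cj t J = J := s.blk.cj_eq j.mem hl (by rwa [hfix t ht]) (s.lam_not_mem j.mem j.moves)
  obtain ⟨y, hy, hyt⟩ := hS t hcj
  have h1 : y • e - e = y₀ - t • y₀ := by
    have h2 := hfix t ht
    rw [hlam, smul_add, hyt e he] at h2
    rw [sub_eq_sub_iff_add_eq_add, h2, add_comm]
  have h2 : y • π p₁ - π p₁ = y • e - e := by
    rw [hlam, smul_add, Blk.fix_CC j.mem hy hy₀]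
    abel
  have h3 : y • π p₁ = π p₁ := by
    refine s.blk.stab (s.md.two s.fr s.hp) (T := T'.subgroupOf (centralizer ({p} : Set G))) hT
      (fun t ht => hfix t ht) j.mem hy ?_
    rw [h2, h1]
    exact sub_mem hy₀ (s.blk.smul_CC t hy₀)
  have h4 : t • y₀ = y₀ := by
    rw [h3, sub_self] at h2
    rw [← h2] at h1
    exact (sub_eq_zero.1 h1.symm).symm
  refine ⟨y, hy, hyt, h4, fun ν hν hνb => ?_⟩
  have h5 : t • (ν + y₀) = ν + y₀ := by
    rw [hyt _ hνb]
    exact Blk.fix_CC j.mem hy (add_mem hν hy₀)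
  rw [smul_add, h4] at h5
  exact add_right_cancel h5

/-- `J = ⟨A_J^J⟩` is induced by elements which commute with every `w ∈ W_p` whose image lies in `CC` -/
theorem gen_comm [Finite G] (s : Sec T V z m p q p₁ π JJ) (j : SecJ₀ V p q p₁ π JJ J) {w : G} (hw : w ∈ ws V p)
    (hwC : π w ∈ CC M JJ) {g : centralizer ({p} : Set G)} (hg : g ∈ J) :
    ∃ y : centralizer ({p} : Set G), (∀ v : M, g • v = y • v) ∧ (y : G) * w = w * y := by
  obtain ⟨y, hy, hgy⟩ := j.gen g hg
  refine ⟨y, hgy, ?_⟩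
  -- `W_q` centralises `w`
  have h1 : ∀ f ∈ ws V q, f * w = w * f := by
    refine s.ex w hw fun f hf => ?_
    have hfc : f ∈ centralizer ({p} : Set G) := s.wq_le hf
    have h2 := s.cen ⟨f, hfc⟩ hf _ hwC
    rw [← s.md.smul ⟨f, hfc⟩ w hw] at h2
    exact (s.md.eq_iff s.fr s.hp (conj_mem_ws_of_mem hfc hw) hw).1 h2
  have key : _root_.Subgroup.closure {y | ∃ a ∈ (ws V q).subgroupOf (centralizer ({p} : Set G)) ⊓ J, ∃ i ∈ J, y = i * a * i⁻¹} ≤
      (centralizer ({w} : Set G)).subgroupOf (centralizer ({p} : Set G)) := by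
    rw [closure_le]
    rintro _ ⟨a, ⟨ha, -⟩, i, hi, rfl⟩
    change ((i * a * i⁻¹ : centralizer ({p} : Set G)) : G) ∈ centralizer ({w} : Set G)
    rw [mem_centralizer_singleton_iff]
    have ha' : (a : G) ∈ ws V q := ha
    have hap : (a : G) * p = p * a := mem_centralizer_singleton_iff.1 a.2
    have h3 : (i : G)⁻¹ * w * i = w ∨ (i : G)⁻¹ * w * i = p * w := by
      have h4 : (i⁻¹ : centralizer ({p} : Set G)) • π w = π w := Blk.fix_CC j.mem (inv_mem hi) hwC
      rw [← s.md.smul i⁻¹ w hw] at h4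
      have h5 := (s.md.eq_iff s.fr s.hp (conj_mem_ws_of_mem (i⁻¹).2 hw) hw).1 h4
      simpa only [_root_.InvMemClass.coe_inv, _root_.inv_inv] using h5
    have h6 : (a : G) * ((i : G)⁻¹ * w * i) = ((i : G)⁻¹ * w * i) * a := by
      rcases h3 with e | e
      · rw [e]; exact h1 a ha'
      · rw [e, ← mul_assoc, hap, mul_assoc, h1 a ha', mul_assoc]
    change (i : G) * a * (i : G)⁻¹ * w = w * (i * a * (i : G)⁻¹)
    calc (i : G) * a * (i : G)⁻¹ * w = i * (a * ((i : G)⁻¹ * w * i)) * (i : G)⁻¹ := by group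
      _ = w * (i * a * (i : G)⁻¹) := by rw [h6]; group
  exact mem_centralizer_singleton_iff.1 (key hy)

/-- **(D) for special `x`** (3.2), (3.3): `x = p₁^h`, `h ∈ J`, `f ∈ W_q`, `c = [λ^h, f] ≠ 0`; `W_x ∩ W_{x^f} ≤ W_p`, or
`J` is not of type (F), (*) holds, `λ ∈ BJ J` and `c ∈ λ^H`.  (b4) and (F) are used for this `h` only. -/
theorem main [Finite G] (s : Sec T V z m p q p₁ π JJ) (j : SecJ₀ V p q p₁ π JJ J)
    {h f : centralizer ({p} : Set G)} (hh : h ∈ J) (hf : (f : G) ∈ ws V q) (hc : cc h f (π p₁) ≠ 0)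
    (hb4 : B4 V p q p₁ π JJ J h) (hty : FF4 V p q p₁ π JJ J h ∨ TyS M J) :
    ws V (h * p₁ * (h : G)⁻¹) ⊓ ws V (f * (h * p₁ * (h : G)⁻¹) * (f : G)⁻¹) ≤ ws V p ∨
      (¬ FF4 V p q p₁ π JJ J h ∧ TyS M J ∧ π p₁ ∈ BJ M J ∧
        ∃ g : centralizer ({p} : Set G), cc h f (π p₁) = g • π p₁) := by
  have ex' : (f : G) * (h * p₁ * (h : G)⁻¹) * (f : G)⁻¹ = ((f * h : centralizer ({p} : Set G)) : G) * p₁ *
      ((f * h : centralizer ({p} : Set G)) : G)⁻¹ := by
    change _ = (f : G) * h * p₁ * ((f : G) * h)⁻¹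
    group
  rw [ex']
  by_cases hbad : ws V (h * p₁ * (h : G)⁻¹) ⊓ ws V (((f * h : centralizer ({p} : Set G)) : G) * p₁ *
      ((f * h : centralizer ({p} : Set G)) : G)⁻¹) ≤ ws V p
  · exact Or.inl hbad
  have hstep := fun (o : centralizer ({p} : Set G)) ho => step s j hh hf hc hb4 hbad (o := o) ho
  obtain ⟨f', hf', hf'J, hff', hcf⟩ := exists_comp s j hh hf
  have hcB : cc h f (π p₁) ∈ BJ M J := by rw [hcf]; exact cc_mem hf'J
  have hb4' := hb4 f' ⟨hf', hf'J⟩ (by rwa [← hcf])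
  rw [← hcf] at hb4'
  obtain ⟨hcC, o, ho, hoC⟩ := hb4'
  right
  have hnF : ¬ FF4 V p q p₁ π JJ J h := by
    intro hF
    obtain ⟨o', ho', h1, h2⟩ := hF f' ⟨hf', hf'J⟩ (by rwa [← hcf]) (h • π p₁)
    rw [← hcf] at h1 h2
    rcases hstep o' ho' with h3 | ⟨g, -, -, w, hw, -, h3⟩
    · exact h1 h3
    · apply h2
      rw [h3]
      have e : h • π p₁ + cc h f (π p₁) + π w - cc h f (π p₁) - h • π p₁ = π w := by abel
      rw [e]
      exact s.nn_le w hw
  have hS := hty.resolve_left hnF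
  refine ⟨hnF, hS, ?_⟩
  obtain ⟨g, hg, hgv, w, hw, hgx, hoc⟩ := (hstep o ho).resolve_left hoC
  have two := s.md.two s.fr s.hp
  have hlamC := s.lam_not_mem j.mem j.moves
  have hww := (mem_nn.1 hw).1
  have hwC := s.nn_le w hw
  set x : G := h * p₁ * (h : G)⁻¹ with hx
  set x' : G := ((f * h : centralizer ({p} : Set G)) : G) * p₁ * ((f * h : centralizer ({p} : Set G)) : G)⁻¹ with hx'
  set c := cc h f (π p₁) with hcdef
  have hxc : Col V p x := s.col_h h
  have hxc' : Col V p x' := s.col_h (f * h)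
  have hxw := s.fr.mem_ws_of_col hxc
  have hxw' := s.fr.mem_ws_of_col hxc'
  have hπx : π x = h • π p₁ := s.π_h h
  have hπx'' : π x' = (f * h) • π p₁ := s.π_h (f * h)
  have hπx' : π x' = h • π p₁ + c := by
    rw [hπx'', mul_smul, hcdef]
    unfold cc
    abel
  have hOJ : h * o * h⁻¹ ∈ J := mul_mem (mul_mem hh (OJ_le _ _ _ ho)) (inv_mem hh)
  -- `λ + ν ∈ BJ J`
  have he : π p₁ + π w ∈ BJ M J := by
    have h1 : h • π p₁ + π w ∈ BJ M J := by
      have h2 := sub_mem (smul_mem_BJ hOJ hcB) hcB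
      rwa [hoc, show h • π p₁ + c + π w - c = h • π p₁ + π w by abel] at h2
    have h2 := sub_mem h1 (sub_mem_BJ hh (π p₁))
    rwa [show h • π p₁ + π w - (h • π p₁ - π p₁) = π p₁ + π w by abel] at h2
  have hle : π p₁ = (π p₁ + π w) + π w := by rw [add_assoc, two, add_zero]
  have hsx : π (x * x' * w) = c + π w := by
    rw [s.md.map_mul _ (mul_mem hxw hxw') _ hww, s.md.map_mul _ hxw _ hxw', hπx, hπx', ← add_assoc, two, zero_add]
  have hsx' : (g : G) * x' * (g : G)⁻¹ =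
      ((g * (f * h) : centralizer ({p} : Set G)) : G) * p₁ * ((g * (f * h) : centralizer ({p} : Set G)) : G)⁻¹ := by
    change (g : G) * ((f * h : centralizer ({p} : Set G)) * p₁ * ((f * h : centralizer ({p} : Set G)) : G)⁻¹) *
      (g : G)⁻¹ = (g : G) * (f * h : centralizer ({p} : Set G)) * p₁ * ((g : G) * (f * h : centralizer ({p} : Set G)))⁻¹
    group
  by_cases hν : π w = 0
  · rw [hν, add_zero] at he hsx
    refine ⟨he, g * (f * h), ?_⟩
    rw [← hsx, ← hgx, hsx', s.π_h]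
  · exfalso
    apply hbad
    obtain ⟨T', hTC, -, hTi, hTp, hWT, hsoc⟩ := exists_T s.fr s.col s.ne
    set g₀ : centralizer ({p} : Set G) := g * (f * h) with hg₀
    -- an element of the Sylow group of `s` moving `w`
    obtain ⟨t, ht, htw⟩ : ∃ t ∈ T', (g₀ : G) * t * (g₀ : G)⁻¹ * w ≠ w * (g₀ * t * (g₀ : G)⁻¹) := by
      by_contra hcon
      push Not at hcon
      apply hν
      have h1 : (g₀ : G)⁻¹ * w * g₀ ∈ ws V p := by
        have := conj_mem_ws_of_mem (inv_mem g₀.2) hww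
        rwa [inv_inv] at this
      have h2 := hsoc _ h1 fun t ht => by
        have := hcon t ht
        calc t * ((g₀ : G)⁻¹ * w * g₀) = (g₀ : G)⁻¹ * ((g₀ : G) * t * (g₀ : G)⁻¹ * w) * g₀ := by group
          _ = (g₀ : G)⁻¹ * w * g₀ * t := by rw [this]; group
      have h3 : w = g₀ * ((g₀ : G)⁻¹ * w * g₀) * (g₀ : G)⁻¹ := by group
      rw [s.md.ker w hww]
      rcases h2 with e | e
      · left; rw [h3, e]; group
      · right; rw [h3, e]
        exact NO3S.Dual.conj_eq_of_comm (mem_centralizer_singleton_iff.1 g₀.2)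
    obtain ⟨y, hy, hyt, htν, -⟩ := T_fix s j hS hTi hTp he hwC hle (t := ⟨t, hTC ht⟩) ht
    set tt : centralizer ({p} : Set G) := ⟨t, hTC ht⟩ with htt
    have hj₀ : h * o * h⁻¹ * f' * h ∈ J := mul_mem (mul_mem hOJ hf'J) hh
    set j₀ := h * o * h⁻¹ * f' * h with hj₀def
    have hg₀b : ∀ b ∈ BJ M J, g₀ • b = j₀ • b := by
      intro b hb
      have h1 : h • b ∈ BJ M J := smul_mem_BJ hh hb
      rw [hg₀, hj₀def, mul_smul, mul_smul, hff' _ h1, hgv]
      simp only [mul_smul]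
    have hg₀b' : ∀ b ∈ BJ M J, g₀⁻¹ • b = j₀⁻¹ • b := by
      intro b hb
      rw [inv_smul_eq_iff, hg₀b _ (smul_mem_BJ (inv_mem hj₀) hb), smul_inv_smul]
    have hg₀ν : g₀ • π w = π w := by
      rw [hg₀, mul_smul, mul_smul, Blk.fix_CC j.mem hh hwC, s.cen f hf _ hwC, hgv, Blk.fix_CC j.mem hOJ hwC]
    set t' := g₀ * tt * g₀⁻¹ with ht'
    have ht'b : ∀ b ∈ BJ M J, t' • b = (j₀ * y * j₀⁻¹) • b := by
      intro b hb
      have h1 : j₀⁻¹ • b ∈ BJ M J := smul_mem_BJ (inv_mem hj₀) hb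
      rw [ht', mul_smul, mul_smul, hg₀b' b hb, hyt _ h1, hg₀b _ (smul_mem_BJ hy h1)]
      simp only [mul_smul]
    have ht'ν : t' • π w = π w := by
      have h1 : g₀⁻¹ • π w = π w := by rw [inv_smul_eq_iff, hg₀ν]
      rw [ht', mul_smul, mul_smul, h1, htν, hg₀ν]
    have hy₁ : j₀ * y * j₀⁻¹ ∈ J := mul_mem (mul_mem hj₀ hy) (inv_mem hj₀)
    obtain ⟨y₂, hy₂, hy₂w⟩ := gen_comm s j hww hwC hy₁
    set k := y₂⁻¹ * t' with hk
    have hkb : ∀ b ∈ BJ M J, k • b = b := by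
      intro b hb
      rw [hk, mul_smul, ht'b b hb, hy₂, inv_smul_smul]
    have hkν : k • π w = π w := by
      rw [hk, mul_smul, ht'ν, inv_smul_eq_iff, ← hy₂, Blk.fix_CC j.mem hy₁ hwC]
    have hkx : k • π x = π x := by
      rw [hπx, hle, smul_add h, smul_add, hkb _ (smul_mem_BJ hh he), Blk.fix_CC j.mem hh hwC, hkν]
    have hkx' : k • π x' = π x' := by
      rw [hπx', smul_add, ← hπx, hkx, hkb c hcB]
    have ht'w : (t' : G) * w * (t' : G)⁻¹ = p * w := by
      have h1 := ht'ν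
      rw [← s.md.smul t' w hww] at h1
      refine ((s.md.eq_iff s.fr s.hp (conj_mem_ws_of_mem t'.2 hww) hww).1 h1).resolve_left fun e => ?_
      exact htw (NO3S.Dual.comm_of_conj_eq e)
    have hkw : (k : G) * w * (k : G)⁻¹ = p * w := by
      have h1 : (y₂ : G) * p = p * y₂ := mem_centralizer_singleton_iff.1 y₂.2
      change (y₂ : G)⁻¹ * t' * w * ((y₂ : G)⁻¹ * t')⁻¹ = p * w
      calc (y₂ : G)⁻¹ * t' * w * ((y₂ : G)⁻¹ * t')⁻¹ = (y₂ : G)⁻¹ * (t' * w * (t' : G)⁻¹) * y₂ := by group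
        _ = (y₂ : G)⁻¹ * (p * (w * y₂)) := by rw [ht'w]; group
        _ = (y₂ : G)⁻¹ * ((p * y₂) * w) := by rw [← hy₂w]; group
        _ = p * w := by rw [← h1]; group
    refine inf_le_of_kill s.fr s.md s.nn_le hxc hxc' hw ?_ ?_ ?_ k.2 ?_ ?_ hkw ?_ ?_ ?_
    · rw [hπx, s.blk.smul_CC_iff]
      exact hlamC
    · rw [hπx'', s.blk.smul_CC_iff]
      exact hlamC
    · rw [hπx, hπx', ← add_assoc, two, zero_add]
      exact hcC
    · rw [s.md.smul k x hxw, hkx]
    · rw [s.md.smul k x' hxw', hkx']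
    · rw [← hgx, hsx']
      exact s.col_h _
    · rw [← hgx, hsx']
      exact s.ne_h _
    · rintro u ⟨hu, hu'⟩
      have h1 := conj_mem_ws (g : G) hu'
      rw [hgx] at h1
      have h2 := mem_centralizer_iff.1 hg u hu
      rwa [← h2, mul_inv_cancel_right] at h1

end SecJ₀

namespace SecJ

variable {T V : Subgroup G} {z : G} {m : ℕ} {p q p₁ : G} [DistribMulAction (centralizer ({p} : Set G)) M]
  {π : G → M} {JJ : Set (Subgroup (centralizer ({p} : Set G)))} {J : Subgroup (centralizer ({p} : Set G))}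

/-- **(D) for special `x`**, (b4) and the type for all `h ∈ J` -/
theorem main [Finite G] (s : Sec T V z m p q p₁ π JJ) (j : SecJ V p q p₁ π JJ J)
    {h f : centralizer ({p} : Set G)} (hh : h ∈ J) (hf : (f : G) ∈ ws V q) (hc : cc h f (π p₁) ≠ 0)
    (hty : TyF V p q p₁ π JJ J ∨ TyS M J) :
    ws V (h * p₁ * (h : G)⁻¹) ⊓ ws V (f * (h * p₁ * (h : G)⁻¹) * (f : G)⁻¹) ≤ ws V p ∨
      (¬ TyF V p q p₁ π JJ J ∧ TyS M J ∧ π p₁ ∈ BJ M J ∧
        ∃ g : centralizer ({p} : Set G), cc h f (π p₁) = g • π p₁) := by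
  rcases SecJ₀.main s j.toSecJ₀ hh hf hc (j.b4 h hh) (hty.imp (fun hF => hF h hh) id) with h1 | ⟨h1, h2, h3⟩
  · exact Or.inl h1
  · exact Or.inr ⟨fun hF => h1 (hF h hh), h2, h3⟩

end SecJ

end Cfsg.Agent.Omega.NOThree.TF

end

section


/-!
# NO-3S TwoFar: THEOREM ONE (helper430, bb #17614)

A finite group `H` acts faithfully on a finite `F₂`-space `M`; `Λ` is an `H`-invariant set of nonzero vectors (the
line vectors), `U ν ∋ ν` (`ν ∈ Λ`) subspaces permuted by `H`, `B_ν = bb (U ν) = C_H(U_ν) ∩ C_H(M/U_ν)`.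
`Sys`: (F2') every functional of `U_ν` killing `ν` is induced by an element fixing `ν`; (NO) no over-offender in
`B_ν`; (BS) every `1 ≠ f ∈ B_ν` inverts some `h ≠ 1` of odd order.

`one`: a minimal exact `A ≤ B_λ` with `[M, A] ∩ Λ = ∅` has order 2.
-/

set_option autoImplicit false
set_option linter.unusedSectionVars false

namespace Cfsg.Agent.Omega.NOThree.LL.One

variable {H : Type*} {M : Type*} [Group H] [AddCommGroup M] [DistribMulAction H M]

variable (M) in
/-- `C_M(A)` -/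
def cv (A : Subgroup H) : AddSubgroup M where
  carrier := {m | ∀ a ∈ A, a • m = m}
  add_mem' ha hb a h := by rw [smul_add, ha a h, hb a h]
  zero_mem' a _ := smul_zero a
  neg_mem' ha a h := by rw [smul_neg, ha a h]

theorem mem_cv {A : Subgroup H} {m : M} : m ∈ cv M A ↔ ∀ a ∈ A, a • m = m := Iff.rfl

theorem cv_anti {A B : Subgroup H} (h : A ≤ B) : cv M B ≤ cv M A := fun _ hm a ha => hm a (h ha)

variable (M) in
/-- `[M, A]` -/
def cm (A : Subgroup H) : AddSubgroup M := AddSubgroup.closure {v | ∃ a ∈ A, ∃ m : M, a • m - m = v}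

theorem sub_mem_cm {A : Subgroup H} {a : H} (ha : a ∈ A) (m : M) : a • m - m ∈ cm M A :=
  AddSubgroup.subset_closure ⟨a, ha, m, rfl⟩

theorem cm_le {A : Subgroup H} {X : AddSubgroup M} (h : ∀ a ∈ A, ∀ m : M, a • m - m ∈ X) : cm M A ≤ X := by
  unfold cm
  rw [AddSubgroup.closure_le]
  rintro v ⟨a, ha, m, rfl⟩
  exact h a ha m

theorem cm_mono {A B : Subgroup H} (h : A ≤ B) : cm M A ≤ cm M B := cm_le fun _ ha m => sub_mem_cm (h ha) m

/-- `C_H(U) ∩ C_H(M/U)` -/
def bb (U : AddSubgroup M) : Subgroup H where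
  carrier := {h | (∀ u ∈ U, h • u = u) ∧ ∀ m : M, h • m - m ∈ U}
  mul_mem' {a b} ha hb := by
    refine ⟨fun u hu => by rw [mul_smul, hb.1 u hu, ha.1 u hu], fun m => ?_⟩
    have h1 : (a * b) • m - m = a • (b • m - m) + (a • m - m) := by rw [mul_smul, smul_sub]; abel
    rw [h1, ha.1 _ (hb.2 m)]
    exact U.add_mem (hb.2 m) (ha.2 m)
  one_mem' := ⟨fun u _ => one_smul _ u, fun m => by rw [one_smul, sub_self]; exact U.zero_mem⟩
  inv_mem' {a} ha := by
    have h0 : ∀ u ∈ U, a⁻¹ • u = u := fun u hu => by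
      conv_lhs => rw [← ha.1 u hu]
      rw [inv_smul_smul]
    refine ⟨h0, fun m => ?_⟩
    have h1 : a⁻¹ • m - m = -(a⁻¹ • (a • m - m)) := by rw [smul_sub, inv_smul_smul]; abel
    rw [h1, h0 _ (ha.2 m)]
    exact U.neg_mem (ha.2 m)

theorem bb_fix {U : AddSubgroup M} {h : H} (hh : h ∈ (bb U : Subgroup H)) {u : M} (hu : u ∈ U) : h • u = u := hh.1 u hu

theorem bb_sub {U : AddSubgroup M} {h : H} (hh : h ∈ (bb U : Subgroup H)) (m : M) : h • m - m ∈ U := hh.2 m

/-- additivity of `a ↦ a m - m` on `bb U` -/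
theorem sub_mul {U : AddSubgroup M} {a b : H} (ha : a ∈ (bb U : Subgroup H)) (hb : b ∈ (bb U : Subgroup H)) (m : M) :
    (a * b) • m - m = (a • m - m) + (b • m - m) := by
  have h1 : (a * b) • m - m = a • (b • m - m) + (a • m - m) := by rw [mul_smul, smul_sub]; abel
  rw [h1, ha.1 _ (hb.2 m), add_comm]

theorem le_cv_of_le_bb {U : AddSubgroup M} {A : Subgroup H} (h : A ≤ bb U) : U ≤ cv M A := fun _ hu _ ha =>
  bb_fix (h ha) hu

theorem cm_le_of_le_bb {U : AddSubgroup M} {A : Subgroup H} (h : A ≤ bb U) : cm M A ≤ U := cm_le fun _ ha m =>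
  bb_sub (h ha) m

/-- `[m, A]` for `A ≤ bb U` -/
def cs (U : AddSubgroup M) (m : M) (A : Subgroup H) (h : A ≤ bb U) : AddSubgroup M where
  carrier := {v | ∃ a ∈ A, a • m - m = v}
  add_mem' := by
    rintro _ _ ⟨a, ha, rfl⟩ ⟨b, hb, rfl⟩
    exact ⟨a * b, A.mul_mem ha hb, sub_mul (h ha) (h hb) m⟩
  zero_mem' := ⟨1, A.one_mem, by rw [one_smul, sub_self]⟩
  neg_mem' := by
    rintro _ ⟨a, ha, rfl⟩
    refine ⟨a⁻¹, A.inv_mem ha, ?_⟩
    have h1 := sub_mul (h (A.inv_mem ha)) (h ha) m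
    rw [inv_mul_cancel, one_smul, sub_self] at h1
    exact eq_neg_of_add_eq_zero_left h1.symm

theorem cs_le_cm {U : AddSubgroup M} {m : M} {A : Subgroup H} {h : A ≤ bb U} : cs U m A h ≤ cm M A := by
  rintro _ ⟨a, ha, rfl⟩
  exact sub_mem_cm ha m

theorem cs_le {U : AddSubgroup M} {m : M} {A : Subgroup H} {h : A ≤ bb U} : cs U m A h ≤ U := by
  rintro _ ⟨a, ha, rfl⟩
  exact bb_sub (h ha) m

/-- `C_A(m)` -/
def ca (m : M) (A : Subgroup H) : Subgroup H := A ⊓ MulAction.stabilizer H m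

theorem card_cs {U : AddSubgroup M} {m : M} {A : Subgroup H} (h : A ≤ bb U) :
    Nat.card A = Nat.card (ca m A) * Nat.card (cs U m A h) := by
  let f : A →* Multiplicative M :=
    { toFun := fun a => Multiplicative.ofAdd ((a : H) • m - m)
      map_one' := by simp
      map_mul' := fun a b => by
        rw [← ofAdd_add, ← sub_mul (h a.2) (h b.2) m]
        rfl }
  have h1 : Nat.card A = Nat.card f.ker * Nat.card f.range := by
    rw [← Subgroup.index_ker, Subgroup.card_mul_index]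
  have h2 : Nat.card f.ker = Nat.card (ca m A) := by
    refine Nat.card_congr
      { toFun := fun x => ⟨(x : A), ⟨(x : A).2, ?_⟩⟩
        invFun := fun x => ⟨⟨x, x.2.1⟩, ?_⟩
        left_inv := fun x => rfl
        right_inv := fun x => rfl }
    · have := x.2
      rw [MonoidHom.mem_ker] at this
      have h3 : (((x : A) : H) • m - m : M) = 0 := this
      exact sub_eq_zero.1 h3
    · rw [MonoidHom.mem_ker]
      have h3 : (x : H) • m - m = 0 := sub_eq_zero.2 x.2.2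
      exact h3
  have h3 : Nat.card f.range = Nat.card (cs U m A h) := by
    refine Nat.card_congr
      { toFun := fun x => ⟨Multiplicative.toAdd (x : Multiplicative M), ?_⟩
        invFun := fun x => ⟨Multiplicative.ofAdd (x : M), ?_⟩
        left_inv := fun x => rfl
        right_inv := fun x => rfl }
    · obtain ⟨a, ha⟩ := x.2
      exact ⟨a, a.2, by rw [← ha]; rfl⟩
    · obtain ⟨a, ha, h4⟩ := x.2
      exact ⟨⟨a, ha⟩, by rw [← h4]; rfl⟩
  rw [h1, h2, h3]

theorem card_mul_relIndex {X Y : AddSubgroup M} (h : X ≤ Y) : Nat.card X * X.relIndex Y = Nat.card Y := by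
  have h1 := AddSubgroup.relIndex_mul_relIndex ⊥ X Y bot_le h
  rwa [AddSubgroup.relIndex_bot_left, AddSubgroup.relIndex_bot_left] at h1

theorem card_sup_inf (X Y : AddSubgroup M) :
    Nat.card (X ⊔ Y : AddSubgroup M) * Nat.card (X ⊓ Y : AddSubgroup M) = Nat.card X * Nat.card Y := by
  have h1 : Nat.card Y * Y.relIndex X = Nat.card (X ⊔ Y : AddSubgroup M) := by
    rw [← AddSubgroup.relIndex_sup_right]
    exact card_mul_relIndex le_sup_right
  have h2 : Nat.card (X ⊓ Y : AddSubgroup M) * Y.relIndex X = Nat.card X := by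
    rw [← AddSubgroup.inf_relIndex_left]
    exact card_mul_relIndex inf_le_left
  rw [← h1, ← h2]
  ring

theorem card_sup_of_disj {X Y : AddSubgroup M} (h : X ⊓ Y = ⊥) :
    Nat.card (X ⊔ Y : AddSubgroup M) = Nat.card X * Nat.card Y := by
  have h1 := card_sup_inf X Y
  rwa [h, AddSubgroup.card_bot, mul_one] at h1

theorem card_le [Finite M] {X Y : AddSubgroup M} (h : X ≤ Y) : Nat.card X ≤ Nat.card Y :=
  Nat.card_le_card_of_injective (AddSubgroup.inclusion h) (AddSubgroup.inclusion_injective h)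

theorem eq_of_card_le [Finite M] {X Y : AddSubgroup M} (h : X ≤ Y) (h2 : Nat.card Y ≤ Nat.card X) : X = Y :=
  AddSubgroup.eq_of_le_of_card_ge h h2

/-! ### Functionals -/

/-- the linear functionals separate points from subgroups -/
theorem exists_fun [Finite M] (two : ∀ m : M, m + m = 0) {X : AddSubgroup M} {r : M} (hr : r ∉ X) :
    ∃ φ : M →+ ZMod 2, (∀ x ∈ X, φ x = 0) ∧ φ r = 1 := by
  let _ : Module (ZMod 2) M := AddCommGroup.zmodModule (n := 2) (fun m => by rw [two_nsmul]; exact two m)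
  have hr' : r ∉ AddSubgroup.toZModSubmodule 2 X := hr
  obtain ⟨f, h1, h2⟩ := Submodule.exists_le_ker_of_notMem hr'
  refine ⟨f.toAddMonoidHom, fun x hx => h2 (show x ∈ AddSubgroup.toZModSubmodule 2 X from hx), ?_⟩
  change f r = 1
  generalize f r = z at h1
  revert z
  decide

/-! ### The system -/

variable (H) in
/-- The setting of THEOREM ONE. -/
structure Sys [Finite H] [Finite M] (Lam : Set M) (U : M → AddSubgroup M) : Prop where
  two : ∀ m : M, m + m = 0
  faith : ∀ h : H, (∀ m : M, h • m = m) → h = 1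
  ne : (0 : M) ∉ Lam
  smul : ∀ (h : H) {ν : M}, ν ∈ Lam → h • ν ∈ Lam
  mem : ∀ {ν : M}, ν ∈ Lam → ν ∈ U ν
  conj : ∀ (h : H) {ν u : M}, ν ∈ Lam → u ∈ U ν → h • u ∈ U (h • ν)
  /-- (F2') -/
  f2 : ∀ {ν : M}, ν ∈ Lam → ∀ φ : M →+ ZMod 2, φ ν = 0 →
    ∃ k : H, k • ν = ν ∧ ∀ u ∈ U ν, (φ u = 0 → k • u = u) ∧ (φ u ≠ 0 → k • u = u + ν)
  /-- (NO) -/
  no : ∀ {ν : M}, ν ∈ Lam → ∀ A : Subgroup H, A ≤ bb (U ν) → Nat.card A * Nat.card (cv M A) ≤ Nat.card M
  /-- Baer-Suzuki -/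
  bs : ∀ {ν : M}, ν ∈ Lam → ∀ f : H, f ∈ (bb (U ν) : Subgroup H) → f ≠ 1 →
    ∃ h : H, h ≠ 1 ∧ Odd (orderOf h) ∧ f * h * f⁻¹ = h⁻¹

theorem pow_of_sq {h : H} (ho : Odd (orderOf h)) : ∃ k : ℕ, (h * h) ^ k = h := by
  obtain ⟨k, hk⟩ := ho
  refine ⟨k + 1, ?_⟩
  rw [← pow_two, ← pow_mul, show 2 * (k + 1) = (2 * k + 1) + 1 by ring, pow_succ, ← hk, pow_orderOf_eq_one, one_mul]

theorem mem_of_sq {h : H} (ho : Odd (orderOf h)) {T : Subgroup H} (hT : h * h ∈ T) : h ∈ T := by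
  obtain ⟨k, hk⟩ := pow_of_sq ho
  rw [← hk]
  exact T.pow_mem hT k

theorem fix_of_sq {h : H} (ho : Odd (orderOf h)) {m : M} (hm : (h * h) • m = m) : h • m = m :=
  mem_of_sq (T := MulAction.stabilizer H m) ho hm

theorem inv_smul_fix {h : H} {m : M} (hm : h • m = m) : h⁻¹ • m = m := by
  rw [inv_smul_eq_iff, hm]

namespace Sys

variable [Finite H] [Finite M] {Lam : Set M} {U : M → AddSubgroup M} {lam mu : M} {A : Subgroup H} {f h : H}

include H in
theorem conj_iff (s : Sys H Lam U) (h : H) {ν u : M} (hν : ν ∈ Lam) : h • u ∈ U (h • ν) ↔ u ∈ U ν := by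
  refine ⟨fun hu => ?_, fun hu => s.conj h hν hu⟩
  have h1 := s.conj h⁻¹ (s.smul h hν) hu
  rwa [inv_smul_smul, inv_smul_smul] at h1

include H in
theorem mem_smul (s : Sys H Lam U) (h : H) {ν u : M} (hν : ν ∈ Lam) (hu : u ∈ U (h • ν)) : h⁻¹ • u ∈ U ν := by
  have h1 := s.conj h⁻¹ (s.smul h hν) hu
  rwa [inv_smul_smul] at h1

theorem sq (s : Sys H Lam U) {X : AddSubgroup M} {b : H} (hb : b ∈ (bb X : Subgroup H)) : b * b = 1 := by
  refine s.faith _ fun m => ?_
  have h1 := sub_mul hb hb m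
  rw [s.two] at h1
  exact sub_eq_zero.1 h1

theorem inv_eq (s : Sys H Lam U) {X : AddSubgroup M} {b : H} (hb : b ∈ (bb X : Subgroup H)) : b⁻¹ = b :=
  inv_eq_of_mul_eq_one_left (s.sq hb)

theorem comm (s : Sys H Lam U) {X : AddSubgroup M} {a b : H} (ha : a ∈ (bb X : Subgroup H))
    (hb : b ∈ (bb X : Subgroup H)) : a * b = b * a := by
  have h1 := s.sq ((bb X).mul_mem ha hb)
  have h2 : a * b = (a * b)⁻¹ := (inv_eq_of_mul_eq_one_left h1).symm
  rw [mul_inv_rev, s.inv_eq ha, s.inv_eq hb] at h2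
  exact h2

theorem sub_eq (s : Sys H Lam U) (a b : M) : a - b = a + b := by
  rw [sub_eq_iff_eq_add, add_assoc, s.two, add_zero]

theorem neg_eq (s : Sys H Lam U) (a : M) : -a = a := neg_eq_of_add_eq_zero_left (s.two a)

theorem bb_conj (s : Sys H Lam U) (g : H) {ν : M} (hν : ν ∈ Lam) {b : H} (hb : b ∈ (bb (U ν) : Subgroup H)) :
    g * b * g⁻¹ ∈ (bb (U (g • ν)) : Subgroup H) := by
  refine ⟨fun u hu => ?_, fun m => ?_⟩
  · rw [mul_smul, mul_smul, bb_fix hb (s.mem_smul g hν hu), smul_inv_smul]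
  · have h1 := s.conj g hν (bb_sub hb (g⁻¹ • m))
    rwa [smul_sub, smul_inv_smul, ← mul_smul, ← mul_smul] at h1

/-- (COLL) -/
theorem coll (s : Sys H Lam U) {ν : M} (hμ : mu ∈ Lam) (hν : ν ∈ Lam) (h1 : ν ∈ U mu) (h2 : ν ≠ mu) :
    ν + mu ∈ Lam := by
  have h3 : ν ∉ AddSubgroup.zmultiples mu := by
    intro h4
    rw [AddSubgroup.mem_zmultiples_iff] at h4
    obtain ⟨k, hk⟩ := h4
    rcases Int.even_or_odd' k with ⟨c, hc | hc⟩
    · rw [hc, mul_comm, mul_smul, two_smul, s.two, smul_zero] at hk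
      exact s.ne (hk ▸ hν)
    · rw [hc, add_smul, mul_comm, mul_smul, two_smul, s.two, smul_zero, zero_add, one_smul] at hk
      exact h2 hk.symm
  obtain ⟨φ, h4, h5⟩ := exists_fun s.two h3
  obtain ⟨k, -, h6⟩ := s.f2 hμ φ (h4 _ (AddSubgroup.mem_zmultiples mu))
  rw [← (h6 ν h1).2 (by rw [h5]; decide)]
  exact s.smul k hν

end Sys

/-- `f ∈ B_λ#` inverts `h ≠ 1` of odd order. -/
structure Mv [Finite H] [Finite M] (Lam : Set M) (U : M → AddSubgroup M) (lam : M) (f h : H) : Prop where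
  hl : lam ∈ Lam
  hf : f ∈ (bb (U lam) : Subgroup H)
  hf1 : f ≠ 1
  hh : h ≠ 1
  odd : Odd (orderOf h)
  inv : f * h * f⁻¹ = h⁻¹

namespace Mv

variable [Finite H] [Finite M] {Lam : Set M} {U : M → AddSubgroup M} {lam : M} {A : Subgroup H} {f h : H}

theorem fh (v : Mv Lam U lam f h) : f * h = h⁻¹ * f := by rw [← v.inv, inv_mul_cancel_right]

theorem fh' (v : Mv Lam U lam f h) : f * h⁻¹ = h * f := by
  have h1 := congrArg (·⁻¹) v.inv
  simp only [mul_inv_rev, inv_inv] at h1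
  calc f * h⁻¹ = f * (h⁻¹ * f⁻¹) * f := by group
    _ = h * f := by rw [h1]

/-- `h f h⁻¹ = h² f` -/
theorem g_eq (v : Mv Lam U lam f h) : h * f * h⁻¹ = h * h * f := by
  rw [mul_assoc, v.fh', mul_assoc]

theorem mu (s : Sys H Lam U) (v : Mv Lam U lam f h) : h • lam ∈ Lam := s.smul h v.hl

theorem g_mem (s : Sys H Lam U) (v : Mv Lam U lam f h) : h * h * f ∈ (bb (U (h • lam)) : Subgroup H) := by
  rw [← v.g_eq]
  exact s.bb_conj h v.hl v.hf

theorem hmov (s : Sys H Lam U) (v : Mv Lam U lam f h) : h • lam ≠ lam := by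
  intro h1
  have h2 := v.g_mem s
  rw [h1] at h2
  have h3 : h * h ∈ (bb (U lam) : Subgroup H) := by
    have := (bb (U lam)).mul_mem h2 ((bb (U lam)).inv_mem v.hf)
    rwa [mul_inv_cancel_right] at this
  have h4 : h * h = 1 := s.sq (mem_of_sq v.odd h3)
  exact v.hh (Subgroup.mem_bot.1 (mem_of_sq v.odd (T := ⊥) (Subgroup.mem_bot.2 h4)))

theorem fmov (s : Sys H Lam U) (v : Mv Lam U lam f h) : f • h • lam ≠ h • lam := by
  intro h1
  rw [← mul_smul, v.fh, mul_smul, bb_fix v.hf (s.mem v.hl), inv_smul_eq_iff, ← mul_smul] at h1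
  exact v.hmov s (fix_of_sq v.odd h1.symm)

theorem fix (s : Sys H Lam U) (v : Mv Lam U lam f h) {u : M} (hu : u ∈ U (h • lam)) (hf : f • u = u) :
    h • u = u ∧ u ∈ U lam := by
  have h1 := bb_fix (v.g_mem s) hu
  rw [mul_smul, hf] at h1
  have h2 := fix_of_sq v.odd h1
  refine ⟨h2, ?_⟩
  have h3 := s.mem_smul h v.hl hu
  rwa [inv_smul_fix h2] at h3

theorem hD (s : Sys H Lam U) (v : Mv Lam U lam f h) {u : M} (hu : u ∈ U lam ⊓ U (h • lam)) : h • u = u :=
  (v.fix s hu.2 (bb_fix v.hf hu.1)).1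

theorem lam_notMem (s : Sys H Lam U) (v : Mv Lam U lam f h) : lam ∉ U lam ⊓ U (h • lam) := fun h1 =>
  v.hmov s (v.hD s h1)

theorem f'_lam (s : Sys H Lam U) (v : Mv Lam U lam f h) : (h * f) • lam = h • lam := by
  rw [mul_smul, bb_fix v.hf (s.mem v.hl)]

theorem f'_mu (s : Sys H Lam U) (v : Mv Lam U lam f h) : (h * f) • h • lam = lam := by
  rw [← mul_smul, mul_assoc, v.fh, mul_smul, mul_smul, smul_inv_smul, bb_fix v.hf (s.mem v.hl)]

theorem f'_D (s : Sys H Lam U) (v : Mv Lam U lam f h) {u : M} (hu : u ∈ U lam ⊓ U (h • lam)) : (h * f) • u = u := by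
  rw [mul_smul, bb_fix v.hf hu.1, v.hD s hu]

/-- `f'` is trivial on `M / (U_λ + U_μ)` -/
theorem f'_sub (s : Sys H Lam U) (v : Mv Lam U lam f h) {W : AddSubgroup M} (h1 : U lam ≤ W) (h2 : U (h • lam) ≤ W)
    (m : M) : (h * f) • m - m ∈ W := by
  let T : Submonoid H :=
    { carrier := {t | ∀ m : M, t • m - m ∈ W}
      mul_mem' := by
        intro a b ha hb m
        have h3 : (a * b) • m - m = (a • (b • m - m) - (b • m - m)) + (b • m - m) + (a • m - m) := by
          rw [mul_smul, smul_sub]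
          abel
        rw [h3]
        exact W.add_mem (W.add_mem (ha _) (hb _)) (ha _)
      one_mem' := fun m => by rw [one_smul, sub_self]; exact W.zero_mem }
  have h3 : f ∈ T := fun m => h1 (bb_sub v.hf m)
  have h4 : h * h * f ∈ T := fun m => h2 (bb_sub (v.g_mem s) m)
  have h5 : h * h ∈ T := by
    have := T.mul_mem h4 h3
    rwa [mul_assoc, s.sq v.hf, mul_one] at this
  have h6 : h ∈ T := by
    obtain ⟨k, hk⟩ := pow_of_sq v.odd
    rw [← hk]
    exact T.pow_mem h5 k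
  exact T.mul_mem h6 h3 m

/-- (2)(i) -/
theorem two_i (s : Sys H Lam U) (v : Mv Lam U lam f h) {T : AddSubgroup M}
    (hT : ∀ r ∈ T, r ∈ U lam ⊓ U (h • lam) → r ∉ Lam) {e : H} (he : ∀ m : M, e • m - m ∈ T)
    (h1 : e • h • lam - h • lam ∈ U lam ⊓ U (h • lam)) : e • h • lam = h • lam := by
  by_contra h2
  have h3 : e • h • lam ∈ U (h • lam) := by
    have := (U (h • lam)).add_mem h1.2 (s.mem (v.mu s))
    rwa [sub_add_cancel] at this
  have h4 := s.coll (v.mu s) (s.smul e (v.mu s)) h3 h2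
  rw [← s.sub_eq] at h4
  exact hT _ (he _) h1 h4

/-- (2)(ii) -/
theorem two_ii (s : Sys H Lam U) (v : Mv Lam U lam f h) {T : AddSubgroup M}
    (hT : ∀ r ∈ T, r ∈ U lam ⊓ U (h • lam) → r ∉ Lam) {b : H} (hb : b ∈ (bb (U lam) : Subgroup H))
    (hb' : ∀ m : M, b • m - m ∈ T) (hm : b • h • lam = h • lam) {g : H} (hg : g ∈ (bb (U (h • lam)) : Subgroup H)) :
    b • (g • lam - lam) = g • lam - lam := by
  have h0 := v.mu s
  have hl : b • lam = lam := bb_fix hb (s.mem v.hl)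
  have h1 : g • lam - lam ∈ U (h • lam) := bb_sub hg lam
  have h2 : b • (g • lam - lam) ∈ U (h • lam) := by
    have := s.conj b h0 h1
    rwa [hm] at this
  have h3 : b • (g • lam - lam) - (g • lam - lam) ∈ U lam ⊓ U (h • lam) :=
    ⟨bb_sub hb _, (U (h • lam)).sub_mem h2 h1⟩
  have h4 : b • g • lam = g • lam + (b • (g • lam - lam) - (g • lam - lam)) := by
    rw [smul_sub, hl]
    abel
  by_contra h5
  have h6 : b • (g • lam - lam) - (g • lam - lam) ∈ U (g • lam) := by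
    have := s.conj g v.hl h3.1
    rwa [bb_fix hg h3.2] at this
  have h7 : b • g • lam ∈ U (g • lam) := by
    rw [h4]
    exact (U (g • lam)).add_mem (s.mem (s.smul g v.hl)) h6
  have h8 : b • g • lam ≠ g • lam := by
    intro h9
    rw [h9] at h4
    exact h5 (sub_eq_zero.1 (left_eq_add.1 h4))
  have h9 := s.coll (s.smul g v.hl) (s.smul b (s.smul g v.hl)) h7 h8
  have h10 : b • g • lam + g • lam = b • (g • lam - lam) - (g • lam - lam) := by
    rw [h4, add_comm, ← add_assoc, s.two, zero_add]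
  rw [h10] at h9
  exact hT _ (hb' _) h3 h9

end Mv

/-- minimal exact subgroups of `B_λ` -/
structure ME [Finite H] [Finite M] (U : M → AddSubgroup M) (lam : M) (A : Subgroup H) : Prop where
  le : A ≤ bb (U lam)
  ne : A ≠ ⊥
  ex : Nat.card A * Nat.card (cv M A) = Nat.card M
  min : ∀ B : Subgroup H, B ≤ A → B ≠ ⊥ → B ≠ A → Nat.card B * Nat.card (cv M B) < Nat.card M

/-- The setting: `A` minimal exact, no line vector in `[M, A]`, `f ∈ A#`. -/
structure Fx [Finite H] [Finite M] (Lam : Set M) (U : M → AddSubgroup M) (lam : M) (A : Subgroup H) (f h : H) :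
    Prop where
  s : Sys H Lam U
  me : ME U lam A
  v : Mv Lam U lam f h
  fA : f ∈ A
  free : ∀ r ∈ cm M A, r ∉ Lam

namespace Fx

variable [Finite H] [Finite M] {Lam : Set M} {U : M → AddSubgroup M} {lam : M} {A : Subgroup H} {f h : H}

theorem cvD (x : Fx Lam U lam A f h) : U (h • lam) ⊓ cv M A = U lam ⊓ U (h • lam) := by
  refine le_antisymm ?_ ?_
  · rintro u ⟨h1, h2⟩
    exact ⟨(x.v.fix x.s h1 (h2 f x.fA)).2, h1⟩
  · rintro u ⟨h1, h2⟩
    exact ⟨h2, le_cv_of_le_bb x.me.le h1⟩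

theorem card_U (x : Fx Lam U lam A f h) : Nat.card (U (h • lam)) = Nat.card (U lam) := by
  refine Nat.card_congr
    { toFun := fun u => ⟨h⁻¹ • (u : M), x.s.mem_smul h x.v.hl u.2⟩
      invFun := fun u => ⟨h • (u : M), x.s.conj h x.v.hl u.2⟩
      left_inv := fun u => Subtype.ext (smul_inv_smul h (u : M))
      right_inv := fun u => Subtype.ext (inv_smul_smul h (u : M)) }

/-- (2)(i): `[μ, A] ∩ D = 0` -/
theorem disj (x : Fx Lam U lam A f h) : cs (U lam) (h • lam) A x.me.le ⊓ (U lam ⊓ U (h • lam)) = ⊥ := by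
  rw [eq_bot_iff]
  rintro u ⟨⟨a, ha, rfl⟩, h2⟩
  rw [AddSubgroup.mem_bot, sub_eq_zero]
  exact x.v.two_i x.s (T := cm M A) (fun r hr _ => x.free r hr) (fun m => sub_mem_cm ha m) h2

theorem f_notMem (x : Fx Lam U lam A f h) : f ∉ ca (h • lam) A := fun h1 => x.v.fmov x.s h1.2

theorem card_eq_of_smul (g : H) {X Y : AddSubgroup M} (h1 : ∀ u ∈ X, g • u ∈ Y) (h2 : ∀ u ∈ Y, g⁻¹ • u ∈ X) :
    Nat.card X = Nat.card Y :=
  Nat.card_congr
    { toFun := fun u => ⟨g • (u : M), h1 u u.2⟩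
      invFun := fun u => ⟨g⁻¹ • (u : M), h2 u u.2⟩
      left_inv := fun u => Subtype.ext (inv_smul_smul g (u : M))
      right_inv := fun u => Subtype.ext (smul_inv_smul g (u : M)) }

theorem smul_sub_conj (g a : H) (m : M) : g • (a • m - m) = (g * a * g⁻¹) • g • m - g • m := by
  rw [smul_sub, ← mul_smul, ← mul_smul, inv_mul_cancel_right, mul_smul]

theorem f'_sq (s : Sys H Lam U) (v : Mv Lam U lam f h) : (h * f)⁻¹ = h * f := by
  rw [mul_inv_rev, s.inv_eq v.hf, v.fh']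

theorem card_Z (s : Sys H Lam U) (v : Mv Lam U lam f h) :
    Nat.card (cs (U lam) (h • lam) (bb (U lam) : Subgroup H) le_rfl ⊔ (U lam ⊓ U (h • lam)) : AddSubgroup M) =
      Nat.card (cs (U (h • lam)) lam (bb (U (h • lam)) : Subgroup H) le_rfl ⊔ (U lam ⊓ U (h • lam)) :
        AddSubgroup M) := by
  refine card_eq_of_smul (h * f) (fun u hu => ?_) (fun u hu => ?_)
  · rw [AddSubgroup.mem_sup] at hu ⊢
    obtain ⟨_, ⟨b, hb, rfl⟩, d, hd, rfl⟩ := hu
    refine ⟨_, ⟨(h * f) * b * (h * f)⁻¹, ?_, rfl⟩, d, hd, ?_⟩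
    · have := s.bb_conj (h * f) v.hl hb
      rwa [v.f'_lam s] at this
    · rw [smul_add, smul_sub_conj, v.f'_mu s, v.f'_D s hd]
  · rw [f'_sq s v]
    rw [AddSubgroup.mem_sup] at hu ⊢
    obtain ⟨_, ⟨b, hb, rfl⟩, d, hd, rfl⟩ := hu
    refine ⟨_, ⟨(h * f) * b * (h * f)⁻¹, ?_, rfl⟩, d, hd, ?_⟩
    · have := s.bb_conj (h * f) (v.mu s) hb
      rwa [v.f'_mu s] at this
    · rw [smul_add, smul_sub_conj, v.f'_lam s, v.f'_D s hd]

/-- (2): REG -/
theorem ca_eq_bot (x : Fx Lam U lam A f h) : ca (h • lam) A = ⊥ := by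
  by_contra hP
  have s := x.s
  have hP' : ca (h • lam) A ≠ A := fun h1 => x.f_notMem (by rw [h1]; exact x.fA)
  have h1 := x.me.min (ca (h • lam) A) inf_le_left hP hP'
  have h2 := card_cs (m := h • lam) x.me.le
  have h3 := card_Z s x.v
  have h4 : Nat.card (cs (U lam) (h • lam) A x.me.le) * Nat.card (U lam ⊓ U (h • lam) : AddSubgroup M) ≤
      Nat.card (cs (U (h • lam)) lam (bb (U (h • lam)) : Subgroup H) le_rfl ⊔ (U lam ⊓ U (h • lam)) :
        AddSubgroup M) := by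
    rw [← h3, ← card_sup_of_disj x.disj]
    exact card_le (sup_le_sup_right (fun u hu => by
      obtain ⟨a, ha, h5⟩ := hu
      exact ⟨a, x.me.le ha, h5⟩) _)
  have h5 : cs (U (h • lam)) lam (bb (U (h • lam)) : Subgroup H) le_rfl ⊔ (U lam ⊓ U (h • lam)) ≤
      cv M (ca (h • lam) A) := by
    refine sup_le ?_ fun u hu a ha => bb_fix (x.me.le ha.1) hu.1
    rintro _ ⟨g, hg, rfl⟩ b hb
    exact x.v.two_ii s (T := cm M A) (fun r hr _ => x.free r hr) (x.me.le hb.1) (fun m => sub_mem_cm hb.1 m) hb.2 hg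
  have h6 : (cs (U (h • lam)) lam (bb (U (h • lam)) : Subgroup H) le_rfl ⊔ (U lam ⊓ U (h • lam))) ⊓ cv M A =
      U lam ⊓ U (h • lam) := by
    refine le_antisymm ?_ (le_inf le_sup_right (le_trans inf_le_left (le_cv_of_le_bb x.me.le)))
    conv_rhs => rw [← x.cvD]
    exact inf_le_inf_right _ (sup_le cs_le inf_le_right)
  have h7 := card_sup_inf (cs (U (h • lam)) lam (bb (U (h • lam)) : Subgroup H) le_rfl ⊔ (U lam ⊓ U (h • lam)))
    (cv M A)
  rw [h6] at h7
  have h8 := card_le (sup_le h5 (cv_anti (M := M) (inf_le_left : ca (h • lam) A ≤ A)))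
  have h9 := x.me.ex
  have hd : 0 < Nat.card (U lam ⊓ U (h • lam) : AddSubgroup M) := Nat.card_pos
  rw [h2] at h9
  rw [← h9] at h1
  clear h2 h3 h5 h6 h9 hP hP'
  generalize Nat.card (U lam ⊓ U (h • lam) : AddSubgroup M) = d at *
  generalize Nat.card (ca (h • lam) A) = p at *
  generalize Nat.card (cv M (ca (h • lam) A)) = t at *
  generalize Nat.card (cs (U lam) (h • lam) A x.me.le) = a at *
  generalize Nat.card ((cs (U (h • lam)) lam (bb (U (h • lam)) : Subgroup H) le_rfl ⊔ (U lam ⊓ U (h • lam))) ⊔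
    cv M A : AddSubgroup M) = w at *
  generalize Nat.card (cs (U (h • lam)) lam (bb (U (h • lam)) : Subgroup H) le_rfl ⊔ (U lam ⊓ U (h • lam)) :
    AddSubgroup M) = z at *
  generalize Nat.card (cv M A) = c at *
  -- p * t < p * a * c, a * d ≤ z, w * d = z * c, w ≤ t
  have k1 : p * (a * d) * c ≤ p * z * c := Nat.mul_le_mul_right _ (Nat.mul_le_mul_left _ h4)
  have k2 : p * z * c ≤ p * (t * d) := by
    rw [mul_assoc, ← h7]
    exact Nat.mul_le_mul_left _ (Nat.mul_le_mul_right _ h8)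
  have k3 : p * t * d < p * a * c * d := Nat.mul_lt_mul_of_pos_right h1 hd
  have k4 : p * (a * d) * c = p * a * c * d := by ring
  have k5 : p * (t * d) = p * t * d := by ring
  omega

/-- the three cardinalities of (2) -/
theorem card_A (x : Fx Lam U lam A f h) :
    Nat.card A * Nat.card (U lam ⊓ U (h • lam) : AddSubgroup M) = Nat.card (U lam) ∧
      cs (U lam) (h • lam) A x.me.le ⊔ (U lam ⊓ U (h • lam)) = U lam ∧ U (h • lam) ⊔ cv M A = ⊤ ∧
      Nat.card (cs (U lam) (h • lam) A x.me.le) = Nat.card A := by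
  have h1 := card_cs (m := h • lam) x.me.le
  rw [x.ca_eq_bot, Subgroup.card_bot, one_mul] at h1
  have h2 := card_sup_of_disj x.disj
  have h3 := card_sup_inf (U (h • lam)) (cv M A)
  rw [x.cvD, x.card_U] at h3
  have h4 : cs (U lam) (h • lam) A x.me.le ⊔ (U lam ⊓ U (h • lam)) ≤ U lam := sup_le cs_le inf_le_left
  have h5 := card_le h4
  have h6 : Nat.card (U (h • lam) ⊔ cv M A : AddSubgroup M) ≤ Nat.card M :=
    Nat.card_le_card_of_injective _ Subtype.val_injective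
  have h7 := x.me.ex
  have hd : 0 < Nat.card (U lam ⊓ U (h • lam) : AddSubgroup M) := Nat.card_pos
  have hc : 0 < Nat.card (cv M A) := Nat.card_pos
  rw [h2, ← h1] at h5
  rw [← h1] at h2
  have h8 : Nat.card (U lam) * Nat.card (cv M A) ≤
      Nat.card A * Nat.card (U lam ⊓ U (h • lam) : AddSubgroup M) * Nat.card (cv M A) := by
    rw [← h3, mul_right_comm, h7]
    exact Nat.mul_le_mul_right _ h6
  have h9 := le_antisymm h5 (Nat.le_of_mul_le_mul_right h8 hc)
  refine ⟨h9, eq_of_card_le h4 (by rw [h2, h9]), ?_, h1.symm⟩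
  refine AddSubgroup.eq_top_of_le_card _ ?_
  have h10 : Nat.card M * Nat.card (U lam ⊓ U (h • lam) : AddSubgroup M) ≤
      Nat.card (U (h • lam) ⊔ cv M A : AddSubgroup M) * Nat.card (U lam ⊓ U (h • lam) : AddSubgroup M) := by
    rw [h3, ← h9, ← h7]
    exact le_of_eq (by ring)
  exact Nat.le_of_mul_le_mul_right h10 hd

end Fx

/-! ### (1), (3) -/

section

variable [Finite H] [Finite M] {Lam : Set M} {U : M → AddSubgroup M} {lam : M} {A : Subgroup H}

theorem mem_zm (s : Sys H Lam U) {m x : M} (hx : x ∈ AddSubgroup.zmultiples m) : x = 0 ∨ x = m := by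
  rw [AddSubgroup.mem_zmultiples_iff] at hx
  obtain ⟨k, hk⟩ := hx
  rcases Int.even_or_odd' k with ⟨c, hc | hc⟩
  · left
    rw [← hk, hc, mul_comm, mul_smul, two_smul, s.two, smul_zero]
  · right
    rw [← hk, hc, add_smul, mul_comm, mul_smul, two_smul, s.two, smul_zero, zero_add, one_smul]

/-- (1) -/
theorem add_notMem (s : Sys H Lam U) (hl : lam ∈ Lam) {r : M} (hU : r ∈ U lam) (h0 : r ≠ 0) (hr : r ∉ Lam) :
    r + lam ∉ Lam := by
  intro h1
  have h2 : r ∉ AddSubgroup.zmultiples lam := by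
    intro h3
    rcases mem_zm s h3 with h4 | h4
    · exact h0 h4
    · exact hr (h4 ▸ hl)
  obtain ⟨φ, h4, h5⟩ := exists_fun s.two h2
  obtain ⟨k, -, h6⟩ := s.f2 hl φ (h4 _ (AddSubgroup.mem_zmultiples lam))
  rw [← (h6 r hU).2 (by rw [h5]; decide)] at h1
  have h7 := s.smul k⁻¹ h1
  rw [inv_smul_smul] at h7
  exact hr h7

/-- (1): `(R₁ + ⟨λ⟩) ∩ Λ = {λ}` -/
theorem eq_lam (s : Sys H Lam U) (hl : lam ∈ Lam) (hA : A ≤ bb (U lam)) (free : ∀ r ∈ cm M A, r ∉ Lam) {r : M}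
    (hr : r ∈ cm M A ⊔ AddSubgroup.zmultiples lam) (h1 : r ∈ Lam) : r = lam := by
  rw [AddSubgroup.mem_sup] at hr
  obtain ⟨x, hx, y, hy, rfl⟩ := hr
  rcases mem_zm s hy with rfl | rfl
  · rw [add_zero] at h1
    exact absurd h1 (free x hx)
  · by_cases hx0 : x = 0
    · rw [hx0, zero_add]
    · exact absurd h1 (add_notMem s hl (cm_le_of_le_bb hA hx) hx0 (free x hx))

/-- (3) -/
theorem cv_eq (s : Sys H Lam U) (hl : lam ∈ Lam) (me : ME U lam A) (free : ∀ r ∈ cm M A, r ∉ Lam) {a : H}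
    (ha : a ∈ A) (ha1 : a ≠ 1) {m : M} (hm : a • m = m) : m ∈ cv M A := by
  obtain ⟨h, h1, h2, h3⟩ := s.bs hl a (me.le ha) ha1
  have x : Fx Lam U lam A a h := ⟨s, me, ⟨hl, me.le ha, ha1, h1, h2, h3⟩, ha, free⟩
  have h4 : m ∈ U (h • lam) ⊔ cv M A := by
    rw [x.card_A.2.2.1]
    exact AddSubgroup.mem_top m
  rw [AddSubgroup.mem_sup] at h4
  obtain ⟨u, hu, c, hc, rfl⟩ := h4
  rw [smul_add, hc a ha, add_left_inj] at hm
  exact (cv M A).add_mem (le_cv_of_le_bb me.le (x.v.fix s hu hm).2) hc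

open Pointwise in
/-- `g A g⁻¹` -/
def cj (g : H) (A : Subgroup H) : Subgroup H := MulAut.conj g • A

theorem mem_cj {g : H} {A : Subgroup H} {x : H} : x ∈ cj g A ↔ g⁻¹ * x * g ∈ A := by
  unfold cj
  rw [Subgroup.mem_pointwise_smul_iff_inv_smul_mem, ← map_inv, MulAut.smul_def, MulAut.conj_apply, inv_inv]

theorem conj_mem_cj {g : H} {A : Subgroup H} {a : H} (ha : a ∈ A) : g * a * g⁻¹ ∈ cj g A := by
  rw [mem_cj, ← mul_assoc, ← mul_assoc, inv_mul_cancel, one_mul, inv_mul_cancel_right]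
  exact ha

theorem cj_mono {g : H} {A B : Subgroup H} (h : A ≤ B) : cj g A ≤ cj g B := fun _ hx => mem_cj.2 (h (mem_cj.1 hx))

open Pointwise in
theorem cj_inv (g : H) (A : Subgroup H) : cj g (cj g⁻¹ A) = A := by
  unfold cj
  rw [map_inv, smul_inv_smul]

theorem cj_bot (g : H) : cj g (⊥ : Subgroup H) = ⊥ := by
  ext x
  rw [mem_cj, Subgroup.mem_bot, Subgroup.mem_bot]
  constructor
  · intro h
    have h1 : x = g * (g⁻¹ * x * g) * g⁻¹ := by group
    rw [h1, h]
    group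
  · rintro rfl
    group

theorem card_cj (g : H) (A : Subgroup H) : Nat.card (cj g A) = Nat.card A :=
  (Nat.card_congr
    { toFun := fun a : A => (⟨g * a * g⁻¹, conj_mem_cj a.2⟩ : cj g A)
      invFun := fun x => ⟨g⁻¹ * x * g, mem_cj.1 x.2⟩
      left_inv := fun a => Subtype.ext (by simp [mul_assoc])
      right_inv := fun x => Subtype.ext (by simp [mul_assoc]) }).symm

theorem card_cv_cj (g : H) (A : Subgroup H) : Nat.card (cv M (cj g A)) = Nat.card (cv M A) := by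
  refine (Fx.card_eq_of_smul g (fun u hu => ?_) (fun u hu => ?_)).symm
  · intro x hx
    have h1 := hu _ (mem_cj.1 hx)
    rw [mul_smul, mul_smul, inv_smul_eq_iff] at h1
    exact h1
  · intro a ha
    have h1 := hu _ (conj_mem_cj (g := g) ha)
    rwa [mul_smul, mul_smul, ← eq_inv_smul_iff] at h1

theorem ME.conj (s : Sys H Lam U) (hl : lam ∈ Lam) (me : ME U lam A) {k : H} (hk : k • lam = lam) :
    ME U lam (cj k A) := by
  have hi : ∀ B : Subgroup H, cj k⁻¹ (cj k B) = B := fun B => by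
    have := cj_inv k⁻¹ B
    rwa [inv_inv] at this
  refine ⟨fun x hx => ?_, fun h => me.ne ?_, by rw [card_cj, card_cv_cj, me.ex], fun B hB h1 h2 => ?_⟩
  · have h1 := s.bb_conj k hl (me.le (mem_cj.1 hx))
    rw [hk] at h1
    have h2 : k * (k⁻¹ * x * k) * k⁻¹ = x := by group
    rwa [h2] at h1
  · rw [← hi A, h, cj_bot]
  · have h3 := me.min (cj k⁻¹ B) (by rw [← hi A]; exact cj_mono hB)
      (fun h => h1 (by rw [← cj_inv k B, h, cj_bot])) (fun h => h2 (by rw [← cj_inv k B, h]))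
    rwa [card_cj, card_cv_cj] at h3

end

namespace Fx

variable [Finite H] [Finite M] {Lam : Set M} {U : M → AddSubgroup M} {lam : M} {A : Subgroup H} {f h : H}

theorem f'_f' (s : Sys H Lam U) (v : Mv Lam U lam f h) (m : M) : (h * f) • (h * f) • m = m := by
  have h1 : (h * f) * (h * f) = 1 := by
    calc (h * f) * (h * f) = (h * f) * (h * f)⁻¹ := by rw [f'_sq s v]
      _ = 1 := mul_inv_cancel _
  rw [← mul_smul, h1, one_smul]

/-- `U_μ = [λ, B] + D`, `B = f' A f'⁻¹` -/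
theorem u_mu (x : Fx Lam U lam A f h) {u : M} (hu : u ∈ U (h • lam)) :
    ∃ a ∈ A, ∃ d ∈ U lam ⊓ U (h • lam), u = (((h * f) * a * (h * f)⁻¹) • lam - lam) + d := by
  have h1 : (h * f) • u ∈ U lam := by
    have := x.s.conj (h * f) (x.v.mu x.s) hu
    rwa [x.v.f'_mu x.s] at this
  rw [← x.card_A.2.1, AddSubgroup.mem_sup] at h1
  obtain ⟨_, ⟨a, ha, rfl⟩, d, hd, h2⟩ := h1
  refine ⟨a, ha, d, hd, ?_⟩
  have h3 : u = (h * f) • (h * f) • u := (f'_f' x.s x.v u).symm
  have h4 : (h * f) • (a • h • lam - h • lam + d) = u := by rw [h2, ← h3]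
  rw [← h4, smul_add, smul_sub_conj, x.v.f'_mu x.s, x.v.f'_D x.s hd]

/-- `M = C_M(B) + U_λ` -/
theorem m_eq (x : Fx Lam U lam A f h) (m : M) : ∃ u ∈ U lam, ∃ c : M,
    (∀ a ∈ A, ((h * f) * a * (h * f)⁻¹) • c = c) ∧ m = u + c := by
  have h1 : (h * f) • m ∈ U (h • lam) ⊔ cv M A := by
    rw [x.card_A.2.2.1]
    exact AddSubgroup.mem_top _
  rw [AddSubgroup.mem_sup] at h1
  obtain ⟨u, hu, c, hc, h2⟩ := h1
  have h3 : m = (h * f) • (h * f) • m := (f'_f' x.s x.v m).symm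
  refine ⟨(h * f) • u, ?_, (h * f) • c, fun a ha => ?_, by rw [← smul_add, h2, ← h3]⟩
  · have := x.s.conj (h * f) (x.v.mu x.s) hu
    rwa [x.v.f'_mu x.s] at this
  · rw [mul_smul, inv_smul_smul, mul_smul, hc a ha]

/-- the subgroup of `bb (U λ)` of the elements with `[M, e] ≤ T` -/
def tb (s : Sys H Lam U) (lam : M) (T : AddSubgroup M) : Subgroup H where
  carrier := {e | e ∈ (bb (U lam) : Subgroup H) ∧ ∀ m : M, e • m - m ∈ T}
  mul_mem' := by
    rintro a b ⟨ha, ha'⟩ ⟨hb, hb'⟩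
    refine ⟨(bb (U lam)).mul_mem ha hb, fun m => ?_⟩
    rw [sub_mul ha hb]
    exact T.add_mem (ha' m) (hb' m)
  one_mem' := ⟨(bb (U lam)).one_mem, fun m => by rw [one_smul, sub_self]; exact T.zero_mem⟩
  inv_mem' := by
    rintro a ⟨ha, ha'⟩
    rw [s.inv_eq ha]
    exact ⟨ha, ha'⟩

/-- (4), first half: every `b ∈ A_φ` acts on `U_μ` as an element of `A`. -/
theorem four_a (x : Fx Lam U lam A f h) {φ : M →+ ZMod 2} {k : H} (hk : k • lam = lam)
    (hφ : ∀ u ∈ U lam, (φ u = 0 → k • u = u) ∧ (φ u ≠ 0 → k • u = u + lam)) {b : H} (hb : b ∈ cj k A) :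
    ∃ a ∈ A, ∀ u ∈ U (h • lam), b • u = a • u := by
  have s := x.s
  have hl := x.v.hl
  have me := x.me
  have mek := me.conj s hl hk
  let T : AddSubgroup M := cm M A ⊔ AddSubgroup.zmultiples lam
  have hT : ∀ r ∈ T, r ∈ U lam ⊓ U (h • lam) → r ∉ Lam := by
    intro r hr hD h1
    rw [eq_lam s hl me.le x.free hr h1] at hD
    exact x.v.lam_notMem s hD
  have hP : A ⊔ cj k A ≤ tb s lam T := by
    refine sup_le (fun a ha => ⟨me.le ha, fun m => le_sup_left (a := cm M A) (sub_mem_cm ha m)⟩) fun c hc =>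
      ⟨mek.le hc, fun m => ?_⟩
    have hc' := mem_cj.1 hc
    have h1 : c • m - m = k • ((k⁻¹ * c * k) • (k⁻¹ • m) - k⁻¹ • m) := by
      rw [smul_sub_conj, smul_inv_smul]
      congr 2
      group
    have h2 := sub_mem_cm hc' (k⁻¹ • m)
    rw [h1]
    have h3 := hφ _ (cm_le_of_le_bb me.le h2)
    by_cases h4 : φ ((k⁻¹ * c * k) • (k⁻¹ • m) - k⁻¹ • m) = 0
    · rw [h3.1 h4]
      exact AddSubgroup.mem_sup_left h2
    · rw [h3.2 h4]
      exact AddSubgroup.add_mem_sup h2 (AddSubgroup.mem_zmultiples lam)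
  have hPb : A ⊔ cj k A ≤ bb (U lam) := fun e he => (hP he).1
  have h1 : cs (U lam) (h • lam) (A ⊔ cj k A) hPb ⊓ (U lam ⊓ U (h • lam)) = ⊥ := by
    rw [eq_bot_iff]
    rintro u ⟨⟨a, ha, rfl⟩, h2⟩
    rw [AddSubgroup.mem_bot, sub_eq_zero]
    exact x.v.two_i s hT (hP ha).2 h2
  have h2 := card_sup_of_disj h1
  have h3 := card_le (sup_le cs_le inf_le_left : cs (U lam) (h • lam) (A ⊔ cj k A) hPb ⊔ (U lam ⊓ U (h • lam)) ≤ U lam)
  rw [h2, ← x.card_A.1] at h3
  have h4 : cs (U lam) (h • lam) A me.le ≤ cs (U lam) (h • lam) (A ⊔ cj k A) hPb := by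
    rintro _ ⟨a, ha, rfl⟩
    exact ⟨a, Subgroup.mem_sup_left ha, rfl⟩
  have h5 := eq_of_card_le h4 (by rw [x.card_A.2.2.2]; exact Nat.le_of_mul_le_mul_right h3 Nat.card_pos)
  have hb' : b ∈ A ⊔ cj k A := Subgroup.mem_sup_right hb
  have h6 : b • h • lam - h • lam ∈ cs (U lam) (h • lam) A me.le := by
    rw [h5]
    exact ⟨b, hb', rfl⟩
  obtain ⟨a, ha, h7⟩ := h6
  refine ⟨a, ha, fun u hu => ?_⟩
  have h8 : a • h • lam = b • h • lam := sub_left_inj.1 h7
  have he : a⁻¹ * b ∈ A ⊔ cj k A := Subgroup.mul_mem _ (Subgroup.inv_mem _ (Subgroup.mem_sup_left ha)) hb'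
  have h9 : (a⁻¹ * b) • h • lam = h • lam := by rw [mul_smul, ← h8, inv_smul_smul]
  have h10 : (a⁻¹ * b) • u = u := by
    obtain ⟨a', ha', d, hd, rfl⟩ := x.u_mu hu
    have h11 : (h * f) * a' * (h * f)⁻¹ ∈ (bb (U (h • lam)) : Subgroup H) := by
      have := s.bb_conj (h * f) hl (me.le ha')
      rwa [x.v.f'_lam s] at this
    rw [smul_add, bb_fix (hPb he) hd.1, x.v.two_ii s hT (hPb he) (hP he).2 h9 h11]
  rw [mul_smul, inv_smul_eq_iff] at h10
  exact h10

/-- (4) -/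
theorem four (x : Fx Lam U lam A f h) {φ : M →+ ZMod 2} {k : H} (hk : k • lam = lam)
    (hφ : ∀ u ∈ U lam, (φ u = 0 → k • u = u) ∧ (φ u ≠ 0 → k • u = u + lam)) {a₀ : H} (h0 : a₀ ∈ A)
    (h0' : φ (a₀ • h • lam - h • lam) ≠ 0) {b : H} (hb : b ∈ cj k A) {u : M} (hu : u ∈ U (h • lam)) : b • u = u := by
  have s := x.s
  have hl := x.v.hl
  have me := x.me
  have mek := me.conj s hl hk
  let A0 : Subgroup H := cj k A ⊓ fixingSubgroup H (U (h • lam) : Set M)
  suffices h1 : A0 = cj k A by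
    have h2 : b ∈ A0 := by rw [h1]; exact hb
    exact (mem_fixingSubgroup_iff H).1 h2.2 u hu
  by_contra h1
  by_cases h2 : A0 = ⊥
  · have h3 : ∀ b : cj k A, ∃ a : A, ∀ u ∈ U (h • lam), (b : H) • u = (a : H) • u := fun b => by
      obtain ⟨a, ha, h4⟩ := x.four_a hk hφ b.2
      exact ⟨⟨a, ha⟩, h4⟩
    choose F hF using h3
    have h4 : Function.Injective F := by
      intro b c hbc
      have h5 : (b : H)⁻¹ * c ∈ A0 := by
        refine ⟨(cj k A).mul_mem ((cj k A).inv_mem b.2) c.2, (mem_fixingSubgroup_iff H).2 fun u hu => ?_⟩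
        rw [mul_smul, hF c u hu, ← hbc, ← hF b u hu, inv_smul_smul]
      rw [h2, Subgroup.mem_bot, inv_mul_eq_one] at h5
      exact Subtype.ext h5
    have h5 : Function.Surjective F := by
      refine (Function.Injective.bijective_of_nat_card_le h4 ?_).2
      rw [card_cj]
    obtain ⟨b0, hb0⟩ := h5 ⟨a₀, h0⟩
    have h6 : (b0 : H) • h • lam = a₀ • h • lam := by
      rw [hF b0 _ (s.mem (x.v.mu s)), hb0]
    have h7 := mem_cj.1 b0.2
    have h8 : (b0 : H) • (h • lam) - h • lam =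
        k • ((k⁻¹ * b0 * k) • (k⁻¹ • h • lam) - k⁻¹ • h • lam) := by
      rw [smul_sub_conj, smul_inv_smul]
      congr 2
      group
    have h9 := sub_mem_cm h7 (k⁻¹ • h • lam)
    have h10 := hφ _ (cm_le_of_le_bb me.le h9)
    rw [h6] at h8
    by_cases h11 : φ ((k⁻¹ * b0 * k) • (k⁻¹ • h • lam) - k⁻¹ • h • lam) = 0
    · rw [h10.1 h11] at h8
      rw [h8] at h0'
      exact h0' h11
    · rw [h10.2 h11] at h8
      have h12 : lam ∈ cm M A := by
        have h13 := (cm M A).sub_mem (sub_mem_cm h0 (h • lam)) h9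
        rwa [h8, add_sub_cancel_left] at h13
      exact x.free lam h12 hl
  · have h3 := mek.min A0 inf_le_left h2 h1
    have h4 : U (h • lam) ⊓ cv M (cj k A) = U lam ⊓ U (h • lam) := by
      refine le_antisymm ?_ fun u hu => ⟨hu.2, le_cv_of_le_bb mek.le hu.1⟩
      rintro u ⟨h5, h6⟩
      obtain ⟨c, hc, hc'⟩ : ∃ c ∈ cj k A, c ∉ A0 := by
        by_contra h7
        push Not at h7
        exact h1 (le_antisymm inf_le_left h7)
      obtain ⟨a, ha, h7⟩ := x.four_a hk hφ hc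
      have h8 : a ≠ 1 := by
        rintro rfl
        exact hc' ⟨hc, (mem_fixingSubgroup_iff H).2 fun u hu => by rw [h7 u hu, one_smul]⟩
      have h9 : a • u = u := by rw [← h7 u h5, h6 c hc]
      rw [← x.cvD]
      exact ⟨h5, cv_eq s hl me x.free ha h8 h9⟩
    have h5 := card_sup_inf (U (h • lam)) (cv M (cj k A))
    rw [h4, x.card_U, ← x.card_A.1] at h5
    have h6 : Nat.card (U (h • lam) ⊔ cv M (cj k A) : AddSubgroup M) ≤ Nat.card (cv M A0) := by
      refine card_le (sup_le (fun u hu a ha => (mem_fixingSubgroup_iff H).1 ha.2 u hu) (cv_anti inf_le_left))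
    have h7 := mek.ex
    rw [card_cj] at h7
    have hd : 0 < Nat.card (U lam ⊓ U (h • lam) : AddSubgroup M) := Nat.card_pos
    have hA0 : 0 < Nat.card A0 := Nat.card_pos
    have k1 : Nat.card (cv M A0) * Nat.card (U lam ⊓ U (h • lam) : AddSubgroup M) <
        Nat.card M * Nat.card (U lam ⊓ U (h • lam) : AddSubgroup M) := by
      refine Nat.mul_lt_mul_of_pos_right (lt_of_le_of_lt ?_ h3) hd
      exact Nat.le_mul_of_pos_left _ hA0
    have k2 : Nat.card M * Nat.card (U lam ⊓ U (h • lam) : AddSubgroup M) =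
        Nat.card (U (h • lam) ⊔ cv M (cj k A) : AddSubgroup M) * Nat.card (U lam ⊓ U (h • lam) : AddSubgroup M) := by
      rw [h5, ← h7]
      ring
    have k3 := Nat.mul_le_mul_right (Nat.card (U lam ⊓ U (h • lam) : AddSubgroup M)) h6
    omega

/-- (5) -/
theorem five (x : Fx Lam U lam A f h) {φ : M →+ ZMod 2} {k : H} (hk : k • lam = lam)
    (hφ : ∀ u ∈ U lam, (φ u = 0 → k • u = u) ∧ (φ u ≠ 0 → k • u = u + lam)) {a₀ : H} (h0 : a₀ ∈ A)
    (h0' : φ (a₀ • h • lam - h • lam) ≠ 0)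
    (hU : ∀ u ∈ U lam, ∃ r ∈ cm M A, ∃ d ∈ U lam ⊓ U (h • lam), u = k • r + d) : False := by
  have s := x.s
  have hl := x.v.hl
  have me := x.me
  have mek := me.conj s hl hk
  have c1 : U lam ≤ cv M (cj k A) := le_cv_of_le_bb mek.le
  have c2 : U (h • lam) ≤ cv M (cj k A) := fun u hu b hb => x.four hk hφ h0 h0' hb hu
  -- `C_{B_λ}(C_φ) = A_φ`
  have hX : ∀ e : H, e ∈ (bb (U lam) : Subgroup H) → (∀ c ∈ cv M (cj k A), e • c = c) → e ∈ cj k A := by
    let X : Subgroup H := bb (U lam) ⊓ fixingSubgroup H (cv M (cj k A) : Set M)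
    have h1 : cj k A ≤ X := fun e he => ⟨mek.le he, (mem_fixingSubgroup_iff H).2 fun c hc => hc e he⟩
    have h2 := s.no hl X inf_le_left
    have h3 : cv M (cj k A) ≤ cv M X := fun c hc e he => (mem_fixingSubgroup_iff H).1 he.2 c hc
    have h4 : Nat.card X ≤ Nat.card (cj k A) := by
      have h5 := card_le h3
      have h6 := mek.ex
      have h7 : 0 < Nat.card (cv M (cj k A)) := Nat.card_pos
      refine Nat.le_of_mul_le_mul_right ?_ h7
      rw [h6]
      exact le_trans (Nat.mul_le_mul_left _ h5) h2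
    have h5 : cj k A = X := Subgroup.eq_of_le_of_card_ge h1 h4
    intro e he he'
    rw [h5]
    exact ⟨he, (mem_fixingSubgroup_iff H).2 he'⟩
  have hf' : ∀ c ∈ cv M (cj k A), (h * f) • c ∈ cv M (cj k A) := by
    intro c hc
    have h1 := (cv M (cj k A)).add_mem (x.v.f'_sub s c1 c2 c) hc
    rwa [sub_add_cancel] at h1
  let S : AddSubgroup M := (cm M A).comap (DistribSMul.toAddMonoidHom M (k⁻¹ * (h * f)⁻¹))
  have hS : ∀ v : M, v ∈ S ↔ k⁻¹ • (h * f)⁻¹ • v ∈ cm M A := fun v => by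
    rw [← mul_smul]
    exact Iff.rfl
  -- the commutator
  have key : ∀ y ∈ A, ∀ b ∈ cj k A, ∀ m : M,
      ((h * f) * y * (h * f)⁻¹) • (b • m - m) - (b • m - m) ∈ S := by
    intro y hy b hb m
    have hy' : (h * f) * y * (h * f)⁻¹ ∈ (bb (U (h • lam)) : Subgroup H) := by
      have := s.bb_conj (h * f) hl (me.le hy)
      rwa [x.v.f'_lam s] at this
    generalize (h * f) * y * (h * f)⁻¹ = z at hy'
    have hbm : b • h • lam = h • lam := c2 (s.mem (x.v.mu s)) b hb
    have he1 : b * z * b⁻¹ * z⁻¹ ∈ (bb (U (h • lam)) : Subgroup H) := by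
      refine (bb _).mul_mem ?_ ((bb _).inv_mem hy')
      have := s.bb_conj b (x.v.mu s) hy'
      rwa [hbm] at this
    have he2 : ∀ c ∈ cv M (cj k A), (b * z * b⁻¹ * z⁻¹) • c = c := by
      intro c hc
      have h1 : z⁻¹ • c ∈ cv M (cj k A) := by
        have := (cv M (cj k A)).add_mem (c2 (bb_sub ((bb _).inv_mem hy') c)) hc
        rwa [sub_add_cancel] at this
      rw [mul_smul, mul_smul, mul_smul, h1 _ ((cj k A).inv_mem hb), smul_inv_smul, hc b hb]
    have he3 : (h * f)⁻¹ * (b * z * b⁻¹ * z⁻¹) * (h * f) ∈ cj k A := by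
      refine hX _ ?_ fun c hc => ?_
      · have := s.bb_conj (h * f)⁻¹ (x.v.mu s) he1
        rw [inv_inv, f'_sq s x.v, x.v.f'_mu s] at this
        rw [f'_sq s x.v]
        exact this
      · rw [mul_smul, mul_smul, he2 _ (hf' c hc), inv_smul_smul]
    have he4 : ∀ w : M, (b * z * b⁻¹ * z⁻¹) • w - w ∈ S := by
      intro w
      rw [hS, smul_sub_conj, smul_sub_conj, inv_inv, inv_inv]
      exact sub_mem_cm (mem_cj.1 he3) _
    have h1 := S.neg_mem (he4 (z • b • m))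
    have h2 : b • (z • m - m) = z • m - m := c2 (bb_sub hy' m) b hb
    have h3 : -((b * z * b⁻¹ * z⁻¹) • z • b • m - z • b • m) = z • (b • m - m) - (b • m - m) := by
      rw [mul_smul, mul_smul, mul_smul, inv_smul_smul, inv_smul_smul]
      have h4 : b • z • m = b • m + (z • m - m) := by
        rw [← h2, smul_sub]
        abel
      rw [h4, smul_sub]
      abel
    rwa [h3] at h1
  -- `[M, B] ≤ f' R_φ`
  have h5 : ∀ y ∈ A, ∀ r ∈ cm M A, ((h * f) * y * (h * f)⁻¹) • k • r - k • r ∈ S := by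
    intro y hy r hr
    let Q : AddSubgroup M := S.comap ((DistribSMul.toAddMonoidHom M ((h * f) * y * (h * f)⁻¹) -
      AddMonoidHom.id M).comp (DistribSMul.toAddMonoidHom M k))
    have h6 : cm M A ≤ Q := by
      refine cm_le fun a ha m => ?_
      change ((h * f) * y * (h * f)⁻¹) • k • (a • m - m) - k • (a • m - m) ∈ S
      rw [smul_sub_conj]
      exact key y hy _ (conj_mem_cj ha) _
    exact h6 hr
  have h6 : ∀ y ∈ A, ∀ m : M, ((h * f) * y * (h * f)⁻¹) • m - m ∈ S := by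
    intro y hy m
    obtain ⟨u, hu, c, hc, rfl⟩ := x.m_eq m
    obtain ⟨r, hr, d, hd, rfl⟩ := hU u hu
    have hy' : (h * f) * y * (h * f)⁻¹ ∈ (bb (U (h • lam)) : Subgroup H) := by
      have := s.bb_conj (h * f) hl (me.le hy)
      rwa [x.v.f'_lam s] at this
    have h7 := h5 y hy r hr
    have h8 : ((h * f) * y * (h * f)⁻¹) • (k • r + d + c) - (k • r + d + c) =
        ((h * f) * y * (h * f)⁻¹) • k • r - k • r := by
      rw [smul_add, smul_add, hc y hy, bb_fix hy' hd.2]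
      abel
    rw [h8]
    exact h7
  have h7 : ∀ a ∈ A, ∀ m : M, k⁻¹ • (a • m - m) ∈ cm M A := by
    intro a ha m
    have h8 := h6 a ha ((h * f) • m)
    rw [hS, ← smul_sub_conj, inv_smul_smul] at h8
    exact h8
  have h8 := h7 a₀ h0 (h • lam)
  have h9 := hφ _ (cm_le_of_le_bb me.le h8)
  rw [smul_inv_smul] at h9
  have h10 := sub_mem_cm h0 (h • lam)
  by_cases h11 : φ (k⁻¹ • (a₀ • h • lam - h • lam)) = 0
  · rw [← h9.1 h11] at h11
    exact h0' h11
  · have h12 := h9.2 h11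
    have h13 := (cm M A).sub_mem h10 h8
    rw [sub_eq_of_eq_add' h12] at h13
    exact x.free lam h13 hl

/-- (6) -/
theorem six (x : Fx Lam U lam A f h) : Nat.card A ≤ 2 := by
  by_contra hc
  have s := x.s
  have hl := x.v.hl
  have me := x.me
  obtain ⟨-, h1, -, h2⟩ := x.card_A
  have h3 : lam ∈ cs (U lam) (h • lam) A me.le ⊔ (U lam ⊓ U (h • lam)) := by
    rw [h1]
    exact s.mem hl
  rw [AddSubgroup.mem_sup] at h3
  obtain ⟨c1, hc1, d1, hd1, h3⟩ := h3
  -- an element of `[μ, A]` outside `D + ⟨c₁⟩`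
  obtain ⟨w, hw, hw'⟩ : ∃ w ∈ cs (U lam) (h • lam) A me.le, w ∉ (U lam ⊓ U (h • lam)) ⊔ AddSubgroup.zmultiples c1 := by
    by_contra h4
    push Not at h4
    have h5 : cs (U lam) (h • lam) A me.le ≤ AddSubgroup.zmultiples c1 := by
      intro w hw
      have h6 := h4 w hw
      rw [AddSubgroup.mem_sup] at h6
      obtain ⟨d, hd, e, he, h7⟩ := h6
      have h8 : e ∈ cs (U lam) (h • lam) A me.le := by
        rcases mem_zm s he with rfl | rfl
        · exact AddSubgroup.zero_mem _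
        · exact hc1
      have h9 : d ∈ cs (U lam) (h • lam) A me.le ⊓ (U lam ⊓ U (h • lam)) := by
        refine ⟨?_, hd⟩
        have : d = w - e := by rw [← h7, add_sub_cancel_right]
        rw [this]
        exact AddSubgroup.sub_mem _ hw h8
      rw [x.disj, AddSubgroup.mem_bot] at h9
      rw [← h7, h9, zero_add]
      exact he
    have h6 := card_le h5
    rw [h2, Nat.card_zmultiples] at h6
    have h7 : addOrderOf c1 ≤ 2 := by
      refine Nat.le_of_dvd (by norm_num) ?_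
      rw [addOrderOf_dvd_iff_nsmul_eq_zero, two_nsmul]
      exact s.two c1
    omega
  obtain ⟨φ, h4, h5⟩ := exists_fun s.two hw'
  have hd : ∀ d ∈ U lam ⊓ U (h • lam), φ d = 0 := fun d hd => h4 d (AddSubgroup.mem_sup_left hd)
  have hc1' : φ c1 = 0 := h4 c1 (AddSubgroup.mem_sup_right (AddSubgroup.mem_zmultiples c1))
  have hlam : φ lam = 0 := by rw [← h3, map_add, hc1', hd d1 hd1, add_zero]
  obtain ⟨k, hk, hφ⟩ := s.f2 hl φ hlam
  obtain ⟨a₀, h0, rfl⟩ := hw
  refine x.five hk hφ h0 (by rw [h5]; decide) fun u hu => ?_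
  rw [← h1, AddSubgroup.mem_sup] at hu
  obtain ⟨c, hc, d, hd', rfl⟩ := hu
  by_cases h6 : φ c = 0
  · exact ⟨c, cs_le_cm hc, d, hd', by rw [(hφ c (cs_le hc)).1 h6]⟩
  · refine ⟨c + c1, (cm M A).add_mem (cs_le_cm hc) (cs_le_cm hc1), d + d1, AddSubgroup.add_mem _ hd' hd1, ?_⟩
    have h7 : φ (c + c1) ≠ 0 := by rw [map_add, hc1', add_zero]; exact h6
    rw [(hφ _ ((U lam).add_mem (cs_le hc) (cs_le hc1))).2 h7]
    have h8 : c + c1 + lam + (d + d1) = c + d + (c1 + c1) + (d1 + d1) := by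
      rw [← h3]
      abel
    rw [h8, s.two, s.two, add_zero, add_zero]

end Fx

/-- **THEOREM ONE** (helper430, bb #17614): a minimal exact `A ≤ B_λ` with `[M, A] ∩ Λ = ∅` has order 2. -/
theorem one [Finite H] [Finite M] {Lam : Set M} {U : M → AddSubgroup M} {lam : M} {A : Subgroup H}
    (s : Sys H Lam U) (hl : lam ∈ Lam) (me : ME U lam A) (free : ∀ r ∈ cm M A, r ∉ Lam) : Nat.card A = 2 := by
  obtain ⟨f, fA, hf1⟩ : ∃ f ∈ A, f ≠ 1 := by
    by_contra h1
    push Not at h1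
    exact me.ne (eq_bot_iff.2 fun a ha => Subgroup.mem_bot.2 (h1 a ha))
  obtain ⟨h, h1, h2, h3⟩ := s.bs hl f (me.le fA) hf1
  have x : Fx Lam U lam A f h := ⟨s, me, ⟨hl, me.le fA, hf1, h1, h2, h3⟩, fA, free⟩
  refine le_antisymm x.six ?_
  have h4 : Nat.card A ≠ 1 := fun h => me.ne (Subgroup.card_eq_one.1 h)
  have h5 : 0 < Nat.card A := Nat.card_pos
  omega

/-- THEOREM ONE as a transvection: `A = {1, f}`, `[M, A] = {0, c}`, `c ∈ U_λ ∖ Λ`. -/
theorem one' [Finite H] [Finite M] {Lam : Set M} {U : M → AddSubgroup M} {lam : M} {A : Subgroup H}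
    (s : Sys H Lam U) (hl : lam ∈ Lam) (me : ME U lam A) (free : ∀ r ∈ cm M A, r ∉ Lam) :
    ∃ f ∈ A, f ≠ 1 ∧ (∀ a ∈ A, a = 1 ∨ a = f) ∧ ∃ c ∈ cm M A, c ≠ 0 ∧ c ∈ U lam ∧ c ∉ Lam ∧
      ∀ m : M, f • m = m ∨ f • m = m + c := by
  have h1 := one s hl me free
  obtain ⟨f, fA, hf1⟩ : ∃ f ∈ A, f ≠ 1 := by
    by_contra h1
    push Not at h1
    exact me.ne (eq_bot_iff.2 fun a ha => Subgroup.mem_bot.2 (h1 a ha))
  have h2 : ∀ a ∈ A, a = 1 ∨ a = f := by
    intro a ha
    by_cases h3 : a = 1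
    · exact Or.inl h3
    · right
      have h4 := ((Nat.card_eq_two_iff' (1 : A)).1 h1).unique (y₁ := ⟨a, ha⟩) (y₂ := ⟨f, fA⟩)
        (fun h => h3 (congrArg Subtype.val h)) (fun h => hf1 (congrArg Subtype.val h))
      exact congrArg Subtype.val h4
  have h3 : (cv M A).index = 2 := by
    have h4 := me.ex
    rw [h1] at h4
    have h5 : 0 < Nat.card (cv M A) := Nat.card_pos
    refine Nat.eq_of_mul_eq_mul_left h5 ?_
    rw [AddSubgroup.card_mul_index, mul_comm, h4]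
  obtain ⟨m0, hm0⟩ : ∃ m0 : M, f • m0 ≠ m0 := by
    by_contra h4
    push Not at h4
    exact hf1 (s.faith f h4)
  have h4 : ∀ m : M, m ∈ cv M A ↔ f • m = m := fun m =>
    ⟨fun h => h f fA, fun h a ha => by
      rcases h2 a ha with rfl | rfl
      · exact one_smul _ m
      · exact h⟩
  have h5 : f • m0 - m0 ∈ cm M A := sub_mem_cm fA m0
  refine ⟨f, fA, hf1, h2, f • m0 - m0, h5, sub_ne_zero.2 hm0, cm_le_of_le_bb me.le h5, free _ h5, fun m => ?_⟩
  by_cases h6 : f • m = m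
  · exact Or.inl h6
  · right
    have h7 : m + m0 ∈ cv M A := by
      rw [AddSubgroup.add_mem_iff_of_index_two h3, h4, h4]
      exact ⟨fun h => absurd h h6, fun h => absurd h hm0⟩
    rw [h4, smul_add] at h7
    rw [s.sub_eq, ← add_assoc, ← sub_eq_iff_eq_add, s.sub_eq, ← sub_eq_iff_eq_add, s.sub_eq, add_right_comm, h7,
      add_assoc, s.two, add_zero]

end Cfsg.Agent.Omega.NOThree.LL.One

end
end

private theorem dce_7c0bb75c7bc2 : _root_.True := by
  try have : _root_.True := by simp only [_root_.Cfsg.Agent.Omega.NOThree.LL.One.cs.congr_simp]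
  exact _root_.True.intro
end

-- part: Mrg/Omega/NO3S/Fit/Char
section
set_option linter.all false
open scoped Cfsg.Agent.FastGrp

section


/-!
# NO-3S, `q = 2`, `n = 1` (helper311's text #13963): `cf p` has characteristic 2; the bridge from `TwoOne.One`-type data

* `Fam.o2_le`, `Fam.char2` : `C_{cf p}(O₂(cf p)) ≤ O₂(cf p)`;
* `Fam.full` : `cf p = C_G(p)` is a family.
-/

set_option autoImplicit false
set_option linter.unusedSectionVars false

namespace Cfsg.Agent.Omega.NO3S.Fit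

open Subgroup Cfsg Cfsg.Agent.ZN Cfsg.Agent.MinSimple.Geo Cfsg.Agent.Omega.CaseL
open Cfsg.Agent.ZN.Block (conj_mem_of_normalizer conj_mem_of_normalizer' le_normalizer_of_forall
  mem_normalizer_of)

universe u

variable {G : Type u} [Group G]

namespace Fam

variable {T V : Subgroup G} {z : G} {cf : G → Subgroup G}

theorem o2_le_z [Finite G] (h : Fam T V z cf) : o2 (centralizer ({z} : Set G)) ≤ o2 (cf z) := by
  have h1 : o2 (centralizer ({z} : Set G)) ≤ T := h.ln.o2_le_T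
  refine le_o2 (h1.trans h.T_le_cf) (isPGroup_o2 _) ?_
  exact (h.le z h.ln.z_mem h.ln.z_ne).trans (le_normalizer_o2 _)

theorem char2_z [Finite G] (h : Fam T V z cf) :
    cf z ⊓ centralizer ((o2 (cf z) : Subgroup G) : Set G) ≤ o2 (cf z) := by
  have hloc : IsTwoLocal (centralizer ({z} : Set G)) := by
    refine ⟨zpowers z, isPGroup_zpowers h.ln.zz, ?_, ?_⟩
    · rw [Ne, zpowers_eq_bot]; exact h.ln.z_ne
    · ext g
      rw [mem_centralizer_singleton_iff]
      constructor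
      · intro hg
        refine centralizer_le_normalizer _ (mem_centralizer_iff.mpr fun x hx => ?_)
        obtain ⟨m, rfl⟩ := mem_zpowers_iff.mp hx
        exact ((show Commute g z from hg).zpow_right m).eq.symm
      · intro hg
        have h1 : g * z * g⁻¹ ∈ zpowers z := (mem_normalizer_iff.mp hg z).mp (mem_zpowers z)
        rcases (mem_zpowers_iff_of_mul_self h.ln.zz).mp h1 with e | e
        · exact absurd e (conj_ne h.ln.z_ne)
        · exact comm_of_conj_eq e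
  intro c hc
  refine h.o2_le_z (inf_centralizer_o2_le h.ln.charTwo hloc ⟨h.le z h.ln.z_mem h.ln.z_ne hc.1, ?_⟩)
  exact centralizer_le h.o2_le_z hc.2

theorem char2 [Finite G] (h : Fam T V z cf) {p : G} (hp : p ∈ V) (hp1 : p ≠ 1) :
    cf p ⊓ centralizer ((o2 (cf p) : Subgroup G) : Set G) ≤ o2 (cf p) := by
  obtain ⟨g, -, -, hg⟩ := h.point hp hp1
  exact hg.char2_z

/-- the full family -/
theorem full {T V : Subgroup G} {z : G} (hln : Ln T V z)
    (ab : ∀ a ∈ wf V (centralizer {z}), ∀ b ∈ wf V (centralizer {z}), a * b = b * a)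
    (nc : ∃ y ∈ V, y ≠ 1 ∧ y ≠ z ∧ ∃ a ∈ wf V (centralizer {z}), ∃ b ∈ wf V (centralizer {y}), a * b ≠ b * a)
    (f1 : ∃ q ∈ T, q ∈ qf V (centralizer {z}) z ∧ q ∉ centralizer (V : Set G)) :
    Fam T V z (fun p => centralizer ({p} : Set G)) where
  ln := hln
  le := fun _ _ _ => le_rfl
  ge := fun _ _ _ => inf_le_right
  cj_cf := fun g _ p _ _ => cj_centralizer_singleton g p
  ab := ab
  nc := nc
  f1 := f1

end Fam

end Cfsg.Agent.Omega.NO3S.Fit

end

section


/-!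
# NO-3S, `q = 2`, `n = 1` (helper311's text #13963): subfamilies

* `subf V z C` : the family with `C` at `z`; `Fam.sub` : it is a family if `N_G(V) ∩ C_G(z) ≤ C ≤ cf z` and the
  groups `W'_z`, `W'_y` do not commute; `Fam.sub_of` : the same for `k = 1` from conditions on `W'_z` only;
* `MRep.mem_wf_pre` : `wf V (pre K)` is the preimage in `W_z` of the span of the `K`-orbit of `v0`;
* `MRep.br_cases` : for `k = 1` there is `u0` with `a m - m ∈ {0, v0, u0, u0 + v0}` for all `m`, `a = phi w`, `w ∈ W_y`.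
-/

set_option autoImplicit false
set_option linter.unusedSectionVars false

namespace Cfsg.Agent.Omega.NO3S.Fit

open Subgroup Cfsg Cfsg.Agent.ZN Cfsg.Agent.MinSimple.Geo Cfsg.Agent.Omega.CaseL
open Cfsg.Agent.ZN.Block (conj_mem_of_normalizer conj_mem_of_normalizer' le_normalizer_of_forall
  mem_normalizer_of)

universe u

variable {G : Type u} [Group G]

/-- the family with `C` at `z` -/
def subf (V : Subgroup G) (z : G) (C : Subgroup G) : G → Subgroup G := fun p =>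
  ⨆ g : {g : G // g ∈ normalizer (V : Set G) ∧ g * z * g⁻¹ = p}, cj (g : G) C

theorem subf_eq {V : Subgroup G} {z : G} {C : Subgroup G}
    (hC : normalizer (V : Set G) ⊓ centralizer ({z} : Set G) ≤ C) {g : G} (hg : g ∈ normalizer (V : Set G)) :
    subf V z C (g * z * g⁻¹) = cj g C := by
  refine le_antisymm (iSup_le ?_) (le_iSup (fun g' : {g' : G // g' ∈ normalizer (V : Set G) ∧
    g' * z * g'⁻¹ = g * z * g⁻¹} => cj (g' : G) C) ⟨g, hg, rfl⟩)
  rintro ⟨g', hg', e⟩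
  have h1 : g⁻¹ * g' ∈ C := by
    refine hC (mem_inf.mpr ⟨mul_mem (inv_mem hg) hg', ?_⟩)
    rw [mem_centralizer_singleton_iff]
    calc g⁻¹ * g' * z = g⁻¹ * (g' * z * g'⁻¹) * g' := by group
      _ = z * (g⁻¹ * g') := by rw [e]; group
  have h2 : cj (g⁻¹ * g') C = C := cj_eq_of_mem_normalizer (le_normalizer h1)
  have h3 : cj g' C = cj g (cj (g⁻¹ * g') C) := by rw [cj_cj, mul_inv_cancel_left]
  change cj g' C ≤ _
  rw [h3, h2]

theorem subf_z {V : Subgroup G} {z : G} {C : Subgroup G}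
    (hC : normalizer (V : Set G) ⊓ centralizer ({z} : Set G) ≤ C) : subf V z C z = C := by
  have := subf_eq hC (one_mem (normalizer (V : Set G)))
  have e : (1 : G) * z * 1⁻¹ = z := by group
  rwa [e, cj_one] at this

namespace Fam

variable {T V : Subgroup G} {z : G} {cf : G → Subgroup G}

/-- **the subfamily with `C` at `z`** -/
theorem sub (h : Fam T V z cf) {C : Subgroup G} (hC : normalizer (V : Set G) ⊓ centralizer ({z} : Set G) ≤ C)
    (hC' : C ≤ cf z) (hnc : ∃ y ∈ V, y ≠ 1 ∧ y ≠ z ∧ ∃ a ∈ wf V C, ∃ b ∈ ww V (subf V z C) y, a * b ≠ b * a) :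
    Fam T V z (subf V z C) where
  ln := h.ln
  le := by
    intro p hp hp1
    obtain ⟨g, hg, rfl⟩ := h.ln.trans p hp hp1
    rw [subf_eq hC hg]
    refine (cj_mono hC').trans ?_
    rw [h.cj_cf g hg z h.ln.z_mem h.ln.z_ne]
    exact h.le _ hp hp1
  ge := by
    intro p hp hp1 x hx
    obtain ⟨g, hg, rfl⟩ := h.ln.trans p hp hp1
    rw [subf_eq hC hg, mem_cj]
    refine hC (mem_inf.mpr ⟨mul_mem (mul_mem (inv_mem hg) (mem_inf.mp hx).1) hg, ?_⟩)
    have := mem_centralizer_singleton_iff.mp (mem_inf.mp hx).2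
    rw [mem_centralizer_singleton_iff]
    calc g⁻¹ * x * g * z = g⁻¹ * (x * (g * z * g⁻¹)) * g := by group
      _ = g⁻¹ * ((g * z * g⁻¹) * x) * g := by rw [this]
      _ = z * (g⁻¹ * x * g) := by group
  cj_cf := by
    intro k hk p hp hp1
    obtain ⟨g, hg, rfl⟩ := h.ln.trans p hp hp1
    have e : k * (g * z * g⁻¹) * k⁻¹ = (k * g) * z * (k * g)⁻¹ := by group
    rw [subf_eq hC hg, e, subf_eq hC (mul_mem hk hg), cj_cj]
  ab := by
    intro a ha b hb
    rw [ww, subf_z hC] at ha hb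
    exact h.ab a (wf_mono hC' ha) b (wf_mono hC' hb)
  nc := by
    obtain ⟨y, hy, hy1, hyz, a, ha, b, hb, hab⟩ := hnc
    refine ⟨y, hy, hy1, hyz, a, ?_, b, hb, hab⟩
    rw [ww, subf_z hC]; exact ha
  f1 := by
    obtain ⟨q, hq, hq1, hq2⟩ := h.f1
    refine ⟨q, hq, ?_, hq2⟩
    rw [qq, subf_z hC]
    refine ⟨hC ⟨h.ln.T_norm hq, h.ln.T_le hq⟩, hq1.2.1, fun w hw => hq1.2.2 w (wf_mono hC' hw)⟩

/-- the subfamily for `k = 1`, from conditions on `W'_z` only -/
theorem sub_of [Finite G] (h : Fam T V z cf) (hk : One1 V cf) {C : Subgroup G}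
    (hC : normalizer (V : Set G) ⊓ centralizer ({z} : Set G) ≤ C) (hC' : C ≤ cf z) {y : G} (hy : y ∈ V)
    (hy1 : y ≠ 1) (hyz : y ≠ z) (h1 : ∃ d ∈ wf V C, d ∉ qq V cf y)
    (h2 : ∃ d ∈ wf V C, ∃ w ∈ ww V cf y, d * w * d⁻¹ * w⁻¹ ≠ 1 ∧ d * w * d⁻¹ * w⁻¹ ≠ z) :
    Fam T V z (subf V z C) := by
  have hz := h.ln.z_mem
  have hz1 := h.ln.z_ne
  refine h.sub hC hC' ?_
  obtain ⟨d, hd, hdy⟩ := h1
  obtain ⟨e, he, w, hw, hne1, hnez⟩ := h2
  obtain ⟨g, hg, e1, e2⟩ := h.trans2 hz hz1 hy hy1 hyz hy hy1 hz hz1 (Ne.symm hyz)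
  have hb : g * d * g⁻¹ ∈ ww V (subf V z C) y := by
    rw [ww, ← e1, subf_eq hC hg]
    have := conj_mem_cj (g := g) hd
    rwa [cj_wf, cj_eq_of_mem_normalizer hg] at this
  set b := g * d * g⁻¹ with hbd
  have hbz : b ∉ qq V cf z := by
    intro hb'
    apply hdy
    have := h.conj_qq (inv_mem hg) hz hz1 hb'
    have e3 : g⁻¹ * z * g⁻¹⁻¹ = y := by rw [← e2]; group
    have e4 : g⁻¹ * b * g⁻¹⁻¹ = d := by rw [hbd]; group
    rwa [e3, e4] at this
  have hby : b ∈ ww V cf y := by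
    have h3 := h.conj_ww hg hz hz1 (wf_mono hC' hd)
    rwa [e1] at h3
  have heW : e ∈ ww V cf z := wf_mono hC' he
  have hcomm : ∀ k ∈ qq V cf z, e * k * e⁻¹ * k⁻¹ = 1 ∨ e * k * e⁻¹ * k⁻¹ = z := by
    intro k hk'
    have e5 : e * k * e⁻¹ * k⁻¹ = (k * e * k⁻¹ * e⁻¹)⁻¹ := by group
    rcases h.qq_cases hz hk' heW with e6 | e6
    · left; rw [e5, e6]; group
    · right; rw [e5, e6, mul_assoc, mul_inv_cancel, mul_one, h.ln.inv_eq hz]
  have hwz : w ∉ qq V cf z := by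
    intro hw'
    rcases hcomm w hw' with e6 | e6
    · exact hne1 e6
    · exact hnez e6
  have hwb := hk y hy hy1 z hz hz1 (Ne.symm hyz) w hw b hby hwz hbz
  refine ⟨y, hy, hy1, hyz, e, he, b, hb, fun hcom => ?_⟩
  have e7 : e * w * e⁻¹ * w⁻¹ = e * (w * b) * e⁻¹ * (w * b)⁻¹ := by
    have e8 : b * e⁻¹ = e⁻¹ * b := (inv_comm_of hcom).symm
    calc e * w * e⁻¹ * w⁻¹ = e * w * e⁻¹ * b * b⁻¹ * w⁻¹ := by group
      _ = e * w * (e⁻¹ * b) * (b⁻¹ * w⁻¹) := by group
      _ = e * w * (b * e⁻¹) * (b⁻¹ * w⁻¹) := by rw [e8]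
      _ = e * (w * b) * e⁻¹ * (w * b)⁻¹ := by group
  rcases hcomm _ hwb with e6 | e6
  · exact hne1 (e7.trans e6)
  · exact hnez (e7.trans e6)

theorem ww_subf {C : Subgroup G} (hC : normalizer (V : Set G) ⊓ centralizer ({z} : Set G) ≤ C) :
    ww V (subf V z C) z = wf V C := by
  rw [ww, subf_z hC]

end Fam

namespace MRep

variable {T V : Subgroup G} {z : G} {cf : G → Subgroup G} {M H : Type u} [AddCommGroup M] [Group H]
  [DistribMulAction H M]

/-- `wf V (pre K)` is the preimage in `W_z` of the span of the `K`-orbit of `v0` -/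
theorem mem_wf_pre (R : MRep V cf z M H) (h : Fam T V z cf) {y : G} (hy : y ∈ V) (hy1 : y ≠ 1) (hyz : y ≠ z)
    (K : Subgroup H) {w : G} : w ∈ wf V (R.pre K) ↔
      w ∈ ww V cf z ∧ R.pi w ∈ AddSubgroup.closure (Set.range fun x : K => (x : H) • R.pi y) := by
  have hz := h.ln.z_mem
  have hz1 := h.ln.z_ne
  set D := AddSubgroup.closure (Set.range fun x : K => (x : H) • R.pi y) with hD
  have hyW : y ∈ ww V cf z := h.V_le hy
  have hsub : wf V (R.pre K) ≤ ww V cf z := wf_mono (R.pre_le K)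
  let B : Subgroup G :=
    { carrier := {w | w ∈ ww V cf z ∧ R.pi w ∈ D}
      mul_mem' := by
        rintro a b ⟨ha, ha1⟩ ⟨hb, hb1⟩
        refine ⟨mul_mem ha hb, ?_⟩
        rw [R.pi_mul a ha b hb]
        exact add_mem ha1 hb1
      one_mem' := ⟨one_mem _, by rw [R.pi_one h]; exact zero_mem _⟩
      inv_mem' := by
        rintro a ⟨ha, ha1⟩
        refine ⟨inv_mem ha, ?_⟩
        rw [R.pi_inv h ha]
        exact neg_mem ha1 }
  have h1 : wf V (R.pre K) ≤ B := by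
    refine wf_le fun c hc x hx => ?_
    obtain ⟨hc1, hc2⟩ := R.mem_pre.mp hc
    refine ⟨cj_le_wf hc1 hx, ?_⟩
    rw [mem_cj] at hx
    have hxw : c⁻¹ * x * c ∈ ww V cf z := h.V_le hx
    have e : x = c * (c⁻¹ * x * c) * c⁻¹ := by group
    rw [e, ← R.act c hc1 _ hxw]
    have hy0 : R.phi c • R.pi y ∈ D := AddSubgroup.subset_closure ⟨⟨_, hc2⟩, rfl⟩
    rcases h.ln.four hz hy hz1 hy1 (Ne.symm hyz) hx with e1 | e1 | e1 | e1
    · rw [e1, R.pi_one h, smul_zero]; exact zero_mem _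
    · rw [e1, R.pi_z h, smul_zero]; exact zero_mem _
    · rw [e1]; exact hy0
    · rw [e1, R.pi_mul z h.z_mem_ww y hyW, R.pi_z h, zero_add]; exact hy0
  refine ⟨fun hw => h1 hw, fun ⟨hw, hwD⟩ => ?_⟩
  -- every element of `D` is `pi` of an element of `wf V (pre K)`
  have h2 : ∀ m ∈ D, ∃ u ∈ wf V (R.pre K), R.pi u = m := by
    intro m hm
    induction hm using AddSubgroup.closure_induction with
    | mem m hm =>
      obtain ⟨x, rfl⟩ := hm
      obtain ⟨c, hc, hcx⟩ := R.phi_surj (x : H)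
      have hcp : c ∈ R.pre K := R.mem_pre.mpr ⟨hc, by rw [hcx]; exact x.2⟩
      refine ⟨c * y * c⁻¹, cj_le_wf hcp (conj_mem_cj hy), ?_⟩
      rw [← R.act c hc y hyW, hcx]
    | zero => exact ⟨1, one_mem _, R.pi_one h⟩
    | add a b _ _ ha hb =>
      obtain ⟨u, hu, rfl⟩ := ha
      obtain ⟨v, hv, rfl⟩ := hb
      exact ⟨u * v, mul_mem hu hv, R.pi_mul u (hsub hu) v (hsub hv)⟩
    | neg a _ ha =>
      obtain ⟨u, hu, rfl⟩ := ha
      exact ⟨u⁻¹, inv_mem hu, R.pi_inv h (hsub hu)⟩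
  obtain ⟨u, hu, e⟩ := h2 _ hwD
  have hzw : z ∈ wf V (R.pre K) := V_le_wf V _ hz
  rcases (R.pi_eq h (hsub hu) hw).mp e with e1 | e1
  · rw [← e1]; exact hu
  · have : w = z * u := by rw [e1, ← mul_assoc, h.ln.zz, one_mul]
    rw [this]
    exact mul_mem hzw hu

/-- the stabilizer of `v0` lies in `K` iff `N_G(V) ∩ C_G(z) ≤ pre K` -/
theorem le_pre [Finite G] (R : MRep V cf z M H) (h : Fam T V z cf) {y : G} (hy : y ∈ V) (hy1 : y ≠ 1) (hyz : y ≠ z)
    {K : Subgroup H} (hK : ∀ x : H, x • R.pi y = R.pi y → x ∈ K) :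
    normalizer (V : Set G) ⊓ centralizer ({z} : Set G) ≤ R.pre K := by
  intro c hc
  have hc1 := h.ge z h.ln.z_mem h.ln.z_ne hc
  exact R.mem_pre.mpr ⟨hc1, hK _ ((R.smul_v0_iff h hy hy1 hyz hc1).mpr hc.1)⟩

/-- for `w ∈ W_z ∩ Q_y` and `a ∈ W_y`: `a w - w ∈ {0, v0}` -/
theorem br_one (R : MRep V cf z M H) (h : Fam T V z cf) {y : G} (hy : y ∈ V) (hy1 : y ≠ 1)
    {a w : G} (ha : a ∈ ww V cf y) (hw : w ∈ ww V cf z) (hw1 : w ∈ qq V cf y) :
    R.phi a • R.pi w - R.pi w = 0 ∨ R.phi a • R.pi w - R.pi w = R.pi y := by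
  have hz := h.ln.z_mem
  have hz1 := h.ln.z_ne
  rw [R.comm_eq h (h.ww_le_cf' hy hy1 hz hz1 ha) hw]
  have e5 : a * w * a⁻¹ * w⁻¹ = (w * a * w⁻¹ * a⁻¹)⁻¹ := by group
  rcases h.qq_cases hy hw1 ha with e6 | e6
  · left; rw [e5, e6]
    have : (a * a⁻¹)⁻¹ = 1 := by group
    rw [this, R.pi_one h]
  · right; rw [e5, e6, mul_assoc, mul_inv_cancel, mul_one, h.ln.inv_eq hy]

/-- `k = 1`: `a m - m ∈ {0, v0, u0, u0 + v0}` -/
theorem br_cases [Finite G] (R : MRep V cf z M H) (h : Fam T V z cf) (hk : Fam.One1 V cf) {y : G} (hy : y ∈ V)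
    (hy1 : y ≠ 1) (hyz : y ≠ z) {a : G} (ha : a ∈ ww V cf y) :
    ∃ u0 : M, ∀ m : M, R.phi a • m - m = 0 ∨ R.phi a • m - m = R.pi y ∨ R.phi a • m - m = u0 ∨
      R.phi a • m - m = u0 + R.pi y := by
  have hz := h.ln.z_mem
  have hz1 := h.ln.z_ne
  obtain ⟨w0, hw0, hw0y⟩ := h.exists_not_qq hz hz1 hy hy1 hyz
  refine ⟨R.phi a • R.pi w0 - R.pi w0, fun m => ?_⟩
  obtain ⟨w, hw, rfl⟩ := R.pi_surj m
  by_cases hwy : w ∈ qq V cf y
  · rcases R.br_one h hy hy1 ha hw hwy with e | e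
    · exact Or.inl e
    · exact Or.inr (Or.inl e)
  · have h1 := hk z hz hz1 y hy hy1 hyz w hw w0 hw0 hwy hw0y
    have h2 := R.br_one h hy hy1 ha (mul_mem hw hw0) h1
    have e0 : R.pi w0 + R.pi w0 = 0 := R.two h _
    have e1 : R.pi w = R.pi (w * w0) + R.pi w0 := by
      rw [R.pi_mul w hw w0 hw0, add_assoc, e0, add_zero]
    have e2 : R.phi a • R.pi w - R.pi w =
        (R.phi a • R.pi w0 - R.pi w0) + (R.phi a • R.pi (w * w0) - R.pi (w * w0)) := by
      rw [e1, smul_add]; abel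
    right; right
    rcases h2 with e | e
    · left; rw [e2, e, add_zero]
    · right; rw [e2, e]

/-- the image of a non-member of `Q_z` is nontrivial, an involution -/
theorem phi_ne_one (R : MRep V cf z M H) {a : G} (ha : a ∈ cf z) (ha1 : a ∉ qq V cf z) : R.phi a ≠ 1 :=
  fun e => ha1 ((R.phi_ker a ha).mp e)

/-- `k = 1`: `a` is central in the stabilizer of `v0` -/
theorem cen_A [Finite G] (R : MRep V cf z M H) (h : Fam T V z cf) (hk : Fam.One1 V cf) {y : G} (hy : y ∈ V)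
    (hy1 : y ≠ 1) (hyz : y ≠ z) {a : G} (ha : a ∈ ww V cf y) {x : H} (hx : x • R.pi y = R.pi y) :
    x * R.phi a = R.phi a * x := by
  have hz := h.ln.z_mem
  have hz1 := h.ln.z_ne
  have hac := h.ww_le_cf' hy hy1 hz hz1 ha
  by_cases haz : a ∈ qq V cf z
  · rw [(R.phi_ker a hac).mpr haz, mul_one, one_mul]
  obtain ⟨a', ha', e, d, hd, hdx, hda⟩ := R.norm_A h hy hy1 hy hy1 hyz hx ha
  have hac' := h.ww_le_cf' hy hy1 hz hz1 ha'
  have ha'z : a' ∉ qq V cf z := by
    intro h1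
    apply haz
    rw [← R.phi_ker a hac]
    rw [(R.phi_ker a' hac').mpr h1] at e
    exact conj_eq_one_iff.mp e
  have h2 := hk y hy hy1 z hz hz1 (Ne.symm hyz) a' ha' a ha ha'z haz
  have h3 : R.phi a' = R.phi a := by
    rw [R.phi_eq hac' hac, h.inv_ww hy hy1 ha]
    exact h2
  rw [h3] at e
  exact mul_inv_eq_iff_eq_mul.mp e

end MRep

end Cfsg.Agent.Omega.NO3S.Fit

end

private theorem dce_bcba383e35e4 : _root_.True := by
  try have : _root_.True := by simp only [_root_.Cfsg.Agent.Omega.NO3S.Fit.ww.eq_1]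
  try have : _root_.True := by simp only [_root_.Cfsg.Agent.Omega.NO3S.Fit.qq.eq_1]
  exact _root_.True.intro
end

-- part: Mrg/Omega/NOThree/Ru/Plane
section
prune_inst 0xc01002105322000000180500a00022501800000000270001e100020007088501e0400701906032001102aa742036802003dc00490030000020008200411c05a1042a02428048100021000040f885180c00000000000000000000000000000000000000000
set_option linter.all false
open scoped Cfsg.Agent.FastGrp

section


/-!
# NO-3S, `q = 2`, `M_x` natural for `SL₂(4)` (helper881's text #12858): input of sections 3 and 4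

`U` is a plane (`|U| = 8`), `W p`, `K p`, `L p` are attached to the points `p ∈ U#` (`W p = ⟨lines on p⟩`,
`K p` = kernel of `C(p)` on `W p/p`, `L p = ⟨W q : q ∈ W p, q ≠ 1⟩`).

* `Fl U W K p q g`: a flag element: `g ∈ W p ∩ K q`, `g ∉ U` (the flag is the point `p` on the line `{p, q, pq}`);
* `Ind U p q w`: three independent elements of `U`;
* `YU U W = ⟨W p : p ∈ U#⟩`;
* `Plane`: what sections 1 and 2 deliver.
-/

set_option autoImplicit false

namespace Cfsg.Agent.Omega.NOThree.Ru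

open Subgroup Cfsg Cfsg.Agent.MinSimple.Geo

variable {G : Type*} [Group G]

/-- `⟨W p : p ∈ U#⟩` -/
def YU (U : Subgroup G) (W : G → Subgroup G) : Subgroup G := closure {w | ∃ p ∈ U, p ≠ 1 ∧ w ∈ W p}

/-- `g ∈ W p ∩ K q`, `g ∉ U` -/
structure Fl (U : Subgroup G) (W K : G → Subgroup G) (p q g : G) : Prop where
  mem : g ∈ W p
  notMem : g ∉ U
  memK : g ∈ K q

/-- three independent elements of the elementary abelian group `U` -/
structure Ind (U : Subgroup G) (p q w : G) : Prop where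
  p_mem : p ∈ U
  q_mem : q ∈ U
  w_mem : w ∈ U
  p_ne : p ≠ 1
  q_ne : q ≠ 1
  pq : p ≠ q
  w_ne : w ≠ 1
  pw : p ≠ w
  qw : q ≠ w
  pqw : p * q ≠ w

/-- The plane configuration: everything that sections 3 and 4 use. -/
structure Plane (z : G) (U : Subgroup G) (W K L : G → Subgroup G) : Prop where
  -- the plane
  card_U : Nat.card U = 8
  sq_U : ∀ u ∈ U, u * u = 1
  pt : ∀ u ∈ U, u ≠ 1 → ∃ g : G, g * z * g⁻¹ = u
  two : IsPGroup 2 (centralizer (U : Set G))
  -- conjugation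
  cj_W : ∀ g p : G, cj g (W p) = W (g * p * g⁻¹)
  cj_K : ∀ g p : G, cj g (K p) = K (g * p * g⁻¹)
  cj_L : ∀ g p : G, cj g (L p) = L (g * p * g⁻¹)
  -- the groups `W p`
  U_le : ∀ p ∈ U, p ≠ 1 → U ≤ W p
  sq_W : ∀ p ∈ U, p ≠ 1 → ∀ w ∈ W p, w * w = 1
  card_W : ∀ p ∈ U, p ≠ 1 → Nat.card (W p) = 32
  inf_W : ∀ p ∈ U, p ≠ 1 → ∀ q ∈ U, q ≠ 1 → p ≠ q → W p ⊓ W q = U
  -- the groups `K p`
  K_cent : ∀ p ∈ U, p ≠ 1 → ∀ k ∈ K p, k * p = p * k
  K_act : ∀ p ∈ U, p ≠ 1 → ∀ k ∈ K p, ∀ w ∈ W p, k * w * k⁻¹ = w ∨ k * w * k⁻¹ = w * p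
  /-- `C_{W p}(K p) = ⟨p⟩` -/
  K_fix : ∀ p ∈ U, p ≠ 1 → ∀ w ∈ W p, (∀ k ∈ K p, k * w = w * k) → w = 1 ∨ w = p
  -- flags
  exists_fl : ∀ p ∈ U, p ≠ 1 → ∀ q ∈ U, q ≠ 1 → p ≠ q → ∃ g, Fl U W K p q g
  fl_mul : ∀ p ∈ U, p ≠ 1 → ∀ q ∈ U, q ≠ 1 → p ≠ q → ∀ g, Fl U W K p q g → Fl U W K p (p * q) g
  /-- `W p ∩ K q` has index two in `W p` -/
  fl_index : ∀ p ∈ U, p ≠ 1 → ∀ q ∈ U, q ≠ 1 → p ≠ q → ∀ a ∈ W p, ∀ b ∈ W p, a ∉ K q → b ∉ K q → a * b ∈ K q
  /-- `β(e_p^n, e_q^n) = 0` for the line `n = {p, q, pq}` -/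
  fl_comm : ∀ p ∈ U, p ≠ 1 → ∀ q ∈ U, q ≠ 1 → p ≠ q → ∀ g g', Fl U W K p q g → Fl U W K q p g' → g * g' = g' * g
  /-- `β(e_p^n, e_q^m) = q` for `m ≠ n` -/
  fl_act : ∀ p ∈ U, p ≠ 1 → ∀ q ∈ U, q ≠ 1 → p ≠ q → ∀ g g', Fl U W K p q g → g' ∈ W q → g' ∉ K p →
    g * g' = g' * g * q
  /-- `β(e_p^l, e_q^m) = l' ∩ m'` for `l, m ≠ n`: with `w = l ∩ m` this is `p q w` -/
  fl_tri : ∀ p q w, Ind U p q w → ∀ g g', Fl U W K p w g → Fl U W K q w g' → g * g' = g' * g * (p * q * w)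
  -- the centraliser of `U`
  /-- `C_U = Y_U B_p` -/
  cent : ∀ p ∈ U, p ≠ 1 → ∀ c ∈ centralizer (U : Set G), ∃ y ∈ YU U W, ∃ b ∈ centralizer (W p : Set G), c = y * b
  -- the groups `L p`
  L_cent : ∀ p ∈ U, p ≠ 1 → ∀ l ∈ L p, l * p = p * l
  W_le_L : ∀ p ∈ U, p ≠ 1 → ∀ q ∈ U, q ≠ 1 → W q ≤ L p
  /-- `L p` centralises `B_p/W_p` -/
  L_B : ∀ p ∈ U, p ≠ 1 → ∀ l ∈ L p, ∀ b ∈ centralizer (W p : Set G), l * b * l⁻¹ * b⁻¹ ∈ W p
  /-- the transvections with centre `p` on `U` are induced by elements of `L p` -/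
  L_tv : ∀ p u w, Ind U p u w → ∃ l ∈ L p, l * u * l⁻¹ = u * p ∧ l * w * l⁻¹ = w
  /-- `L p` is generated by the `W (l q l⁻¹)`, `l ∈ L p`, `q ∈ U#` -/
  L_gen : ∀ p ∈ U, p ≠ 1 → ∀ c : G, (∀ l ∈ L p, ∀ q ∈ U, q ≠ 1 → ∀ w ∈ W (l * q * l⁻¹), c * w = w * c) →
    ∀ l ∈ L p, c * l = l * c
  /-- `C_G(⟨L p, L q⟩) = 1` -/
  L_inf : ∀ p ∈ U, p ≠ 1 → ∀ q ∈ U, q ≠ 1 → p ≠ q → ∀ c : G, (∀ l ∈ L p, c * l = l * c) →
    (∀ l ∈ L q, c * l = l * c) → c = 1

end Cfsg.Agent.Omega.NOThree.Ru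

end

section


/-!
# NO-3S, `q = 2`, `M_x` natural for `SL₂(4)` (helper881's text #12858): sections 5 and 6

* `exists_comm_of_second` (section 5): if `v` is an involution which is not conjugate to `z` and every involution of
  `C_G(v)` is in `U` or has all its conjugates of `z` in `U`, then every conjugate of `z` centralizes an element of `U#`.
* `Planes.mem_pCore` (section 6): five planes on every point, covering a group of order 32, every conjugate of `z`
  centralizes an element of every plane: any two conjugates of `z` generate a 2-group, so `z ∈ O₂(G)`.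
-/

set_option autoImplicit false

namespace Cfsg.Agent.Omega.NOThree.Ru

open Subgroup Cfsg.Agent.MinSimple.Geo Cfsg.Agent.Involutions

variable {G : Type*} [Group G]

/-- two nonconjugate involutions of a finite group commute with a common involution of the group generated by them -/
theorem exists_comm_invol [Finite G] {v r : G} (hv : v * v = 1) (hr : r * r = 1)
    (hvr : ¬ IsConj v r) : ∃ i : G, i * i = 1 ∧ i ≠ 1 ∧ i * v = v * i ∧ i * r = r * i := by
  have hev : Even (orderOf (v * r)) := by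
    rw [← Nat.not_odd_iff_even]
    exact fun h => hvr (PairCount.isConj_of_odd_orderOf_mul hv hr h)
  set n := orderOf (v * r) / 2 with hn
  have h2 := PairCount.orderOf_pow_half hev
  rw [← hn] at h2
  refine ⟨(v * r) ^ n, PairCount.mul_self_of_orderOf_two h2, ?_, ?_, ?_⟩
  · intro e
    rw [e, orderOf_one] at h2
    omega
  · have h3 : v * (v * r) * v⁻¹ = (v * r)⁻¹ := PairCount.mul_inverts hv hr
    have h4 : v * (v * r) ^ n * v⁻¹ = (v * r) ^ n := by
      rw [← conj_pow, h3, inv_pow]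
      exact inv_eq_of_mul_eq_one_left (PairCount.mul_self_of_orderOf_two h2)
    calc (v * r) ^ n * v = (v * (v * r) ^ n * v⁻¹) * v := by rw [h4]
      _ = v * (v * r) ^ n := by group
  · have h3 : r * (v * r) * r⁻¹ = (v * r)⁻¹ := by
      rw [mul_inv_rev, inv_eq_of_mul_eq_one_left hr, inv_eq_of_mul_eq_one_left hv]
      calc r * (v * r) * r = r * v * (r * r) := by group
        _ = r * v := by rw [hr, mul_one]
    have h4 : r * (v * r) ^ n * r⁻¹ = (v * r) ^ n := by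
      rw [← conj_pow, h3, inv_pow]
      exact inv_eq_of_mul_eq_one_left (PairCount.mul_self_of_orderOf_two h2)
    calc (v * r) ^ n * r = (r * (v * r) ^ n * r⁻¹) * r := by rw [h4]
      _ = r * (v * r) ^ n := by group

/-- section 5 -/
theorem exists_comm_of_second [Finite G] {z v : G} {U : Subgroup G} (hz : z * z = 1) (hz1 : z ≠ 1)
    (hv : v * v = 1) (hvz : ∀ g : G, g * z * g⁻¹ ≠ v)
    (h4 : ∀ i : G, i * i = 1 → i ≠ 1 → i * v = v * i →
      i ∈ U ∨ ∀ g : G, g * z * g⁻¹ * i = i * (g * z * g⁻¹) → g * z * g⁻¹ ∈ U) (g : G) :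
    ∃ u ∈ U, u ≠ 1 ∧ g * z * g⁻¹ * u = u * (g * z * g⁻¹) := by
  have hr : g * z * g⁻¹ * (g * z * g⁻¹) = 1 := by
    calc g * z * g⁻¹ * (g * z * g⁻¹) = g * (z * z) * g⁻¹ := by group
      _ = 1 := by rw [hz]; group
  have hr1 : g * z * g⁻¹ ≠ 1 := fun e => hz1 (by
    have : z = g⁻¹ * (g * z * g⁻¹) * g := by group
    rw [this, e]; group)
  obtain ⟨i, hi, hi1, hiv, hir⟩ := exists_comm_invol hv hr (by
    intro hc
    obtain ⟨c, hc⟩ := isConj_iff.mp hc
    refine hvz (c⁻¹ * g) ?_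
    calc c⁻¹ * g * z * (c⁻¹ * g)⁻¹ = c⁻¹ * (g * z * g⁻¹) * c := by group
      _ = c⁻¹ * (c * v * c⁻¹) * c := by rw [hc]
      _ = v := by group)
  rcases h4 i hi hi1 hiv with h | h
  · exact ⟨i, h, hi1, hir.symm⟩
  · exact ⟨_, h g hir.symm, hr1, rfl⟩

/-- two involutions whose product has order dividing 4 generate a 2-group -/
theorem isPGroup_closure_pair {z r : G} (hz : z * z = 1) (hr : r * r = 1)
    (h : z * r * (z * r) * (z * r * (z * r)) = 1) :
    IsPGroup 2 (closure {z, r} : Subgroup G) := by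
  have hzi : z⁻¹ = z := inv_eq_of_mul_eq_one_left hz
  have hri : r⁻¹ = r := inv_eq_of_mul_eq_one_left hr
  have h4 : (z * r) ^ 4 = 1 := by
    calc (z * r) ^ 4 = z * r * (z * r) * (z * r * (z * r)) := by
          simp only [pow_succ, pow_zero, one_mul, mul_assoc]
      _ = 1 := h
  have h1 : IsPGroup 2 (zpowers (z * r)) := by
    rintro ⟨x, hx⟩
    obtain ⟨k, rfl⟩ := mem_zpowers_iff.mp hx
    refine ⟨2, Subtype.ext ?_⟩
    change ((z * r) ^ k) ^ (2 ^ 2) = 1
    have : ((z * r) ^ k) ^ (2 ^ 2) = ((z * r) ^ 4) ^ k := by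
      rw [← zpow_natCast, ← zpow_mul, ← zpow_natCast, ← zpow_mul, mul_comm]
      norm_num
    rw [this, h4, one_zpow]
  have h2 : IsPGroup 2 (zpowers z) := isPGroup_zpowers hz
  have hn : zpowers z ≤ normalizer (zpowers (z * r) : Set G) := by
    rw [zpowers_le]
    refine Cfsg.Agent.ZN.Block.mem_normalizer_of ?_ ?_
    · intro m hm
      obtain ⟨k, rfl⟩ := mem_zpowers_iff.mp hm
      rw [← conj_zpow, PairCount.mul_inverts hz hr]
      exact zpow_mem (inv_mem (mem_zpowers _)) k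
    · intro m hm
      obtain ⟨k, rfl⟩ := mem_zpowers_iff.mp hm
      have e : z⁻¹ * (z * r) ^ k * z = z * (z * r) ^ k * z⁻¹ := by rw [hzi]
      rw [e, ← conj_zpow, PairCount.mul_inverts hz hr]
      exact zpow_mem (inv_mem (mem_zpowers _)) k
  have h3 := IsPGroup.to_sup_of_normal_right' h2 h1 hn
  refine h3.to_le ?_
  rw [closure_le]
  rintro x (rfl | hx)
  · exact mem_sup_left (mem_zpowers _)
  · rw [Set.mem_singleton_iff] at hx
    subst hx
    have e : x = z * (z * x) := by rw [← mul_assoc, hz, one_mul]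
    have h5 : z * (z * x) ∈ zpowers z ⊔ zpowers (z * x) :=
      mul_mem (mem_sup_left (mem_zpowers _)) (mem_sup_right (mem_zpowers _))
    rw [← e] at h5
    exact h5

/-- section 6: the planes on `z` -/
structure Planes (z : G) (P : Set (Subgroup G)) (W : Subgroup G) : Prop where
  zz : z * z = 1
  z_ne : z ≠ 1
  conj : ∀ U ∈ P, ∀ g : G, cj g U ∈ P
  sq : ∀ U ∈ P, ∀ u ∈ U, u * u = 1
  /-- a line is in at most one plane -/
  uniq : ∀ U ∈ P, ∀ U' ∈ P, ∀ a ∈ U, ∀ b ∈ U, a ∈ U' → b ∈ U' → a ≠ 1 → b ≠ 1 → a ≠ b → U = U'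
  /-- `W = W_z` is covered by the five planes on `z` -/
  cover : ∀ w ∈ W, ∃ U ∈ P, z ∈ U ∧ w ∈ U
  le : ∀ U ∈ P, z ∈ U → U ≤ W
  five : {U | U ∈ P ∧ z ∈ U}.ncard = 5
  card_W : Nat.card W = 32
  /-- section 5 -/
  cent : ∀ U ∈ P, ∀ g : G, ∃ u ∈ U, u ≠ 1 ∧ g * z * g⁻¹ * u = u * (g * z * g⁻¹)

namespace Planes

variable {z : G} {P : Set (Subgroup G)} {W : Subgroup G}

/-- some plane on `z` contains two points commuting with `r` -/
theorem exists_two [Finite G] (h : Planes z P W) (g : G) (hzr : z * (g * z * g⁻¹) ≠ g * z * g⁻¹ * z) :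
    ∃ U ∈ P, z ∈ U ∧ ∃ a ∈ U, ∃ b ∈ U, a ≠ 1 ∧ b ≠ 1 ∧ a ≠ b ∧
      g * z * g⁻¹ * a = a * (g * z * g⁻¹) ∧ g * z * g⁻¹ * b = b * (g * z * g⁻¹) := by
  classical
  by_contra hcon
  push Not at hcon
  set r := g * z * g⁻¹ with hr
  let D : Subgroup G := W ⊓ centralizer ({r} : Set G)
  have hD : ∀ d, d ∈ D ↔ d ∈ W ∧ r * d = d * r := by
    intro d
    rw [mem_inf, mem_centralizer_singleton_iff]
    exact and_congr_right fun _ => eq_comm
  have hone : ∀ d ∈ D, d ≠ 1 → ∀ U ∈ P, z ∈ U → d ∈ U → ∀ U' ∈ P, z ∈ U' → d ∈ U' → U = U' := by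
    intro d hd hd1 U hU hzU hdU U' hU' hzU' hdU'
    refine h.uniq U hU U' hU' z hzU d hdU hzU' hdU' h.z_ne hd1 ?_
    intro e
    rw [← e] at hd
    exact hzr ((hD z).mp hd).2.symm
  have hex : ∀ d : {d : D // d ≠ 1}, ∃ U, (U ∈ P ∧ z ∈ U) ∧ ((d : D) : G) ∈ U := by
    intro d
    obtain ⟨U, hU, hzU, hdU⟩ := h.cover _ ((hD _).mp (d : D).2).1
    exact ⟨U, ⟨hU, hzU⟩, hdU⟩
  choose f hf1 hf2 using hex
  let F : {d : D // d ≠ 1} → {U | U ∈ P ∧ z ∈ U} := fun d => ⟨f d, hf1 d⟩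
  have hcoe : ∀ d : {d : D // d ≠ 1}, ((d : D) : G) ≠ 1 := fun d e => d.2 (Subtype.ext e)
  have hinj : Function.Injective F := by
    intro d d' hdd
    have hU : f d = f d' := congrArg Subtype.val hdd
    by_contra hne
    have hne' : ((d : D) : G) ≠ ((d' : D) : G) := fun e => hne (Subtype.ext (Subtype.ext e))
    have h1 := ((hD _).mp (d : D).2).2
    have h2 := ((hD _).mp (d' : D).2).2
    exact hcon (f d) (hf1 d).1 (hf1 d).2 _ (hf2 d) _ (hU ▸ hf2 d') (hcoe d) (hcoe d') hne' h1 h2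
  have hsurj : Function.Surjective F := by
    rintro ⟨U, hU, hzU⟩
    obtain ⟨u, hu, hu1, hur⟩ := h.cent U hU g
    have huD : u ∈ D := (hD u).mpr ⟨h.le U hU hzU hu, hur⟩
    refine ⟨⟨⟨u, huD⟩, fun e => hu1 (congrArg Subtype.val e)⟩, ?_⟩
    apply Subtype.ext
    exact hone u huD hu1 _ (hf1 _).1 (hf1 _).2 (hf2 _) U hU hzU hu
  have hcard : Nat.card {d : D // d ≠ 1} = 5 := by
    rw [Nat.card_congr (Equiv.ofBijective F ⟨hinj, hsurj⟩)]
    exact h.five
  have h6 : Nat.card D = 6 := by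
    have h1 : Nat.card {d : D // d = 1} + Nat.card {d : D // ¬ d = 1} = Nat.card D := by
      rw [← Nat.card_sum]
      exact Nat.card_congr (Equiv.sumCompl _)
    have h2 : Nat.card {d : D // d = 1} = 1 := by simp
    have h3 : Nat.card {d : D // ¬ d = 1} = 5 := hcard
    omega
  have hdvd : Nat.card D ∣ Nat.card W := card_dvd_of_le inf_le_left
  rw [h6, h.card_W] at hdvd
  omega

/-- section 6: any two conjugates of `z` generate a 2-group -/
theorem isPGroup [Finite G] (h : Planes z P W) (g : G) :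
    IsPGroup 2 (closure {z, g * z * g⁻¹} : Subgroup G) := by
  have hr : g * z * g⁻¹ * (g * z * g⁻¹) = 1 := by
    calc g * z * g⁻¹ * (g * z * g⁻¹) = g * (z * z) * g⁻¹ := by group
      _ = 1 := by rw [h.zz]; group
  refine isPGroup_closure_pair h.zz hr ?_
  by_cases hzr : z * (g * z * g⁻¹) = g * z * g⁻¹ * z
  · set r := g * z * g⁻¹
    have h1 : z * r * (z * r) = 1 := by
      calc z * r * (z * r) = z * (r * z) * r := by group
        _ = (z * z) * (r * r) := by rw [← hzr]; group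
        _ = 1 := by rw [h.zz, hr, mul_one]
    rw [h1, mul_one]
  · obtain ⟨U, hU, hzU, a, ha, b, hb, ha1, hb1, hab, hra, hrb⟩ := h.exists_two g hzr
    set r := g * z * g⁻¹
    have hri : r⁻¹ = r := inv_eq_of_mul_eq_one_left hr
    have hca : ∀ c ∈ U, r * c = c * r → c ∈ cj r U := by
      intro c hc hrc
      rw [mem_cj]
      have : r⁻¹ * c * r = c := by rw [mul_assoc, ← hrc, inv_mul_cancel_left]
      rw [this]; exact hc
    have hUr : U = cj r U := h.uniq U hU _ (h.conj U hU r) a ha b hb (hca a ha hra) (hca b hb hrb) ha1 hb1 hab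
    have hz' : r * z * r⁻¹ ∈ U := by
      have : r * z * r⁻¹ ∈ cj r U := conj_mem_cj hzU
      rwa [← hUr] at this
    have h1 : z * r * (z * r) ∈ U := by
      have e : z * r * (z * r) = z * (r * z * r⁻¹) := by rw [hri]; group
      rw [e]
      exact mul_mem hzU hz'
    exact h.sq U hU _ h1

theorem mem_pCore [Finite G] (h : Planes z P W) : z ∈ Cfsg.pCore 2 G := by
  have : Fact (Nat.Prime 2) := ⟨Nat.prime_two⟩
  exact BaerSuzuki.mem_pCore_of_conj_pairs z h.isPGroup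

end Planes

end Cfsg.Agent.Omega.NOThree.Ru

end

section


/-!
# The plane configuration: elementary facts

`Y = YU U W`: `U` is central in `Y`, `[Y, Y] ≤ U`, `[C_U, Y] ≤ U`, `C_U/D` is elementary abelian, `D = C_G(Y)`,
`D ∩ W p = U`.
-/

set_option autoImplicit false

namespace Cfsg.Agent.Omega.NOThree.Ru

open Subgroup Cfsg Cfsg.Agent.MinSimple.Geo

variable {G : Type*} [Group G]

namespace Ind

variable {U : Subgroup G} {p q w : G}

theorem swap (h : Ind U p q w) (hU : ∀ u ∈ U, u * u = 1) : Ind U q p w := by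
  refine ⟨h.q_mem, h.p_mem, h.w_mem, h.q_ne, h.p_ne, h.pq.symm, h.w_ne, h.qw, h.pw, ?_⟩
  have hc : q * p = p * q := by
    have h1 : ∀ u ∈ U, u⁻¹ = u := fun u hu => inv_eq_of_mul_eq_one_left (hU u hu)
    calc q * p = q⁻¹ * p⁻¹ := by rw [h1 q h.q_mem, h1 p h.p_mem]
      _ = (p * q)⁻¹ := by rw [mul_inv_rev]
      _ = p * q := h1 _ (mul_mem h.p_mem h.q_mem)
  rw [hc]; exact h.pqw

end Ind

namespace Plane

variable {z : G} {U : Subgroup G} {W K L : G → Subgroup G}

section Elem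

theorem inv_U (h : Plane z U W K L) {u : G} (hu : u ∈ U) : u⁻¹ = u := inv_eq_of_mul_eq_one_left (h.sq_U u hu)

theorem comm_U (h : Plane z U W K L) {u v : G} (hu : u ∈ U) (hv : v ∈ U) : u * v = v * u := by
  calc u * v = u⁻¹ * v⁻¹ := by rw [h.inv_U hu, h.inv_U hv]
    _ = (v * u)⁻¹ := by rw [mul_inv_rev]
    _ = v * u := h.inv_U (mul_mem hv hu)

theorem inv_W (h : Plane z U W K L) {p : G} (hp : p ∈ U) (hp1 : p ≠ 1) {u : G} (hu : u ∈ W p) : u⁻¹ = u :=
  inv_eq_of_mul_eq_one_left (h.sq_W p hp hp1 u hu)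

theorem comm_W (h : Plane z U W K L) {p : G} (hp : p ∈ U) (hp1 : p ≠ 1) {u v : G} (hu : u ∈ W p)
    (hv : v ∈ W p) : u * v = v * u := by
  calc u * v = u⁻¹ * v⁻¹ := by rw [h.inv_W hp hp1 hu, h.inv_W hp hp1 hv]
    _ = (v * u)⁻¹ := by rw [mul_inv_rev]
    _ = v * u := h.inv_W hp hp1 (mul_mem hv hu)

theorem W_le_Y (_ : Plane z U W K L) {p : G} (hp : p ∈ U) (hp1 : p ≠ 1) : W p ≤ YU U W :=
  fun _ hw => subset_closure ⟨p, hp, hp1, hw⟩

theorem exists_ne (h : Plane z U W K L) : ∃ p ∈ U, p ≠ 1 := by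
  have h1 : U ≠ ⊥ := by
    rintro rfl
    have := h.card_U
    rw [Subgroup.card_bot] at this
    omega
  obtain ⟨x, hx⟩ := (Subgroup.ne_bot_iff_exists_ne_one (H := U)).1 h1
  exact ⟨x, x.2, fun e => hx (Subtype.ext e)⟩

theorem U_le_Y (h : Plane z U W K L) : U ≤ YU U W := by
  obtain ⟨p, hp, hp1⟩ := h.exists_ne
  exact (h.U_le p hp hp1).trans (h.W_le_Y hp hp1)

/-- `Y` centralises `U` -/
theorem Y_comm (h : Plane z U W K L) {y u : G} (hy : y ∈ YU U W) (hu : u ∈ U) : y * u = u * y := by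
  induction hy using closure_induction with
  | mem w hw =>
    obtain ⟨p, hp, hp1, hw⟩ := hw
    exact h.comm_W hp hp1 hw (h.U_le p hp hp1 hu)
  | one => rw [one_mul, mul_one]
  | mul a b _ _ iha ihb => rw [mul_assoc, ihb, ← mul_assoc, iha, mul_assoc]
  | inv a _ ih =>
    calc a⁻¹ * u = a⁻¹ * (u * a) * a⁻¹ := by group
      _ = u * a⁻¹ := by rw [← ih]; group

theorem Y_le (h : Plane z U W K L) : YU U W ≤ centralizer (U : Set G) := fun y hy => by
  rw [mem_centralizer_iff]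
  exact fun u hu => (h.Y_comm hy hu).symm

theorem W_le_C (h : Plane z U W K L) {p : G} (hp : p ∈ U) (hp1 : p ≠ 1) : W p ≤ centralizer (U : Set G) :=
  (h.W_le_Y hp hp1).trans h.Y_le

theorem mem_C {c : G} : c ∈ centralizer (U : Set G) ↔ ∀ u ∈ U, c * u = u * c := by
  rw [mem_centralizer_iff]
  exact ⟨fun h1 u hu => (h1 u hu).symm, fun h1 u hu => (h1 u hu).symm⟩

theorem conj_C {c u : G} (hc : c ∈ centralizer (U : Set G)) (hu : u ∈ U) : c * u * c⁻¹ = u := by
  rw [mem_C.1 hc u hu, mul_inv_cancel_right]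

/-- an element which centralises `p` normalises `W p` -/
theorem conj_W (h : Plane z U W K L) {p c w : G} (hc : c * p * c⁻¹ = p) (hw : w ∈ W p) : c * w * c⁻¹ ∈ W p := by
  have := conj_mem_cj (g := c) hw
  rwa [h.cj_W, hc] at this

theorem comm_WW (h : Plane z U W K L) {p q : G} (hp : p ∈ U) (hp1 : p ≠ 1) (hq : q ∈ U) (hq1 : q ≠ 1)
    {w w' : G} (hw : w ∈ W p) (hw' : w' ∈ W q) : w * w' * w⁻¹ * w'⁻¹ ∈ U := by
  by_cases hpq : p = q
  · subst hpq
    rw [h.comm_W hp hp1 hw hw']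
    have : w' * w * w⁻¹ * w'⁻¹ = 1 := by group
    rw [this]; exact one_mem _
  · rw [← h.inf_W p hp hp1 q hq hq1 hpq]
    have h1 := h.conj_W (conj_C (h.W_le_C hp hp1 hw) hq) hw'
    have h2 : w' * w⁻¹ * w'⁻¹ ∈ W p := h.conj_W (conj_C (h.W_le_C hq hq1 hw') hp) ((W p).inv_mem hw)
    refine ⟨?_, (W q).mul_mem h1 ((W q).inv_mem hw')⟩
    have e : w * w' * w⁻¹ * w'⁻¹ = w * (w' * w⁻¹ * w'⁻¹) := by group
    rw [e]
    exact mul_mem hw h2

theorem comm_mul_right {a y y' : G} (hy : y ∈ centralizer (U : Set G)) (h1 : a * y * a⁻¹ * y⁻¹ ∈ U)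
    (h2 : a * y' * a⁻¹ * y'⁻¹ ∈ U) : a * (y * y') * a⁻¹ * (y * y')⁻¹ ∈ U := by
  have e : a * (y * y') * a⁻¹ * (y * y')⁻¹ = a * y * a⁻¹ * y⁻¹ * (y * (a * y' * a⁻¹ * y'⁻¹) * y⁻¹) := by group
  rw [e, conj_C hy h2]
  exact mul_mem h1 h2

/-- `[C_U, Y] ≤ U` as soon as it holds on the generators -/
theorem comm_of_gen (h : Plane z U W K L) {c : G}
    (hw : ∀ p ∈ U, p ≠ 1 → ∀ w ∈ W p, c * w * c⁻¹ * w⁻¹ ∈ U) {y : G} (hy : y ∈ YU U W) :
    c * y * c⁻¹ * y⁻¹ ∈ U := by
  induction hy using closure_induction with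
  | mem w hw' =>
    obtain ⟨p, hp, hp1, hw'⟩ := hw'
    exact hw p hp hp1 w hw'
  | one => simp [one_mem]
  | mul a b ha _ iha ihb => exact comm_mul_right (h.Y_le ha) iha ihb
  | inv a ha ih =>
    have e : c * a⁻¹ * c⁻¹ * a⁻¹⁻¹ = a⁻¹ * (c * a * c⁻¹ * a⁻¹)⁻¹ * a⁻¹⁻¹ := by group
    rw [e, conj_C (inv_mem (h.Y_le ha)) (inv_mem ih)]
    exact inv_mem ih

theorem comm_YW (h : Plane z U W K L) {q : G} (hq : q ∈ U) (hq1 : q ≠ 1) {y w : G} (hy : y ∈ YU U W)
    (hw : w ∈ W q) : y * w * y⁻¹ * w⁻¹ ∈ U := by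
  have h1 : w * y * w⁻¹ * y⁻¹ ∈ U := h.comm_of_gen (fun p hp hp1 w' hw' => h.comm_WW hq hq1 hp hp1 hw hw') hy
  have e : y * w * y⁻¹ * w⁻¹ = (w * y * w⁻¹ * y⁻¹)⁻¹ := by group
  rw [e]
  exact inv_mem h1

/-- `[C_U, W p] ≤ U` -/
theorem comm_CW (h : Plane z U W K L) {c : G} (hc : c ∈ centralizer (U : Set G)) {p : G} (hp : p ∈ U)
    (hp1 : p ≠ 1) {w : G} (hw : w ∈ W p) : c * w * c⁻¹ * w⁻¹ ∈ U := by
  obtain ⟨y, hy, b, hb, rfl⟩ := h.cent p hp hp1 c hc
  have hbw : b * w = w * b := (mem_centralizer_iff.1 hb w hw).symm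
  have e : y * b * w * (y * b)⁻¹ * w⁻¹ = y * w * y⁻¹ * w⁻¹ := by
    rw [mul_inv_rev, mul_assoc y b w, hbw]; group
  rw [e]
  exact h.comm_YW hp hp1 hy hw

/-- `[C_U, Y] ≤ U` -/
theorem comm_CY (h : Plane z U W K L) {c y : G} (hc : c ∈ centralizer (U : Set G)) (hy : y ∈ YU U W) :
    c * y * c⁻¹ * y⁻¹ ∈ U :=
  h.comm_of_gen (fun _ hp hp1 _ hw => h.comm_CW hc hp hp1 hw) hy

theorem comm_YY (h : Plane z U W K L) {c y : G} (hc : c ∈ YU U W) (hy : y ∈ YU U W) :
    c * y * c⁻¹ * y⁻¹ ∈ U := h.comm_CY (h.Y_le hc) hy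

/-- `C_U` normalises `Y` -/
theorem C_conj_Y (h : Plane z U W K L) {c y : G} (hc : c ∈ centralizer (U : Set G)) (hy : y ∈ YU U W) :
    c * y * c⁻¹ ∈ YU U W := by
  have e : c * y * c⁻¹ = c * y * c⁻¹ * y⁻¹ * y := by group
  rw [e]
  exact mul_mem (h.U_le_Y (h.comm_CY hc hy)) hy

/-! ### `D = C_G(Y)` -/

theorem mem_D {d : G} : d ∈ centralizer (YU U W : Set G) ↔ ∀ y ∈ YU U W, d * y = y * d := by
  rw [mem_centralizer_iff]
  exact ⟨fun h1 u hu => (h1 u hu).symm, fun h1 u hu => (h1 u hu).symm⟩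

theorem mem_D_iff {d : G} : d ∈ centralizer (YU U W : Set G) ↔
    ∀ p ∈ U, p ≠ 1 → ∀ w ∈ W p, d * w = w * d := by
  rw [mem_D]
  constructor
  · intro h1 p hp hp1 w hw
    exact h1 w (subset_closure ⟨p, hp, hp1, hw⟩)
  · intro h1 y hy
    have h2 : YU U W ≤ centralizer ({d} : Set G) := by
      rw [YU, closure_le]
      rintro w ⟨p, hp, hp1, hw⟩
      exact mem_centralizer_singleton_iff.2 (h1 p hp hp1 w hw).symm
    exact (mem_centralizer_singleton_iff.1 (h2 hy)).symm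

theorem D_le_C (h : Plane z U W K L) : centralizer (YU U W : Set G) ≤ centralizer (U : Set G) :=
  centralizer_le h.U_le_Y

theorem D_le_B (h : Plane z U W K L) {p : G} (hp : p ∈ U) (hp1 : p ≠ 1) :
    centralizer (YU U W : Set G) ≤ centralizer (W p : Set G) := centralizer_le (h.W_le_Y hp hp1)

theorem U_le_D (h : Plane z U W K L) : U ≤ centralizer (YU U W : Set G) := fun u hu => by
  rw [mem_D]
  exact fun y hy => (h.Y_comm hy hu).symm

/-- a commuting action: `c w c⁻¹ = φ w` with `φ ∈ U` -/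
theorem C_act (h : Plane z U W K L) {c : G} (hc : c ∈ centralizer (U : Set G)) {p : G} (hp : p ∈ U)
    (hp1 : p ≠ 1) {w : G} (hw : w ∈ W p) : ∃ u ∈ U, c * w * c⁻¹ = u * w :=
  ⟨_, h.comm_CW hc hp hp1 hw, by group⟩

/-- `C_U/D` is abelian -/
theorem comm_CC (h : Plane z U W K L) {c c' : G} (hc : c ∈ centralizer (U : Set G))
    (hc' : c' ∈ centralizer (U : Set G)) : c * c' * c⁻¹ * c'⁻¹ ∈ centralizer (YU U W : Set G) := by
  rw [mem_D_iff]
  intro p hp hp1 w hw
  obtain ⟨u, hu, e⟩ := h.C_act hc hp hp1 hw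
  obtain ⟨u', hu', e'⟩ := h.C_act hc' hp hp1 hw
  have e1 : c * c' * w * (c * c')⁻¹ = u' * (u * w) := by
    calc c * c' * w * (c * c')⁻¹ = c * (c' * w * c'⁻¹) * c⁻¹ := by group
      _ = (c * u' * c⁻¹) * (c * w * c⁻¹) := by rw [e']; group
      _ = u' * (u * w) := by rw [conj_C hc hu', e]
  have e2 : c' * c * w * (c' * c)⁻¹ = u * (u' * w) := by
    calc c' * c * w * (c' * c)⁻¹ = c' * (c * w * c⁻¹) * c'⁻¹ := by group
      _ = (c' * u * c'⁻¹) * (c' * w * c'⁻¹) := by rw [e]; group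
      _ = u * (u' * w) := by rw [conj_C hc' hu, e']
  have e3 : u' * (u * w) = u * (u' * w) := by rw [← mul_assoc, h.comm_U hu' hu, mul_assoc]
  have e4 : c * c' * w * (c * c')⁻¹ = c' * c * w * (c' * c)⁻¹ := by rw [e1, e2, e3]
  have e5 : w = (c' * c)⁻¹ * (c * c' * w * (c * c')⁻¹) * (c' * c) := by rw [e4]; group
  -- `w` commutes with `(c'c)⁻¹ (cc')`
  have key : ∀ {x : G}, x ∈ W p → (c' * c)⁻¹ * (c * c') * x = x * ((c' * c)⁻¹ * (c * c')) := by
    intro x hx
    obtain ⟨u, hu, e⟩ := h.C_act hc hp hp1 hx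
    obtain ⟨u', hu', e'⟩ := h.C_act hc' hp hp1 hx
    have e1 : c * c' * x * (c * c')⁻¹ = u' * (u * x) := by
      calc c * c' * x * (c * c')⁻¹ = c * (c' * x * c'⁻¹) * c⁻¹ := by group
        _ = (c * u' * c⁻¹) * (c * x * c⁻¹) := by rw [e']; group
        _ = u' * (u * x) := by rw [conj_C hc hu', e]
    have e2 : c' * c * x * (c' * c)⁻¹ = u * (u' * x) := by
      calc c' * c * x * (c' * c)⁻¹ = c' * (c * x * c⁻¹) * c'⁻¹ := by group
        _ = (c' * u * c'⁻¹) * (c' * x * c'⁻¹) := by rw [e]; group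
        _ = u * (u' * x) := by rw [conj_C hc' hu, e']
    have e3 : u' * (u * x) = u * (u' * x) := by rw [← mul_assoc, h.comm_U hu' hu, mul_assoc]
    have e4 : c * c' * x * (c * c')⁻¹ = c' * c * x * (c' * c)⁻¹ := by rw [e1, e2, e3]
    calc (c' * c)⁻¹ * (c * c') * x = (c' * c)⁻¹ * (c * c' * x * (c * c')⁻¹) * (c * c') := by group
      _ = (c' * c)⁻¹ * (c' * c * x * (c' * c)⁻¹) * (c * c') := by rw [e4]
      _ = x * ((c' * c)⁻¹ * (c * c')) := by group
  -- conjugate by `c' c`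
  have hcc : c' * c ∈ centralizer (U : Set G) := mul_mem hc' hc
  have hx := h.conj_W (p := p) (c := (c' * c)⁻¹) (w := w) (by
    have := conj_C (inv_mem hcc) hp
    simpa using this) hw
  rw [inv_inv] at hx
  have h6 := key hx
  calc c * c' * c⁻¹ * c'⁻¹ * w = (c' * c) * ((c' * c)⁻¹ * (c * c') * ((c' * c)⁻¹ * w * (c' * c))) * (c' * c)⁻¹ := by
        group
    _ = (c' * c) * ((c' * c)⁻¹ * w * (c' * c) * ((c' * c)⁻¹ * (c * c'))) * (c' * c)⁻¹ := by rw [h6]
    _ = w * (c * c' * c⁻¹ * c'⁻¹) := by group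

/-- `C_U/D` has exponent two -/
theorem sq_C (h : Plane z U W K L) {c : G} (hc : c ∈ centralizer (U : Set G)) :
    c * c ∈ centralizer (YU U W : Set G) := by
  rw [mem_D_iff]
  intro p hp hp1 w hw
  obtain ⟨u, hu, e⟩ := h.C_act hc hp hp1 hw
  have e1 : c * c * w * (c * c)⁻¹ = w := by
    calc c * c * w * (c * c)⁻¹ = c * (c * w * c⁻¹) * c⁻¹ := by group
      _ = (c * u * c⁻¹) * (c * w * c⁻¹) := by
          rw [show c * (c * w * c⁻¹) * c⁻¹ = c * (u * w) * c⁻¹ by rw [e]]; group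
      _ = u * (u * w) := by rw [conj_C hc hu, e]
      _ = w := by rw [← mul_assoc, h.sq_U u hu, one_mul]
  exact mul_inv_eq_iff_eq_mul.1 e1

end Elem

/-! ### Flags -/

section Flags

theorem fl_notMem (h : Plane z U W K L) {p q w g' : G} (i : Ind U p q w) (hg' : Fl U W K q w g') : g' ∉ K p := by
  intro hk
  have hF : Fl U W K q p g' := ⟨hg'.mem, hg'.notMem, hk⟩
  obtain ⟨g, hg⟩ := h.exists_fl p i.p_mem i.p_ne w i.w_mem i.w_ne i.pw
  have e1 := h.fl_tri p q w i g g' hg hg'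
  by_cases hgq : g ∈ K q
  · have e2 := h.fl_comm p i.p_mem i.p_ne q i.q_mem i.q_ne i.pq g g' ⟨hg.mem, hg.notMem, hgq⟩ hF
    rw [e2] at e1
    have e3 : p * q * w = 1 := (left_eq_mul.1 e1)
    apply i.pqw
    rw [mul_eq_one_iff_eq_inv, h.inv_U i.w_mem] at e3
    exact e3
  · have e2 := h.fl_act q i.q_mem i.q_ne p i.p_mem i.p_ne i.pq.symm g' g hF hg.mem hgq
    -- `g' g = g g' p`, `g g' = g' g (pqw)`
    have e3 : g * g' = g * g' * (p * (p * q * w)) := by
      calc g * g' = g' * g * (p * q * w) := e1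
        _ = _ := by rw [e2]; group
    have e4 : p * (p * q * w) = 1 := left_eq_mul.1 e3
    apply i.qw
    have e5 : p * (p * q * w) = q * w := by
      rw [mul_assoc p q w, ← mul_assoc, h.sq_U p i.p_mem, one_mul]
    rw [e5, mul_eq_one_iff_eq_inv, h.inv_U i.w_mem] at e4
    exact e4

theorem com_gen (h : Plane z U W K L) {p q w g g' : G} (i : Ind U p q w) (hg : Fl U W K p w g)
    (hg' : Fl U W K q w g') : g * g' = g' * g * (p * q * w) := h.fl_tri p q w i g g' hg hg'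

theorem com_left (h : Plane z U W K L) {p q w g g' : G} (i : Ind U p q w) (hg : Fl U W K p q g)
    (hg' : Fl U W K q w g') : g * g' = g' * g * q :=
  h.fl_act p i.p_mem i.p_ne q i.q_mem i.q_ne i.pq g g' hg hg'.mem (h.fl_notMem i hg')

theorem com_right (h : Plane z U W K L) {p q w g g' : G} (i : Ind U p q w) (hg : Fl U W K p w g)
    (hg' : Fl U W K q p g') : g * g' = g' * g * p := by
  have e := h.fl_act q i.q_mem i.q_ne p i.p_mem i.p_ne i.pq.symm g' g hg' hg.mem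
    (h.fl_notMem (i.swap h.sq_U) hg)
  rw [e, mul_assoc, h.sq_U p i.p_mem, mul_one]

/-- `D ∩ W p = U` -/
theorem D_inf_W (h : Plane z U W K L) {p : G} (hp : p ∈ U) (hp1 : p ≠ 1) {w : G} (hw : w ∈ W p)
    (hwD : w ∈ centralizer (YU U W : Set G)) {q r : G} (i : Ind U p q r) : w ∈ U := by
  by_contra hwU
  have hc : ∀ p' ∈ U, p' ≠ 1 → ∀ w' ∈ W p', w * w' = w' * w := mem_D_iff.1 hwD
  by_cases hwq : w ∈ K q
  · -- a flag on `{p, q, pq}`
    obtain ⟨g', hg'⟩ := h.exists_fl q i.q_mem i.q_ne r i.w_mem i.w_ne i.qw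
    have e := h.com_left i ⟨hw, hwU, hwq⟩ hg'
    rw [hc q i.q_mem i.q_ne g' hg'.mem] at e
    exact i.q_ne (left_eq_mul.1 e)
  · obtain ⟨g', hg'⟩ := h.exists_fl q i.q_mem i.q_ne p hp hp1 i.pq.symm
    have e := h.fl_act q i.q_mem i.q_ne p hp hp1 i.pq.symm g' w hg' hw hwq
    rw [hc q i.q_mem i.q_ne g' hg'.mem] at e
    exact hp1 (left_eq_mul.1 e)

end Flags

end Plane

end Cfsg.Agent.Omega.NOThree.Ru

end

private theorem dce_55043e1379fa : _root_.True := by
  try have : _root_.True := by simp only [_root_.Cfsg.Agent.Omega.NOThree.Ru.YU.eq_1]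
  exact _root_.True.intro
end

-- part: Mrg/Omega/NO3S/Fit/PlaneAct
section
prune_inst 0xc01002004000000000180500a0000000100000000040000000000000004880400000000100000010000088000000002001cc0000020000000000000040000401000a020080480000200000002080000000000000000000000000000000000000000000000
set_option linter.all false
open scoped Cfsg.Agent.FastGrp

-- merged: Cfsg.Agent.Mrg.Omega.NO3S.Fit.Cmp
section

section


/-!
# NO-3S, `q = 2`, `n = 1` (helper311's text #13963): comparison of a subfamily with the family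

`K ≥ Stab_H(v0)`, the subfamily `subf V z (R.pre K)`, its representation `R'` on `M'` by `H'`: `θ : M' → M` injective with range
`⟨v0^K⟩`, `κ : K → H'` onto, `θ (κ x • m) = x • θ m`.
-/

set_option autoImplicit false
set_option linter.unusedSectionVars false

namespace Cfsg.Agent.Omega.NO3S.Fit

open Subgroup Cfsg Cfsg.Agent.ZN Cfsg.Agent.MinSimple.Geo Cfsg.Agent.Omega.CaseL
open Cfsg.Agent.ZN.Block (conj_mem_of_normalizer conj_mem_of_normalizer' le_normalizer_of_forall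
  mem_normalizer_of)

universe u

variable {G : Type u} [Group G] {T V : Subgroup G} {z : G} {cf : G → Subgroup G}
variable {M H M' H' : Type u} [AddCommGroup M] [Group H] [DistribMulAction H M]
  [AddCommGroup M'] [Group H'] [DistribMulAction H' M']

/-- the span of the `K`-orbit of `v` -/
def spn (K : Subgroup H) (v : M) : AddSubgroup M := AddSubgroup.closure (Set.range fun x : K => (x : H) • v)

theorem smul_mem_spn' {K : Subgroup H} {x : H} (hx : x ∈ K) (v : M) : x • v ∈ spn K v :=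
  AddSubgroup.subset_closure ⟨⟨x, hx⟩, rfl⟩

/-- comparison of the representation `R` of the family with the representation `R'` of the subfamily `pre K` -/
structure Cmp (R : MRep V cf z M H) (y : G) (K : Subgroup H) (R' : MRep V (subf V z (R.pre K)) z M' H')
    (θ : M' →+ M) (κ : K →* H') : Prop where
  inj : Function.Injective θ
  surj : Function.Surjective κ
  pi : ∀ w ∈ wf V (R.pre K), θ (R'.pi w) = R.pi w
  phi : ∀ (c : G) (hc : c ∈ R.pre K), κ ⟨R.phi c, (R.mem_pre.mp hc).2⟩ = R'.phi c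
  act : ∀ (x : K) (m : M'), θ (κ x • m) = (x : H) • θ m
  range : ∀ m, (∃ m', θ m' = m) ↔ m ∈ spn K (R.pi y)

theorem exists_cmp [Finite G] (R : MRep V cf z M H) (h : Fam T V z cf) {y : G} (hy : y ∈ V) (hy1 : y ≠ 1)
    (hyz : y ≠ z) {K : Subgroup H} (hK : ∀ x : H, x • R.pi y = R.pi y → x ∈ K)
    (R' : MRep V (subf V z (R.pre K)) z M' H') (h' : Fam T V z (subf V z (R.pre K))) :
    ∃ (θ : M' →+ M) (κ : K →* H'), Cmp R y K R' θ κ := by
  classical
  have hz := h.ln.z_mem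
  have hz1 := h.ln.z_ne
  have hC := R.le_pre h hy hy1 hyz hK
  have hCle : (R.pre K) ≤ cf z := R.pre_le K
  have eW : ww V (subf V z (R.pre K)) z = wf V (R.pre K) := Fam.ww_subf hC
  have eC : subf V z (R.pre K) z = (R.pre K) := subf_z hC
  have hWW : wf V (R.pre K) ≤ ww V cf z := wf_mono hCle
  have hpi' : ∀ w ∈ wf V (R.pre K), ∀ w' ∈ wf V (R.pre K), (R'.pi w = R'.pi w' ↔ R.pi w = R.pi w') := by
    intro w hw w' hw'
    rw [R'.pi_eq h' (by rw [eW]; exact hw) (by rw [eW]; exact hw'), R.pi_eq h (hWW hw) (hWW hw')]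
  have hphi' : ∀ c ∈ (R.pre K), ∀ c' ∈ (R.pre K), R.phi c = R.phi c' → R'.phi c = R'.phi c' := by
    intro c hc c' hc' e
    rw [R.phi_eq (hCle hc) (hCle hc')] at e
    rw [R'.phi_eq (by rw [eC]; exact hc) (by rw [eC]; exact hc')]
    refine ⟨by rw [eC]; exact mul_mem hc (inv_mem hc'), e.2.1, fun w hw => e.2.2 w ?_⟩
    rw [eC] at hw
    exact hWW hw
  -- `θ`
  have hs : ∀ m : M', ∃ w ∈ wf V (R.pre K), R'.pi w = m := by
    intro m
    obtain ⟨w, hw, e⟩ := R'.pi_surj m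
    exact ⟨w, by rwa [eW] at hw, e⟩
  choose s hs1 hs2 using hs
  have hθ : ∀ w ∈ wf V (R.pre K), R.pi (s (R'.pi w)) = R.pi w := by
    intro w hw
    exact (hpi' _ (hs1 _) _ hw).mp (hs2 _)
  have hadd : ∀ w ∈ wf V (R.pre K), ∀ w' ∈ wf V (R.pre K), R'.pi (w * w') = R'.pi w + R'.pi w' := by
    intro w hw w' hw'
    exact R'.pi_mul w (by rw [eW]; exact hw) w' (by rw [eW]; exact hw')
  let θ : M' →+ M :=
    { toFun := fun m => R.pi (s m)
      map_zero' := by
        have h1 : R'.pi 1 = 0 := R'.pi_one h'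
        have h2 := hθ 1 (one_mem _)
        rw [h1, R.pi_one h] at h2
        exact h2
      map_add' := by
        intro a b
        have h2 := hθ (s a * s b) (mul_mem (hs1 a) (hs1 b))
        rw [hadd _ (hs1 a) _ (hs1 b), hs2, hs2] at h2
        rw [h2, R.pi_mul _ (hWW (hs1 a)) _ (hWW (hs1 b))] }
  have hθpi : ∀ w ∈ wf V (R.pre K), θ (R'.pi w) = R.pi w := hθ
  -- `κ`
  have ht : ∀ x : K, ∃ c, ∃ hc : c ∈ (R.pre K), R.phi c = (x : H) := by
    intro x
    obtain ⟨c, hc, e⟩ := R.phi_surj (x : H)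
    exact ⟨c, R.mem_pre.mpr ⟨hc, by rw [e]; exact x.2⟩, e⟩
  choose t ht1 ht2 using ht
  have hκ : ∀ (c : G) (hc : c ∈ (R.pre K)), R'.phi (t ⟨R.phi c, (R.mem_pre.mp hc).2⟩) = R'.phi c := by
    intro c hc
    exact hphi' _ (ht1 _) _ hc (ht2 _)
  let κ : K →* H' :=
    { toFun := fun x => R'.phi (t x)
      map_one' := by
        have h1 : R.phi 1 = 1 := R.phi_one'
        have h2 := hphi' _ (ht1 1) 1 (one_mem _) (by rw [ht2, h1]; rfl)
        rw [h2, R'.phi_one']
      map_mul' := by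
        intro a b
        have h2 := hphi' _ (ht1 (a * b)) (t a * t b) (mul_mem (ht1 a) (ht1 b)) (by
          rw [ht2, R.phi_mul _ (hCle (ht1 a)) _ (hCle (ht1 b)), ht2, ht2]; rfl)
        rw [h2, R'.phi_mul _ (by rw [eC]; exact ht1 a) _ (by rw [eC]; exact ht1 b)] }
  have hκphi : ∀ (c : G) (hc : c ∈ (R.pre K)), κ ⟨R.phi c, (R.mem_pre.mp hc).2⟩ = R'.phi c := hκ
  refine ⟨θ, κ, ?_, ?_, hθpi, hκphi, ?_, ?_⟩
  · intro a b e
    have e' : R.pi (s a) = R.pi (s b) := e
    rw [← hpi' _ (hs1 a) _ (hs1 b), hs2, hs2] at e'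
    exact e'
  · intro x
    obtain ⟨c, hc, rfl⟩ := R'.phi_surj x
    rw [eC] at hc
    exact ⟨_, hκphi c hc⟩
  · intro x m
    obtain ⟨w, hw, rfl⟩ : ∃ w ∈ wf V (R.pre K), R'.pi w = m := ⟨s m, hs1 m, hs2 m⟩
    have e1 : κ x = R'.phi (t x) := rfl
    rw [e1, R'.act _ (by rw [eC]; exact ht1 x) w (by rw [eW]; exact hw),
      hθpi _ (conj_mem_wf (ht1 x) hw), hθpi w hw, ← ht2 x, R.act _ (hCle (ht1 x)) w (hWW hw)]
  · intro m
    constructor
    · rintro ⟨m', rfl⟩
      exact ((R.mem_wf_pre h hy hy1 hyz K).mp (hs1 m')).2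
    · intro hm
      have hm' : m ∈ AddSubgroup.closure (Set.range fun x : K => (x : H) • R.pi y) := hm
      obtain ⟨w, hw, e⟩ := R.pi_surj m
      have hw' : w ∈ wf V (R.pre K) := (R.mem_wf_pre h hy hy1 hyz K).mpr ⟨hw, by rw [e]; exact hm'⟩
      exact ⟨R'.pi w, by rw [hθpi w hw', e]⟩

namespace Cmp

variable {R : MRep V cf z M H} {y : G} {K : Subgroup H} {R' : MRep V (subf V z (R.pre K)) z M' H'}
  {θ : M' →+ M} {κ : K →* H'}

theorem pi_y (c : Cmp R y K R' θ κ) (hy : y ∈ V) : θ (R'.pi y) = R.pi y :=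
  c.pi y (V_le_wf V _ hy)

theorem card (c : Cmp R y K R' θ κ) : Nat.card M' = Nat.card (spn K (R.pi y)) := by
  refine Nat.card_congr (Equiv.ofBijective (fun m => (⟨θ m, (c.range _).mp ⟨m, rfl⟩⟩ : spn K (R.pi y))) ⟨?_, ?_⟩)
  · intro a b e
    exact c.inj (congrArg Subtype.val e)
  · rintro ⟨m, hm⟩
    obtain ⟨m', e⟩ := (c.range m).mpr hm
    exact ⟨m', Subtype.ext e⟩

/-- two elements of `K` with the same action on `⟨v0^K⟩` have the same image in `H'` -/
theorem eq_of [FaithfulSMul H' M'] (c : Cmp R y K R' θ κ) {a b : K}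
    (hab : ∀ m ∈ spn K (R.pi y), (a : H) • m = (b : H) • m) : κ a = κ b := by
  refine FaithfulSMul.eq_of_smul_eq_smul (α := M') fun m => c.inj ?_
  rw [c.act, c.act]
  exact hab _ ((c.range _).mp ⟨m, rfl⟩)

theorem mem_range (c : Cmp R y K R' θ κ) (m : M') : θ m ∈ spn K (R.pi y) := (c.range _).mp ⟨m, rfl⟩

/-- the stabilizer of `v0` in `H'` comes from the one in `K` -/
theorem stab (c : Cmp R y K R' θ κ) (hy : y ∈ V) {x : K} (hx : κ x • R'.pi y = R'.pi y) :
    (x : H) • R.pi y = R.pi y := by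
  rw [← c.pi_y hy, ← c.act, hx]

end Cmp

end Cfsg.Agent.Omega.NO3S.Fit

end

section


/-!
# LEMMA PLANE, the form on the seven points of a plane (abstract)

`E` is an elementary abelian group of order 8 with coordinates `e : 𝔽₂³ → E`; to every point `π ≠ 0` belongs a
subgroup `W π`, abelian and centralising `E`, with `[W π, W ρ] ≤ E`.  All `W ρ`, `ρ ≠ π`, act on
`W π / ⟨e π⟩` as the group of order 2 generated by `a π`.  The axioms `PForm` imply that for `π ≠ ρ` the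
commutator `[w, g]` (`w ∈ W π`, `g ∈ W ρ`) is the cross product `λ_π(w) × λ_ρ(g)`, where `λ_π(w)` is the
functional vanishing on the line `⟨π, [w, a π]⟩`.

Result (`exists_jj`): for `τ ≠ ξ` there are products `j = w₁w₂`, `j' = w₃w₄` which centralise `W ξ` and have
`[j, j'] = e τ`.
-/

set_option autoImplicit false
set_option synthInstance.maxHeartbeats 400000
set_option synthInstance.maxSize 1000
set_option maxRecDepth 100000

namespace Cfsg.Agent.Omega.NO3S.Fit.PlaneForm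

open Subgroup

/-- `𝔽₂³`. -/
abbrev V3 : Type := ZMod 2 × ZMod 2 × ZMod 2

/-- The cross product. -/
def cr (a b : V3) : V3 :=
  (a.2.1 * b.2.2 + a.2.2 * b.2.1, a.1 * b.2.2 + a.2.2 * b.1, a.1 * b.2.1 + a.2.1 * b.1)

/-- The scalar product. -/
def dt (a b : V3) : ZMod 2 := a.1 * b.1 + a.2.1 * b.2.1 + a.2.2 * b.2.2

theorem add_self : ∀ v : V3, v + v = 0 := by decide

theorem cr_add (a b c : V3) : cr a (b + c) = cr a b + cr a c := by
  obtain ⟨a1, a2, a3⟩ := a
  obtain ⟨b1, b2, b3⟩ := b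
  obtain ⟨c1, c2, c3⟩ := c
  simp only [cr, Prod.mk_add_mk, Prod.mk.injEq]
  refine ⟨by ring, by ring, by ring⟩

theorem dt_add (a b c : V3) : dt a (b + c) = dt a b + dt a c := by
  obtain ⟨a1, a2, a3⟩ := a
  obtain ⟨b1, b2, b3⟩ := b
  obtain ⟨c1, c2, c3⟩ := c
  simp only [dt, Prod.mk_add_mk]
  ring

theorem cr_self : ∀ a : V3, cr a a = 0 := by decide

theorem cr_zero : ∀ a : V3, cr a 0 = 0 := by decide

theorem dt_cr : ∀ a b : V3, dt a (cr a b) = 0 := by decide +kernel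

theorem dt_cr' : ∀ a b : V3, dt a (cr b a) = 0 := by decide +kernel

theorem cr_cr : ∀ p l m : V3, cr p (cr l m) = dt p m • l + dt p l • m := by decide +kernel

theorem eq_zero_of_cr : ∀ p r y : V3, p ≠ 0 → r ≠ 0 → p ≠ r → cr p y = 0 → cr r y = 0 → y = 0 := by
  decide +kernel

theorem eq_of_dt : ∀ p r m : V3, p ≠ 0 → r ≠ 0 → p ≠ r → dt p m = 0 → dt r m = 0 →
    m = 0 ∨ m = cr r p := by decide +kernel

theorem exists_of_dt : ∀ p m : V3, p ≠ 0 → dt p m = 0 → ∃ v, cr p v = m := by decide +kernel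

theorem eq_of_cr_zero : ∀ p v : V3, p ≠ 0 → cr p v = 0 → v = 0 ∨ v = p := by decide +kernel

theorem exists_lines : ∀ x t : V3, x ≠ 0 → t ≠ 0 → t ≠ x →
    ∃ p r m n : V3, (p ≠ 0 ∧ p ≠ x ∧ p ≠ t) ∧ (r ≠ 0 ∧ r ≠ x ∧ r ≠ t) ∧ p ≠ r ∧
      dt t m = 0 ∧ dt p m = 0 ∧ dt t n = 0 ∧ dt r n = 0 ∧ cr m n = t := by
  have key : ∀ x t : V3, x ≠ 0 → t ≠ 0 → t ≠ x → ∃ u : V3, (u ≠ 0 ∧ u ≠ x ∧ u ≠ t) ∧
      (x + u ≠ 0 ∧ x + u ≠ x ∧ x + u ≠ t) ∧ u ≠ x + u ∧
      dt t (cr t u) = 0 ∧ dt u (cr t u) = 0 ∧ dt t (cr t (x + u)) = 0 ∧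
        dt (x + u) (cr t (x + u)) = 0 ∧ cr (cr t u) (cr t (x + u)) = t := by decide +kernel
  intro x t h1 h2 h3
  obtain ⟨u, hu⟩ := key x t h1 h2 h3
  exact ⟨u, x + u, cr t u, cr t (x + u), hu⟩

variable {G : Type*} [Group G]

/-- The commutator `w g w⁻¹ g⁻¹`. -/
def cm (w g : G) : G := w * g * w⁻¹ * g⁻¹

theorem cm_eq_one {w g : G} : cm w g = 1 ↔ w * g = g * w := by
  unfold cm
  rw [mul_inv_eq_one, mul_inv_eq_iff_eq_mul]

theorem cm_inv (w g : G) : (cm w g)⁻¹ = cm g w := by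
  unfold cm
  group

theorem cm_mul_left {x y z c : G} (h : cm y z = c) (hc : x * c = c * x) :
    cm (x * y) z = c * cm x z := by
  have e1 : cm (x * y) z = x * cm y z * x⁻¹ * cm x z := by
    unfold cm
    group
  rw [e1, h, hc]
  group

theorem cm_mul_right {x y z c : G} (h : cm z y = c) (hc : x * c = c * x) :
    cm z (x * y) = cm z x * c := by
  have e1 : cm z (x * y) = cm z x * (x * cm z y * x⁻¹) := by
    unfold cm
    group
  rw [e1, h, hc]
  group

/-- The axioms. -/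
structure PForm (e : V3 → G) (W : V3 → Subgroup G) (a : V3 → G) : Prop where
  e_add : ∀ u v, e (u + v) = e u * e v
  e_inj : Function.Injective e
  comm : ∀ p, p ≠ 0 → ∀ w ∈ W p, ∀ w' ∈ W p, w * w' = w' * w
  cent : ∀ p, p ≠ 0 → ∀ w ∈ W p, ∀ v, w * e v = e v * w
  com : ∀ p r, p ≠ 0 → r ≠ 0 → p ≠ r → ∀ w ∈ W p, ∀ g ∈ W r, ∃ v, cm w g = e v
  amem : ∀ p, p ≠ 0 → ∃ r, r ≠ 0 ∧ r ≠ p ∧ a p ∈ W r
  same : ∀ p r, p ≠ 0 → r ≠ 0 → p ≠ r → ∀ g ∈ W r,
    (∀ w ∈ W p, cm w g = 1 ∨ cm w g = e p) ∨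
      (∀ w ∈ W p, cm w g = cm w (a p) ∨ cm w g = cm w (a p) * e p)
  onto : ∀ p, p ≠ 0 → ∀ v, ∃ w ∈ W p, cm w (a p) = e v ∨ cm w (a p) = e (v + p)
  inj : ∀ p, p ≠ 0 → ∀ w ∈ W p, (cm w (a p) = 1 ∨ cm w (a p) = e p) →
    ∀ r, r ≠ 0 → ∀ g ∈ W r, w * g = g * w
  one : ∀ p r, p ≠ 0 → r ≠ 0 → p ≠ r → ∃ w ∈ W p,
    (∀ g ∈ W r, cm w g = 1 ∨ cm w g = e r) ∧ ∃ g ∈ W r, cm w g = e r

/-- The coordinate of a commutator. -/
noncomputable def vl (e : V3 → G) (w g : G) : V3 := by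
  classical
  exact if h : ∃ v, cm w g = e v then h.choose else 0

theorem vl_spec {e : V3 → G} {w g : G} (h : ∃ v, cm w g = e v) : cm w g = e (vl e w g) := by
  unfold vl
  rw [dif_pos h]
  exact h.choose_spec

namespace PForm

variable {e : V3 → G} {W : V3 → Subgroup G} {a : V3 → G} (h : PForm e W a)
include h

theorem e_zero : e 0 = 1 := by
  have h1 := h.e_add 0 0
  rw [add_zero] at h1
  exact left_eq_mul.mp h1

theorem e_inv (v : V3) : (e v)⁻¹ = e v := by
  apply inv_eq_of_mul_eq_one_left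
  rw [← h.e_add, add_self, h.e_zero]

theorem vl_eq {w g : G} {v : V3} (hv : cm w g = e v) : vl e w g = v :=
  h.e_inj ((vl_spec ⟨v, hv⟩).symm.trans hv)

theorem vl_symm {w g : G} (hv : ∃ v, cm w g = e v) : vl e g w = vl e w g := by
  apply h.vl_eq
  rw [← cm_inv, vl_spec hv, h.e_inv]

theorem com' {p r : V3} (hp : p ≠ 0) (hr : r ≠ 0) {w g : G} (hw : w ∈ W p) (hg : g ∈ W r) :
    ∃ v, cm w g = e v := by
  by_cases hpr : p = r
  · subst hpr
    exact ⟨0, by rw [h.e_zero]; exact cm_eq_one.mpr (h.comm p hp w hw g hg)⟩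
  · exact h.com p r hp hr hpr w hw g hg

theorem vl_mul_left {p r : V3} (hp : p ≠ 0) (hr : r ≠ 0) {w w' g : G} (hw : w ∈ W p)
    (hw' : w' ∈ W p) (hg : g ∈ W r) : vl e (w * w') g = vl e w g + vl e w' g := by
  apply h.vl_eq
  rw [cm_mul_left (vl_spec (h.com' hp hr hw' hg)) (h.cent p hp w hw _),
    vl_spec (h.com' hp hr hw hg), ← h.e_add, add_comm]

/-- The functional `λ_π(w)`. -/
theorem a_com {p : V3} (hp : p ≠ 0) {w : G} (hw : w ∈ W p) : ∃ v, cm w (a p) = e v := by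
  obtain ⟨r, hr, -, ha⟩ := h.amem p hp
  exact h.com' hp hr hw ha

omit h in
/-- `λ_π(w) = π × [w, a π]`. -/
noncomputable def lam (e : V3 → G) (a : V3 → G) (p : V3) (w : G) : V3 := cr p (vl e w (a p))

theorem lam_mul {p : V3} (hp : p ≠ 0) {w w' : G} (hw : w ∈ W p) (hw' : w' ∈ W p) :
    lam e a p (w * w') = lam e a p w + lam e a p w' := by
  obtain ⟨r, hr, -, ha⟩ := h.amem p hp
  unfold lam
  rw [h.vl_mul_left hp hr hw hw' ha, cr_add]

omit h in
theorem dt_lam (p : V3) (w : G) : dt p (lam e a p w) = 0 := dt_cr _ _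

/-- Elements with `λ = 0` are central. -/
theorem comm_of_lam {p : V3} (hp : p ≠ 0) {w : G} (hw : w ∈ W p) (h0 : lam e a p w = 0) {r : V3}
    (hr : r ≠ 0) {g : G} (hg : g ∈ W r) : w * g = g * w := by
  refine h.inj p hp w hw ?_ r hr g hg
  rw [vl_spec (h.a_com hp hw)]
  rcases eq_of_cr_zero p _ hp h0 with h1 | h1
  · left; rw [h1, h.e_zero]
  · right; rw [h1]

/-- If `[g, w] = e ρ'` with `ρ' ∉ {0, p}` ... : the second alternative of `same`. -/
theorem lam_eq_of {p r : V3} (hp : p ≠ 0) (hr : r ≠ 0) (hpr : p ≠ r) {w g : G} (hw : w ∈ W p)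
    (hg : g ∈ W r) (hwg : cm w g = e r) : lam e a p w = cr p r := by
  have hne : ¬ ∀ w ∈ W p, cm w g = 1 ∨ cm w g = e p := by
    intro hcon
    rcases hcon w hw with h1 | h1
    · rw [hwg, ← h.e_zero] at h1
      exact hr (h.e_inj h1)
    · rw [hwg] at h1
      exact hpr (h.e_inj h1).symm
  rcases (h.same p r hp hr hpr g hg).resolve_left hne w hw with h1 | h1
  · rw [hwg] at h1
    unfold lam
    rw [h.vl_eq h1.symm]
  · rw [hwg, vl_spec (h.a_com hp hw), ← h.e_add] at h1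
    have h2 := h.e_inj h1
    unfold lam
    rw [h2, cr_add, cr_self, add_zero]

/-- Elements of `W p` centralising `W r` have `λ = 0`. -/
theorem lam_zero_of {p r : V3} (hp : p ≠ 0) (hr : r ≠ 0) (hpr : p ≠ r) {w : G} (hw : w ∈ W p)
    (hc : ∀ g ∈ W r, cm w g = 1) : lam e a p w = 0 := by
  obtain ⟨g', hg', -, g, hg, hgg⟩ := h.one r p hr hp (Ne.symm hpr)
  -- here `g' ∈ W r`, `g ∈ W p`, `[g', g] = e p`; use the pair `(p, r)` instead
  obtain ⟨w₁, hw₁, -, g₁, hg₁, h₁⟩ := h.one p r hp hr hpr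
  have hne : ¬ ∀ w ∈ W p, cm w g₁ = 1 ∨ cm w g₁ = e p := by
    intro hcon
    rcases hcon w₁ hw₁ with h1 | h1
    · rw [h₁, ← h.e_zero] at h1
      exact hr (h.e_inj h1)
    · rw [h₁] at h1
      exact hpr (h.e_inj h1).symm
  rcases (h.same p r hp hr hpr g₁ hg₁).resolve_left hne w hw with h1 | h1
  · rw [hc g₁ hg₁] at h1
    unfold lam
    rw [h.vl_eq (v := 0) (by rw [← h1, h.e_zero]), cr_zero]
  · rw [hc g₁ hg₁, vl_spec (h.a_com hp hw), ← h.e_add, ← h.e_zero] at h1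
    have h2 := h.e_inj h1
    unfold lam
    have h3 : vl e w (a p) = p := by
      have h4 : vl e w (a p) + p + p = p := by rw [← h2, zero_add]
      rwa [add_assoc, add_self, add_zero] at h4
    rw [h3, cr_self]

theorem cr_vl {p r : V3} (hp : p ≠ 0) (hr : r ≠ 0) (hpr : p ≠ r) {w g : G} (hw : w ∈ W p)
    (hg : g ∈ W r) : cr p (vl e w g) = dt p (lam e a r g) • lam e a p w := by
  by_cases hA : ∀ w ∈ W p, cm w g = 1 ∨ cm w g = e p
  · have h0 : cr p (vl e w g) = 0 := by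
      rcases hA w hw with h1 | h1
      · rw [h.vl_eq (v := 0) (by rw [h1, h.e_zero]), cr_zero]
      · rw [h.vl_eq h1, cr_self]
    have h1 : dt p (lam e a r g) = 0 := by
      by_cases hex : ∃ w₀ ∈ W p, cm w₀ g = e p
      · obtain ⟨w₀, hw₀, hwg⟩ := hex
        have h2 : cm g w₀ = e p := by rw [← cm_inv, hwg, h.e_inv]
        rw [h.lam_eq_of hr hp (Ne.symm hpr) hg hw₀ h2]
        exact dt_cr' _ _
      · push Not at hex
        have h2 : lam e a r g = 0 := by
          refine h.lam_zero_of hr hp (Ne.symm hpr) hg fun w hw => ?_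
          have h3 := (hA w hw).resolve_right (hex w hw)
          rw [← cm_inv, h3, inv_one]
        rw [h2]
        simp [dt]
    rw [h0, h1, zero_smul]
  · have hB := (h.same p r hp hr hpr g hg).resolve_left hA
    have h0 : cr p (vl e w g) = lam e a p w := by
      unfold lam
      rcases hB w hw with h1 | h1
      · rw [h.vl_eq (h1.trans (vl_spec (h.a_com hp hw)))]
      · rw [vl_spec (h.a_com hp hw), ← h.e_add] at h1
        rw [h.vl_eq h1, cr_add, cr_self, add_zero]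
    have h1 : dt p (lam e a r g) = 1 := by
      by_contra hcon
      have hz : ∀ x : ZMod 2, x ≠ 1 → x = 0 := by decide
      have h2 := hz _ hcon
      apply hA
      rcases eq_of_dt p r (lam e a r g) hp hr hpr h2 (dt_lam r g) with h3 | h3
      · intro w hw
        left
        exact cm_eq_one.mpr (h.comm_of_lam hr hg h3 hp hw).symm
      · obtain ⟨g₁, hg₁, hall, w₁, hw₁, hgw⟩ := h.one r p hr hp (Ne.symm hpr)
        have h4 := h.lam_eq_of hr hp (Ne.symm hpr) hg₁ hw₁ hgw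
        have h5 : lam e a r (g * g₁) = 0 := by
          rw [h.lam_mul hr hg hg₁, h3, h4, add_self]
        intro w hw
        have h6 := h.comm_of_lam hr ((W r).mul_mem hg hg₁) h5 hp hw
        -- `w` commutes with `g g₁`
        have h7 : cm w (g * g₁) = 1 := cm_eq_one.mpr h6.symm
        obtain ⟨v, hv⟩ := h.com' hp hr hw hg₁
        rw [cm_mul_right hv (h.cent r hr g hg v)] at h7
        have h8 : cm w g = e v := by
          rw [mul_eq_one_iff_eq_inv, h.e_inv] at h7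
          exact h7
        have h9 : cm g₁ w = e v := by rw [← cm_inv, hv, h.e_inv]
        rcases hall w hw with h10 | h10
        · left; rw [h8, ← h9, h10]
        · right; rw [h8, ← h9, h10]
    rw [h0, h1, one_smul]

/-- **The commutator is the cross product.** -/
theorem vl_eq_cr {p r : V3} (hp : p ≠ 0) (hr : r ≠ 0) (hpr : p ≠ r) {w g : G} (hw : w ∈ W p)
    (hg : g ∈ W r) : vl e w g = cr (lam e a p w) (lam e a r g) := by
  have h1 := h.cr_vl hp hr hpr hw hg
  have h2 := h.cr_vl hr hp (Ne.symm hpr) hg hw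
  rw [h.vl_symm (h.com' hp hr hw hg)] at h2
  have h3 : cr p (cr (lam e a p w) (lam e a r g)) = dt p (lam e a r g) • lam e a p w := by
    rw [cr_cr, dt_lam, zero_smul, add_zero]
  have h4 : cr r (cr (lam e a p w) (lam e a r g)) = dt r (lam e a p w) • lam e a r g := by
    rw [cr_cr, dt_lam, zero_smul, zero_add]
  have h5 : vl e w g + cr (lam e a p w) (lam e a r g) = 0 := by
    apply eq_zero_of_cr p r _ hp hr hpr
    · rw [cr_add, h1, h3, add_self]
    · rw [cr_add, h2, h4, add_self]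
  have h6 : vl e w g + cr (lam e a p w) (lam e a r g) + cr (lam e a p w) (lam e a r g) =
      cr (lam e a p w) (lam e a r g) := by rw [h5, zero_add]
  rwa [add_assoc, add_self, add_zero] at h6

/-- Every functional vanishing at `p` is some `λ_p(w)`. -/
theorem exists_lam {p : V3} (hp : p ≠ 0) {m : V3} (hm : dt p m = 0) :
    ∃ w ∈ W p, lam e a p w = m := by
  obtain ⟨v, hv⟩ := exists_of_dt p m hp hm
  obtain ⟨w, hw, h1⟩ := h.onto p hp v
  refine ⟨w, hw, ?_⟩
  unfold lam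
  rcases h1 with h1 | h1
  · rw [h.vl_eq h1, hv]
  · rw [h.vl_eq h1, cr_add, cr_self, add_zero, hv]

/-- The product of elements over the same line at two points centralises the other points. -/
theorem comm_pair {x t p m : V3} (hx : x ≠ 0) (ht : t ≠ 0) (hp : p ≠ 0) (hxt : x ≠ t)
    (hxp : x ≠ p) {w₁ w₂ : G} (h1 : w₁ ∈ W t) (h2 : w₂ ∈ W p) (hl1 : lam e a t w₁ = m)
    (hl2 : lam e a p w₂ = m) {w : G} (hw : w ∈ W x) : w * (w₁ * w₂) = w₁ * w₂ * w := by
  rw [← cm_eq_one, cm_mul_right (vl_spec (h.com' hx hp hw h2)) (h.cent t ht w₁ h1 _),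
    vl_spec (h.com' hx ht hw h1), ← h.e_add, h.vl_eq_cr hx hp hxp hw h2,
    h.vl_eq_cr hx ht hxt hw h1, hl1, hl2, add_self, h.e_zero]

/-- **(b)** For `t ≠ x` there are products `j = w₁w₂`, `j' = w₃w₄` centralising `W x` with
`[j, j'] = e t`. -/
theorem exists_jj {x t : V3} (hx : x ≠ 0) (ht : t ≠ 0) (htx : t ≠ x) :
    ∃ p r : V3, p ≠ 0 ∧ r ≠ 0 ∧ ∃ w₁ ∈ W t, ∃ w₂ ∈ W p, ∃ w₃ ∈ W t, ∃ w₄ ∈ W r,
      (∀ w ∈ W x, w * (w₁ * w₂) = w₁ * w₂ * w) ∧ (∀ w ∈ W x, w * (w₃ * w₄) = w₃ * w₄ * w) ∧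
      cm (w₁ * w₂) (w₃ * w₄) = e t := by
  obtain ⟨p, r, m, n, ⟨hp, hpx, hpt⟩, ⟨hr, hrx, hrt⟩, hpr, h1, h2, h3, h4, h5⟩ :=
    exists_lines x t hx ht htx
  obtain ⟨w₁, hw₁, hl₁⟩ := h.exists_lam ht h1
  obtain ⟨w₂, hw₂, hl₂⟩ := h.exists_lam hp h2
  obtain ⟨w₃, hw₃, hl₃⟩ := h.exists_lam ht h3
  obtain ⟨w₄, hw₄, hl₄⟩ := h.exists_lam hr h4
  refine ⟨p, r, hp, hr, w₁, hw₁, w₂, hw₂, w₃, hw₃, w₄, hw₄, ?_, ?_, ?_⟩
  · intro w hw
    exact h.comm_pair hx ht hp (Ne.symm htx) (Ne.symm hpx) hw₁ hw₂ hl₁ hl₂ hw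
  · intro w hw
    exact h.comm_pair hx ht hr (Ne.symm htx) (Ne.symm hrx) hw₃ hw₄ hl₃ hl₄ hw
  · have c13 : cm w₁ w₃ = e 0 := by
      rw [h.e_zero]
      exact cm_eq_one.mpr (h.comm t ht w₁ hw₁ w₃ hw₃)
    have c14 : cm w₁ w₄ = e t := by
      rw [vl_spec (h.com' ht hr hw₁ hw₄), h.vl_eq_cr ht hr (Ne.symm hrt) hw₁ hw₄, hl₁, hl₄, h5]
    have c23 : cm w₂ w₃ = e t := by
      rw [vl_spec (h.com' hp ht hw₂ hw₃), h.vl_eq_cr hp ht hpt hw₂ hw₃, hl₂, hl₃, h5]
    have c24 : cm w₂ w₄ = e t := by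
      rw [vl_spec (h.com' hp hr hw₂ hw₄), h.vl_eq_cr hp hr hpr hw₂ hw₄, hl₂, hl₄, h5]
    have d1 : cm w₁ (w₃ * w₄) = e t := by
      rw [cm_mul_right c14 (h.cent t ht w₃ hw₃ t), c13, ← h.e_add, zero_add]
    have d2 : cm w₂ (w₃ * w₄) = e 0 := by
      rw [cm_mul_right c24 (h.cent t ht w₃ hw₃ t), c23, ← h.e_add, add_self]
    rw [cm_mul_left d2 (h.cent t ht w₁ hw₁ 0), d1, ← h.e_add, zero_add]

end PForm

end Cfsg.Agent.Omega.NO3S.Fit.PlaneForm

end

section


/-!
# LEMMA PLANE: the plane `E` and its seven points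

`Pl V E C Q W WY z y a`: the situation of LEMMA PLANE (helper311 #13963, section 2): `V = ⟨z, y⟩ ≤ E`, `|E| = 8`,
`W = W_z`, `WY = W_y`, `Q = Q_z` the kernel of `C = C_z` on `W / ⟨z⟩`, `a ∈ W_y` an involution with
`W_y ≤ Q ∪ Qa`, `E / ⟨z⟩ = [W / ⟨z⟩, a]` etc.
`Mov` : moreover `f ∈ C` commutes with `a` modulo `Q` and does not normalise `V`.
Then `N_G(E)` is 2-transitive on `E#`, `N_G(E) ∩ C_G(z) ≤ C`, and the conjugates `W_p` of `W` satisfy
`PlaneForm.PForm` (`pform`).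
-/

set_option autoImplicit false
set_option linter.unusedSectionVars false

namespace Cfsg.Agent.Omega.NO3S.Fit.PlaneCore

open Subgroup Cfsg Cfsg.Agent.MinSimple.Geo Cfsg.Agent.Omega.NO3S.Fit.PlaneForm

universe u

variable {G : Type u} [Group G]

theorem conj_cm (g x y : G) : g * cm x y * g⁻¹ = cm (g * x * g⁻¹) (g * y * g⁻¹) := by
  unfold cm
  group

theorem mem_zp {z x : G} (hz : z * z = 1) : x ∈ zpowers z ↔ x = 1 ∨ x = z := by
  constructor
  · intro hx
    obtain ⟨k, rfl⟩ := mem_zpowers_iff.mp hx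
    rcases Int.even_or_odd k with ⟨j, hj⟩ | ⟨j, hj⟩
    · left
      rw [hj, zpow_add, ← mul_zpow_mul_zpow_self hz]
    · right
      rw [hj, zpow_add, zpow_mul, zpow_one]
      have : z ^ (2 : ℤ) = 1 := by rw [zpow_two, hz]
      rw [this, one_zpow, one_mul]
  · rintro (rfl | rfl)
    · exact one_mem _
    · exact mem_zpowers _
where
  mul_zpow_mul_zpow_self {z : G} {j : ℤ} (hz : z * z = 1) : (1 : G) = z ^ j * z ^ j := by
    rw [← zpow_add, ← two_mul, zpow_mul]
    have : z ^ (2 : ℤ) = 1 := by rw [zpow_two, hz]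
    rw [this, one_zpow]

theorem cent_NV'' {V : Subgroup G} {g : G} (hg : ∀ x ∈ V, g * x = x * g) :
    g ∈ normalizer (V : Set G) := by
  rw [mem_normalizer_iff]
  intro x
  constructor
  · intro hx
    rwa [hg x hx, mul_inv_cancel_right]
  · intro hx
    have h1 := hg _ hx
    have h2 : x = g * x * g⁻¹ := by
      have h3 : g * (g * x * g⁻¹) = g * x := by rw [h1]; group
      exact (mul_left_cancel h3).symm
    rw [h2]
    exact hx

/-- The situation of LEMMA PLANE. -/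
structure Pl (V E C Q W WY : Subgroup G) (z y a : G) : Prop where
  memQ : ∀ c, c ∈ Q ↔ c ∈ C ∧ ∀ w ∈ W, cm c w = 1 ∨ cm c w = z
  Cz : ∀ c ∈ C, c * z = z * c
  CW : ∀ c ∈ C, ∀ w ∈ W, c * w * c⁻¹ ∈ W
  ge : ∀ g ∈ normalizer (V : Set G), g * z = z * g → g ∈ C
  ab : ∀ w ∈ W, ∀ w' ∈ W, w * w' = w' * w
  sqW : ∀ w ∈ W, w * w = 1
  zz : z * z = 1
  yy : y * y = 1
  z1 : z ≠ 1
  y1 : y ≠ 1
  yz : y ≠ z
  zV : z ∈ V
  yV : y ∈ V
  four : ∀ v ∈ V, v = 1 ∨ v = z ∨ v = y ∨ v = z * y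
  VE : V ≤ E
  EW : E ≤ W
  sqE : ∀ u ∈ E, u * u = 1
  idx : ∀ u ∈ E, ∀ v ∈ E, u ∉ V → v ∉ V → u * v ∈ V
  neE : ∃ u ∈ E, u ∉ V
  NE : normalizer (V : Set G) ≤ normalizer (E : Set G)
  tr : ∀ v ∈ V, v ≠ 1 → ∃ g ∈ normalizer (V : Set G), g * z * g⁻¹ = v
  sw : ∃ q ∈ Q, q ∈ normalizer (V : Set G) ∧ q * y * q⁻¹ = z * y
  trE : ∀ u ∈ E, u ∉ V → ∀ v ∈ V, ∃ c, (∀ x ∈ V, c * x = x * c) ∧ c * u * c⁻¹ = u * v
  WYdef : ∀ g ∈ normalizer (V : Set G), g * z * g⁻¹ = y → cj g W = WY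
  aW : a ∈ WY
  aa : a * a = 1
  aQ : a ∉ Q
  comE : ∀ w ∈ W, ∀ g ∈ WY, cm w g ∈ E
  k1 : ∀ g ∈ WY, g ∈ Q ∨ g * a ∈ Q
  onto : ∀ u ∈ E, ∃ w ∈ W, cm w a = u ∨ cm w a = u * z
  inj : ∀ w ∈ W, (cm w a = 1 ∨ cm w a = z) → ∀ g ∈ WY, w * g = g * w
  one : ∃ w ∈ W, (∀ g ∈ WY, cm w g = 1 ∨ cm w g = y) ∧ ∃ g ∈ WY, cm w g = y

namespace Pl

variable {V E C Q W WY : Subgroup G} {z y a : G} (h : Pl V E C Q W WY z y a)
include h

theorem zE : z ∈ E := h.VE h.zV

theorem yE : y ∈ E := h.VE h.yV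

theorem zW : z ∈ W := h.EW h.zE

theorem commE {u v : G} (hu : u ∈ E) (hv : v ∈ E) : u * v = v * u := h.ab u (h.EW hu) v (h.EW hv)

theorem QC {q : G} (hq : q ∈ Q) : q ∈ C := ((h.memQ q).mp hq).1

/-- `C_G(V) ≤ C` -/
theorem cent_C {g : G} (hg : ∀ x ∈ V, g * x = x * g) : g ∈ C := by
  exact h.ge g (cent_NV'' hg) (hg z h.zV)

theorem cent_NV {g : G} (hg : ∀ x ∈ V, g * x = x * g) : g ∈ normalizer (V : Set G) := cent_NV'' hg

theorem W_cent {w x : G} (hw : w ∈ W) (hx : x ∈ E) : w * x = x * w := h.ab w hw x (h.EW hx)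

theorem WY_cent {w x : G} (hw : w ∈ WY) (hx : x ∈ E) : w * x = x * w := by
  obtain ⟨g, hg, hgz⟩ := h.tr y h.yV h.y1
  rw [← h.WYdef g hg hgz, mem_cj] at hw
  have hx' : g⁻¹ * x * g ∈ E := by
    have := (mem_normalizer_iff'.mp (inv_mem (h.NE hg)) (x * g)).mp (by simpa using hx)
    rwa [← mul_assoc] at this
  have h1 := h.W_cent hw hx'
  have h2 : g * ((g⁻¹ * w * g) * (g⁻¹ * x * g)) * g⁻¹ = g * ((g⁻¹ * x * g) * (g⁻¹ * w * g)) * g⁻¹ := by
    rw [h1]
  have e1 : g * ((g⁻¹ * w * g) * (g⁻¹ * x * g)) * g⁻¹ = w * x := by group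
  have e2 : g * ((g⁻¹ * x * g) * (g⁻¹ * w * g)) * g⁻¹ = x * w := by group
  rwa [e1, e2] at h2

theorem WY_C {w : G} (hw : w ∈ WY) : w ∈ C := h.cent_C fun x hx => h.WY_cent hw (h.VE hx)

theorem aC : a ∈ C := h.WY_C h.aW

theorem a_inv : a⁻¹ = a := inv_eq_of_mul_eq_one_left h.aa

/-- `Q` is normal in `C`. -/
theorem Q_conj {c q : G} (hc : c ∈ C) (hq : q ∈ Q) : c * q * c⁻¹ ∈ Q := by
  rw [h.memQ]
  refine ⟨C.mul_mem (C.mul_mem hc (h.QC hq)) (C.inv_mem hc), fun w hw => ?_⟩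
  have hw' : c⁻¹ * w * c ∈ W := by
    have := h.CW c⁻¹ (C.inv_mem hc) w hw
    rwa [inv_inv] at this
  have e : cm (c * q * c⁻¹) w = c * cm q (c⁻¹ * w * c) * c⁻¹ := by
    rw [conj_cm]
    congr 1
    group
  rw [e]
  rcases ((h.memQ q).mp hq).2 _ hw' with h1 | h1
  · left; rw [h1]; group
  · right; rw [h1, h.Cz c hc]; group

/-- For `q ∈ Q`, `w ∈ W`: `q w q⁻¹ = w` or `z w`. -/
theorem Q_act {q w : G} (hq : q ∈ Q) (hw : w ∈ W) : q * w * q⁻¹ = w ∨ q * w * q⁻¹ = z * w := by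
  rcases ((h.memQ q).mp hq).2 w hw with h1 | h1
  · left
    unfold cm at h1
    exact mul_inv_eq_one.mp h1
  · right
    unfold cm at h1
    exact mul_inv_eq_iff_eq_mul.mp h1

/-- `q` normalises every subgroup between `z` and `W`. -/
theorem Q_E {q u : G} (hq : q ∈ Q) (hu : u ∈ E) : q * u * q⁻¹ ∈ E := by
  rcases h.Q_act hq (h.EW hu) with h1 | h1
  · rwa [h1]
  · rw [h1]; exact E.mul_mem h.zE hu

end Pl

/-- `f ∈ C` commutes with `a` modulo `Q` and does not normalise `V`. -/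
structure Mov (V E C Q W WY : Subgroup G) (z y a f : G) : Prop extends Pl V E C Q W WY z y a where
  fC : f ∈ C
  fa : f * a * f⁻¹ * a⁻¹ ∈ Q
  fV : f ∉ normalizer (V : Set G)

namespace Mov

variable {V E C Q W WY : Subgroup G} {z y a f : G} (h : Mov V E C Q W WY z y a f)
include h

theorem f_le {u : G} (hu : u ∈ E) : f * u * f⁻¹ ∈ E := by
  -- first for the commutators
  have key : ∀ w ∈ W, f * cm w a * f⁻¹ ∈ E := by
    intro w hw
    have hw' := h.CW f h.fC w hw
    set w' := f * w * f⁻¹ with hw'def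
    set q := f * a * f⁻¹ * a⁻¹ with hq
    have e1 : f * a * f⁻¹ = q * a := by rw [hq]; group
    have e2 : f * cm w a * f⁻¹ = cm w' q * (q * cm w' a * q⁻¹) := by
      rw [conj_cm, e1, ← hw'def]
      unfold cm
      group
    rw [e2]
    have h1 : cm w' q ∈ E := by
      rcases ((h.memQ q).mp h.fa).2 w' hw' with h2 | h2
      · rw [← cm_inv, h2, inv_one]; exact E.one_mem
      · rw [← cm_inv, h2]; exact E.inv_mem h.zE
    exact E.mul_mem h1 (h.Q_E h.fa (h.comE w' hw' a h.aW))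
  have hfz : f * z * f⁻¹ = z := by rw [h.Cz f h.fC]; group
  obtain ⟨w, hw, h1⟩ := h.onto u hu
  rcases h1 with h1 | h1
  · rw [← h1]; exact key w hw
  · have h2 : u = cm w a * z := by rw [h1, mul_assoc, h.zz, mul_one]
    have e : f * u * f⁻¹ = (f * cm w a * f⁻¹) * (f * z * f⁻¹) := by rw [h2]; group
    rw [e, hfz]
    exact E.mul_mem (key w hw) h.zE

variable [Finite G]

theorem f_NE : f ∈ normalizer (E : Set G) := by
  rw [mem_normalizer_iff_cj]
  have h1 : cj f E ≤ E := by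
    rintro _ ⟨u, hu, rfl⟩
    exact h.f_le hu
  exact Subgroup.eq_of_le_of_card_ge h1 (by rw [card_cj])

omit [Finite G] in
theorem conj_E {g u : G} (hg : g ∈ normalizer (E : Set G)) (hu : u ∈ E) : g * u * g⁻¹ ∈ E :=
  (mem_normalizer_iff.mp hg u).mp hu

omit [Finite G] in
theorem conj_E' {g u : G} (hg : g ∈ normalizer (E : Set G)) (hu : u ∈ E) : g⁻¹ * u * g ∈ E := by
  have := h.conj_E (inv_mem hg) hu
  rwa [inv_inv] at this

omit [Finite G] in
/-- An element of `N(E)` commuting with `z` and mapping `y` into `V` normalises `V`. -/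
theorem mem_NV {g : G} (hz : g * z = z * g) (hy : g * y * g⁻¹ ∈ V) [Finite V] :
    g ∈ normalizer (V : Set G) := by
  rw [mem_normalizer_iff_cj]
  have h1 : cj g V ≤ V := by
    rintro _ ⟨v, hv, rfl⟩
    change g * v * g⁻¹ ∈ V
    have hz' : g * z * g⁻¹ = z := by rw [hz]; group
    rcases h.four v hv with rfl | rfl | rfl | rfl
    · simp
    · rw [hz']; exact h.zV
    · exact hy
    · have e : g * (z * y) * g⁻¹ = (g * z * g⁻¹) * (g * y * g⁻¹) := by group
      rw [e, hz']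
      exact V.mul_mem h.zV hy
  exact Subgroup.eq_of_le_of_card_ge h1 (by rw [card_cj])

theorem fy : f * y * f⁻¹ ∉ V := fun hcon => h.fV (h.mem_NV (h.Cz f h.fC) hcon)

/-- A point of `E` outside `V` is the image of `f y f⁻¹` under an element of `C_G(V)`. -/
theorem exists_c {u : G} (hu : u ∈ E) (huV : u ∉ V) :
    ∃ c, (∀ x ∈ V, c * x = x * c) ∧ c * (f * y * f⁻¹) * c⁻¹ = u := by
  have h1 := h.idx _ (h.f_le h.yE) _ hu h.fy huV
  obtain ⟨c, hc, h2⟩ := h.trE _ (h.f_le h.yE) h.fy _ h1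
  refine ⟨c, hc, ?_⟩
  rw [h2, ← mul_assoc, h.sqE _ (h.f_le h.yE), one_mul]

/-- The elements of `C` commuting with `a` modulo `Q`. -/
def NA (_ : Mov V E C Q W WY z y a f) (g : G) : Prop := g ∈ C ∧ g * a * g⁻¹ * a⁻¹ ∈ Q

omit [Finite G] in
theorem NA_mul {g g' : G} (h1 : h.NA g) (h2 : h.NA g') : h.NA (g * g') := by
  refine ⟨C.mul_mem h1.1 h2.1, ?_⟩
  have e : g * g' * a * (g * g')⁻¹ * a⁻¹ =
      (g * (g' * a * g'⁻¹ * a⁻¹) * g⁻¹) * (g * a * g⁻¹ * a⁻¹) := by group
  rw [e]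
  exact Q.mul_mem (h.Q_conj h1.1 h2.2) h1.2

omit [Finite G] in
theorem NA_inv {g : G} (h1 : h.NA g) : h.NA g⁻¹ := by
  refine ⟨C.inv_mem h1.1, ?_⟩
  have e' : g⁻¹ * a * g⁻¹⁻¹ * a⁻¹ = g⁻¹ * (g * a * g⁻¹ * a⁻¹)⁻¹ * g⁻¹⁻¹ := by group
  rw [e']
  exact h.Q_conj (C.inv_mem h1.1) (Q.inv_mem h1.2)

omit [Finite G] in
theorem NA_Q {q : G} (hq : q ∈ Q) : h.NA q := by
  refine ⟨h.QC hq, ?_⟩
  have e : q * a * q⁻¹ * a⁻¹ = q * (a * q⁻¹ * a⁻¹) := by group
  rw [e]
  exact Q.mul_mem hq (h.Q_conj h.aC (Q.inv_mem hq))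

/-- `N_G(V) ∩ C_G(z)` centralises `a` modulo `Q`. -/
theorem NA_NV {g : G} (hg : g ∈ normalizer (V : Set G)) (hz : g * z = z * g) : h.NA g := by
  have key : ∀ g ∈ normalizer (V : Set G), g * z = z * g → g * y * g⁻¹ = y → h.NA g := by
    intro g hg hz hy
    have hgC := h.ge g hg hz
    refine ⟨hgC, ?_⟩
    have hmem : g * a * g⁻¹ ∈ WY := by
      obtain ⟨k, hk, hkz⟩ := h.tr y h.yV h.y1
      have h1 : cj (g * k) W = WY := h.WYdef (g * k) (mul_mem hg hk) (by
        have e : g * k * z * (g * k)⁻¹ = g * (k * z * k⁻¹) * g⁻¹ := by group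
        rw [e, hkz, hy])
      rw [← h1, ← cj_cj, h.WYdef k hk hkz]
      exact conj_mem_cj h.aW
    rcases h.k1 _ hmem with h1 | h1
    · exfalso
      apply h.aQ
      have h2 := h.Q_conj (C.inv_mem hgC) h1
      have e : g⁻¹ * (g * a * g⁻¹) * g⁻¹⁻¹ = a := by group
      rwa [e] at h2
    · rwa [h.a_inv]
  have hy := (mem_normalizer_iff.mp hg y).mp h.yV
  rcases h.four _ hy with h1 | h1 | h1 | h1
  · exfalso
    apply h.y1
    have : y = g⁻¹ * (g * y * g⁻¹) * g := by group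
    rw [this, h1]; group
  · exfalso
    apply h.yz
    have : y = g⁻¹ * (g * y * g⁻¹) * g := by group
    rw [this, h1, mul_assoc, ← hz]; group
  · exact key g hg hz h1
  · obtain ⟨q, hq, hqV, hqy⟩ := h.sw
    have hqz := h.Cz q (h.QC hq)
    have h2 : h.NA (q⁻¹ * g) := by
      refine key _ (mul_mem (inv_mem hqV) hg) ?_ ?_
      · rw [mul_assoc, hz, ← mul_assoc, ← mul_assoc]
        congr 1
        exact (inv_mul_eq_iff_eq_mul.mpr (by rw [← mul_assoc, hqz, mul_inv_cancel_right]))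
      · have e : q⁻¹ * g * y * (q⁻¹ * g)⁻¹ = q⁻¹ * (g * y * g⁻¹) * q := by group
        rw [e, h1, ← hqy]; group
    have h3 := h.NA_mul (h.NA_Q hq) h2
    rwa [mul_inv_cancel_left] at h3

/-- **`N_G(E) ∩ C_G(z)` lies in `C` and centralises `a` modulo `Q`.** -/
theorem NA_of {g : G} (hg : g ∈ normalizer (E : Set G)) (hz : g * z = z * g) : h.NA g := by
  by_cases hgy : g * y * g⁻¹ ∈ V
  · exact h.NA_NV (h.mem_NV hz hgy) hz
  · obtain ⟨c, hc, hcu⟩ := h.exists_c (h.conj_E hg h.yE) hgy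
    have hcC := h.cent_C hc
    have hcz := hc z h.zV
    have hfz := h.Cz f h.fC
    have h1 : h.NA (c * f) := h.NA_mul (h.NA_NV (h.cent_NV hc) hcz) ⟨h.fC, h.fa⟩
    have hz' : (c * f)⁻¹ * g * z = z * ((c * f)⁻¹ * g) := by
      have hcf : c * f * z = z * (c * f) := by rw [mul_assoc, hfz, ← mul_assoc, hcz, mul_assoc]
      have h2 : (c * f)⁻¹ * z = z * (c * f)⁻¹ := by
        rw [inv_mul_eq_iff_eq_mul, ← mul_assoc, hcf, mul_inv_cancel_right]
      rw [mul_assoc, hz, ← mul_assoc, h2, mul_assoc]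
    have hy' : (c * f)⁻¹ * g * y * ((c * f)⁻¹ * g)⁻¹ = y := by
      have e : (c * f)⁻¹ * g * y * ((c * f)⁻¹ * g)⁻¹ = f⁻¹ * (c⁻¹ * (g * y * g⁻¹) * c) * f := by group
      rw [e, ← hcu]; group
    have h2 : h.NA ((c * f)⁻¹ * g) := h.NA_NV (h.mem_NV hz' (by rw [hy']; exact h.yV)) hz'
    have h3 := h.NA_mul h1 h2
    rwa [mul_inv_cancel_left] at h3

/-- transitivity on the points -/
theorem tr_E {p : G} (hp : p ∈ E) (hp1 : p ≠ 1) : ∃ g ∈ normalizer (E : Set G), g * z * g⁻¹ = p := by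
  by_cases hpV : p ∈ V
  · obtain ⟨g, hg, hgz⟩ := h.tr p hpV hp1
    exact ⟨g, h.NE hg, hgz⟩
  · obtain ⟨g, hg, hgz⟩ := h.tr y h.yV h.y1
    obtain ⟨c, hc, hcu⟩ := h.exists_c hp hpV
    refine ⟨c * f * g, mul_mem (mul_mem (h.NE (h.cent_NV hc)) h.f_NE) (h.NE hg), ?_⟩
    have e : c * f * g * z * (c * f * g)⁻¹ = c * (f * (g * z * g⁻¹) * f⁻¹) * c⁻¹ := by group
    rw [e, hgz, hcu]

/-- transitivity of the stabiliser of `z` -/
theorem tr_E' {r : G} (hr : r ∈ E) (hr1 : r ≠ 1) (hrz : r ≠ z) :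
    ∃ g ∈ normalizer (E : Set G), g * z = z * g ∧ g * y * g⁻¹ = r := by
  by_cases hrV : r ∈ V
  · rcases h.four r hrV with h1 | h1 | h1 | h1
    · exact absurd h1 hr1
    · exact absurd h1 hrz
    · exact ⟨1, one_mem _, by simp, by simp [h1]⟩
    · obtain ⟨q, hq, hqV, hqy⟩ := h.sw
      exact ⟨q, h.NE hqV, h.Cz q (h.QC hq), by rw [hqy, h1]⟩
  · obtain ⟨c, hc, hcu⟩ := h.exists_c hr hrV
    refine ⟨c * f, mul_mem (h.NE (h.cent_NV hc)) h.f_NE, ?_, ?_⟩
    · rw [mul_assoc, h.Cz f h.fC, ← mul_assoc, hc z h.zV, mul_assoc]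
    · have e : c * f * y * (c * f)⁻¹ = c * (f * y * f⁻¹) * c⁻¹ := by group
      rw [e, hcu]

/-- `W_p` is well defined -/
theorem cj_W_eq {g g' : G} (hg : g ∈ normalizer (E : Set G)) (hg' : g' ∈ normalizer (E : Set G))
    (hz : g * z * g⁻¹ = g' * z * g'⁻¹) : cj g W = cj g' W := by
  have h1 : h.NA (g'⁻¹ * g) := by
    refine h.NA_of (mul_mem (inv_mem hg') hg) ?_
    have e : g'⁻¹ * g * z = g'⁻¹ * (g * z * g⁻¹) * g := by group
    rw [e, hz]; group
  have h2 : cj (g'⁻¹ * g) W = W := by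
    have hle : ∀ c ∈ C, cj c W ≤ W := by
      rintro c hc _ ⟨w, hw, rfl⟩
      exact h.CW c hc w hw
    apply le_antisymm (hle _ h1.1)
    rw [← cj_cj_inv (g'⁻¹ * g) W]
    exact cj_mono (by rw [cj_cj_inv]; exact hle _ (C.inv_mem h1.1))
  have h3 : cj g' (cj (g'⁻¹ * g) W) = cj g' W := by rw [h2]
  rwa [cj_cj, mul_inv_cancel_left] at h3

end Mov

end Cfsg.Agent.Omega.NO3S.Fit.PlaneCore

end

end

-- merged: Cfsg.Agent.Mrg.Omega.NO3S.Fit.PlaneAct
section

section


/-!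
# LEMMA PLANE: the seven conjugates of `W` form a `PForm`; the group `F_E`

`Mov.pform`; `FF = ⟨W_p⟩`, `ZF = Z(FF)`; `cm_mem` : `[C_G(W), FF] ≤ ZF`;
`comm_conj` : for all `s ∈ C` and `g = s a s⁻¹`, the involution `g a g⁻¹` centralises `E`.
-/

set_option autoImplicit false
set_option linter.unusedSectionVars false

namespace Cfsg.Agent.Omega.NO3S.Fit.PlaneCore

open Subgroup Cfsg Cfsg.Agent.MinSimple.Geo Cfsg.Agent.Omega.NO3S.Fit.PlaneForm

universe u

variable {G : Type u} [Group G]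

theorem of_cj {g x : G} {A : Subgroup G} (hx : x ∈ cj g A) : ∃ w ∈ A, x = g * w * g⁻¹ :=
  ⟨g⁻¹ * x * g, mem_cj.mp hx, by group⟩

/-! ### Coordinates -/

/-- `x^i`, `i ∈ 𝔽₂` -/
def pw (x : G) (i : ZMod 2) : G := if i = 0 then 1 else x

theorem zcases : ∀ i : ZMod 2, i = 0 ∨ i = 1 := by decide

theorem pw_zero (x : G) : pw x 0 = 1 := if_pos rfl

theorem pw_one (x : G) : pw x 1 = x := if_neg (by decide)

theorem pw_add {x : G} (hx : x * x = 1) (i j : ZMod 2) : pw x (i + j) = pw x i * pw x j := by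
  rcases zcases i with rfl | rfl <;> rcases zcases j with rfl | rfl
  · rw [add_zero, pw_zero, one_mul]
  · rw [zero_add, pw_zero, one_mul]
  · rw [add_zero, pw_zero, mul_one]
  · rw [show (1 : ZMod 2) + 1 = 0 by decide, pw_zero, pw_one, hx]

/-- coordinates of `E = ⟨z, y, u⟩` -/
def ee (z y u : G) (v : V3) : G := pw z v.1 * pw y v.2.1 * pw u v.2.2

namespace Mov

variable {V E C Q W WY : Subgroup G} {z y a f u : G} (h : Mov V E C Q W WY z y a f)
  (hu : u ∈ E) (huV : u ∉ V)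

include h in
theorem pw_mem {x : G} (hx : x ∈ E) (i : ZMod 2) : pw x i ∈ E := by
  rcases zcases i with rfl | rfl
  · rw [pw_zero]; exact E.one_mem
  · rwa [pw_one]

include h hu

theorem ee_mem (v : V3) : ee z y u v ∈ E :=
  E.mul_mem (E.mul_mem (h.pw_mem h.zE _) (h.pw_mem h.yE _)) (h.pw_mem hu _)

theorem ee_add (v w : V3) : ee z y u (v + w) = ee z y u v * ee z y u w := by
  unfold ee
  change pw z (v.1 + w.1) * pw y (v.2.1 + w.2.1) * pw u (v.2.2 + w.2.2) = _
  rw [pw_add h.zz, pw_add h.yy, pw_add (h.sqE u hu)]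
  have c1 := h.commE (h.pw_mem h.zE w.1) (h.pw_mem h.yE v.2.1)
  have c2 := h.commE (h.pw_mem h.zE w.1) (h.pw_mem hu v.2.2)
  have c3 := h.commE (h.pw_mem h.yE w.2.1) (h.pw_mem hu v.2.2)
  generalize pw z v.1 = z1 at *
  generalize pw z w.1 = z2 at *
  generalize pw y v.2.1 = y1 at *
  generalize pw y w.2.1 = y2 at *
  generalize pw u v.2.2 = u1 at *
  generalize pw u w.2.2 = u2 at *
  calc z1 * z2 * (y1 * y2) * (u1 * u2) = z1 * (z2 * y1) * (y2 * u1) * u2 := by group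
    _ = z1 * (y1 * z2) * (u1 * y2) * u2 := by rw [c1, c3]
    _ = z1 * y1 * (z2 * u1) * y2 * u2 := by group
    _ = z1 * y1 * (u1 * z2) * y2 * u2 := by rw [c2]
    _ = z1 * y1 * u1 * (z2 * y2 * u2) := by group

omit h hu in
theorem ee_x : ee z y u ((1, 0, 0) : V3) = z := by
  unfold ee
  rw [pw_one, pw_zero, pw_zero, mul_one, mul_one]

include huV

theorem ee_inj_one {v : V3} (hv : ee z y u v = 1) : v = 0 := by
  obtain ⟨i, j, k⟩ := v
  unfold ee at hv
  simp only at hv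
  have hi : pw z i ∈ V := by
    rcases zcases i with rfl | rfl
    · rw [pw_zero]; exact V.one_mem
    · rw [pw_one]; exact h.zV
  have hj : pw y j ∈ V := by
    rcases zcases j with rfl | rfl
    · rw [pw_zero]; exact V.one_mem
    · rw [pw_one]; exact h.yV
  rcases zcases k with rfl | rfl
  · rw [pw_zero, mul_one] at hv
    rcases zcases j with rfl | rfl
    · rw [pw_zero, mul_one] at hv
      rcases zcases i with rfl | rfl
      · rfl
      · rw [pw_one] at hv
        exact absurd hv h.z1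
    · exfalso
      rw [pw_one] at hv
      rcases zcases i with rfl | rfl
      · rw [pw_zero, one_mul] at hv
        exact h.y1 hv
      · rw [pw_one] at hv
        apply h.yz
        have h1 : y = z⁻¹ := (inv_eq_of_mul_eq_one_right hv).symm
        rw [h1]
        exact inv_eq_of_mul_eq_one_left h.zz
  · exfalso
    apply huV
    rw [pw_one] at hv
    have h1 : u = (pw z i * pw y j)⁻¹ := (inv_eq_of_mul_eq_one_right hv).symm
    rw [h1]
    exact V.inv_mem (V.mul_mem hi hj)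

theorem ee_inj : Function.Injective (ee z y u) := by
  intro v w hvw
  have h1 : ee z y u (v + w) = 1 := by
    rw [h.ee_add hu, hvw]
    exact h.sqE _ (h.ee_mem hu w)
  have h2 := h.ee_inj_one hu huV h1
  have h3 : v + w + w = w := by rw [h2, zero_add]
  rwa [add_assoc, add_self, add_zero] at h3

theorem ee_surj {x : G} (hx : x ∈ E) : ∃ v, ee z y u v = x := by
  have key : ∀ x ∈ V, ∃ v, ee z y u v = x := by
    intro x hx
    rcases h.four x hx with rfl | rfl | rfl | rfl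
    · exact ⟨(0, 0, 0), by unfold ee; simp [pw_zero]⟩
    · exact ⟨(1, 0, 0), ee_x⟩
    · exact ⟨(0, 1, 0), by unfold ee; simp [pw_zero, pw_one]⟩
    · exact ⟨(1, 1, 0), by unfold ee; simp [pw_zero, pw_one]⟩
  by_cases hxV : x ∈ V
  · exact key x hxV
  · obtain ⟨v, hv⟩ := key _ (h.idx u hu x hx huV hxV)
    refine ⟨(0, 0, 1) + v, ?_⟩
    have h1 : ee z y u ((0, 0, 1) : V3) = u := by
      unfold ee
      simp [pw_zero, pw_one]
    rw [h.ee_add hu, h1, hv, ← mul_assoc, h.sqE u hu, one_mul]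

omit h hu huV in
/-- an element of `N(E)` moving `z` to `e p` -/
noncomputable def gp (E : Subgroup G) (z y u : G) (p : V3) : G := by
  classical
  exact if h : ∃ g ∈ normalizer (E : Set G), g * z * g⁻¹ = ee z y u p then h.choose else 1

omit h hu huV in
/-- `W_p` -/
noncomputable def wp (E W : Subgroup G) (z y u : G) (p : V3) : Subgroup G := cj (gp E z y u p) W

omit h hu huV in
/-- `a_p` -/
noncomputable def ap (E : Subgroup G) (z y u a : G) (p : V3) : G :=
  gp E z y u p * a * (gp E z y u p)⁻¹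

variable [Finite G]

theorem gp_spec {p : V3} (hp : p ≠ 0) : gp E z y u p ∈ normalizer (E : Set G) ∧
    gp E z y u p * z * (gp E z y u p)⁻¹ = ee z y u p := by
  have hex : ∃ g ∈ normalizer (E : Set G), g * z * g⁻¹ = ee z y u p :=
    h.tr_E (h.ee_mem hu p) (fun h1 => hp (h.ee_inj_one hu huV h1))
  unfold gp
  rw [dif_pos hex]
  exact hex.choose_spec

theorem wp_eq {p : V3} (hp : p ≠ 0) {g : G} (hg : g ∈ normalizer (E : Set G))
    (hz : g * z * g⁻¹ = ee z y u p) : wp E W z y u p = cj g W := by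
  obtain ⟨h1, h2⟩ := h.gp_spec hu huV hp
  exact h.cj_W_eq h1 hg (h2.trans hz.symm)

theorem wp_eq_y {p : V3} (hp : p ≠ 0) {g : G} (hg : g ∈ normalizer (E : Set G))
    (hy : g * y * g⁻¹ = ee z y u p) : wp E W z y u p = cj g WY := by
  obtain ⟨k, hk, hkz⟩ := h.tr y h.yV h.y1
  rw [← h.WYdef k hk hkz, cj_cj]
  refine h.wp_eq hu huV hp (mul_mem hg (h.NE hk)) ?_
  have e : g * k * z * (g * k)⁻¹ = g * (k * z * k⁻¹) * g⁻¹ := by group
  rw [e, hkz, hy]

theorem wp_x : wp E W z y u (1, 0, 0) = W := by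
  rw [h.wp_eq hu huV (p := (1, 0, 0)) (by decide) (one_mem _) (by rw [ee_x]; group), cj_one]

/-- pairs of points -/
theorem exists_pair {p r : V3} (hp : p ≠ 0) (hr : r ≠ 0) (hpr : p ≠ r) :
    ∃ k, h.NA k ∧ wp E W z y u p = cj (gp E z y u p * k) W ∧
      wp E W z y u r = cj (gp E z y u p * k) WY ∧ k ∈ normalizer (E : Set G) ∧
      (gp E z y u p * k) * y * (gp E z y u p * k)⁻¹ = ee z y u r ∧ k * z = z * k := by
  obtain ⟨h1, h2⟩ := h.gp_spec hu huV hp
  set g := gp E z y u p with hg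
  have h3 : g⁻¹ * ee z y u r * g ∈ E := h.conj_E' h1 (h.ee_mem hu r)
  obtain ⟨k, hk, hkz, hky⟩ := h.tr_E' h3
    (fun h4 => hr (h.ee_inj_one hu huV (by
      have e : ee z y u r = g * (g⁻¹ * ee z y u r * g) * g⁻¹ := by group
      rw [e, h4]; group)))
    (fun h4 => hpr (h.ee_inj hu huV (by
      have e : ee z y u r = g * (g⁻¹ * ee z y u r * g) * g⁻¹ := by group
      rw [e, h4, h2])))
  have hgk : g * k ∈ normalizer (E : Set G) := mul_mem h1 hk
  have hz : g * k * z * (g * k)⁻¹ = ee z y u p := by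
    have e : g * k * z * (g * k)⁻¹ = g * (k * z * k⁻¹) * g⁻¹ := by group
    rw [e, hkz, mul_inv_cancel_right, h2]
  have hy : g * k * y * (g * k)⁻¹ = ee z y u r := by
    have e : g * k * y * (g * k)⁻¹ = g * (k * y * k⁻¹) * g⁻¹ := by group
    rw [e, hky]; group
  exact ⟨k, h.NA_of hk hkz, h.wp_eq hu huV hp hgk hz, h.wp_eq_y hu huV hr hgk hy, hk, hy, hkz⟩

omit hu huV [Finite G] in
/-- the action of a conjugate of `a` -/
theorem cm_NA {k w : G} (hk : h.NA k) (hw : w ∈ W) :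
    cm w (k * a * k⁻¹) = cm w a ∨ cm w (k * a * k⁻¹) = cm w a * z := by
  set q := k * a * k⁻¹ * a⁻¹ with hq
  have hqQ : q ∈ Q := hk.2
  have e1 : k * a * k⁻¹ = q * a := by rw [hq]; group
  have e2 : cm w (q * a) = cm w q * (q * cm w a * q⁻¹) := by
    unfold cm
    group
  have hc := h.comE w hw a h.aW
  have hzc := h.commE h.zE hc
  rw [e1, e2]
  have h1 : cm w q = 1 ∨ cm w q = z := by
    rcases ((h.memQ q).mp hqQ).2 w hw with h2 | h2
    · left; rw [← cm_inv, h2, inv_one]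
    · right; rw [← cm_inv, h2]; exact inv_eq_of_mul_eq_one_left h.zz
  rcases h1 with h1 | h1 <;> rcases h.Q_act hqQ (h.EW hc) with h2 | h2 <;> rw [h1, h2]
  · left; rw [one_mul]
  · right; rw [one_mul, hzc]
  · right; rw [hzc]
  · left; rw [← mul_assoc, h.zz, one_mul]

/-- **The seven conjugates of `W` form a `PForm`.** -/
theorem pform : PForm (ee z y u) (wp E W z y u) (ap E z y u a) where
  e_add := h.ee_add hu
  e_inj := h.ee_inj hu huV
  comm := by
    intro p hp _ hw _ hw'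
    obtain ⟨w, hw0, rfl⟩ := of_cj hw
    replace hw := hw0
    obtain ⟨w', hw'0, rfl⟩ := of_cj hw'
    replace hw' := hw'0
    have e1 : ∀ g x x' : G, g * x * g⁻¹ * (g * x' * g⁻¹) = g * (x * x') * g⁻¹ := fun g x x' => by group
    rw [e1, e1, h.ab w hw w' hw']
  cent := by
    intro p hp _ hw v
    obtain ⟨w, hw0, rfl⟩ := of_cj hw
    replace hw := hw0
    obtain ⟨h1, h2⟩ := h.gp_spec hu huV hp
    have h3 := h.W_cent hw (h.conj_E' h1 (h.ee_mem hu v))
    generalize gp E z y u p = g at *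
    calc g * w * g⁻¹ * ee z y u v = g * (w * (g⁻¹ * ee z y u v * g)) * g⁻¹ := by group
      _ = ee z y u v * (g * w * g⁻¹) := by rw [h3]; group
  com := by
    intro p r hp hr hpr w hw g hg
    obtain ⟨k, hk, hWp, hWr, hkE, hky, hkz⟩ := h.exists_pair hu huV hp hr hpr
    rw [hWp] at hw
    rw [hWr] at hg
    obtain ⟨w, hw0, rfl⟩ := of_cj hw
    replace hw := hw0
    obtain ⟨g, hg0, rfl⟩ := of_cj hg
    replace hg := hg0
    obtain ⟨h1, h2⟩ := h.gp_spec hu huV hp
    have h3 := h.conj_E (mul_mem h1 hkE) (h.comE w hw g hg)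
    rw [conj_cm] at h3
    obtain ⟨v, hv⟩ := h.ee_surj hu huV h3
    exact ⟨v, hv.symm⟩
  amem := by
    intro p hp
    obtain ⟨h1, h2⟩ := h.gp_spec hu huV hp
    obtain ⟨r, hr⟩ := h.ee_surj hu huV (h.conj_E h1 h.yE)
    have hr0 : r ≠ 0 := by
      rintro rfl
      apply h.y1
      have h3 : ee z y u (0 : V3) = 1 := by
        have h4 := h.ee_add hu 0 0
        rw [add_zero] at h4
        exact left_eq_mul.mp h4
      rw [h3] at hr
      have e : y = (gp E z y u p)⁻¹ * (gp E z y u p * y * (gp E z y u p)⁻¹) * gp E z y u p := by group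
      rw [e, ← hr]; group
    have hrp : r ≠ p := by
      rintro rfl
      apply h.yz
      have h3 := hr.symm.trans h2.symm
      have e : y = (gp E z y u r)⁻¹ * (gp E z y u r * y * (gp E z y u r)⁻¹) * gp E z y u r := by group
      rw [e, h3]; group
    refine ⟨r, hr0, hrp, ?_⟩
    rw [h.wp_eq_y hu huV hr0 h1 hr.symm]
    exact conj_mem_cj h.aW
  same := by
    intro p r hp hr hpr g hg
    obtain ⟨k, hk, hWp, hWr, hkE, hky, hkz⟩ := h.exists_pair hu huV hp hr hpr
    obtain ⟨h1, h2⟩ := h.gp_spec hu huV hp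
    rw [hWr] at hg
    obtain ⟨g, hg0, rfl⟩ := of_cj hg
    replace hg := hg0
    have hgkz : (gp E z y u p * k) * z * (gp E z y u p * k)⁻¹ = ee z y u p := by
      have e : (gp E z y u p * k) * z * (gp E z y u p * k)⁻¹ =
        gp E z y u p * (k * z * k⁻¹) * (gp E z y u p)⁻¹ := by group
      rw [e, hkz, mul_inv_cancel_right, h2]
    rcases h.k1 g hg with h3 | h3
    · left
      intro w hw
      rw [hWp] at hw
      obtain ⟨w, hw0, rfl⟩ := of_cj hw
      replace hw := hw0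
      rw [← conj_cm, ← cm_inv g w]
      rcases ((h.memQ g).mp h3).2 w hw with h4 | h4
      · left; rw [h4]; group
      · right
        rw [h4, inv_eq_of_mul_eq_one_left h.zz, hgkz]
    · right
      intro w hw
      rw [hWp] at hw
      obtain ⟨w, hw0, rfl⟩ := of_cj hw
      replace hw := hw0
      unfold ap
      -- `[w, g] = [w, a]` up to `z`
      have e3 : g = g * a * a := by rw [mul_assoc, h.aa, mul_one]
      have hc := h.comE w hw a h.aW
      have h4 : cm w g = cm w a ∨ cm w g = cm w a * z := by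
        rw [e3]
        have e4 : cm w (g * a * a) = cm w (g * a) * ((g * a) * cm w a * (g * a)⁻¹) := by
          unfold cm
          group
        rw [e4]
        have h5 : cm w (g * a) = 1 ∨ cm w (g * a) = z := by
          rcases ((h.memQ _).mp h3).2 w hw with h6 | h6
          · left; rw [← cm_inv, h6, inv_one]
          · right; rw [← cm_inv, h6]; exact inv_eq_of_mul_eq_one_left h.zz
        have hzc := h.commE h.zE hc
        rcases h5 with h5 | h5 <;> rcases h.Q_act h3 (h.EW hc) with h6 | h6 <;> rw [h5, h6]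
        · left; rw [one_mul]
        · right; rw [one_mul, hzc]
        · right; rw [hzc]
        · left; rw [← mul_assoc, h.zz, one_mul]
      -- `[w, a_p]`
      have hw' : k * w * k⁻¹ ∈ W := h.CW k hk.1 w hw
      have e5 : cm (gp E z y u p * k * w * (gp E z y u p * k)⁻¹)
          (gp E z y u p * a * (gp E z y u p)⁻¹) =
          (gp E z y u p * k) * cm w (k⁻¹ * a * k⁻¹⁻¹) * (gp E z y u p * k)⁻¹ := by
        rw [conj_cm]
        congr 1
        group
      rw [← conj_cm, e5]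
      have h7 := h.cm_NA (h.NA_inv hk) hw
      have hez : ∀ c : G, (gp E z y u p * k) * (c * z) * (gp E z y u p * k)⁻¹ =
          (gp E z y u p * k) * c * (gp E z y u p * k)⁻¹ * ee z y u p := by
        intro c
        rw [← hgkz]; group
      rcases h4 with h4 | h4 <;> rcases h7 with h7 | h7 <;> rw [h4, h7]
      · left; rfl
      · right
        rw [hez, mul_assoc _ (ee z y u p) (ee z y u p), h.sqE _ (h.ee_mem hu p), mul_one]
      · right
        rw [hez]
      · left; rfl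
  onto := by
    intro p hp v
    obtain ⟨h1, h2⟩ := h.gp_spec hu huV hp
    obtain ⟨w, hw, h3⟩ := h.onto _ (h.conj_E' h1 (h.ee_mem hu v))
    refine ⟨gp E z y u p * w * (gp E z y u p)⁻¹, conj_mem_cj hw, ?_⟩
    unfold ap
    rw [← conj_cm]
    rcases h3 with h3 | h3
    · left; rw [h3]; group
    · right
      rw [h3, h.ee_add hu, ← h2]
      group
  inj := by
    intro p hp w hw hwa r hr g hg
    by_cases hpr : p = r
    · subst hpr
      obtain ⟨w, hw0, rfl⟩ := of_cj hw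
      replace hw := hw0
      obtain ⟨g, hg0, rfl⟩ := of_cj hg
      replace hg := hg0
      have e1 : ∀ g x x' : G, g * x * g⁻¹ * (g * x' * g⁻¹) = g * (x * x') * g⁻¹ :=
        fun g x x' => by group
      rw [e1, e1, h.ab w hw g hg]
    · obtain ⟨k, hk, hWp, hWr, hkE, hky, hkz⟩ := h.exists_pair hu huV hp hr hpr
      obtain ⟨h1, h2⟩ := h.gp_spec hu huV hp
      rw [hWp] at hw
      rw [hWr] at hg
      obtain ⟨w, hw0, rfl⟩ := of_cj hw
      replace hw := hw0
      obtain ⟨g, hg0, rfl⟩ := of_cj hg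
      replace hg := hg0
      unfold ap at hwa
      have e5 : cm (gp E z y u p * k * w * (gp E z y u p * k)⁻¹)
          (gp E z y u p * a * (gp E z y u p)⁻¹) =
          (gp E z y u p * k) * cm w (k⁻¹ * a * k⁻¹⁻¹) * (gp E z y u p * k)⁻¹ := by
        rw [conj_cm]
        congr 1
        group
      have hgkz : (gp E z y u p * k) * z * (gp E z y u p * k)⁻¹ = ee z y u p := by
        have e : (gp E z y u p * k) * z * (gp E z y u p * k)⁻¹ =
          gp E z y u p * (k * z * k⁻¹) * (gp E z y u p)⁻¹ := by group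
        rw [e, hkz, mul_inv_cancel_right, h2]
      rw [e5] at hwa
      have h6 : cm w (k⁻¹ * a * k⁻¹⁻¹) = 1 ∨ cm w (k⁻¹ * a * k⁻¹⁻¹) = z := by
        rcases hwa with h7 | h7
        · left
          have e : cm w (k⁻¹ * a * k⁻¹⁻¹) = (gp E z y u p * k)⁻¹ * ((gp E z y u p * k) *
            cm w (k⁻¹ * a * k⁻¹⁻¹) * (gp E z y u p * k)⁻¹) * (gp E z y u p * k) := by group
          rw [e, h7]; group
        · right
          have e : cm w (k⁻¹ * a * k⁻¹⁻¹) = (gp E z y u p * k)⁻¹ * ((gp E z y u p * k) *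
            cm w (k⁻¹ * a * k⁻¹⁻¹) * (gp E z y u p * k)⁻¹) * (gp E z y u p * k) := by group
          rw [e, h7, ← hgkz]; group
      have h7 : cm w a = 1 ∨ cm w a = z := by
        rcases h.cm_NA (h.NA_inv hk) hw with h8 | h8
        · rwa [h8] at h6
        · rw [h8] at h6
          rcases h6 with h6 | h6
          · right
            have : cm w a = z⁻¹ := eq_inv_of_mul_eq_one_left h6
            rw [this]; exact inv_eq_of_mul_eq_one_left h.zz
          · left
            exact mul_eq_right.mp h6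
      have h8 := h.inj w hw h7 g hg
      have e1 : ∀ g x x' : G, g * x * g⁻¹ * (g * x' * g⁻¹) = g * (x * x') * g⁻¹ :=
        fun g x x' => by group
      rw [e1, e1, h8]
  one := by
    intro p r hp hr hpr
    obtain ⟨k, hk, hWp, hWr, hkE, hky, hkz⟩ := h.exists_pair hu huV hp hr hpr
    obtain ⟨w, hw, hall, g, hg, hwg⟩ := h.one
    refine ⟨(gp E z y u p * k) * w * (gp E z y u p * k)⁻¹, ?_, ?_, ?_⟩
    · rw [hWp]; exact conj_mem_cj hw
    · intro x hx
      rw [hWr] at hx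
      obtain ⟨x, hx0, rfl⟩ := of_cj hx
      replace hx := hx0
      rw [← conj_cm]
      rcases hall x hx with h1 | h1
      · left; rw [h1]; group
      · right; rw [h1, hky]
    · refine ⟨(gp E z y u p * k) * g * (gp E z y u p * k)⁻¹, ?_, ?_⟩
      · rw [hWr]; exact conj_mem_cj hg
      · rw [← conj_cm, hwg, hky]

end Mov

end Cfsg.Agent.Omega.NO3S.Fit.PlaneCore

end

section


/-!
# LEMMA PLANE: the contradiction

* `Mov.comm_conj` : for all `s ∈ C` and `g = s a s⁻¹`, the element `g a g⁻¹` centralises `E`;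
* `Mov.false_of_inverted` : there is no `s ∈ C - Q` of odd order modulo `Q` inverted by `a` modulo `Q`.
-/

set_option autoImplicit false
set_option linter.unusedSectionVars false

namespace Cfsg.Agent.Omega.NO3S.Fit.PlaneCore

open Subgroup Cfsg Cfsg.Agent.MinSimple.Geo Cfsg.Agent.Omega.NO3S.Fit.PlaneForm

universe u

variable {G : Type u} [Group G]

theorem cm_mul_mem {N K : Subgroup G} (hn : ∀ k ∈ K, ∀ x ∈ N, k * x * k⁻¹ ∈ N) {u v c d : G}
    (hu : u ∈ K) (hv : v ∈ K) (hc : c ∈ K) (hd : d ∈ K) (hu' : ∀ k ∈ K, cm u k ∈ N)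
    (hv' : ∀ k ∈ K, cm v k ∈ N) (hcd : c * d = d * c) : cm (u * c) (v * d) ∈ N := by
  have h1 : d * c⁻¹ = c⁻¹ * d := by
    rw [eq_inv_mul_iff_mul_eq, ← mul_assoc, hcd, mul_inv_cancel_right]
  have e : cm (u * c) (v * d) = (u * cm c v * u⁻¹) * cm u (v * d) := by
    unfold cm
    calc u * c * (v * d) * (u * c)⁻¹ * (v * d)⁻¹ = u * c * v * (d * c⁻¹) * u⁻¹ * d⁻¹ * v⁻¹ := by group
      _ = u * c * v * (c⁻¹ * d) * u⁻¹ * d⁻¹ * v⁻¹ := by rw [h1]
      _ = u * (c * v * c⁻¹ * v⁻¹) * u⁻¹ * (u * (v * d) * u⁻¹ * (v * d)⁻¹) := by group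
  rw [e]
  refine N.mul_mem (hn u hu _ ?_) (hu' _ (K.mul_mem hv hd))
  rw [← cm_inv]
  exact N.inv_mem (hv' c hc)

theorem quot_calc {Γ : Type*} [Group Γ] {s a : Γ} (h1 : a * a = 1) (h2 : a * s * a⁻¹ * s = 1) :
    (s * a * s⁻¹) * a * (s * a * s⁻¹)⁻¹ = s * s * s * s * a := by
  have ha : a⁻¹ = a := inv_eq_of_mul_eq_one_left h1
  have h3 : a * s⁻¹ = s * a := by
    have h4 : a * s * a⁻¹ = s⁻¹ := eq_inv_of_mul_eq_one_left h2
    have h5 : (a * s * a⁻¹)⁻¹ = s := by rw [h4, inv_inv]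
    have h7 : (a * s * a⁻¹)⁻¹ = a * s⁻¹ * a⁻¹ := by group
    have h6 : a * s⁻¹ * a⁻¹ = s := by rw [← h7, h5]
    exact mul_inv_eq_iff_eq_mul.mp h6
  have h4 : s * a * s⁻¹ = s * s * a := by rw [mul_assoc, h3, mul_assoc]
  have h5 : (s * s * a)⁻¹ = s * s * a := by
    rw [mul_inv_rev, mul_inv_rev, ha, ← mul_assoc, h3, mul_assoc, h3, mul_assoc]
  rw [h4, h5]
  calc s * s * a * a * (s * s * a) = s * s * (a * a) * (s * s * a) := by group
    _ = s * s * s * s * a := by rw [h1]; group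

namespace Mov

variable {V E C Q W WY : Subgroup G} {z y a f u : G} (h : Mov V E C Q W WY z y a f)
  (hu : u ∈ E) (huV : u ∉ V)

/-- `F_E` -/
noncomputable def FF (E W : Subgroup G) (z y u : G) : Subgroup G :=
  ⨆ p : {p : V3 // p ≠ 0}, wp E W z y u p

theorem wp_le_FF {p : V3} (hp : p ≠ 0) : wp E W z y u p ≤ FF E W z y u :=
  le_iSup (fun p : {p : V3 // p ≠ 0} => wp E W z y u p) ⟨p, hp⟩

/-- `Z(F_E)` -/
noncomputable def ZF (E W : Subgroup G) (z y u : G) : Subgroup G :=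
  FF E W z y u ⊓ centralizer ((FF E W z y u : Subgroup G) : Set G)

theorem ZF_comm {x g : G} (hx : x ∈ ZF E W z y u) (hg : g ∈ FF E W z y u) : x * g = g * x :=
  ((mem_centralizer_iff.mp hx.2) g hg).symm

theorem mem_cent {W : Subgroup G} {k : G} : k ∈ centralizer (W : Set G) ↔ ∀ w ∈ W, k * w = w * k := by
  rw [mem_centralizer_iff]
  exact ⟨fun h w hw => (h w hw).symm, fun h w hw => (h w hw).symm⟩

include h

theorem K_NE {k : G} (hk : k ∈ centralizer (W : Set G)) : k ∈ normalizer (E : Set G) :=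
  cent_NV'' fun x hx => mem_cent.mp hk x (h.EW hx)

theorem K_conj {c k : G} (hc : c ∈ C) (hk : k ∈ centralizer (W : Set G)) :
    c * k * c⁻¹ ∈ centralizer (W : Set G) := by
  rw [mem_cent]
  intro w hw
  have h1 := mem_cent.mp hk _ (h.CW c⁻¹ (C.inv_mem hc) w hw)
  calc c * k * c⁻¹ * w = c * (k * (c⁻¹ * w * c⁻¹⁻¹)) * c⁻¹ := by group
    _ = w * (c * k * c⁻¹) := by rw [h1]; group

include hu huV
variable [Finite G]

theorem K_wp {k : G} (hk : k ∈ centralizer (W : Set G)) {p : V3} (hp : p ≠ 0) {w : G}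
    (hw : w ∈ wp E W z y u p) : k * w * k⁻¹ ∈ wp E W z y u p := by
  obtain ⟨h1, h2⟩ := h.gp_spec hu huV hp
  have h3 : wp E W z y u p = cj (k * gp E z y u p) W := by
    refine h.wp_eq hu huV hp (mul_mem (h.K_NE hk) h1) ?_
    have e : k * gp E z y u p * z * (k * gp E z y u p)⁻¹ =
      k * (gp E z y u p * z * (gp E z y u p)⁻¹) * k⁻¹ := by group
    rw [e, h2, mem_cent.mp hk _ (h.EW (h.ee_mem hu p)), mul_inv_cancel_right]
  rw [h3, ← cj_cj]
  exact conj_mem_cj hw

theorem wp_C {p : V3} (hp : p ≠ 0) {w : G} (hw : w ∈ wp E W z y u p) : w ∈ C := by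
  refine h.cent_C fun x hx => ?_
  obtain ⟨v, rfl⟩ := h.ee_surj hu huV (h.VE hx)
  exact (h.pform hu huV).cent p hp w hw v

theorem cm_gen {k : G} (hk : k ∈ centralizer (W : Set G)) {p : V3} (hp : p ≠ 0) {w : G}
    (hw : w ∈ wp E W z y u p) : cm k w ∈ ZF E W z y u := by
  have hP := h.pform hu huV
  by_cases hpx : p = (1, 0, 0)
  · subst hpx
    rw [h.wp_x hu huV] at hw
    rw [cm_eq_one.mpr (mem_cent.mp hk w hw)]
    exact one_mem _
  · have hx0 : ((1, 0, 0) : V3) ≠ 0 := by decide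
    have hd : cm k w ∈ wp E W z y u p := by
      have e : cm k w = (k * w * k⁻¹) * w⁻¹ := rfl
      rw [e]
      exact mul_mem (h.K_wp hu huV hk hp hw) (inv_mem hw)
    have hdK : cm k w ∈ centralizer (W : Set G) := by
      have e : cm k w = k * (w * k⁻¹ * w⁻¹) := by unfold cm; group
      rw [e]
      exact mul_mem hk (h.K_conj (h.wp_C hu huV hp hw) (inv_mem hk))
    have h1 : PForm.lam (ee z y u) (ap E z y u a) p (cm k w) = 0 := by
      refine hP.lam_zero_of hp hx0 hpx hd fun g hg => ?_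
      rw [h.wp_x hu huV] at hg
      exact cm_eq_one.mpr (mem_cent.mp hdK g hg)
    refine ⟨wp_le_FF hp hd, ?_⟩
    have h2 : FF E W z y u ≤ centralizer ({cm k w} : Set G) := by
      refine iSup_le fun r => ?_
      intro g hg
      rw [mem_centralizer_singleton_iff]
      exact (hP.comm_of_lam hp hd h1 r.2 hg).symm
    have h3 : cm k w ∈ centralizer ((FF E W z y u : Subgroup G) : Set G) :=
      mem_centralizer_iff.mpr fun g hg => mem_centralizer_singleton_iff.mp (h2 hg)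
    exact h3

/-- **(c)** `[C_G(W), F_E] ≤ Z(F_E)`. -/
theorem cm_mem {k : G} (hk : k ∈ centralizer (W : Set G)) {g : G} (hg : g ∈ FF E W z y u) :
    cm k g ∈ ZF E W z y u := by
  let S : Subgroup G :=
    { carrier := {g | g ∈ FF E W z y u ∧ cm k g ∈ ZF E W z y u}
      one_mem' := ⟨one_mem _, by
        have : cm k (1 : G) = 1 := by unfold cm; group
        rw [this]; exact one_mem _⟩
      mul_mem' := by
        rintro x x' ⟨h1, h2⟩ ⟨h3, h4⟩
        refine ⟨mul_mem h1 h3, ?_⟩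
        have e : cm k (x * x') = cm k x * (x * cm k x' * x⁻¹) := by
          unfold cm
          group
        rw [e, ← ZF_comm h4 h1, mul_inv_cancel_right]
        exact mul_mem h2 h4
      inv_mem' := by
        rintro x ⟨h1, h2⟩
        refine ⟨inv_mem h1, ?_⟩
        have e : cm k x⁻¹ = x⁻¹ * (cm k x)⁻¹ * x := by
          unfold cm
          group
        have h3 := ZF_comm (inv_mem h2) (inv_mem h1)
        change cm k x⁻¹ ∈ ZF E W z y u
        rw [e, ← h3, inv_mul_cancel_right]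
        exact inv_mem h2 }
  have hS : FF E W z y u ≤ S := iSup_le fun p w hw => ⟨wp_le_FF p.2 hw, h.cm_gen hu huV hk p.2 hw⟩
  exact (hS hg).2

theorem cm_mem_cj {k : G} (hk : k ∈ centralizer (W : Set G)) {c : G} (hc : c ∈ C) {g : G}
    (hg : g ∈ cj c (FF E W z y u)) : cm k g ∈ cj c (ZF E W z y u) := by
  obtain ⟨x, hx, rfl⟩ := of_cj hg
  have h1 := h.cm_mem hu huV (h.K_conj (C.inv_mem hc) hk) hx
  have e : cm k (c * x * c⁻¹) = c * cm (c⁻¹ * k * c⁻¹⁻¹) x * c⁻¹ := by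
    unfold cm
    group
  rw [e]
  exact conj_mem_cj h1

theorem a_mem_FF : a ∈ FF E W z y u := by
  have h0 : ((0, 1, 0) : V3) ≠ 0 := by decide
  have h1 : wp E W z y u (0, 1, 0) = WY := by
    rw [h.wp_eq_y hu huV h0 (one_mem _) (by unfold ee; simp [pw_zero, pw_one]), cj_one]
  exact wp_le_FF h0 (by rw [h1]; exact h.aW)

theorem W_le_FF : W ≤ FF E W z y u := by
  have h0 : ((1, 0, 0) : V3) ≠ 0 := by decide
  have h1 := wp_le_FF (E := E) (W := W) (z := z) (y := y) (u := u) h0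
  rwa [h.wp_x hu huV] at h1

theorem ZF_K {x : G} (hx : x ∈ ZF E W z y u) : x ∈ centralizer (W : Set G) :=
  mem_cent.mpr fun _ hw => ZF_comm hx (h.W_le_FF hu huV hw)

/-- the points different from `z` -/
theorem comm_conj_aux {s : G} (hs : s ∈ C) {t : G} (ht : t ∈ E) (ht1 : t ≠ 1) (htz : t ≠ z) :
    t * ((s * a * s⁻¹) * a * (s * a * s⁻¹)⁻¹) = ((s * a * s⁻¹) * a * (s * a * s⁻¹)⁻¹) * t := by
  have hP := h.pform hu huV
  set g := s * a * s⁻¹ with hg
  have hgC : g ∈ C := C.mul_mem (C.mul_mem hs h.aC) (C.inv_mem hs)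
  obtain ⟨v, rfl⟩ := h.ee_surj hu huV ht
  have hx0 : ((1, 0, 0) : V3) ≠ 0 := by decide
  have hv0 : v ≠ 0 := by
    rintro rfl
    exact ht1 hP.e_zero
  have hvx : v ≠ (1, 0, 0) := by
    rintro rfl
    exact htz ee_x
  obtain ⟨p, r, hp, hr, w₁, hw₁, w₂, hw₂, w₃, hw₃, w₄, hw₄, hc1, hc2, hjj⟩ := hP.exists_jj hx0 hv0 hvx
  have hjF : w₁ * w₂ ∈ FF E W z y u := mul_mem (wp_le_FF hv0 hw₁) (wp_le_FF hp hw₂)
  have hjF' : w₃ * w₄ ∈ FF E W z y u := mul_mem (wp_le_FF hv0 hw₃) (wp_le_FF hr hw₄)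
  have hjK : w₁ * w₂ ∈ centralizer (W : Set G) := by
    rw [mem_cent]
    intro w hw
    exact (hc1 w (by rw [h.wp_x hu huV]; exact hw)).symm
  have hjK' : w₃ * w₄ ∈ centralizer (W : Set G) := by
    rw [mem_cent]
    intro w hw
    exact (hc2 w (by rw [h.wp_x hu huV]; exact hw)).symm
  generalize w₁ * w₂ = j at *
  generalize w₃ * w₄ = j' at *
  -- the elements of `Z(F'')`
  have hgF : g ∈ cj s (FF E W z y u) := conj_mem_cj (h.a_mem_FF hu huV)
  have key : ∀ j ∈ centralizer (W : Set G), (g * j * g⁻¹)⁻¹ * j ∈ cj s (ZF E W z y u) := by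
    intro j hj
    have e : (g * j * g⁻¹)⁻¹ * j = (cm j⁻¹ g)⁻¹ := by
      unfold cm
      group
    rw [e]
    exact inv_mem (h.cm_mem_cj hu huV (inv_mem hj) hs hgF)
  have key2 : ∀ x ∈ cj s (ZF E W z y u), x ∈ centralizer (W : Set G) := by
    intro x hx
    obtain ⟨x, hx0, rfl⟩ := of_cj hx
    exact h.K_conj hs (h.ZF_K hu huV hx0)
  have hcomm : ∀ x ∈ cj s (ZF E W z y u), ∀ x' ∈ cj s (ZF E W z y u), x * x' = x' * x := by
    intro x hx x' hx'
    obtain ⟨x, hx0, rfl⟩ := of_cj hx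
    obtain ⟨x', hx0', rfl⟩ := of_cj hx'
    have h1 := ZF_comm hx0 hx0'.1
    have e1 : ∀ g x x' : G, g * x * g⁻¹ * (g * x' * g⁻¹) = g * (x * x') * g⁻¹ :=
      fun g x x' => by group
    rw [e1, e1, h1]
  have hmem : ee z y u v ∈ cj g (ZF E W z y u) := by
    have e1 : j = (g * j * g⁻¹) * ((g * j * g⁻¹)⁻¹ * j) := by group
    have e2 : j' = (g * j' * g⁻¹) * ((g * j' * g⁻¹)⁻¹ * j') := by group
    rw [← hjj, e1, e2]
    refine cm_mul_mem (K := centralizer (W : Set G)) ?_ (h.K_conj hgC hjK) (h.K_conj hgC hjK')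
      (key2 _ (key j hjK)) (key2 _ (key j' hjK')) ?_ ?_ (hcomm _ (key j hjK) _ (key j' hjK'))
    · intro k hk x hx
      obtain ⟨x, hx0, rfl⟩ := of_cj hx
      have h1 := h.cm_mem hu huV (h.K_conj (C.inv_mem hgC) hk) hx0.1
      have e : k * (g * x * g⁻¹) * k⁻¹ = g * (cm (g⁻¹ * k * g⁻¹⁻¹) x * x) * g⁻¹ := by
        unfold cm
        group
      rw [e]
      exact conj_mem_cj (mul_mem h1 hx0)
    · intro k hk
      rw [← cm_inv]
      exact inv_mem (h.cm_mem_cj hu huV hk hgC (conj_mem_cj hjF))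
    · intro k hk
      rw [← cm_inv]
      exact inv_mem (h.cm_mem_cj hu huV hk hgC (conj_mem_cj hjF'))
  obtain ⟨x, hx, hxe⟩ := of_cj hmem
  rw [hxe]
  have h1 := ZF_comm hx (h.a_mem_FF hu huV)
  have e1 : ∀ g x x' : G, g * x * g⁻¹ * (g * x' * g⁻¹) = g * (x * x') * g⁻¹ :=
    fun g x x' => by group
  rw [e1, e1, h1]

/-- **`g a g⁻¹` centralises `E` for all `g = s a s⁻¹`, `s ∈ C`.** -/
theorem comm_conj {s : G} (hs : s ∈ C) {t : G} (ht : t ∈ E) :
    t * ((s * a * s⁻¹) * a * (s * a * s⁻¹)⁻¹) = ((s * a * s⁻¹) * a * (s * a * s⁻¹)⁻¹) * t := by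
  by_cases ht1 : t = 1
  · rw [ht1, one_mul, mul_one]
  by_cases htz : t = z
  · have hgC : (s * a * s⁻¹) * a * (s * a * s⁻¹)⁻¹ ∈ C := by
      have h1 : s * a * s⁻¹ ∈ C := C.mul_mem (C.mul_mem hs h.aC) (C.inv_mem hs)
      exact C.mul_mem (C.mul_mem h1 h.aC) (C.inv_mem h1)
    rw [htz]
    exact (h.Cz _ hgC).symm
  · exact h.comm_conj_aux hu huV hs ht ht1 htz

end Mov

/-! ### The action on `W / ⟨z⟩` -/

namespace Pl

variable {V E C Q W WY : Subgroup G} {z y a : G} (h : Pl V E C Q W WY z y a)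
include h

/-- the quotient `W / ⟨z⟩` -/
theorem exists_quot : ∃ (M : Type u) (_ : CommGroup M) (m : W →* M),
    ∀ w : W, m w = 1 ↔ (w : G) = 1 ∨ (w : G) = z := by
  let _ : CommGroup W := { (inferInstance : Group W) with
    mul_comm := fun a b => Subtype.ext (h.ab a a.2 b b.2) }
  refine ⟨W ⧸ (zpowers (⟨z, h.zW⟩ : W)), inferInstance, QuotientGroup.mk' _, fun w => ?_⟩
  have hzz : (⟨z, h.zW⟩ : W) * ⟨z, h.zW⟩ = 1 := Subtype.ext h.zz
  rw [QuotientGroup.mk'_apply, QuotientGroup.eq_one_iff, mem_zp hzz]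
  constructor
  · rintro (h1 | h1)
    · exact Or.inl (congrArg Subtype.val h1)
    · exact Or.inr (congrArg Subtype.val h1)
  · rintro (h1 | h1)
    · exact Or.inl (Subtype.ext h1)
    · exact Or.inr (Subtype.ext h1)

omit h in
/-- the conjugate of `w ∈ W` by `c ∈ C` -/
def act (CW : ∀ c ∈ C, ∀ w ∈ W, c * w * c⁻¹ ∈ W) (c : C) (w : W) : W := ⟨c * w * (c : G)⁻¹, CW c c.2 w w.2⟩

theorem act_mul (c c' : C) (w : W) : act h.CW (c * c') w = act h.CW c (act h.CW c' w) :=
  Subtype.ext (by simp only [act, mul_assoc, _root_.Subgroup.coe_mul, _root_.mul_inv_rev])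

theorem act_mul' (c : C) (w w' : W) : act h.CW c (w * w') = act h.CW c w * act h.CW c w' :=
  Subtype.ext (by simp only [act, _root_.Subgroup.coe_mul, _root_.MulMemClass.mk_mul_mk, _root_.conj_mul])

theorem act_one (w : W) : act h.CW 1 w = w := Subtype.ext (by simp only [act, _root_.OneMemClass.coe_one, _root_.one_mul, _root_.inv_one, _root_.mul_one, _root_.Subtype.coe_eta])

theorem m_act {M : Type u} [CommGroup M] {m : W →* M}
    (hm : ∀ w : W, m w = 1 ↔ (w : G) = 1 ∨ (w : G) = z) (c : C) {w w' : W} (hw : m w = m w') :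
    m (act h.CW c w) = m (act h.CW c w') := by
  have h1 : m (w * w'⁻¹) = 1 := by rw [map_mul, map_inv, hw, mul_inv_cancel]
  have h2 : act h.CW c w = act h.CW c (w * w'⁻¹) * act h.CW c w' := by
    rw [← h.act_mul', inv_mul_cancel_right]
  have h3 : m (act h.CW c (w * w'⁻¹)) = 1 := by
    rw [hm] at h1 ⊢
    change (c : G) * ((w * w'⁻¹ : W) : G) * (c : G)⁻¹ = 1 ∨ (c : G) * ((w * w'⁻¹ : W) : G) * (c : G)⁻¹ = z
    rcases h1 with h1 | h1
    · left; rw [h1]; group
    · right; rw [h1, h.Cz c c.2]; group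
  rw [h2, map_mul, h3, one_mul]

theorem m_act_Q {M : Type u} [CommGroup M] {m : W →* M}
    (hm : ∀ w : W, m w = 1 ↔ (w : G) = 1 ∨ (w : G) = z) (c : C) (hc : (c : G) ∈ Q) (w : W) :
    m (act h.CW c w) = m w := by
  have h1 : m (act h.CW c w * w⁻¹) = 1 := by
    rw [hm]
    exact ((h.memQ c).mp hc).2 w w.2
  rw [map_mul, map_inv] at h1
  exact mul_inv_eq_one.mp h1

/-- If `s` is inverted by `a` modulo `Q` and fixes `E / ⟨z⟩ = [W / ⟨z⟩, a]`, then `s⁴ ∈ Q`. -/
theorem pow_four_mem {s : G} (hs : s ∈ C) (has : a * s * a⁻¹ * s ∈ Q)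
    (hfix : ∀ t ∈ E, s * t * s⁻¹ = t ∨ s * t * s⁻¹ = z * t) : s * s * s * s ∈ Q := by
  obtain ⟨M, _, m, hm⟩ := h.exists_quot
  let S : C := ⟨s, hs⟩
  let A : C := ⟨a, h.aC⟩
  have hAA : A * A = 1 := Subtype.ext h.aa
  have sqM : ∀ w : W, m w * m w = 1 := by
    intro w
    rw [← map_mul, hm]
    exact Or.inl (h.sqW w w.2)
  -- the basic relation
  have h0 : ∀ v : W, m (act h.CW (S * A) v) * m (act h.CW S v) = m (act h.CW A v) * m v := by
    intro v
    have h1 : ((act h.CW A v * v : W) : G) ∈ E := by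
      have h2 := E.inv_mem (h.comE v v.2 a h.aW)
      rw [cm_inv] at h2
      have e : ((act h.CW A v * v : W) : G) = cm a v := by
        change a * v * a⁻¹ * v = a * v * a⁻¹ * (v : G)⁻¹
        rw [inv_eq_of_mul_eq_one_left (h.sqW v v.2)]
      rwa [e]
    have h2 : m (act h.CW S (act h.CW A v * v)) = m (act h.CW A v * v) := by
      have h3 : m (act h.CW S (act h.CW A v * v) * (act h.CW A v * v)⁻¹) = 1 := by
        rw [hm]
        change s * ((act h.CW A v * v : W) : G) * s⁻¹ * ((act h.CW A v * v : W) : G)⁻¹ = 1 ∨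
          s * ((act h.CW A v * v : W) : G) * s⁻¹ * ((act h.CW A v * v : W) : G)⁻¹ = z
        rcases hfix _ h1 with h4 | h4
        · left; rw [h4, mul_inv_cancel]
        · right; rw [h4, mul_inv_cancel_right]
      rw [map_mul, map_inv] at h3
      exact mul_inv_eq_one.mp h3
    rw [h.act_mul', map_mul, map_mul, ← h.act_mul] at h2
    exact h2
  have h1 : ∀ w : W, m (act h.CW (S * A * S) w) = m (act h.CW A w) := by
    intro w
    have hq : ((S * A * S * A⁻¹ : C) : G) ∈ Q := by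
      change s * a * s * a⁻¹ ∈ Q
      have h2 := h.Q_conj (C.inv_mem h.aC) has
      have e : a⁻¹ * (a * s * a⁻¹ * s) * a⁻¹⁻¹ = s * a⁻¹ * s * a := by group
      rw [e] at h2
      rw [h.a_inv] at h2 ⊢
      exact h2
    have e : S * A * S = (S * A * S * A⁻¹) * A := by group
    rw [e, h.act_mul, h.m_act_Q hm _ hq]
  have E1 : ∀ w : W, m (act h.CW A w) * m (act h.CW (S * S) w) =
      m (act h.CW (A * S) w) * m (act h.CW S w) := by
    intro w
    have h2 := h0 (act h.CW S w)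
    rw [← h.act_mul, ← h.act_mul, ← h.act_mul, h1] at h2
    exact h2
  have E1a : ∀ w : W, m w * m (act h.CW (A * (S * S)) w) =
      m (act h.CW S w) * m (act h.CW (A * S) w) := by
    intro w
    have h2 := E1 w
    rw [← map_mul, ← map_mul] at h2
    have h3 := h.m_act hm A h2
    rw [h.act_mul', h.act_mul', map_mul, map_mul, ← h.act_mul, ← h.act_mul, ← h.act_mul,
      ← h.act_mul, hAA, h.act_one, ← mul_assoc A A S, hAA, one_mul] at h3
    exact h3
  have E1' : ∀ w : W, m (act h.CW (A * S) w) * m (act h.CW (S * S * S) w) =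
      m (act h.CW (A * (S * S)) w) * m (act h.CW (S * S) w) := by
    intro w
    have h2 := E1 (act h.CW S w)
    rw [← h.act_mul, ← h.act_mul, ← h.act_mul, ← h.act_mul, mul_assoc A S S] at h2
    exact h2
  have E2 : ∀ w : W, m w * m (act h.CW (S * S * S) w) =
      m (act h.CW S w) * m (act h.CW (S * S) w) := by
    intro w
    have h2 := E1a w
    have h3 := E1' w
    generalize m (act h.CW (A * (S * S)) w) = x1 at *
    generalize m (act h.CW (A * S) w) = x2 at *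
    generalize m (act h.CW (S * S * S) w) = x3 at *
    generalize m (act h.CW (S * S) w) = x4 at *
    generalize m (act h.CW S w) = x5 at *
    generalize m w = x0 at *
    have h4 : (x1 * x2) * (x0 * x3) = (x1 * x2) * (x5 * x4) := by
      calc (x1 * x2) * (x0 * x3) = (x0 * x1) * (x2 * x3) := by
            simp only [mul_comm, mul_left_comm, mul_assoc]
        _ = (x5 * x2) * (x1 * x4) := by rw [h2, h3]
        _ = (x1 * x2) * (x5 * x4) := by simp only [mul_comm, mul_left_comm, mul_assoc]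
    exact mul_left_cancel h4
  rw [h.memQ]
  refine ⟨C.mul_mem (C.mul_mem (C.mul_mem hs hs) hs) hs, fun w hw => ?_⟩
  have E3 := E2 ⟨w, hw⟩
  have E4 : m (act h.CW S ⟨w, hw⟩) * m (act h.CW (S * S * S * S) ⟨w, hw⟩) =
      m (act h.CW (S * S) ⟨w, hw⟩) * m (act h.CW (S * S * S) ⟨w, hw⟩) := by
    have h2 := E3
    rw [← map_mul, ← map_mul] at h2
    have h3 := h.m_act hm S h2
    rw [h.act_mul', h.act_mul', map_mul, map_mul, ← h.act_mul, ← h.act_mul, ← h.act_mul] at h3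
    have e1 : S * (S * S * S) = S * S * S * S := by group
    have e2 : S * (S * S) = S * S * S := by group
    rw [e1, e2] at h3
    exact h3
  have h5 : m ⟨w, hw⟩ * m (act h.CW (S * S * S * S) ⟨w, hw⟩) = 1 := by
    have h6 := sqM (act h.CW (S * S) ⟨w, hw⟩)
    generalize m (act h.CW (S * S * S * S) ⟨w, hw⟩) = x1 at *
    generalize m (act h.CW (S * S * S) ⟨w, hw⟩) = x3 at *
    generalize m (act h.CW (S * S) ⟨w, hw⟩) = x4 at *
    generalize m (act h.CW S ⟨w, hw⟩) = x5 at *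
    generalize m ⟨w, hw⟩ = x0 at *
    have h4 : (x3 * x5) * (x0 * x1) = (x3 * x5) * 1 := by
      calc (x3 * x5) * (x0 * x1) = (x0 * x3) * (x5 * x1) := by
            simp only [mul_comm, mul_left_comm, mul_assoc]
        _ = (x5 * x4) * (x4 * x3) := by rw [E3, E4]
        _ = (x3 * x5) * (x4 * x4) := by simp only [mul_comm, mul_left_comm, mul_assoc]
        _ = (x3 * x5) * 1 := by rw [h6]
    exact mul_left_cancel h4
  have h6 : m (act h.CW (S * S * S * S) ⟨w, hw⟩ * (⟨w, hw⟩ : W)⁻¹) = 1 := by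
    rw [map_mul, map_inv]
    have h7 := sqM ⟨w, hw⟩
    rw [mul_inv_eq_one]
    exact mul_left_cancel (h5.trans h7.symm)
  rw [hm] at h6
  exact h6

end Pl

namespace Mov

variable {V E C Q W WY : Subgroup G} {z y a f : G} (h : Mov V E C Q W WY z y a f)
include h

/-- **LEMMA PLANE, core.** There is no `s ∈ C - Q` of odd order modulo `Q` inverted by `a` modulo `Q`. -/
theorem false_of_inverted [Finite G] {s : G} (hs : s ∈ C) (hsQ : s ∉ Q)
    (has : a * s * a⁻¹ * s ∈ Q) {n : ℕ} (hn : Odd n) (hsn : s ^ n ∈ Q) : False := by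
  obtain ⟨u, hu, huV⟩ := h.neE
  -- the elements of `C` acting trivially on `E / ⟨z⟩`
  let X : Subgroup G :=
    { carrier := {c | c ∈ C ∧ ∀ t ∈ E, c * t * c⁻¹ = t ∨ c * t * c⁻¹ = z * t}
      one_mem' := ⟨one_mem _, fun t _ => Or.inl (by group)⟩
      mul_mem' := by
        rintro c c' ⟨h1, h2⟩ ⟨h3, h4⟩
        refine ⟨mul_mem h1 h3, fun t ht => ?_⟩
        have e : c * c' * t * (c * c')⁻¹ = c * (c' * t * c'⁻¹) * c⁻¹ := by group
        rw [e]
        have ecz : c * (z * t) * c⁻¹ = z * (c * t * c⁻¹) := by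
          rw [← mul_assoc, h.Cz c h1]
          group
        rcases h4 t ht with h5 | h5 <;> rcases h2 t ht with h6 | h6 <;> rw [h5]
        · exact Or.inl h6
        · exact Or.inr h6
        · rw [ecz, h6]; exact Or.inr rfl
        · rw [ecz, h6]
          left
          rw [← mul_assoc, h.zz, one_mul]
      inv_mem' := by
        rintro c ⟨h1, h2⟩
        refine ⟨inv_mem h1, fun t ht => ?_⟩
        rcases h2 t ht with h3 | h3
        · left
          have e : t = c⁻¹ * (c * t * c⁻¹) * c := by group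
          rw [h3] at e
          rw [inv_inv]
          exact e.symm
        · right
          have hcz : c⁻¹ * z = z * c⁻¹ := h.Cz c⁻¹ (inv_mem h1)
          have e : c⁻¹ * (z * t) * c = t := by rw [← h3]; group
          have e2 : z * (c⁻¹ * t * c⁻¹⁻¹) = t := by
            rw [inv_inv, ← mul_assoc, ← mul_assoc, ← hcz]
            rw [← mul_assoc] at e
            exact e
          calc c⁻¹ * t * c⁻¹⁻¹ = z * (z * (c⁻¹ * t * c⁻¹⁻¹)) := by rw [← mul_assoc, h.zz, one_mul]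
            _ = z * t := by rw [e2] }
  have hQX : Q ≤ X := fun q hq => ⟨h.QC hq, fun t ht => h.Q_act hq (h.EW ht)⟩
  have haX : a ∈ X := ⟨h.aC, fun t ht => Or.inl (by rw [h.WY_cent h.aW ht]; group)⟩
  have hgC : s * a * s⁻¹ ∈ C := C.mul_mem (C.mul_mem hs h.aC) (C.inv_mem hs)
  have ha3X : (s * a * s⁻¹) * a * (s * a * s⁻¹)⁻¹ ∈ X := by
    refine ⟨C.mul_mem (C.mul_mem hgC h.aC) (C.inv_mem hgC), fun t ht => Or.inl ?_⟩
    rw [← h.comm_conj hu huV hs ht]
    group
  -- `s⁴ a ∈ a₃ Q`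
  have h4 : ((s * a * s⁻¹) * a * (s * a * s⁻¹)⁻¹)⁻¹ * (s * s * s * s * a) ∈ Q := by
    have hN : (Q.subgroupOf C).Normal := by
      constructor
      intro x hx c
      rw [mem_subgroupOf] at hx ⊢
      exact h.Q_conj c.2 hx
    let S : C := ⟨s, hs⟩
    let A : C := ⟨a, h.aC⟩
    have h1 : (QuotientGroup.mk A : C ⧸ Q.subgroupOf C) * QuotientGroup.mk A = 1 := by
      rw [← QuotientGroup.mk_mul]
      have : A * A = 1 := Subtype.ext h.aa
      rw [this]; rfl
    have h2 : (QuotientGroup.mk A : C ⧸ Q.subgroupOf C) * QuotientGroup.mk S *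
        (QuotientGroup.mk A)⁻¹ * QuotientGroup.mk S = 1 := by
      rw [← QuotientGroup.mk_inv, ← QuotientGroup.mk_mul, ← QuotientGroup.mk_mul,
        ← QuotientGroup.mk_mul, QuotientGroup.eq_one_iff, mem_subgroupOf]
      exact has
    have h3 := quot_calc h1 h2
    rw [← QuotientGroup.mk_inv, ← QuotientGroup.mk_mul, ← QuotientGroup.mk_mul,
      ← QuotientGroup.mk_mul, ← QuotientGroup.mk_inv, ← QuotientGroup.mk_mul,
      ← QuotientGroup.mk_mul, ← QuotientGroup.mk_mul, ← QuotientGroup.mk_mul,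
      ← QuotientGroup.mk_mul, QuotientGroup.eq, mem_subgroupOf] at h3
    exact h3
  have hs4X : s * s * s * s ∈ X := by
    have e : s * s * s * s = ((s * a * s⁻¹) * a * (s * a * s⁻¹)⁻¹) *
        (((s * a * s⁻¹) * a * (s * a * s⁻¹)⁻¹)⁻¹ * (s * s * s * s * a)) * a⁻¹ := by group
    rw [e]
    exact mul_mem (mul_mem ha3X (hQX h4)) (inv_mem haX)
  -- odd order arguments
  have hodd : ∀ Y : Subgroup G, s * s * s * s ∈ Y → s ^ n ∈ Y → s ∈ Y := by
    intro Y h1 h2
    obtain ⟨k, hk⟩ := hn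
    obtain ⟨j, hj⟩ : ∃ j, n * n = 4 * j + 1 := ⟨k * k + k, by rw [hk]; ring⟩
    have e1 : s ^ (n * n) ∈ Y := by rw [pow_mul]; exact pow_mem h2 n
    have e4 : s * s * s * s = s ^ 4 := by simp [pow_succ]
    have e2 : s ^ (4 * j) ∈ Y := by rw [pow_mul, ← e4]; exact pow_mem h1 j
    rw [hj, pow_add, pow_one] at e1
    have e3 := mul_mem (inv_mem e2) e1
    rwa [inv_mul_cancel_left] at e3
  have hsX : s ∈ X := hodd X hs4X (hQX hsn)
  exact hsQ (hodd Q (h.pow_four_mem hs has hsX.2) hsn)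

end Mov

end Cfsg.Agent.Omega.NO3S.Fit.PlaneCore

end

section


/-!
# LEMMA PLANE (helper311's text #13963, section 2) for families

`Fam.plane` : `k = 1`, `|[M, a]| = 4`: every `f ∈ C_z` which commutes with `a` modulo `Q_z` normalises `V`.
-/

set_option autoImplicit false
set_option linter.unusedSectionVars false

namespace Cfsg.Agent.Omega.NO3S.Fit

open Subgroup Cfsg Cfsg.Agent.ZN Cfsg.Agent.MinSimple.Geo Cfsg.Agent.Omega.CaseL
open Cfsg.Agent.Omega.NO3S.Fit.PlaneForm (cm cm_eq_one cm_inv)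
open Cfsg.Agent.ZN.Block (conj_mem_of_normalizer conj_mem_of_normalizer' le_normalizer_of_forall
  mem_normalizer_of)

universe u

variable {G : Type u} [Group G]

/-! ### An involution outside `O₂` inverts an element of odd order -/

/-- two involutions whose product has 2-power order generate a 2-group -/
theorem isPGroup_pair_of {Γ : Type*} [Group Γ] {x y : Γ} (hx : x * x = 1) (hy : y * y = 1) {n : ℕ}
    (hn : (x * y) ^ 2 ^ n = 1) : IsPGroup 2 (closure ({x, y} : Set Γ)) := by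
  rintro ⟨d, hd⟩
  obtain ⟨k, e | e⟩ := Involutions.DihedralPair.mem_closure_pair hx hy hd
  · refine ⟨n, Subtype.ext ?_⟩
    change d ^ 2 ^ n = 1
    rw [e, ← zpow_natCast, ← zpow_mul, mul_comm, zpow_mul, zpow_natCast, hn, one_zpow]
  · refine ⟨1, Subtype.ext ?_⟩
    change d ^ 2 ^ 1 = 1
    rw [pow_one, pow_two, e]
    have h1 := Involutions.DihedralPair.mul_zpow_pair hx hy k
    calc (x * y) ^ k * x * ((x * y) ^ k * x) = (x * y) ^ k * (x * (x * y) ^ k) * x := by group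
      _ = (x * y) ^ k * ((x * y) ^ (-k) * x) * x := by rw [h1]
      _ = (x * y) ^ k * (x * y) ^ (-k) * (x * x) := by group
      _ = 1 := by rw [hx, ← zpow_add]; simp

/-- An involution outside `O₂(Γ)` inverts a nontrivial element of odd order. -/
theorem exists_inverted_of_notMem {Γ : Type*} [Group Γ] [Finite Γ] {x : Γ} (hx : x * x = 1)
    (hxO : x ∉ pCore 2 Γ) : ∃ s : Γ, s ≠ 1 ∧ x * s * x⁻¹ = s⁻¹ ∧ ∃ n : ℕ, Odd n ∧ s ^ n = 1 := by
  have hfact : Fact (Nat.Prime 2) := ⟨Nat.prime_two⟩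
  by_contra hcon
  push Not at hcon
  apply hxO
  refine Involutions.BaerSuzuki.mem_pCore_of_conj_pairs x fun g => ?_
  set y := g * x * g⁻¹ with hy
  have hyy : y * y = 1 := by
    rw [hy]
    calc g * x * g⁻¹ * (g * x * g⁻¹) = g * (x * x) * g⁻¹ := by group
      _ = 1 := by rw [hx]; group
  have hxi : x⁻¹ = x := inv_eq_of_mul_eq_one_left hx
  have hyi : y⁻¹ = y := inv_eq_of_mul_eq_one_left hyy
  obtain ⟨k, m, hm, hkm⟩ := Nat.exists_eq_two_pow_mul_odd (n := orderOf (x * y)) (orderOf_pos _).ne'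
  refine isPGroup_pair_of hx hyy (n := k) ?_
  by_contra hne
  refine hcon ((x * y) ^ 2 ^ k) hne ?_ m hm ?_
  · rw [← conj_pow, ← inv_pow]
    congr 1
    rw [mul_inv_rev, hyi, hxi, ← mul_assoc, hx, one_mul]
  · rw [← pow_mul, ← hkm, pow_orderOf_eq_one]

/-! ### Commutators -/

theorem cm_mul_left (a b c : G) : cm (a * b) c = a * cm b c * a⁻¹ * cm a c := by
  unfold cm
  group

theorem cm_mul_right (a b c : G) : cm a (b * c) = cm a b * (b * cm a c * b⁻¹) := by
  unfold cm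
  group

theorem conj_cm' (g x y : G) : g * cm x y * g⁻¹ = cm (g * x * g⁻¹) (g * y * g⁻¹) := by
  unfold cm
  group

namespace Fam

variable {T V : Subgroup G} {z : G} {cf : G → Subgroup G}

/-- `[W_p, Q_p] ≤ ⟨p⟩` -/
theorem cm_qq (h : Fam T V z cf) {p w k : G} (hp : p ∈ V) (hp1 : p ≠ 1) (hw : w ∈ ww V cf p)
    (hk : k ∈ qq V cf p) : cm w k = 1 ∨ cm w k = p := by
  have e : cm w k = (cm k w)⁻¹ := (cm_inv k w).symm
  rcases h.qq_cases hp hk hw with e1 | e1
  · left
    rw [e, inv_eq_one, cm_eq_one]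
    exact comm_of_conj_eq e1
  · right
    have : cm k w = p := by
      unfold cm
      rw [e1, mul_assoc, mul_inv_cancel, mul_one]
    rw [e, this, h.ln.inv_eq hp]

/-- `[W_p ∩ Q_q, W_q] ≤ ⟨q⟩` -/
theorem cm_qq' (h : Fam T V z cf) {q w g : G} (hq : q ∈ V) (hw : w ∈ qq V cf q)
    (hg : g ∈ ww V cf q) : cm w g = 1 ∨ cm w g = q := by
  rcases h.qq_cases hq hw hg with e1 | e1
  · exact Or.inl (cm_eq_one.mpr (comm_of_conj_eq e1))
  · right
    unfold cm
    rw [e1, mul_assoc, mul_inv_cancel, mul_one]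

theorem cm_step (h : Fam T V z cf) {E : Subgroup G} (hVE : V ≤ E) {p q : G} (hp : p ∈ V) (hp1 : p ≠ 1)
    (hq : q ∈ V) (hq1 : q ≠ 1) (hqp : q ≠ p) (H : ∀ a ∈ ww V cf p, ∀ b ∈ ww V cf q, cm a b ∈ E) :
    ∀ a ∈ ww V cf p, ∀ b ∈ ww V cf (p * q), cm a b ∈ E := by
  intro a ha b hb
  have hpq1 : p * q ≠ 1 := h.mul_ne_one hq (Ne.symm hqp)
  have hpq : p * q ∈ V := mul_mem hp hq
  have hne : p * q ≠ p := fun e => hq1 (by simpa using e)
  obtain ⟨b', hb', k, hk, rfl⟩ := h.ww_mod hp hp1 hpq hpq1 hne hb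
  have e : p * (p * q) = q := by rw [← mul_assoc, h.ln.sq p hp, one_mul]
  rw [e] at hb'
  rw [cm_mul_right]
  refine mul_mem (H a ha b' hb') ?_
  rcases h.cm_qq hp hp1 ha hk with e1 | e1
  · rw [e1]; simp
  · rw [e1, mem_centralizer_iff.mp (h.ww_le_cent hq hq1 hb') p hp |>.symm, mul_inv_cancel_right]
    exact hVE hp

/-- All the commutators `[W_p, W_q]` are the same modulo `V`. -/
theorem cm_all (h : Fam T V z cf) {E : Subgroup G} (hVE : V ≤ E) {p q : G} (hp : p ∈ V) (hp1 : p ≠ 1)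
    (hq : q ∈ V) (hq1 : q ≠ 1) (hqp : q ≠ p) (H : ∀ a ∈ ww V cf p, ∀ b ∈ ww V cf q, cm a b ∈ E)
    {p' q' : G} (hp' : p' ∈ V) (hp1' : p' ≠ 1) (hq' : q' ∈ V) (hq1' : q' ≠ 1) (hqp' : q' ≠ p') :
    ∀ a ∈ ww V cf p', ∀ b ∈ ww V cf q', cm a b ∈ E := by
  have hc : q * p = p * q := h.ln.comm hq hp
  have hsymm : ∀ {p q : G}, (∀ a ∈ ww V cf p, ∀ b ∈ ww V cf q, cm a b ∈ E) →
      ∀ a ∈ ww V cf q, ∀ b ∈ ww V cf p, cm a b ∈ E := by
    intro p q H a ha b hb
    rw [← cm_inv]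
    exact inv_mem (H b hb a ha)
  have H2 := h.cm_step hVE hp hp1 hq hq1 hqp H
  have H3 := h.cm_step hVE hq hq1 hp hp1 (Ne.symm hqp) (hsymm H)
  rw [hc] at H3
  rcases h.ln.four hp hq hp1 hq1 (Ne.symm hqp) hp' with e | e | e | e <;>
    rcases h.ln.four hp hq hp1 hq1 (Ne.symm hqp) hq' with e' | e' | e' | e' <;>
    [exact absurd e hp1'; exact absurd e hp1'; exact absurd e hp1'; exact absurd e hp1'; exact absurd e' hq1'; exact absurd (e'.trans e.symm) hqp';
     (
        (rw [e, e']; (exact H)));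
     (
        (rw [e, e']; (exact H2)));
     exact absurd e' hq1';
     (
        (rw [e, e']; (exact hsymm H)));
     exact absurd (e'.trans e.symm) hqp';
     (
        (rw [e, e']; (exact H3)));
     exact absurd e' hq1';
     (
        (rw [e, e']; (exact hsymm H2)));
     (
        (rw [e, e']; (exact hsymm H3)));
     exact absurd (e'.trans e.symm) hqp']

/-- `V ∪ e V` -/
def eg (V : Subgroup G) (e : G) (he : e * e = 1) (hc : ∀ v ∈ V, e * v = v * e) : Subgroup G where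
  carrier := {u | u ∈ V ∨ e * u ∈ V}
  one_mem' := Or.inl (one_mem _)
  mul_mem' := by
    rintro u v (h1 | h1) (h2 | h2)
    · exact Or.inl (mul_mem h1 h2)
    · right
      have : e * (u * v) = u * (e * v) := by rw [← mul_assoc, hc u h1, mul_assoc]
      rw [this]
      exact mul_mem h1 h2
    · right
      rw [← mul_assoc]
      exact mul_mem h1 h2
    · left
      have e1 : u * v = (e * u) * (e * v) := by
        have h3 : u = e * (e * u) := by rw [← mul_assoc, he, one_mul]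
        calc u * v = e * (e * u) * v := by rw [← h3]
          _ = (e * u) * e * v := by rw [hc _ h1]
          _ = (e * u) * (e * v) := by rw [mul_assoc]
      rw [e1]
      exact mul_mem h1 h2
  inv_mem' := by
    rintro u (h1 | h1)
    · exact Or.inl (inv_mem h1)
    · right
      have h2 := hc _ (inv_mem h1)
      have e1 : u⁻¹ = (e * u)⁻¹ * e := by group
      rw [e1, ← mul_assoc, h2, mul_assoc, he, mul_one]
      exact inv_mem h1

section

variable (h : Fam T V z cf) (hk : One1 V cf) {y a w0 : G} (hy : y ∈ V) (hy1 : y ≠ 1) (hyz : y ≠ z)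
  (ha : a ∈ ww V cf y) (haQ : a ∉ qq V cf z) (hw0 : w0 ∈ ww V cf z) (hw0V : cm w0 a ∉ V)
include h hk hy hy1 hyz ha haQ hw0 hw0V

theorem pl_cases : ∀ w ∈ ww V cf z, cm w a ∈ V ∨ cm w0 a * cm w a ∈ V := by
  have hz := h.ln.z_mem
  have hz1 := h.ln.z_ne
  intro w hw
  have h0 : ∀ w ∈ qq V cf y, cm w a ∈ V := by
    intro w hwQ
    rcases h.cm_qq' hy hwQ ha with e | e <;> rw [e]
    · exact one_mem _
    · exact hy
  by_cases hwQ : w ∈ qq V cf y
  · exact Or.inl (h0 w hwQ)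
  · right
    have hw0Q : w0 ∉ qq V cf y := fun e => hw0V (h0 w0 e)
    have h1 := h0 _ (hk z hz hz1 y hy hy1 hyz w hw w0 hw0 hwQ hw0Q)
    have h2 : cm w0 a ∈ ww V cf z := (h.comm_mem hz hz1 hy hy1 hw0 ha).1
    rw [cm_mul_left, h.ab w hw _ h2, mul_inv_cancel_right] at h1
    exact h1

/-- some element of `W_z` has commutator `y` with `a` -/
theorem pl_one [Finite G] : ∃ w ∈ ww V cf z, cm w a = y := by
  have hz := h.ln.z_mem
  have hz1 := h.ln.z_ne
  by_contra hcon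
  push Not at hcon
  have h0 : ∀ w ∈ ww V cf z, w ∈ qq V cf y → cm w a = 1 := by
    intro w hw hwQ
    rcases h.cm_qq' hy hwQ ha with e | e
    · exact e
    · exact absurd e (hcon w hw)
  have hw0Q : w0 ∉ qq V cf y := fun e => hw0V (by rw [h0 w0 hw0 e]; exact one_mem _)
  have heW : cm w0 a ∈ ww V cf z := (h.comm_mem hz hz1 hy hy1 hw0 ha).1
  have hee := h.sqz _ heW
  have h1 : ∀ w ∈ ww V cf z, w ∉ qq V cf y → cm w a = cm w0 a := by
    intro w hw hwQ
    have h2 := h0 _ (mul_mem hw hw0) (hk z hz hz1 y hy hy1 hyz w hw w0 hw0 hwQ hw0Q)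
    rw [cm_mul_left, h.ab w hw _ heW, mul_inv_cancel_right] at h2
    calc cm w a = cm w0 a * cm w0 a * cm w a := by rw [hee, one_mul]
      _ = cm w0 a := by rw [mul_assoc, h2, mul_one]
  refine hw0V (h.fix (h.comm_mem_jj hz hz1 hy hy1 hyz hw0 ha) fun t ht htV => ?_)
  have htc := h.T_le_cf ht
  have hty := h.ge y hy hy1 ⟨h.ln.T_norm ht, h.cent_le_cs hy htV⟩
  have hty1 : t * y * t⁻¹ = y := by
    rw [(h.V_comm hy htV).symm]; group
  have hw' : t * w0 * t⁻¹ ∈ ww V cf z := conj_mem_of_normalizer h.cf_norm htc hw0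
  have ha' : t * a * t⁻¹ ∈ ww V cf y := conj_mem_of_normalizer h.cf_norm hty ha
  have haQ' : t * a * t⁻¹ ∉ qq V cf z := by
    intro e
    apply haQ
    have := conj_mem_of_normalizer (h.cf_norm_qq hz hz1) (inv_mem htc) e
    have e1 : t⁻¹ * (t * a * t⁻¹) * t⁻¹⁻¹ = a := by group
    rwa [e1] at this
  have hwQ' : t * w0 * t⁻¹ ∉ qq V cf y := by
    intro e
    apply hw0Q
    have := conj_mem_of_normalizer (h.cf_norm_qq hy hy1) (inv_mem hty) e
    have e1 : t⁻¹ * (t * w0 * t⁻¹) * t⁻¹⁻¹ = w0 := by group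
    rwa [e1] at this
  have hq : t * a * t⁻¹ * a ∈ qq V cf z := hk y hy hy1 z hz hz1 (Ne.symm hyz) _ ha' a ha haQ' haQ
  have haa : a * a = 1 := h.sq hy hy1 a ha
  change t * cm w0 a * t⁻¹ = cm w0 a ∨ t * cm w0 a * t⁻¹ = z * cm w0 a
  rw [conj_cm']
  have e2 : t * a * t⁻¹ = (t * a * t⁻¹ * a) * a := by rw [mul_assoc _ a a, haa, mul_one]
  rw [e2, cm_mul_right, h1 _ hw' hwQ']
  have e3 := h.qq_cases hz hq heW
  have hcz : cm w0 a * z = z * cm w0 a := h.ab _ heW z h.z_mem_ww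
  rcases h.cm_qq hz hz1 hw' hq with e1 | e1 <;> rcases e3 with e3 | e3 <;> rw [e1, e3]
  · exact Or.inl (one_mul _)
  · exact Or.inr (one_mul _)
  · exact Or.inr rfl
  · left
    rw [← mul_assoc, h.ln.zz, one_mul]

/-- The plane. -/
theorem exists_pl [Finite G] : ∃ E, PlaneCore.Pl V E (cf z) (qq V cf z) (ww V cf z) (ww V cf y) z y a := by
  have hz := h.ln.z_mem
  have hz1 := h.ln.z_ne
  have heW : cm w0 a ∈ ww V cf z := (h.comm_mem hz hz1 hy hy1 hw0 ha).1
  have hee := h.sqz _ heW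
  have heV : ∀ v ∈ V, cm w0 a * v = v * cm w0 a := fun v hv => h.ab _ heW v (h.V_le hv)
  have hjj : cm w0 a ∈ jj V cf := h.comm_mem_jj hz hz1 hy hy1 hyz hw0 ha
  set E := eg V (cm w0 a) hee heV with hE
  have memE : ∀ u, u ∈ E ↔ u ∈ V ∨ cm w0 a * u ∈ V := fun u => Iff.rfl
  have hVE : V ≤ E := fun v hv => Or.inl hv
  have hdec : ∀ u, u = cm w0 a * (cm w0 a * u) := fun u => by rw [← mul_assoc, hee, one_mul]
  have hEj : E ≤ jj V cf := by
    rintro u (hu | hu)
    · exact h.V_le_jj hu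
    · rw [hdec u]
      exact mul_mem hjj (h.V_le_jj hu)
  have hEW : E ≤ ww V cf z := hEj.trans (jj_le hz hz1)
  have heE : cm w0 a ∈ E := by
    right
    rw [hee]
    exact one_mem _
  have hcase := h.pl_cases hk hy hy1 hyz ha haQ hw0 hw0V
  obtain ⟨w1, hw1, hw1y⟩ := h.pl_one hk hy hy1 hyz ha haQ hw0 hw0V
  have haa : a * a = 1 := h.sq hy hy1 a ha
  have hk1 : ∀ g ∈ ww V cf y, g ∈ qq V cf z ∨ g * a ∈ qq V cf z := by
    intro g hg
    by_cases hgQ : g ∈ qq V cf z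
    · exact Or.inl hgQ
    · exact Or.inr (hk y hy hy1 z hz hz1 (Ne.symm hyz) g hg a ha hgQ haQ)
  have hmul : ∀ w ∈ ww V cf z, ∀ w' ∈ ww V cf z, cm (w * w') a = cm w' a * cm w a := by
    intro w hw w' hw'
    have h2 : cm w' a ∈ ww V cf z := (h.comm_mem hz hz1 hy hy1 hw' ha).1
    rw [cm_mul_left, h.ab w hw _ h2, mul_inv_cancel_right]
  have hcomE : ∀ w ∈ ww V cf z, ∀ g ∈ ww V cf y, cm w g ∈ E := by
    intro w hw g hg
    have haE : cm w a ∈ E := hcase w hw
    rcases hk1 g hg with h1 | h1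
    · rcases h.cm_qq hz hz1 hw h1 with e | e <;> rw [e]
      · exact one_mem _
      · exact hVE hz
    · have e : g = (g * a) * a := by rw [mul_assoc, haa, mul_one]
      rw [e, cm_mul_right]
      refine mul_mem ?_ ?_
      · rcases h.cm_qq hz hz1 hw h1 with e | e <;> rw [e]
        · exact one_mem _
        · exact hVE hz
      · rcases h.qq_cases hz h1 (hEW haE) with e | e <;> rw [e]
        · exact haE
        · exact mul_mem (hVE hz) haE
  have hNE : normalizer (V : Set G) ≤ normalizer (E : Set G) := by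
    refine le_normalizer_of_forall fun g hg u hu => ?_
    rcases hu with hu | hu
    · exact Or.inl (h.conj_pt hg hu)
    · rw [hdec u]
      have e1 : g * (cm w0 a * (cm w0 a * u)) * g⁻¹ =
          (g * cm w0 a * g⁻¹) * (g * (cm w0 a * u) * g⁻¹) := by group
      rw [e1]
      refine mul_mem ?_ (hVE (h.conj_pt hg hu))
      rw [conj_cm']
      have hne : g * y * g⁻¹ ≠ g * z * g⁻¹ := by
        intro e
        apply hyz
        have := congrArg (fun x => g⁻¹ * x * g) e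
        simpa [mul_assoc] using this
      exact h.cm_all hVE hz hz1 hy hy1 hyz hcomE (h.conj_pt hg hz) (conj_ne hz1) (h.conj_pt hg hy)
        (conj_ne hy1) hne _ (h.conj_ww hg hz hz1 hw0) _ (h.conj_ww hg hy hy1 ha)
  have hinQ : ∀ w ∈ ww V cf z, cm w a ∈ V → w ∈ qq V cf y := by
    intro w hw hwV
    by_contra hwQ
    have hw0Q : w0 ∉ qq V cf y := by
      intro e
      rcases h.cm_qq' hy e ha with e | e
      · exact hw0V (by rw [e]; exact one_mem _)
      · exact hw0V (by rw [e]; exact hy)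
    have h1 := hk z hz hz1 y hy hy1 hyz w hw w0 hw0 hwQ hw0Q
    have h2 : cm (w * w0) a ∈ V := by
      rcases h.cm_qq' hy h1 ha with e | e <;> rw [e]
      · exact one_mem _
      · exact hy
    rw [hmul w hw w0 hw0] at h2
    apply hw0V
    have := mul_mem h2 (inv_mem hwV)
    rwa [mul_inv_cancel_right] at this
  refine ⟨E, ?_⟩
  refine
    { memQ := ?_, Cz := fun c hc => h.cf_comm hz hz1 hc
      CW := fun c hc w hw => conj_mem_of_normalizer h.cf_norm hc hw
      ge := fun g hg hgz => h.ge z hz hz1 ⟨hg, mem_centralizer_singleton_iff.mpr hgz⟩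
      ab := h.ab, sqW := h.sqz, zz := h.ln.zz, yy := h.ln.sq y hy, z1 := hz1, y1 := hy1, yz := hyz
      zV := hz, yV := hy
      four := fun v hv => h.ln.four hz hy hz1 hy1 (Ne.symm hyz) hv
      VE := hVE, EW := hEW, sqE := fun u hu => h.sqz u (hEW hu), idx := ?_
      neE := ⟨cm w0 a, heE, hw0V⟩, NE := hNE, tr := h.ln.trans, sw := ?_, trE := ?_, WYdef := ?_
      aW := ha, aa := haa, aQ := haQ, comE := hcomE, k1 := hk1, onto := ?_, inj := ?_, one := ?_ }
  · intro c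
    constructor
    · intro hc
      refine ⟨hc.1, fun w hw => ?_⟩
      rcases h.qq_cases hz hc hw with e | e
      · exact Or.inl (cm_eq_one.mpr (comm_of_conj_eq e))
      · right
        unfold cm
        rw [e, mul_assoc, mul_inv_cancel, mul_one]
    · rintro ⟨hc, hc1⟩
      refine h.mem_qq_of hz hz1 hc fun w hw => ?_
      have e0 : c * w * c⁻¹ = cm c w * w := by unfold cm; group
      rcases hc1 w hw with e | e
      · left; rw [e0, e, one_mul]
      · right; rw [e0, e]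
  · intro u hu v hv huV hvV
    have hu' : cm w0 a * u ∈ V := hu.resolve_left huV
    have hv' : cm w0 a * v ∈ V := hv.resolve_left hvV
    have e1 : u * v = (cm w0 a * u) * (cm w0 a * v) := by
      have huW := hEW hu
      have h4 : cm w0 a * u = u * cm w0 a := h.ab _ heW u huW
      rw [h4, mul_assoc, ← mul_assoc (cm w0 a) (cm w0 a) v, hee, one_mul]
    rw [e1]
    exact mul_mem hu' hv'
  · obtain ⟨k, hk', hk1'⟩ := h.exists_mover hz hz1
    exact ⟨k, hk', h.qq_le_normalizer hz hk', h.move hz hz1 hy hy1 hyz hk' hk1'⟩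
  · intro u hu huV v hv
    have hcc : ∀ w ∈ E, w ∈ V ∨ w * u⁻¹ ∈ V := by
      intro w hw
      by_cases hwV : w ∈ V
      · exact Or.inl hwV
      · right
        have hw' : cm w0 a * w ∈ V := hw.resolve_left hwV
        have hu' : cm w0 a * u ∈ V := hu.resolve_left huV
        have e1 : w * u⁻¹ = (cm w0 a * w) * (cm w0 a * u)⁻¹ := by
          have h4 : cm w0 a * w = w * cm w0 a := h.ab _ heW w (hEW hw)
          have h5 : cm w0 a * u = u * cm w0 a := h.ab _ heW u (hEW hu)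
          rw [h4, h5]
          group
        rw [e1]
        exact mul_mem hw' (inv_mem hu')
    obtain ⟨c, hc, e⟩ := h.four_of hEj hNE hu huV hcc hv
    refine ⟨c, fun x hx => (h.V_comm hx hc).symm, ?_⟩
    rw [e]
    exact h.ab v (h.V_le hv) u (hEW hu)
  · intro g hg hgz
    rw [h.cj_ww hg hz hz1, hgz]
  · intro u hu
    rcases hu with hu | hu
    · rcases h.ln.four hz hy hz1 hy1 (Ne.symm hyz) hu with e | e | e | e
      · exact ⟨1, one_mem _, Or.inl (by rw [e]; unfold cm; group)⟩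
      · refine ⟨1, one_mem _, Or.inr ?_⟩
        rw [e, h.ln.zz]; unfold cm; group
      · exact ⟨w1, hw1, Or.inl (by rw [hw1y, e])⟩
      · refine ⟨w1, hw1, Or.inr ?_⟩
        rw [hw1y, e, h.ln.comm hz hy, mul_assoc, h.ln.zz, mul_one]
    · have hcy : y * cm w0 a = cm w0 a * y := (heV y hy).symm
      rcases h.ln.four hz hy hz1 hy1 (Ne.symm hyz) hu with e | e | e | e
      · refine ⟨w0, hw0, Or.inl ?_⟩
        rw [hdec u, e, mul_one]
      · refine ⟨w0, hw0, Or.inr ?_⟩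
        rw [hdec u, e, mul_assoc, h.ln.zz, mul_one]
      · refine ⟨w1 * w0, mul_mem hw1 hw0, Or.inl ?_⟩
        rw [hmul w1 hw1 w0 hw0, hw1y, hdec u, e]
      · refine ⟨w1 * w0, mul_mem hw1 hw0, Or.inr ?_⟩
        rw [hmul w1 hw1 w0 hw0, hw1y, hdec u, e, h.ln.comm hz hy, mul_assoc, mul_assoc, h.ln.zz, mul_one]
  · intro w hw hwa g hg
    have hwV : cm w a ∈ V := by
      rcases hwa with e | e <;> rw [e]
      · exact one_mem _
      · exact hz
    have hwQ := hinQ w hw hwV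
    have hwa1 : cm w a = 1 := by
      rcases h.cm_qq' hy hwQ ha with e | e
      · exact e
      · exfalso
        rcases hwa with e' | e'
        · exact hy1 (e.symm.trans e')
        · exact hyz (e.symm.trans e')
    apply cm_eq_one.mp
    rcases h.cm_qq' hy hwQ hg with e | e
    · exact e
    · exfalso
      rcases hk1 g hg with h1 | h1
      · rcases h.cm_qq hz hz1 hw h1 with e' | e'
        · exact hy1 (e.symm.trans e')
        · exact hyz (e.symm.trans e')
      · have e2 : cm w (g * a) = y := by rw [cm_mul_right, hwa1, e]; group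
        rcases h.cm_qq hz hz1 hw h1 with e' | e'
        · exact hy1 (e2.symm.trans e')
        · exact hyz (e2.symm.trans e')
  · have h1 : w1 ∈ qq V cf y := hinQ w1 hw1 (by rw [hw1y]; exact hy)
    exact ⟨w1, hw1, fun g hg => h.cm_qq' hy h1 hg, a, ha, hw1y⟩

end

/-- **LEMMA PLANE.** -/
theorem plane [Finite G] {M H : Type u} [AddCommGroup M] [Group H] [DistribMulAction H M]
    (h : Fam T V z cf) (hk : One1 V cf) (R : MRep V cf z M H) {y : G} (hy : y ∈ V) (hy1 : y ≠ 1)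
    (hyz : y ≠ z) {a : G} (ha : a ∈ ww V cf y) (haQ : a ∉ qq V cf z)
    (h4 : ∃ m : M, R.phi a • m - m ≠ 0 ∧ R.phi a • m - m ≠ R.pi y) {f : G} (hf : f ∈ cf z)
    (hfa : R.phi f * R.phi a = R.phi a * R.phi f) : R.phi f • R.pi y = R.pi y := by
  have hz := h.ln.z_mem
  have hz1 := h.ln.z_ne
  have hac : a ∈ cf z := h.ww_le_cf' hy hy1 hz hz1 ha
  have haa : a * a = 1 := h.sq hy hy1 a ha
  -- `w0`
  obtain ⟨m, hm0, hmy⟩ := h4
  obtain ⟨w0, hw0, rfl⟩ := R.pi_surj m
  rw [R.comm_eq h hac hw0] at hm0 hmy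
  have hw0V : cm w0 a ∉ V := by
    intro hV
    rw [← cm_inv, inv_mem_iff] at hV
    change R.pi (cm a w0) ≠ 0 at hm0
    change R.pi (cm a w0) ≠ R.pi y at hmy
    rcases h.ln.four hz hy hz1 hy1 (Ne.symm hyz) hV with e | e | e | e
    · exact hm0 (by rw [e, R.pi_one h])
    · exact hm0 (by rw [e, R.pi_z h])
    · exact hmy (by rw [e])
    · exact hmy (by rw [e, R.pi_mul z h.z_mem_ww y (h.V_le hy), R.pi_z h, zero_add])
  obtain ⟨E, hE⟩ := h.exists_pl hk hy hy1 hyz ha haQ hw0 hw0V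
  by_contra hcon
  rw [R.smul_v0_iff h hy hy1 hyz hf] at hcon
  have hfaQ : f * a * f⁻¹ * a⁻¹ ∈ qq V cf z := by
    rw [← R.phi_mul f hf a hac, ← R.phi_mul a hac f hf, R.phi_eq (mul_mem hf hac) (mul_mem hac hf)] at hfa
    have e : f * a * (a * f)⁻¹ = f * a * f⁻¹ * a⁻¹ := by group
    rwa [e] at hfa
  have hM : PlaneCore.Mov V E (cf z) (qq V cf z) (ww V cf z) (ww V cf y) z y a f :=
    { hE with fC := hf, fa := hfaQ, fV := hcon }
  have hfin : Finite H := Finite.of_surjective R.hom (R.hom_surj (T := T) h)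
  -- an inverted element
  have hα : R.phi a * R.phi a = 1 := R.sq_A h hy hy1 ha
  have hO : R.phi a ∉ pCore 2 H := by
    intro hO
    apply haQ
    have hle : R.pre (pCore 2 H) ≤ qq V cf z := by
      refine h.o2h (R.pre_le _) ?_ ?_
      · refine le_normalizer_of_forall fun c hc n hn => ?_
        obtain ⟨hn1, hn2⟩ := R.mem_pre.mp hn
        refine R.mem_pre.mpr ⟨mul_mem (mul_mem hc hn1) (inv_mem hc), ?_⟩
        rw [R.phi_mul _ (mul_mem hc hn1) _ (inv_mem hc), R.phi_mul c hc n hn1, R.phi_inv hc]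
        exact (pCore_normal 2 H).conj_mem _ hn2 _
      · intro n hn
        obtain ⟨hn1, hn2⟩ := R.mem_pre.mp hn
        have hfact : Fact (Nat.Prime 2) := ⟨Nat.prime_two⟩
        obtain ⟨k, hk⟩ := Lib.HallHigman.pCore_isPGroup (G := H) 2 ⟨_, hn2⟩
        refine ⟨k, ?_⟩
        rw [← R.phi_ker _ (pow_mem hn1 _)]
        have h1 : R.phi (n ^ 2 ^ k) = R.phi n ^ 2 ^ k := map_pow R.hom ⟨n, hn1⟩ _
        rw [h1]
        exact congrArg Subtype.val hk
    exact hle (R.mem_pre.mpr ⟨hac, hO⟩)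
  obtain ⟨s, hs1, hsi, n, hn, hsn⟩ := exists_inverted_of_notMem hα hO
  obtain ⟨s, hs, rfl⟩ := R.phi_surj s
  refine hM.false_of_inverted hs (fun e => hs1 ((R.phi_ker s hs).mpr e)) ?_ hn ?_
  · have h1 : a * s * a⁻¹ * s ∈ cf z := mul_mem (mul_mem (mul_mem hac hs) (inv_mem hac)) hs
    rw [← R.phi_ker _ h1, R.phi_mul _ (mul_mem (mul_mem hac hs) (inv_mem hac)) s hs,
      R.phi_mul _ (mul_mem hac hs) _ (inv_mem hac), R.phi_mul a hac s hs, R.phi_inv hac, hsi,
      inv_mul_cancel]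
  · rw [← R.phi_ker _ (pow_mem hs _)]
    have h1 : R.phi (s ^ n) = R.phi s ^ n := map_pow R.hom ⟨s, hs⟩ _
    rw [h1, hsn]

end Fam

end Cfsg.Agent.Omega.NO3S.Fit

end

section


/-!
# Text #13963, (3.5): the output (T9)

* `blk d b` = `⟨b, d b⟩`;
* `T9` : the output; `T9.*` its consequences on `D = sp H1 v0`;
* `Ctx.t9_of_natural`, `Cyc.t9` : the two sources.
-/

set_option autoImplicit false
set_option linter.unusedSectionVars false

open scoped Pointwise

namespace Cfsg.Agent.Omega.NO3S.Fit.Abs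

variable {H M : Type*} [Group H] [AddCommGroup M] [DistribMulAction H M]

/-! ### blocks `⟨b, d b⟩` -/

theorem mem_zmultiples_two (two : ∀ m : M, m + m = 0) {u m : M} :
    m ∈ AddSubgroup.zmultiples u ↔ m = 0 ∨ m = u := by
  constructor
  · intro h
    obtain ⟨k, rfl⟩ := AddSubgroup.mem_zmultiples_iff.mp h
    rcases Int.even_or_odd k with ⟨j, rfl⟩ | ⟨j, rfl⟩
    · left
      rw [← two_mul, mul_comm, mul_smul, two_zsmul, two, smul_zero]
    · right
      rw [add_smul, one_smul, mul_comm, mul_smul, two_zsmul, two, smul_zero, zero_add]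
  · rintro (rfl | rfl)
    · exact zero_mem _
    · exact AddSubgroup.mem_zmultiples _

/-- `⟨b, d b⟩` -/
def blk (d : H) (b : M) : AddSubgroup M :=
  AddSubgroup.zmultiples b ⊔ AddSubgroup.zmultiples (d • b)

theorem mem_blk (two : ∀ m : M, m + m = 0) {d : H} {b m : M} :
    m ∈ blk d b ↔ m = 0 ∨ m = b ∨ m = d • b ∨ m = b + d • b := by
  rw [blk, AddSubgroup.mem_sup]
  simp only [mem_zmultiples_two two]
  constructor
  · rintro ⟨y, rfl | rfl, z, rfl | rfl, rfl⟩ <;> simp only [_root_.add_zero, _root_.true_or, _root_.zero_add, _root_.right_eq_add, _root_.or_true, _root_.left_eq_add, _root_.add_eq_left, _root_.add_eq_right]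
  · rintro (rfl | rfl | rfl | rfl)
    · exact ⟨0, Or.inl rfl, 0, Or.inl rfl, by simp⟩
    · exact ⟨m, Or.inr rfl, 0, Or.inl rfl, by simp⟩
    · exact ⟨0, Or.inl rfl, d • b, Or.inr rfl, by simp⟩
    · exact ⟨b, Or.inr rfl, d • b, Or.inr rfl, rfl⟩

theorem self_mem_blk (d : H) (b : M) : b ∈ blk d b :=
  AddSubgroup.mem_sup_left (AddSubgroup.mem_zmultiples b)

theorem smul_mem_blk' (d : H) (b : M) : d • b ∈ blk d b :=
  AddSubgroup.mem_sup_right (AddSubgroup.mem_zmultiples _)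

theorem blk_le {d : H} {b : M} {N : AddSubgroup M} (h1 : b ∈ N) (h2 : d • b ∈ N) : blk d b ≤ N :=
  sup_le (AddSubgroup.zmultiples_le.mpr h1) (AddSubgroup.zmultiples_le.mpr h2)

theorem smul_mem_blk {d : H} {b : M} (hd : d • d • b = b + d • b) {m : M} (hm : m ∈ blk d b) :
    d • m ∈ blk d b := by
  have h : blk d b ≤ (blk d b).comap (DistribSMul.toAddMonoidHom M d) := by
    refine blk_le (smul_mem_blk' d b) ?_
    change d • d • b ∈ blk d b
    rw [hd]
    exact add_mem (self_mem_blk d b) (smul_mem_blk' d b)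
  exact h hm

/-- the nonzero elements of a block -/
theorem exists_pow_of_mem_blk (two : ∀ m : M, m + m = 0) {d : H} {b : M}
    (hd : d • d • b = b + d • b) {m : M} (hm : m ∈ blk d b) (hm0 : m ≠ 0) :
    ∃ i : ℕ, i < 3 ∧ m = d ^ i • b := by
  rcases (mem_blk two).mp hm with h | h | h | h
  · exact absurd h hm0
  · exact ⟨0, by omega, by simpa using h⟩
  · exact ⟨1, by omega, by simpa using h⟩
  · exact ⟨2, by omega, by rw [pow_two, mul_smul, hd, h]⟩

theorem blk_sum (two : ∀ m : M, m + m = 0) {d : H} {b : M} (hd : d • d • b = b + d • b) {m : M}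
    (hm : m ∈ blk d b) : d • d • m = m + d • m := by
  rcases (mem_blk two).mp hm with rfl | rfl | rfl | rfl
  · simp
  · exact hd
  · conv_lhs => rw [hd]
    rw [smul_add]
  · rw [smul_add, smul_add, hd, smul_add, hd]

theorem blk_fixed (two : ∀ m : M, m + m = 0) {d : H} {b : M} (hd : d • d • b = b + d • b) {m : M}
    (hm : m ∈ blk d b) (h : d • m = m) : m = 0 := by
  have := blk_sum two hd hm
  rw [h, h, two] at this
  exact this

/-! ### (T9) -/

/-- the output (T9): `H1 ≥ H_0` and its action on `D = sp H1 v0 = B1 ⊕ B2`, `B_i = ⟨b_i, d_i b_i⟩` -/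
structure T9 (v0 : M) (a : H) (T H1 : Subgroup H) (d1 d2 : H) (b1 b2 : M) : Prop where
  stab_le : ∀ h : H, h • v0 = v0 → h ∈ H1
  d1m : d1 ∈ H1
  d2m : d2 ∈ H1
  comm : d1 * d2 = d2 * d1
  b1m : b1 ∈ br M a
  b2m : b2 ∈ br M a
  b10 : b1 ≠ 0
  b20 : b2 ≠ 0
  sum : b1 + b2 = v0
  d11 : d1 • d1 • b1 = b1 + d1 • b1
  d22 : d2 • d2 • b2 = b2 + d2 • b2
  d12 : d1 • b2 = b2
  d21 : d2 • b1 = b1
  a1 : a • d1 • b1 = d1 • d1 • b1
  a2 : a • d2 • b2 = d2 • d2 • b2
  act : ∀ h ∈ H1, (h • b1 ∈ blk d1 b1 ∧ h • b2 ∈ blk d2 b2) ∨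
    (h • b1 ∈ blk d2 b2 ∧ h • b2 ∈ blk d1 b1)
  swap : ∃ t ∈ T, t • b1 = b2 ∧ t • b2 = b1

/-! ### the natural case -/

namespace Ctx

variable {v0 : M} {a : H} {T : Subgroup H}

/-- the stabiliser of an unordered pair of subgroups -/
def pairStab (B1 B2 : AddSubgroup M) : Subgroup H where
  carrier := {h | (h • B1 = B1 ∧ h • B2 = B2) ∨ (h • B1 = B2 ∧ h • B2 = B1)}
  one_mem' := Or.inl ⟨one_smul _ _, one_smul _ _⟩
  mul_mem' := by
    rintro g h (⟨h1, h2⟩ | ⟨h1, h2⟩) (⟨h3, h4⟩ | ⟨h3, h4⟩)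
    · left; rw [mul_smul, mul_smul, h3, h4]; exact ⟨h1, h2⟩
    · right; rw [mul_smul, mul_smul, h3, h4]; exact ⟨h2, h1⟩
    · right; rw [mul_smul, mul_smul, h3, h4]; exact ⟨h1, h2⟩
    · left; rw [mul_smul, mul_smul, h3, h4]; exact ⟨h2, h1⟩
  inv_mem' := by
    rintro g (⟨h1, h2⟩ | ⟨h1, h2⟩)
    · left; exact ⟨inv_smul_eq_iff.mpr h1.symm, inv_smul_eq_iff.mpr h2.symm⟩
    · right; exact ⟨inv_smul_eq_iff.mpr h2.symm, inv_smul_eq_iff.mpr h1.symm⟩

variable [Finite H] [Finite M] [FaithfulSMul H M]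

/-- a natural element of `F` inverted by `a` gives (T9); moreover `h • v0 ∈ [M,a]` ==> `h • v0 = v0` -/
theorem t9_of_natural (c : Ctx v0 a T) (h4 : Nat.card (br M a) = 4) {p : ℕ} (hp : p.Prime)
    (hp2 : p ≠ 2) {F : Subgroup H} [hFn : F.Normal] (hF : IsPGroup p F) {x : H} (hx : x ∈ F)
    (hn : Nat.card (br M x) = 4) (hi : a * x * a⁻¹ = x⁻¹) :
    (∃ H1 d1 d2 b1 b2, T9 v0 a T H1 d1 d2 b1 b2) ∧
      (∀ h : H, h • v0 ∈ br M a → h • v0 = v0) := by
  classical
  have hodd : ∀ f ∈ F, Odd (orderOf f) := fun f hf => odd_orderOf_of_isPGroup hp hp2 hF hf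
  have hxo := hodd x hx
  have hx1 : x ≠ 1 := nat_ne_one hn
  have hcx2 : Nat.card (cx M a x) = 2 := by
    rcases c.inv_cases hxo hi hx1 with h | h
    · exact h.1
    · omega
  obtain ⟨b, hbc, hb0⟩ := exists_ne_zero_of_card (B := cx M a x) (by omega)
  have hbx : b ∈ br M x := hbc.1
  have hba : b ∈ br M a := c.cx_le hxo hi hbc
  -- the only fixed vectors of `a` in the block are `0`, `b`
  have hfix2 : ∀ u ∈ cx M a x, u = 0 ∨ u = b := by
    intro u hu
    by_contra hcon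
    push Not at hcon
    have h1 : Nat.card (cx M a x) = 4 := by
      have h2 : (({0, b, u} : Finset M) : Set M) ⊆ (cx M a x : Set M) := by
        intro y hy
        simp only [Finset.coe_insert, Finset.coe_singleton, Set.mem_insert_iff,
          Set.mem_singleton_iff] at hy
        rcases hy with rfl | rfl | rfl
        · exact zero_mem _
        · exact hbc
        · exact hu
      have h3 := Set.ncard_le_ncard h2 (Set.toFinite _)
      rw [Set.ncard_coe_finset, Finset.card_insert_of_notMem, Finset.card_insert_of_notMem,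
        Finset.card_singleton] at h3
      · have h4 : Set.ncard (cx M a x : Set M) = 2 := by
          rw [← hcx2]; exact (Nat.card_coe_set_eq _).symm
        omega
      · simpa using hcon.2.symm
      · simp [hb0.symm, hcon.1.symm]
    omega
  -- the blocks of `F` through `b`
  have hsame : ∀ h : H, ∀ u : M, u ≠ 0 → u ∈ br M x → u ∈ br M (h * x * h⁻¹) →
      br M x = br M (h * x * h⁻¹) ∧ (h * x * h⁻¹ = x ∨ h * x * h⁻¹ = x⁻¹) := fun h u hu0 hu hu' =>
    nat_same c.two hp hp2 hF hx (hFn.conj_mem x hx h) hn (nat_conj hn h) hu hu' hu0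
  -- `b ≠ v0`
  have hbv : b ≠ v0 := by
    rintro rfl
    -- `C_M(x)` is `T`-invariant
    have hT : ∀ t ∈ T, ∀ m ∈ fx M x, t • m ∈ fx M x := by
      intro t ht m hm
      have h1 := (hsame t b hb0 hbx (by
        have := smul_mem_br_conj t hbx
        rwa [c.T0 t ht] at this)).2
      have h2 := smul_mem_fx_conj t hm
      rcases h1 with h1 | h1
      · rwa [h1] at h2
      · rwa [h1, fx_inv] at h2
    have hne : fx M x ⊓ br M a ≠ ⊥ := by
      intro hbot
      -- then `[M,a] ≤ [M,x]`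
      have hle : br M a ≤ br M x := by
        rintro _ ⟨m, rfl⟩
        obtain ⟨d, hd, e, he, rfl⟩ := exists_decomp c.two hxo m
        have h1 : a • e - e ∈ fx M x ⊓ br M a :=
          AddSubgroup.mem_inf.mpr ⟨sub_mem (smul_mem_fx_of_inv hi he) he, sub_mem_br a e⟩
        rw [hbot, AddSubgroup.mem_bot] at h1
        have h2 : a • (d + e) - (d + e) = (a • d - d) + (a • e - e) := by rw [smul_add]; abel
        rw [h2, h1, add_zero]
        exact sub_mem (smul_mem_br_of_inv hi hd) hd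
      have h1 : br M a ≤ cx M a x := fun m hm => ⟨hle hm, c.fix_br hm⟩
      have h2 := AddSubgroup.card_le_of_le h1
      omega
    obtain ⟨m, hm, hm0, hmT⟩ := exists_fixed c.two c.T2 (N := fx M x ⊓ br M a)
      (fun t ht m hm => ⟨hT t ht m hm.1, c.smul_br_of_stab (c.T0 t ht) hm.2⟩) hne
    have h1 := c.FIX m hm.2 hm0 hmT
    rw [h1] at hm
    exact hb0 (br_inf_fx c.two hxo hbx hm.1)
  obtain ⟨t, ht, htb⟩ := c.exists_swap h4 hba hb0 hbv
  have htv := c.T0 t ht
  set y := t * x * t⁻¹ with hy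
  have hyF : y ∈ F := hFn.conj_mem x hx t
  have hyn : Nat.card (br M y) = 4 := nat_conj hn t
  have hyo := hodd y hyF
  set b2 := v0 + b with hb2
  have hb2a : b2 ∈ br M a := add_mem c.v0_mem hba
  have hb2y : b2 ∈ br M y := by
    rw [← htb]
    exact smul_mem_br_conj t hbx
  have hb20 : b2 ≠ 0 := by
    intro h
    apply hbv
    have := eq_neg_of_add_eq_zero_left h
    rw [neg_eq c.two] at this
    exact this.symm
  have hb2b : b2 ≠ b := by
    intro h
    exact c.ne (by simpa [hb2] using h)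
  have hne : br M x ≠ br M y := by
    intro e
    have h1 : b2 ∈ cx M a x := ⟨e ▸ hb2y, c.fix_br hb2a⟩
    rcases hfix2 b2 h1 with h | h
    · exact hb20 h
    · exact hb2b h
  have hxy := nat_comm c.two hp hp2 hF hx hyF hn hyn
  have hyfx : br M y ≤ fx M x := nat_indep c.two hp hp2 hF hx hyF hn hyn hne
  have hxfy : br M x ≤ fx M y := nat_indep c.two hp hp2 hF hyF hx hyn hn hne.symm
  have hyi : a * y * a⁻¹ = y⁻¹ := by
    have h1 := c.cen t htv
    have e : a * y * a⁻¹ = t * (a * x * a⁻¹) * t⁻¹ := by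
      have h2 : a * t = t * a := h1.symm
      have h3 : t⁻¹ * a⁻¹ = a⁻¹ * t⁻¹ := by rw [← mul_inv_rev, ← mul_inv_rev, h2]
      calc a * y * a⁻¹ = (a * t) * x * (t⁻¹ * a⁻¹) := by rw [hy]; group
        _ = (t * a) * x * (a⁻¹ * t⁻¹) := by rw [h2, h3]
        _ = t * (a * x * a⁻¹) * t⁻¹ := by group
    rw [e, hi, hy]
    group
  have hsum : b + b2 = v0 := by rw [hb2, add_comm v0, ← add_assoc, c.two, zero_add]
  have hbx' : x • x • b = b + x • b := nat_sq c.two hxo hn hbx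
  have hby' : y • y • b2 = b2 + y • b2 := nat_sq c.two hyo hyn hb2y
  have hblk1 : blk x b = br M x := by
    refine le_antisymm (blk_le hbx (smul_mem_br_self hbx)) fun m hm => ?_
    rw [mem_blk c.two]
    rcases nat_cases c.two hxo hn hbx hb0 hm with h | h | h | h
    · exact Or.inl h
    · exact Or.inr (Or.inl h)
    · exact Or.inr (Or.inr (Or.inl h))
    · right; right; right
      rw [h, pow_two, mul_smul, hbx']
  have hblk2 : blk y b2 = br M y := by
    refine le_antisymm (blk_le hb2y (smul_mem_br_self hb2y)) fun m hm => ?_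
    rw [mem_blk c.two]
    rcases nat_cases c.two hyo hyn hb2y hb20 hm with h | h | h | h
    · exact Or.inl h
    · exact Or.inr (Or.inl h)
    · exact Or.inr (Or.inr (Or.inl h))
    · right; right; right
      rw [h, pow_two, mul_smul, hby']
  have hx3 : x⁻¹ = x * x := by
    have := nat_cube c.two hxo hn
    rw [inv_eq_iff_mul_eq_one, ← mul_assoc, ← pow_two, ← pow_succ]
    exact this
  have hy3 : y⁻¹ = y * y := by
    have := nat_cube c.two hyo hyn
    rw [inv_eq_iff_mul_eq_one, ← mul_assoc, ← pow_two, ← pow_succ]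
    exact this
  have htb2 : t • b2 = b := by
    rw [hb2, smul_add, htv, htb, hb2, ← add_assoc, c.two, zero_add]
  -- stabiliser
  have hst : ∀ h : H, h • v0 = v0 → h ∈ pairStab (br M x) (br M y) := by
    have hbl : ∀ h : H, ∀ z ∈ F, ∀ z' ∈ F, Nat.card (br M z) = 4 → Nat.card (br M z') = 4 →
        ∀ u ∈ br M z, u ≠ 0 → h • u ∈ br M z' → h • br M z = br M z' := by
      intro h z hz z' hz' hzn hzn' u hu hu0 hhu
      rw [smul_br]
      refine (nat_same c.two hp hp2 hF (hFn.conj_mem z hz h) hz' (nat_conj hzn h) hzn'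
        (smul_mem_br_conj h hu) hhu ?_).1
      intro e
      exact hu0 ((smul_eq_zero_iff_eq h).mp e)
    intro h hh
    rcases c.stab_b h4 hba hb0 hbv hh with e | e
    · left
      have e2 : h • b2 = b2 := by rw [hb2, smul_add, hh, e]
      exact ⟨hbl h x hx x hx hn hn b hbx hb0 (by rw [e]; exact hbx),
        hbl h y hyF y hyF hyn hyn b2 hb2y hb20 (by rw [e2]; exact hb2y)⟩
    · right
      have e2 : h • b2 = b := by
        rw [hb2, smul_add, hh, e, ← add_assoc, c.two, zero_add]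
      exact ⟨hbl h x hx y hyF hn hyn b hbx hb0 (by rw [e]; exact hb2y),
        hbl h y hyF x hx hyn hn b2 hb2y hb20 (by rw [e2]; exact hbx)⟩
  have hsm : ∀ g : H, ∀ z : H, g * z = z * g → g • br M z = br M z := by
    intro g z e
    rw [smul_br, e, mul_inv_cancel_right]
  refine ⟨⟨pairStab (br M x) (br M y), x, y, b, b2, hst, ?_, ?_, hxy, hba, hb2a, hb0, hb20, hsum,
    hbx', hby', hyfx hb2y, hxfy hbx, ?_, ?_, ?_, ⟨t, ht, htb, htb2⟩⟩, ?_⟩
  · exact Or.inl ⟨hsm x x rfl, hsm x y hxy⟩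
  · exact Or.inl ⟨hsm y x hxy.symm, hsm y y rfl⟩
  · rw [inv_smul_of_inv hi (c.fix_br hba), hx3, mul_smul]
  · rw [inv_smul_of_inv hyi (c.fix_br hb2a), hy3, mul_smul]
  · rw [hblk1, hblk2]
    rintro h (⟨e1, e2⟩ | ⟨e1, e2⟩)
    · left
      constructor
      · have := AddSubgroup.smul_mem_pointwise_smul b h (br M x) hbx
        rwa [e1] at this
      · have := AddSubgroup.smul_mem_pointwise_smul b2 h (br M y) hb2y
        rwa [e2] at this
    · right
      constructor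
      · have := AddSubgroup.smul_mem_pointwise_smul b h (br M x) hbx
        rwa [e1] at this
      · have := AddSubgroup.smul_mem_pointwise_smul b2 h (br M y) hb2y
        rwa [e2] at this
  · -- `v0` lies in no natural block
    have hno : ∀ z ∈ F, Nat.card (br M z) = 4 → v0 ∉ br M z := by
      intro z hz hzn hv
      have h1 : br M x ≠ br M z := by
        intro e
        rw [← e] at hv
        have h2 : v0 ∈ cx M a x := ⟨hv, c.fix⟩
        rcases hfix2 v0 h2 with h | h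
        · exact c.ne h
        · exact hbv h.symm
      have h2 : br M z ≤ fx M x := nat_indep c.two hp hp2 hF hx hz hn hzn h1
      have h3 : x • v0 = v0 := h2 hv
      rw [← hsum, smul_add, show x • b2 = b2 from hyfx hb2y] at h3
      exact hb0 (br_inf_fx c.two hxo hbx (add_right_cancel h3))
    intro h hh
    have hcase : ∀ z ∈ F, Nat.card (br M z) = 4 → h • v0 ∉ br M z := by
      intro z hz hzn hv
      have h1 := smul_mem_br_conj h⁻¹ hv
      rw [inv_smul_smul] at h1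
      exact hno _ (hFn.conj_mem z hz h⁻¹) (nat_conj hzn h⁻¹) h1
    rcases c.br_cases h4 hba hb0 hbv hh with e | e | e | e
    · exact absurd ((smul_eq_zero_iff_eq h).mp e) c.ne
    · exact e
    · exact absurd (e ▸ hbx) (hcase x hx hn)
    · exact absurd (e ▸ hb2y) (hcase y hyF hyn)

end Ctx

/-! ### the case `[F,a]` of order 3 -/

/-- `h x h⁻¹ = x^{±1}` -/
def pm (x : H) : Subgroup H where
  carrier := {h | h * x * h⁻¹ = x ∨ h * x * h⁻¹ = x⁻¹}
  one_mem' := by left; simp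
  mul_mem' := by
    intro g h hg hh
    have e : g * h * x * (g * h)⁻¹ = g * (h * x * h⁻¹) * g⁻¹ := by group
    have e' : g * x⁻¹ * g⁻¹ = (g * x * g⁻¹)⁻¹ := by group
    change g * h * x * (g * h)⁻¹ = x ∨ g * h * x * (g * h)⁻¹ = x⁻¹
    rw [e]
    rcases hg with hg | hg <;> rcases hh with hh | hh
    · left; rw [hh, hg]
    · right; rw [hh, e', hg]
    · right; rw [hh, hg]
    · left; rw [hh, e', hg, inv_inv]
  inv_mem' := by
    rintro g (hg | hg)
    · left
      rw [inv_inv]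
      nth_rewrite 1 [← hg]
      group
    · right
      have : g⁻¹ * x * g⁻¹⁻¹ = (g⁻¹ * x⁻¹ * g)⁻¹ := by group
      have h2 : g⁻¹ * x⁻¹ * g = x := by rw [← hg]; group
      rw [this, h2]

namespace Cyc

variable {v0 : M} {a : H} {T : Subgroup H} {F : Subgroup H} {x : H}
variable [Finite H] [Finite M] [FaithfulSMul H M]

theorem mem_pm (K : Cyc M a F x) (h3 : orderOf x = 3) {h : H}
    (hh : h * x * h⁻¹ ∈ Subgroup.zpowers x) : h ∈ pm x := by
  classical
  rw [mem_zpowers_iff_mem_range_orderOf] at hh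
  obtain ⟨n, hn, h2⟩ := Finset.mem_image.mp hh
  rw [h3, Finset.mem_range] at hn
  have hx3 : x ^ 3 = 1 := by rw [← h3, pow_orderOf_eq_one]
  interval_cases n
  · exfalso
    apply K.ne_one
    have : x = h⁻¹ * (h * x * h⁻¹) * h := by group
    rw [this, ← h2]
    group
  · exact Or.inl (by rw [← h2, pow_one])
  · right
    rw [← h2, eq_inv_iff_mul_eq_one, ← pow_succ]
    exact hx3

/-- **(T3)** is a case of (T9) -/
theorem t9 (K : Cyc M a F x) [hFn : F.Normal] (c : Ctx v0 a T) (h4 : Nat.card (br M a) = 4)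
    (hodd : ∀ f ∈ F, Odd (orderOf f)) (h3 : orderOf x = 3) :
    ∃ H1 d1 d2 b1 b2, T9 v0 a T H1 d1 d2 b1 b2 := by
  classical
  have hx3 : x * (x * x) = 1 := by
    have := pow_orderOf_eq_one x
    rwa [h3, pow_succ', pow_two] at this
  have hxinv : x⁻¹ = x * x := inv_eq_of_mul_eq_one_right hx3
  have hxsm : ∀ m : M, x⁻¹ • m = x • x • m := fun m => by rw [hxinv, mul_smul]
  have hxx : ∀ m ∈ br M x, x • x • m = m + x • m := by
    intro m hm
    have := K.sum3 c h3 hm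
    have h1 := eq_neg_of_add_eq_zero_left this
    rw [neg_eq c.two] at h1
    exact h1.symm
  obtain ⟨b, hba, hb0, hbv⟩ := c.exists_b h4
  obtain ⟨t, ht, htb⟩ := c.exists_swap h4 hba hb0 hbv
  have htv := c.T0 t ht
  obtain ⟨b2, hb2⟩ : ∃ b2, b2 = v0 + b := ⟨_, rfl⟩
  rw [← hb2] at htb
  have hb2a : b2 ∈ br M a := hb2 ▸ add_mem c.v0_mem hba
  have hb20 : b2 ≠ 0 := by
    intro h
    apply hbv
    rw [hb2] at h
    have := eq_neg_of_add_eq_zero_left h
    rw [neg_eq c.two] at this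
    exact this.symm
  have hb2v : b2 ≠ v0 := by
    intro h
    exact hb0 (by simpa [hb2] using h)
  have hb2b : b2 ≠ b := by
    intro h
    exact c.ne (by simpa [hb2] using h)
  have hsum : b + b2 = v0 := by rw [hb2, add_comm v0, ← add_assoc, c.two, zero_add]
  have htb2 : t • b2 = b := by
    rw [hb2, smul_add, htv, htb, hb2, ← add_assoc, c.two, zero_add]
  have hbx : b ∈ br M x := K.br_le hba
  have hb2x : b2 ∈ br M x := K.br_le hb2a
  have hvx : v0 ∈ br M x := K.br_le c.v0_mem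
  have hb' := hxx b hbx
  have hb2' := hxx b2 hb2x
  -- `a`-fixed vectors in a block
  have hfix : ∀ w ∈ br M x, a • w = w → ∀ u ∈ blk x w, a • u = u → u = 0 ∨ u = w := by
    intro w hw haw u hu hau
    have hw' := hxx w hw
    have hxw : x • x • w = x • w → w = 0 := fun h =>
      br_inf_fx c.two K.odd hw (smul_left_cancel x h)
    rcases (mem_blk c.two).mp hu with e | e | e | e
    · exact Or.inl e
    · exact Or.inr e
    · left
      rw [e, inv_smul_of_inv K.inv haw, hxsm] at hau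
      rw [e, hxw hau, smul_zero]
    · left
      rw [← hw'] at e
      rw [e, inv_smul_of_inv' K.inv, inv_smul_of_inv K.inv haw, ← mul_smul, ← mul_inv_rev,
        ← hxinv, inv_inv] at hau
      rw [e, hxw hau.symm, smul_zero, smul_zero]
  -- no element of the orbit in `B1`, `B2`
  have hnm : ∀ h : H, ∀ w ∈ br M a, w ≠ v0 → h • v0 ∉ blk x w := by
    intro h w hw hwv hmem
    have hw' := hxx w (K.br_le hw)
    have h0 : h • v0 ≠ 0 := fun e => c.ne ((smul_eq_zero_iff_eq h).mp e)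
    obtain ⟨i, -, hi⟩ := exists_pow_of_mem_blk c.two hw' hmem h0
    have h1 : ((x ^ i)⁻¹ * h) • v0 = w := by rw [mul_smul, hi, inv_smul_smul]
    have h2 := K.no_move c h4 hodd (h := (x ^ i)⁻¹ * h) (by rw [h1]; exact hw)
    exact hwv (h1.symm.trans h2)
  set B1 := blk x b with hB1
  set B2 := blk x b2 with hB2
  have hB1x : B1 ≤ br M x := blk_le hbx (smul_mem_br_self hbx)
  have hB2x : B2 ≤ br M x := blk_le hb2x (smul_mem_br_self hb2x)
  -- independence
  have hind : ∀ p ∈ B1, p ∈ B2 → p = 0 := by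
    intro p hp1 hp2
    by_contra hp0
    obtain ⟨i, -, hi⟩ := exists_pow_of_mem_blk c.two hb' hp1 hp0
    have h1 : b ∈ B2 := by
      have h2 : b = (x ^ i)⁻¹ • p := by rw [hi, inv_smul_smul]
      rw [h2]
      have h3 : ∀ j : ℕ, ∀ m ∈ B2, x⁻¹ ^ j • m ∈ B2 := by
        intro j
        induction j with
        | zero => intro m hm; simpa using hm
        | succ j ih =>
          intro m hm
          rw [pow_succ, mul_smul, hxsm]
          exact ih _ (smul_mem_blk hb2' (smul_mem_blk hb2' hm))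
      rw [← inv_pow]
      exact h3 i p hp2
    rcases hfix b2 hb2x (c.fix_br hb2a) b h1 (c.fix_br hba) with h | h
    · exact hb0 h
    · exact hb2b h.symm
  -- `D = B1 + B2`
  have hD : ∀ m ∈ br M x, ∃ p ∈ B1, ∃ q ∈ B2, p + q = m := by
    have h1 : br M a ≤ B1 ⊔ B2 := by
      intro m hm
      rcases c.br_cases h4 hba hb0 hbv hm with rfl | rfl | rfl | rfl
      · exact zero_mem _
      · rw [← hsum]
        exact AddSubgroup.add_mem_sup (self_mem_blk x b) (self_mem_blk x b2)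
      · exact AddSubgroup.mem_sup_left (self_mem_blk x m)
      · rw [← hb2]
        exact AddSubgroup.mem_sup_right (self_mem_blk x b2)
    intro m hm
    obtain ⟨u, hu, w, hw, rfl⟩ := exists_cx_add c.two c.sq K.odd K.inv hm
    rw [K.cxe] at hu hw
    obtain ⟨p, hp, q, hq, rfl⟩ := AddSubgroup.mem_sup.mp (h1 hu)
    obtain ⟨p', hp', q', hq', rfl⟩ := AddSubgroup.mem_sup.mp (h1 hw)
    refine ⟨p + x • p', add_mem hp (smul_mem_blk hb' hp'), q + x • q',
      add_mem hq (smul_mem_blk hb2' hq'), ?_⟩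
    rw [smul_add]
    abel
  have huniq : ∀ p ∈ B1, ∀ q ∈ B2, ∀ p' ∈ B1, ∀ q' ∈ B2, p + q = p' + q' → p = p' ∧ q = q' := by
    intro p hp q hq p' hp' q' hq' e
    have h1 : p - p' = q' - q := by
      have : p - p' = (p + q) - q - p' := by abel
      rw [this, e]
      abel
    have h2 : p - p' = 0 := hind _ (sub_mem hp hp') (by rw [h1]; exact sub_mem hq' hq)
    refine ⟨sub_eq_zero.mp h2, ?_⟩
    rw [h2] at h1
    exact (sub_eq_zero.mp h1.symm).symm
  -- `H1`
  have hst : ∀ h : H, h • v0 = v0 → h ∈ pm x := fun h hh => K.mem_pm h3 (K.nor c hh)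
  have hxpm : x ∈ pm x := Or.inl (by group)
  have hapm : a ∈ pm x := Or.inr K.inv
  have hpmD : ∀ h ∈ pm x, ∀ m ∈ br M x, h • m ∈ br M x := by
    rintro h (hh | hh) m hm
    · have := smul_mem_br_conj h hm
      rwa [hh] at this
    · exact smul_mem_br_of_inv hh hm
  have hinvD : ∀ h ∉ pm x, x • h • v0 = h • v0 := by
    intro h hh
    by_contra hcon
    apply hh
    rw [← inv_inv h]
    apply inv_mem
    apply K.mem_pm h3
    have h1 : (h⁻¹ * x * h⁻¹⁻¹) • v0 - v0 ≠ 0 := by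
      rw [sub_ne_zero]
      intro e
      apply hcon
      rw [inv_inv, mul_smul, mul_smul, inv_smul_eq_iff] at e
      exact e
    have hF' : h⁻¹ * x * h⁻¹⁻¹ ∈ F := hFn.conj_mem x K.mem h⁻¹
    refine K.conj_mem c h4 hodd h1 ?_ (sub_mem_br _ _)
    refine sub_mem ?_ hvx
    exact smul_mem_br_of_comm (K.cen _ hF') hvx
  have hspan : ∀ d ∈ br M x, d ∈ sp (pm x) v0 := by
    have hsx : sp (pm x) v0 ≤ br M x := sp_le fun h hh => hpmD h hh v0 hvx
    have htop : sp (pm x) v0 ⊔ fx M x = ⊤ := by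
      rw [eq_top_iff, ← c.span, AddSubgroup.closure_le]
      rintro _ ⟨h, rfl⟩
      change h • v0 ∈ sp (pm x) v0 ⊔ fx M x
      by_cases hh : h ∈ pm x
      · exact AddSubgroup.mem_sup_left (mem_sp hh)
      · exact AddSubgroup.mem_sup_right (hinvD h hh)
    intro d hd
    have h1 : d ∈ sp (pm x) v0 ⊔ fx M x := by rw [htop]; trivial
    obtain ⟨s, hs, e, he, rfl⟩ := AddSubgroup.mem_sup.mp h1
    have h2 : e ∈ br M x := by
      have := sub_mem hd (hsx hs)
      rwa [add_sub_cancel_left] at this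
    rw [br_inf_fx c.two K.odd h2 he, add_zero]
    exact hs
  -- vectors `x^i b + x^j b2`
  have hxz : ∀ n : ℤ, ∀ m : M, x ^ n • m = x ^ (n % 3) • m := by
    intro n m
    have := zpow_mod_orderOf x n
    rw [h3] at this
    rw [← this]
    norm_num
  have hpq : ∀ i j : ℕ, x ^ i • b + x ^ j • b2 = x ^ (j : ℤ) • (x ^ ((i : ℤ) - j) • b + b2) := by
    intro i j
    rw [smul_add, ← mul_smul, ← zpow_add, add_sub_cancel, zpow_natCast, zpow_natCast]
  have htype : ∀ i j : ℕ, ∃ k : ℤ, x ^ i • b + x ^ j • b2 = x ^ k • v0 ∨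
      x ^ i • b + x ^ j • b2 = x ^ k • (x • x • b + b2) ∨
      x ^ i • b + x ^ j • b2 = x ^ k • a • (x • x • b + b2) := by
    intro i j
    refine ⟨j, ?_⟩
    rw [hpq i j, hxz ((i : ℤ) - j) b]
    have h1 : 0 ≤ ((i : ℤ) - j) % 3 := Int.emod_nonneg _ (by norm_num)
    have h2 : ((i : ℤ) - j) % 3 < 3 := Int.emod_lt_of_pos _ (by norm_num)
    have hab : a • (x • x • b + b2) = x • b + b2 := by
      rw [smul_add, inv_smul_of_inv' K.inv, inv_smul_of_inv K.inv (c.fix_br hba), ← mul_smul,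
        ← mul_inv_rev, ← hxinv, inv_inv, c.fix_br hb2a]
    generalize ((i : ℤ) - j) % 3 = n at h1 h2
    interval_cases n
    · left; rw [zpow_zero, one_smul, hsum]
    · right; right; rw [zpow_one, hab]
    · right; left
      have : x ^ (2 : ℤ) = x * x := by rw [zpow_ofNat, pow_two]
      rw [this, mul_smul]
  -- elements with `g v0 = x² b + b2`
  obtain ⟨g, hg, hgv⟩ : ∃ g ∈ pm x, g • v0 = x • x • b + b2 := by
    by_contra hcon
    push Not at hcon
    have h1 : sp (pm x) v0 ≤ blk x v0 := by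
      have hv' := hxx v0 hvx
      have hzp : ∀ k : ℤ, x ^ k • v0 ∈ blk x v0 := by
        intro k
        rw [hxz]
        have h1 : 0 ≤ k % 3 := Int.emod_nonneg _ (by norm_num)
        have h2 : k % 3 < 3 := Int.emod_lt_of_pos _ (by norm_num)
        generalize k % 3 = n at h1 h2
        interval_cases n
        · rw [zpow_zero, one_smul]; exact self_mem_blk x v0
        · rw [zpow_one]; exact smul_mem_blk' x v0
        · have : x ^ (2 : ℤ) = x * x := by rw [zpow_ofNat, pow_two]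
          rw [this, mul_smul]
          exact smul_mem_blk hv' (smul_mem_blk' x v0)
      refine sp_le fun h hh => ?_
      obtain ⟨p, hp, q, hq, hpq'⟩ := hD _ (hpmD h hh v0 hvx)
      have hp0 : p ≠ 0 := by
        rintro rfl
        rw [zero_add] at hpq'
        exact hnm h b2 hb2a hb2v (hpq' ▸ hq)
      have hq0 : q ≠ 0 := by
        rintro rfl
        rw [add_zero] at hpq'
        exact hnm h b hba hbv (hpq' ▸ hp)
      obtain ⟨i, -, rfl⟩ := exists_pow_of_mem_blk c.two hb' hp hp0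
      obtain ⟨j, -, rfl⟩ := exists_pow_of_mem_blk c.two hb2' hq hq0
      rcases htype i j with ⟨k, e | e | e⟩
      · rw [← hpq', e]
        exact hzp k
      · exfalso
        refine hcon ((x ^ k)⁻¹ * h) (mul_mem (inv_mem (zpow_mem hxpm k)) hh) ?_
        rw [mul_smul, ← hpq', e, inv_smul_smul]
      · exfalso
        refine hcon (a * (x ^ k)⁻¹ * h)
          (mul_mem (mul_mem hapm (inv_mem (zpow_mem hxpm k))) hh) ?_
        rw [mul_smul, ← hpq', e, mul_smul, inv_smul_smul, ← mul_smul, c.sq, one_smul]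
    have h2 : b ∈ blk x v0 := h1 (hspan b hbx)
    rcases hfix v0 hvx c.fix b h2 (c.fix_br hba) with h | h
    · exact hb0 h
    · exact hbv h
  -- every `x^i b + x^j b2` is in the orbit
  have horb : ∀ i j : ℕ, ∃ k ∈ pm x, x ^ i • b + x ^ j • b2 = k • v0 := by
    intro i j
    rcases htype i j with ⟨k, e | e | e⟩
    · exact ⟨x ^ k, zpow_mem hxpm k, e⟩
    · exact ⟨x ^ k * g, mul_mem (zpow_mem hxpm k) hg, by rw [e, mul_smul, hgv]⟩
    · exact ⟨x ^ k * a * g, mul_mem (mul_mem (zpow_mem hxpm k) hapm) hg, by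
        rw [e, mul_smul, mul_smul, hgv]⟩
  have hone : ∀ h ∈ pm x, ∀ w ∈ br M a, w ≠ v0 → h • w ∈ B1 ∨ h • w ∈ B2 := by
    intro h hh w hw hwv
    obtain ⟨p, hp, q, hq, hpq'⟩ := hD _ (hpmD h hh w (K.br_le hw))
    by_cases hp0 : p = 0
    · right
      rw [hp0, zero_add] at hpq'
      rw [← hpq']
      exact hq
    by_cases hq0 : q = 0
    · left
      rw [hq0, add_zero] at hpq'
      rw [← hpq']
      exact hp
    exfalso
    obtain ⟨i, -, rfl⟩ := exists_pow_of_mem_blk c.two hb' hp hp0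
    obtain ⟨j, -, rfl⟩ := exists_pow_of_mem_blk c.two hb2' hq hq0
    obtain ⟨k, -, e⟩ := horb i j
    rw [e] at hpq'
    have h1 : (h⁻¹ * k) • v0 = w := by rw [mul_smul, hpq', inv_smul_smul]
    have h2 := K.no_move c h4 hodd (h := h⁻¹ * k) (by rw [h1]; exact hw)
    exact hwv (h1.symm.trans h2)
  have hact : ∀ h ∈ pm x, (h • b ∈ B1 ∧ h • b2 ∈ B2) ∨ (h • b ∈ B2 ∧ h • b2 ∈ B1) := by
    intro h hh
    have hv : h • v0 = h • b + h • b2 := by rw [← smul_add, hsum]
    rcases hone h hh b hba hbv with h1 | h1 <;> rcases hone h hh b2 hb2a hb2v with h2 | h2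
    · exfalso
      exact hnm h b hba hbv (by rw [hv]; exact add_mem h1 h2)
    · exact Or.inl ⟨h1, h2⟩
    · exact Or.inr ⟨h1, h2⟩
    · exfalso
      exact hnm h b2 hb2a hb2v (by rw [hv]; exact add_mem h1 h2)
  have htpm : t ∈ pm x := hst t htv
  -- an element with `g b = x² b`, `g b2 = b2`
  obtain ⟨g1, hg1, hg1b, hg1b2⟩ : ∃ g1 ∈ pm x, g1 • b = x • x • b ∧ g1 • b2 = b2 := by
    have hv : g • b + g • b2 = x • x • b + b2 := by rw [← smul_add, hsum, hgv]
    rcases hact g hg with ⟨h1, h2⟩ | ⟨h1, h2⟩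
    · obtain ⟨e1, e2⟩ := huniq _ h1 _ h2 _ (smul_mem_blk hb' (smul_mem_blk' x b)) _
        (self_mem_blk x b2) hv
      exact ⟨g, hg, e1, e2⟩
    · rw [add_comm] at hv
      obtain ⟨e1, e2⟩ := huniq _ h2 _ h1 _ (smul_mem_blk hb' (smul_mem_blk' x b)) _
        (self_mem_blk x b2) hv
      exact ⟨g * t, mul_mem hg htpm, by rw [mul_smul, htb, e1], by rw [mul_smul, htb2, e2]⟩
  obtain ⟨d, hd, hdx, hdb, hdb2⟩ : ∃ d ∈ pm x, d * x = x * d ∧ d • b = x • x • b ∧ d • b2 = b2 := by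
    rcases hg1 with h | h
    · exact ⟨g1, Or.inl h, mul_inv_eq_iff_eq_mul.mp h, hg1b, hg1b2⟩
    · refine ⟨g1 * a, mul_mem (Or.inr h) hapm, ?_, ?_, ?_⟩
      · have e1 : g1 * a * x = g1 * (a * x * a⁻¹) * a := by group
        rw [e1, K.inv]
        have e2 : g1 * x⁻¹ * a = (g1 * x * g1⁻¹)⁻¹ * (g1 * a) := by group
        rw [e2, h, inv_inv]
      · rw [mul_smul, c.fix_br hba, hg1b]
      · rw [mul_smul, c.fix_br hb2a, hg1b2]
  have hdx' : Commute d x := hdx
  have hdm : ∀ m : M, d • x • m = x • d • m := fun m => by rw [← mul_smul, hdx, mul_smul]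
  have hdim : ∀ m : M, d⁻¹ • x • m = x • d⁻¹ • m := fun m => by
    rw [← mul_smul, hdx'.inv_left.eq, mul_smul]
  have hdib : d⁻¹ • b = x • b := by
    rw [inv_smul_eq_iff, hdm, hdb, ← mul_smul, ← mul_smul, mul_assoc, hx3, one_smul]
  have hdib2 : d⁻¹ • b2 = b2 := by rw [inv_smul_eq_iff, hdb2]
  -- `d2 = x x d⁻¹`
  have hx3m : ∀ m : M, x • x • x • m = m := fun m => by
    rw [← mul_smul, ← mul_smul, mul_assoc, hx3, one_smul]
  have hd2b2 : (x * x * d⁻¹) • b2 = x • x • b2 := by rw [mul_smul, hdib2, mul_smul]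
  have hd2b : (x * x * d⁻¹) • b = b := by rw [mul_smul, hdib, mul_smul, hx3m]
  have hb1e : blk d b = B1 := by
    refine le_antisymm (blk_le (self_mem_blk x b) ?_) (blk_le (self_mem_blk d b) ?_)
    · rw [hdb]
      exact smul_mem_blk hb' (smul_mem_blk' x b)
    · rw [mem_blk c.two]
      right; right; right
      rw [hdb, hb', ← add_assoc, c.two, zero_add]
  have hb2e : blk (x * x * d⁻¹) b2 = B2 := by
    refine le_antisymm (blk_le (self_mem_blk x b2) ?_) (blk_le (self_mem_blk _ b2) ?_)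
    · rw [hd2b2]
      exact smul_mem_blk hb2' (smul_mem_blk' x b2)
    · rw [mem_blk c.two]
      right; right; right
      rw [hd2b2, hb2', ← add_assoc, c.two, zero_add]
  refine ⟨pm x, d, x * x * d⁻¹, b, b2, hst, hd,
    mul_mem (mul_mem hxpm hxpm) (inv_mem hd), ?_, hba, hb2a, hb0, hb20, hsum, ?_, ?_, hdb2, hd2b,
    ?_, ?_, ?_, ⟨t, ht, htb, htb2⟩⟩
  · have h1 : Commute d (x * x * d⁻¹) :=
      ((hdx'.mul_right hdx').mul_right (Commute.refl d).inv_right)
    exact h1.eq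
  · rw [hdb, hdm, hdm, hdb, hx3m, hb', ← add_assoc, c.two, zero_add]
  · rw [hd2b2, mul_smul, mul_smul, hdim, hdim, hdib2, hx3m, hb2', ← add_assoc, c.two, zero_add]
  · rw [hdb, hdm, hdm, hdb, inv_smul_of_inv' K.inv, inv_smul_of_inv K.inv (c.fix_br hba), hxsm,
      hxsm]
  · rw [hd2b2, mul_smul, mul_smul, hdim, hdim, hdib2, inv_smul_of_inv' K.inv,
      inv_smul_of_inv K.inv (c.fix_br hb2a), hxsm, hxsm]
  · rw [hb1e, hb2e]
    exact hact

end Cyc

end Cfsg.Agent.Omega.NO3S.Fit.Abs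

end

end

private theorem dce_e2a5dca82dc0 : _root_.True := by
  try have : _root_.True := by simp only [_root_.Cfsg.Agent.Omega.NO3S.Fit.Abs.blk.eq_1]
  try have : _root_.True := by simp only [_root_.Cfsg.Agent.Omega.NO3S.Fit.PlaneForm.dt.eq_1]
  try have : _root_.True := by simp only [_root_.Cfsg.Agent.Omega.NO3S.Fit.PlaneCore.Pl.act.eq_1]
  try have : _root_.True := by simp only [_root_.Cfsg.Agent.Omega.NO3S.Fit.PlaneForm.cr.eq_1]
  exact _root_.True.intro
end
end
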